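import Cfsg.Prelude.Def_CaseTheorems

/-!
Transport lemmas for `Cfsg.PRankLE` (Def_CaseTheorems): monotonicity and isomorphism invariance.
-/

set_option autoImplicit false

namespace Cfsg.Agent.Lib.helper26

/-- `p`-rank bounds pull back along injective homomorphisms. -/
theorem prankLE_of_injective {p j : ℕ} {G₁ G₂ : Type*} [Group G₁] [Group G₂] (f : G₁ →* G₂)
    (hf : Function.Injective f) (h : Cfsg.PRankLE p j G₂) : Cfsg.PRankLE p j G₁ := by
  intro A hAc hAexp
  have h1 : IsMulCommutative (A.map f) := by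
    refine ⟨⟨?_⟩⟩
    rintro ⟨_, a, ha, rfl⟩ ⟨_, b, hb, rfl⟩
    apply Subtype.ext
    show f a * f b = f b * f a
    have h3 := hAc.is_comm.comm ⟨a, ha⟩ ⟨b, hb⟩
    have h2 : a * b = b * a := congrArg Subtype.val h3
    rw [← map_mul, h2, map_mul]
  have h2 : ∀ x ∈ A.map f, x ^ p = 1 := by
    rintro _ ⟨a, ha, rfl⟩
    rw [← map_pow, hAexp a ha, map_one]
  have h3 := h (A.map f) h1 h2
  rwa [Subgroup.card_map_of_injective hf] at h3

/-- `p`-rank bounds pass to subgroups. -/
theorem prankLE_mono {p j : ℕ} {G : Type*} [Group G] {X Y : Subgroup G} (h : X ≤ Y)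
    (hY : Cfsg.PRankLE p j Y) : Cfsg.PRankLE p j X :=
  prankLE_of_injective (Subgroup.inclusion h) (Subgroup.inclusion_injective h) hY

/-- `p`-rank bounds pass to subgroups of the whole group. -/
theorem prankLE_subgroup {p j : ℕ} {G : Type*} [Group G] (X : Subgroup G)
    (hG : Cfsg.PRankLE p j G) : Cfsg.PRankLE p j X :=
  prankLE_of_injective X.subtype X.subtype_injective hG

/-- `p`-rank bounds are invariant under isomorphism. -/
theorem prankLE_congr {p j : ℕ} {G₁ G₂ : Type*} [Group G₁] [Group G₂] (e : G₁ ≃* G₂) :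
    Cfsg.PRankLE p j G₁ ↔ Cfsg.PRankLE p j G₂ :=
  ⟨prankLE_of_injective e.symm.toMonoidHom e.symm.injective,
    prankLE_of_injective e.toMonoidHom e.injective⟩

/-- The image of a subgroup under an injective homomorphism has the same `p`-rank bounds. -/
theorem prankLE_map_iff {p j : ℕ} {G G' : Type*} [Group G] [Group G'] (f : G →* G')
    (hf : Function.Injective f) (X : Subgroup G) :
    Cfsg.PRankLE p j (X.map f) ↔ Cfsg.PRankLE p j X :=
  (prankLE_congr (X.equivMapOfInjective f hf)).symm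

/-- A commutative group of exponent `p` and order more than `p ^ j` does not have `p`-rank `≤ j`. -/
theorem not_prankLE_self {p j : ℕ} {G : Type*} [Group G] (hc : IsMulCommutative G)
    (hexp : ∀ a : G, a ^ p = 1) (hcard : p ^ j < Nat.card G) : ¬ Cfsg.PRankLE p j G := by
  intro h
  have h1 : IsMulCommutative (⊤ : Subgroup G) :=
    ⟨⟨fun a b => Subtype.ext (hc.is_comm.comm (a : G) (b : G))⟩⟩
  have h2 := h ⊤ h1 (fun a _ => hexp a)
  rw [Subgroup.card_top] at h2
  omega

/-- If `X` does not have `p`-rank `≤ j`, it contains a `p`-subgroup (elementary abelian) which does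
not have `p`-rank `≤ j`. -/
theorem exists_pgroup_of_not_prankLE {p j : ℕ} {G : Type*} [Group G] (X : Subgroup G)
    (h : ¬ Cfsg.PRankLE p j X) :
    ∃ A : Subgroup G, A ≤ X ∧ IsPGroup p A ∧ ¬ Cfsg.PRankLE p j A := by
  unfold Cfsg.PRankLE at h
  push Not at h
  obtain ⟨A₀, hc, hexp, hcard⟩ := h
  refine ⟨A₀.map X.subtype, Subgroup.map_subtype_le _, ?_, ?_⟩
  · rintro ⟨_, a, ha, rfl⟩
    refine ⟨1, ?_⟩
    apply Subtype.ext
    rw [pow_one]
    show (X.subtype a) ^ p = 1
    rw [← map_pow, hexp a ha, map_one]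
  · rw [prankLE_map_iff X.subtype X.subtype_injective]
    exact not_prankLE_self hc (fun a => Subtype.ext (hexp a a.2)) hcard

end Cfsg.Agent.Lib.helper26
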