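import Mathlib.GroupTheory.Sylow
import Mathlib.GroupTheory.PGroup
import Mathlib.GroupTheory.OrderOfElement
import Mathlib.Data.Nat.Factorization.Basic
import Cfsg.Prelude.Def_Transfer

/-!
Basic facts about `Cfsg.pResidual p G = O^p(G)` (the subgroup generated by the `p'`-elements).
-/

set_option autoImplicit false

namespace Cfsg.Agent.Lib.helper26

variable {G : Type*} [Group G]

/-- `O^p(G)` is a normal subgroup. -/
theorem pResidual_normal (p : ℕ) (G : Type*) [Group G] : (Cfsg.pResidual p G).Normal := by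
  constructor
  intro n hn g
  unfold Cfsg.pResidual at hn ⊢
  induction hn using Subgroup.closure_induction with
  | mem z hz =>
    apply Subgroup.subset_closure
    show Nat.Coprime (orderOf (g * z * g⁻¹)) p
    have : orderOf (g * z * g⁻¹) = orderOf z :=
      orderOf_injective (MulAut.conj g).toMonoidHom (MulAut.conj g).injective z
    rw [this]; exact hz
  | one => simp
  | mul _ _ _ _ IHa IHb => simpa using mul_mem IHa IHb
  | inv _ _ IH => simpa [mul_assoc] using inv_mem IH

/-- Elements of order prime to `p` lie in `O^p(G)`. -/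
theorem mem_pResidual_of_coprime {p : ℕ} {g : G} (h : Nat.Coprime (orderOf g) p) :
    g ∈ Cfsg.pResidual p G :=
  Subgroup.subset_closure h

/-- In a finite group, `x ^ (p-part of the order of x)` lies in `O^p(G)`. -/
theorem pow_ordProj_mem_pResidual [Finite G] {p : ℕ} [hp : Fact p.Prime] (x : G) :
    x ^ (p ^ (orderOf x).factorization p) ∈ Cfsg.pResidual p G := by
  apply mem_pResidual_of_coprime
  have hn : orderOf x ≠ 0 := (orderOf_pos x).ne'
  have hq : p ^ (orderOf x).factorization p ≠ 0 := pow_ne_zero _ hp.out.ne_zero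
  rw [orderOf_pow_of_dvd hq (Nat.ordProj_dvd _ _)]
  exact (Nat.coprime_ordCompl hp.out hn).symm

/-- If `O^p(G) ≤ N` then `G ⧸ N` is a `p`-group (finite `G`). -/
theorem isPGroup_quotient_of_pResidual_le [Finite G] {p : ℕ} [Fact p.Prime] (N : Subgroup G)
    [N.Normal] (h : Cfsg.pResidual p G ≤ N) : IsPGroup p (G ⧸ N) := by
  intro y
  induction y using QuotientGroup.induction_on with
  | H x =>
    refine ⟨(orderOf x).factorization p, ?_⟩
    rw [← QuotientGroup.mk_pow, QuotientGroup.eq_one_iff]
    exact h (pow_ordProj_mem_pResidual x)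

/-- A homomorphism from a finite group to a `p`-group kills `O^p(G)`. -/
theorem pResidual_le_ker {p : ℕ} {A : Type*} [Group A] (hA : IsPGroup p A) (f : G →* A) :
    Cfsg.pResidual p G ≤ f.ker := by
  unfold Cfsg.pResidual
  rw [Subgroup.closure_le]
  intro g hg
  have hg' : Nat.Coprime (orderOf g) p := hg
  obtain ⟨k, hk⟩ := hA (f g)
  have h1 : f g ^ orderOf g = 1 := by rw [← map_pow, pow_orderOf_eq_one, map_one]
  exact (pow_eq_one_iff_of_coprime (Nat.Coprime.pow_right k hg')).1 ⟨h1, hk⟩

/-- In a `p`-group, an element killed by a power prime to `p` is trivial. -/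
theorem eq_one_of_pow_eq_one_of_isPGroup {p : ℕ} {A : Type*} [Group A] (hA : IsPGroup p A)
    {a : A} {m : ℕ} (hm : Nat.Coprime p m) (h : a ^ m = 1) : a = 1 := by
  obtain ⟨k, hk⟩ := hA a
  exact (pow_eq_one_iff_of_coprime (Nat.Coprime.pow_left k hm)).1 ⟨hk, h⟩

end Cfsg.Agent.Lib.helper26
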