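import Mathlib.GroupTheory.Sylow
import Mathlib.GroupTheory.Index
import Mathlib.GroupTheory.Nilpotent
import Mathlib.GroupTheory.SpecificGroups.Cyclic
import Cfsg.Prelude.Def_CaseTheorems
import Cfsg.Prelude.Def_TwoFusion
import Cfsg.Agent.Lib.helper26.Basic

/-!
Sectional 2-rank at most 4 via a cardinality criterion on the Sylow 2-subgroup, and tools
(product formula inequality, fibre counting, normalizer growth).
-/

set_option autoImplicit false

namespace Cfsg.Agent.Lib.helper26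

variable {G : Type*} [Group G]

theorem card_mul_relIndex_of_le {H K : Subgroup G} (hHK : H ≤ K) :
    Nat.card H * H.relIndex K = Nat.card K := by
  have h := Subgroup.relIndex_mul_relIndex (⊥ : Subgroup G) H K bot_le hHK
  rwa [Subgroup.relIndex_bot_left, Subgroup.relIndex_bot_left] at h

/-- Product formula inequality: `|H| |K| ≤ |L| |H ∩ K|` for `H, K ≤ L`. -/
theorem card_mul_card_le_of_le {H K L : Subgroup G} [Finite L] (hH : H ≤ L) (hK : K ≤ L) :
    Nat.card H * Nat.card K ≤ Nat.card L * Nat.card (H ⊓ K : Subgroup G) := by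
  have h1 : Nat.card (H ⊓ K : Subgroup G) * H.relIndex K = Nat.card K := by
    have := card_mul_relIndex_of_le (inf_le_right : H ⊓ K ≤ K)
    rwa [Subgroup.inf_relIndex_right] at this
  have h2 : Nat.card H * H.relIndex L = Nat.card L := card_mul_relIndex_of_le hH
  have hL0 : H.relIndex L ≠ 0 := by
    intro h0
    rw [h0, mul_zero] at h2
    exact Nat.card_pos.ne h2
  have h3 : H.relIndex K ≤ H.relIndex L := Subgroup.relIndex_le_of_le_right hK hL0
  calc Nat.card H * Nat.card K
      = Nat.card H * (Nat.card (H ⊓ K : Subgroup G) * H.relIndex K) := by rw [h1]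
    _ ≤ Nat.card H * (Nat.card (H ⊓ K : Subgroup G) * H.relIndex L) :=
        Nat.mul_le_mul_left _ (Nat.mul_le_mul_left _ h3)
    _ = Nat.card L * Nat.card (H ⊓ K : Subgroup G) := by rw [← h2]; ring

/-- Fibre counting. -/
theorem card_le_mul_card_of_fibers {α β : Type*} [Finite α] [Finite β] (f : α → β) (n : ℕ)
    (h : ∀ a : α, Nat.card {x : α // f x = f a} ≤ n) : Nat.card α ≤ n * Nat.card β := by
  classical
  have : Fintype β := Fintype.ofFinite β
  have e : α ≃ Σ b : β, {x : α // f x = b} := (Equiv.sigmaFiberEquiv f).symm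
  rw [Nat.card_congr e, Nat.card_sigma]
  have hb : ∀ b : β, Nat.card {x : α // f x = b} ≤ n := by
    intro b
    by_cases hne : Nonempty {x : α // f x = b}
    · obtain ⟨⟨a, ha⟩⟩ := hne
      subst ha
      exact h a
    · rw [not_nonempty_iff] at hne
      rw [Nat.card_of_isEmpty]
      exact Nat.zero_le _
  calc ∑ b : β, Nat.card {x : α // f x = b} ≤ ∑ _b : β, n := Finset.sum_le_sum fun b _ => hb b
    _ = n * Nat.card β := by
        rw [Finset.sum_const, Finset.card_univ, smul_eq_mul, Nat.card_eq_fintype_card, mul_comm]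

/-- If `U ⊆ N ∪ sN` then `|U| ≤ 2 |U ∩ N|`. -/
theorem card_le_two_mul_card_inf (U N : Subgroup G) [Finite U] (s : G)
    (h : ∀ u ∈ U, u ∈ N ∨ s⁻¹ * u ∈ N) : Nat.card U ≤ 2 * Nat.card (U ⊓ N : Subgroup G) := by
  classical
  by_cases hUN : U ≤ N
  · rw [inf_eq_left.mpr hUN]
    omega
  · obtain ⟨u₀, hu₀U, hu₀N⟩ := SetLike.not_le_iff_exists.mp hUN
    have hu₀ : s⁻¹ * u₀ ∈ N := (h u₀ hu₀U).resolve_left hu₀N
    have key : ∀ u ∈ U, u ∉ N → u₀⁻¹ * u ∈ U ⊓ N := by
      intro u hu huN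
      refine ⟨U.mul_mem (U.inv_mem hu₀U) hu, ?_⟩
      have h1 : s⁻¹ * u ∈ N := (h u hu).resolve_left huN
      have h2 : u₀⁻¹ * u = (s⁻¹ * u₀)⁻¹ * (s⁻¹ * u) := by group
      rw [h2]
      exact N.mul_mem (N.inv_mem hu₀) h1
    let f : U → Bool × (U ⊓ N : Subgroup G) := fun u =>
      if hu : (u : G) ∈ N then (true, ⟨u, u.2, hu⟩) else (false, ⟨u₀⁻¹ * u, key u u.2 hu⟩)
    have hf : Function.Injective f := by
      intro a b hab
      by_cases ha : (a : G) ∈ N <;> by_cases hb : (b : G) ∈ N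
      · simp only [f, dif_pos ha, dif_pos hb, Prod.mk.injEq, true_and] at hab
        exact Subtype.ext (congrArg (fun y : (U ⊓ N : Subgroup G) => (y : G)) hab)
      · simp only [f, dif_pos ha, dif_neg hb, Prod.mk.injEq] at hab
        exact absurd hab.1 (by simp)
      · simp only [f, dif_neg ha, dif_pos hb, Prod.mk.injEq] at hab
        exact absurd hab.1 (by simp)
      · simp only [f, dif_neg ha, dif_neg hb, Prod.mk.injEq, Subtype.mk.injEq, true_and] at hab
        exact Subtype.ext (mul_left_cancel hab)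
    have hfin : Finite (U ⊓ N : Subgroup G) :=
      Finite.of_injective (fun x : (U ⊓ N : Subgroup G) => (⟨x.1, x.2.1⟩ : U))
        (fun a b hab => Subtype.ext (congrArg (fun y : U => (y : G)) hab))
    have := Nat.card_le_card_of_injective f hf
    rwa [Nat.card_prod, Nat.card_eq_fintype_card (α := Bool), Fintype.card_bool] at this

/-- Normalizers grow in `p`-subgroups. -/
theorem exists_mem_normalizer_not_mem [Finite G] {p : ℕ} [Fact p.Prime] (P : Subgroup G)
    (hP : IsPGroup p P) (I : Subgroup G) (hIP : I ≤ P) (hne : I ≠ P) :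
    ∃ y, y ∈ P ∧ y ∈ Subgroup.normalizer (I : Set G) ∧ y ∉ I := by
  have : Group.IsNilpotent P := hP.isNilpotent
  have hnc : NormalizerCondition P := Group.normalizerCondition_of_isNilpotent
  have hlt : I.subgroupOf P < ⊤ := by
    rw [lt_top_iff_ne_top]
    intro h
    rw [Subgroup.subgroupOf_eq_top] at h
    exact hne (le_antisymm hIP h)
  have h2 := hnc _ hlt
  obtain ⟨y', hy', hy'n⟩ := SetLike.exists_of_lt h2
  rw [← Subgroup.subgroupOf_normalizer_eq hIP] at hy'
  exact ⟨(y' : G), y'.2, Subgroup.mem_subgroupOf.1 hy', fun h => hy'n (Subgroup.mem_subgroupOf.2 h)⟩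

theorem exists_mul_of_mem_sup_of_comm {D B : Subgroup G}
    (hc : ∀ a ∈ D, ∀ b ∈ B, a * b = b * a) {x : G} (hx : x ∈ D ⊔ B) :
    ∃ d ∈ D, ∃ b ∈ B, x = d * b := by
  rw [Subgroup.sup_eq_closure] at hx
  induction hx using Subgroup.closure_induction with
  | mem x hx =>
    rcases hx with hx | hx
    · exact ⟨x, hx, 1, B.one_mem, (mul_one x).symm⟩
    · exact ⟨1, D.one_mem, x, hx, (one_mul x).symm⟩
  | one => exact ⟨1, D.one_mem, 1, B.one_mem, (mul_one 1).symm⟩
  | mul x y _ _ ihx ihy =>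
    obtain ⟨d, hd, b, hb, rfl⟩ := ihx
    obtain ⟨d', hd', b', hb', rfl⟩ := ihy
    refine ⟨d * d', D.mul_mem hd hd', b * b', B.mul_mem hb hb', ?_⟩
    have := hc d' hd' b hb
    calc d * b * (d' * b') = d * (b * d') * b' := by group
      _ = d * (d' * b) * b' := by rw [this]
      _ = d * d' * (b * b') := by group
  | inv x _ ihx =>
    obtain ⟨d, hd, b, hb, rfl⟩ := ihx
    refine ⟨d⁻¹, D.inv_mem hd, b⁻¹, B.inv_mem hb, ?_⟩
    have := hc d⁻¹ (D.inv_mem hd) b⁻¹ (B.inv_mem hb)
    rw [mul_inv_rev, this]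

theorem exists_mul_of_mem_sup_of_normalizer {H K : Subgroup G}
    (hn : K ≤ Subgroup.normalizer (H : Set G)) {x : G} (hx : x ∈ H ⊔ K) :
    ∃ a ∈ H, ∃ b ∈ K, x = a * b := by
  rw [Subgroup.sup_eq_closure] at hx
  induction hx using Subgroup.closure_induction with
  | mem x hx =>
    rcases hx with hx | hx
    · exact ⟨x, hx, 1, K.one_mem, (mul_one x).symm⟩
    · exact ⟨1, H.one_mem, x, hx, (one_mul x).symm⟩
  | one => exact ⟨1, H.one_mem, 1, K.one_mem, (mul_one 1).symm⟩
  | mul x y _ _ ihx ihy =>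
    obtain ⟨a, ha, b, hb, rfl⟩ := ihx
    obtain ⟨a', ha', b', hb', rfl⟩ := ihy
    refine ⟨a * (b * a' * b⁻¹), H.mul_mem ha ((Subgroup.mem_normalizer_iff.mp (hn hb) a').mp ha'),
      b * b', K.mul_mem hb hb', ?_⟩
    group
  | inv x _ ihx =>
    obtain ⟨a, ha, b, hb, rfl⟩ := ihx
    refine ⟨b⁻¹ * a⁻¹ * b⁻¹⁻¹, (Subgroup.mem_normalizer_iff.mp (hn (K.inv_mem hb)) a⁻¹).mp
      (H.inv_mem ha), b⁻¹, K.inv_mem hb, ?_⟩
    group

/-- Cardinality form of "every elementary abelian section of a subgroup of `S` has order `≤ 16`". -/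
def Rk4In (S : Subgroup G) : Prop :=
  ∀ P M : Subgroup G, P ≤ S → M ≤ P → (∀ p ∈ P, p * p ∈ M) →
    (∀ p ∈ P, ∀ q ∈ P, p * q * p⁻¹ * q⁻¹ ∈ M) → Nat.card P ≤ 16 * Nat.card M

theorem Rk4In.mono {S S' : Subgroup G} (h : Rk4In S) (hle : S' ≤ S) : Rk4In S' :=
  fun P M hP hM h1 h2 => h P M (hP.trans hle) hM h1 h2

theorem sectionalPRankLE_of_rk4In [Finite G] (S : Sylow 2 G) (h : Rk4In (S : Subgroup G)) :
    Cfsg.SectionalPRankLE 2 4 G := by
  intro H N _ A hAc hA2
  have : Fact (Nat.Prime 2) := ⟨Nat.prime_two⟩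
  let π : H →* H ⧸ N := QuotientGroup.mk' N
  let K : Subgroup H := A.comap π
  let f : K →* A := (π.comp K.subtype).codRestrict A (fun k => k.2)
  have hf : Function.Surjective f := by
    rintro ⟨a, ha⟩
    obtain ⟨x, rfl⟩ := QuotientGroup.mk'_surjective N a
    exact ⟨⟨x, ha⟩, Subtype.ext rfl⟩
  have hApg : IsPGroup 2 A := by
    intro a
    refine ⟨1, ?_⟩
    apply Subtype.ext
    rw [pow_one, Subgroup.coe_pow, Subgroup.coe_one]
    exact hA2 a a.2
  obtain ⟨Q⟩ : Nonempty (Sylow 2 K) := inferInstance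
  -- the image of `Q` in `A` is everything
  have hQtop : (Q : Subgroup K).map f = ⊤ := by
    have hsy : ((Q.mapSurjective hf : Sylow 2 A) : Subgroup A) = (Q : Subgroup K).map f :=
      Sylow.coe_mapSurjective hf Q
    rw [← hsy]
    obtain ⟨n, hn⟩ := hApg.index ((Q.mapSurjective hf : Sylow 2 A) : Subgroup A)
    have hnd := Sylow.not_dvd_index (Q.mapSurjective hf : Sylow 2 A)
    rw [hn] at hnd
    have hn0 : n = 0 := by
      by_contra hn0
      exact hnd (dvd_pow_self 2 hn0)
    rw [hn0, pow_zero] at hn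
    exact Subgroup.index_eq_one.mp hn
  let ψ : (Q : Subgroup K) →* A := f.comp (Q : Subgroup K).subtype
  have hψ : Function.Surjective ψ := by
    intro a
    have ha : a ∈ (Q : Subgroup K).map f := by rw [hQtop]; trivial
    obtain ⟨k, hk, rfl⟩ := ha
    exact ⟨⟨k, hk⟩, rfl⟩
  -- transport `Q` into `S`
  let j₀ : (Q : Subgroup K) →* G := H.subtype.comp (K.subtype.comp (Q : Subgroup K).subtype)
  have hj₀ : Function.Injective j₀ := by
    intro a b hab
    exact Subtype.ext (Subtype.ext (Subtype.ext hab))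
  have hQpg : IsPGroup 2 (Q : Subgroup K) := Q.isPGroup'
  have hRpg : IsPGroup 2 j₀.range := by
    rw [MonoidHom.range_eq_map]
    exact (IsPGroup.of_surjective hQpg (Subgroup.topEquiv (G := (Q : Subgroup K))).symm.toMonoidHom
      (MulEquiv.surjective _)).map j₀
  obtain ⟨g, hg⟩ := exists_conj_le_sylow S j₀.range hRpg
  let j : (Q : Subgroup K) →* G := (MulAut.conj g).toMonoidHom.comp j₀
  have hj : Function.Injective j := (MulAut.conj g).injective.comp hj₀
  have hcardP : Nat.card j.range = Nat.card (Q : Subgroup K) :=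
    (Nat.card_congr (Equiv.ofInjective j hj)).symm
  have hcardM : Nat.card (ψ.ker.map j) = Nat.card ψ.ker := Subgroup.card_map_of_injective hj
  have hle : Nat.card j.range ≤ 16 * Nat.card (ψ.ker.map j) := by
    apply h j.range (ψ.ker.map j)
    · rintro _ ⟨q, rfl⟩
      exact hg (j₀ q) ⟨q, rfl⟩
    · rintro _ ⟨q, _, rfl⟩
      exact ⟨q, rfl⟩
    · rintro _ ⟨q, rfl⟩
      refine ⟨q * q, ?_, map_mul j q q⟩
      rw [SetLike.mem_coe, MonoidHom.mem_ker, map_mul]
      apply Subtype.ext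
      rw [Subgroup.coe_mul, Subgroup.coe_one, ← pow_two]
      exact hA2 _ (ψ q).2
    · rintro _ ⟨q, rfl⟩ _ ⟨q', rfl⟩
      refine ⟨q * q' * q⁻¹ * q'⁻¹, ?_, by simp only [map_mul, map_inv]⟩
      rw [SetLike.mem_coe, MonoidHom.mem_ker]
      simp only [map_mul, map_inv]
      have hc : ψ q * ψ q' = ψ q' * ψ q := by
        have := hAc
        exact mul_comm' _ _
      rw [hc]
      group
  rw [hcardP, hcardM] at hle
  have hker : Nat.card ψ.ker * Nat.card A = Nat.card (Q : Subgroup K) := by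
    have h1 := Subgroup.card_mul_index ψ.ker
    rw [Subgroup.index_ker] at h1
    have h2 : Nat.card ψ.range = Nat.card A := by
      rw [MonoidHom.range_eq_top.mpr hψ]
      exact Nat.card_congr (Subgroup.topEquiv (G := A)).toEquiv
    rw [← h2]
    exact h1
  have hpos : 0 < Nat.card ψ.ker := Nat.card_pos
  have : Nat.card ψ.ker * Nat.card A ≤ Nat.card ψ.ker * 16 := by
    rw [hker, mul_comm]
    exact hle
  have := Nat.le_of_mul_le_mul_left this hpos
  norm_num
  exact this

end Cfsg.Agent.Lib.helper26
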