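import Mathlib
import Cfsg.Agent.S1412
import Cfsg.Agent.S1453
import Cfsg.Agent.Lib.helper3.ElemAb
import Cfsg.Agent.Lib.helper30.RankTwoD
import Cfsg.Agent.Lib.helper26.SecRank

set_option autoImplicit false

namespace Cfsg.Agent.Lib.helper26

open Subgroup

section BGP0

/-- an element of order dividing `p` commuting with a maximal elementary abelian `A` lies in `A` -/
theorem p0_mem_of_max {G : Type*} [Group G] (p : ℕ) (A : Subgroup G)
    (hA : Cfsg.IsElementaryAbelian p A)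
    (hAmax : ∀ B : Subgroup G, Cfsg.IsElementaryAbelian p B → A ≤ B → B = A)
    (y : G) (hyp : y ^ p = 1) (hyA : ∀ a ∈ A, y * a = a * y) : y ∈ A := by
  have h1 := Cfsg.Agent.Lib.helper3.isElementaryAbelian_sup_zpowers p A hA y hyp hyA
  have h2 := hAmax _ h1 le_sup_left
  rw [← h2]
  exact Subgroup.mem_sup_right (mem_zpowers y)

/-- a subgroup of order `p ^ 2` is generated by a subgroup of order `p` and any element outside -/
theorem p0_gen {G : Type*} [Group G] [Finite G] (p : ℕ) [hp : Fact p.Prime] (A Z : Subgroup G)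
    (hA2 : Nat.card A = p ^ 2) (hZ : Nat.card Z = p) (hZA : Z ≤ A) (a : G) (haA : a ∈ A)
    (haZ : a ∉ Z) : A ≤ Z ⊔ zpowers a := by
  have hLA : Z ⊔ zpowers a ≤ A := sup_le hZA ((zpowers_le).mpr haA)
  have h1 : Nat.card ↥(Z ⊔ zpowers a) ∣ p ^ 2 := hA2 ▸ Subgroup.card_dvd_of_le hLA
  obtain ⟨k, hk, hk2⟩ := (Nat.dvd_prime_pow hp.out).mp h1
  have h3 : Nat.card Z ∣ Nat.card ↥(Z ⊔ zpowers a) := Subgroup.card_dvd_of_le le_sup_left
  rw [hZ, hk2] at h3
  have hk0 : k ≠ 0 := by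
    rintro rfl
    rw [pow_zero] at h3
    exact hp.out.one_lt.ne' (Nat.dvd_one.mp h3)
  have hk1 : k ≠ 1 := by
    rintro rfl
    rw [pow_one] at hk2
    have h4 : Z = Z ⊔ zpowers a :=
      Subgroup.eq_of_le_of_card_ge le_sup_left (by rw [hk2, hZ])
    apply haZ
    rw [h4]
    exact Subgroup.mem_sup_right (mem_zpowers a)
  have hk3 : k = 2 := by omega
  rw [hk3] at hk2
  have h5 : Z ⊔ zpowers a = A := Subgroup.eq_of_le_of_card_ge hLA (by rw [hk2, hA2])
  rw [h5]

/-- a subgroup of prime order is generated by each of its nontrivial elements -/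
theorem p0_eq_zpowers {G : Type*} [Group G] [Finite G] (p : ℕ) [hp : Fact p.Prime]
    (X : Subgroup G) (hX : Nat.card X = p) (g : G) (hg : g ∈ X) (hg1 : g ≠ 1) :
    zpowers g = X := by
  have hle : zpowers g ≤ X := (zpowers_le).mpr hg
  apply Subgroup.eq_of_le_of_card_ge hle
  have h1 : Nat.card (zpowers g) ∣ p := hX ▸ Subgroup.card_dvd_of_le hle
  rcases (Nat.dvd_prime hp.out).mp h1 with h | h
  · exfalso
    rw [Nat.card_zpowers] at h
    exact hg1 (orderOf_eq_one_iff.mp h)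
  · rw [h, hX]

/-- the rank at least three case of (P0), inside the `p`-group -/
theorem p0_cent_rank3 {R : Type*} [Group R] [Finite R] (p : ℕ) [Fact p.Prime] (hp : p ≠ 2)
    (hR : IsPGroup p R) (hr : ¬ Cfsg.PRankLE p 2 R)
    (E : Subgroup R) (hE : Cfsg.IsElementaryAbelian p E) (hE2 : Nat.card E = p ^ 2)
    (hEmax : ∀ B : Subgroup R, Cfsg.IsElementaryAbelian p B → E ≤ B → B = E) :
    ∀ g ∈ centralizer (E : Set R), ∀ g' ∈ centralizer (E : Set R), g * g' = g' * g := by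
  obtain ⟨h1, h2, -, h4, h5⟩ := Cfsg.Agent.S1453.result p hp hR hr E hE hE2 hEmax
  set W : Subgroup R :=
    Subgroup.closure {x : R | x ∈ Subgroup.upperCentralSeries R 2 ∧ x ^ p = 1} with hW
  set T : Subgroup R := centralizer (W : Set R) with hT
  set Z : Subgroup R := Subgroup.closure {x : R | x ∈ Subgroup.center R ∧ x ^ p = 1} with hZ
  have hZc : Z ≤ center R := (closure_le _).mpr (fun x hx => hx.1)
  have hZE : Z ≤ E := (closure_le _).mpr (fun x hx =>
    p0_mem_of_max p E hE hEmax x hx.2 (fun a _ => ((mem_center_iff.mp hx.1) a).symm))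
  obtain ⟨x, hxE, hxT⟩ := SetLike.not_le_iff_exists.mp h1
  have hZT : Z ≤ T := by
    intro z hz
    rw [hT, mem_centralizer_iff]
    intro w _
    exact (mem_center_iff.mp (hZc hz)) w
  have hxZ : x ∉ Z := fun h => hxT (hZT h)
  have hgen : E ≤ Z ⊔ zpowers x := p0_gen p E Z hE2 h2 hZE x hxE hxZ
  -- `E ⊓ T = Z`
  have hET : E ⊓ T ≤ Z := by
    have hle : Z ≤ E ⊓ T := le_inf hZE hZT
    have h6 : Nat.card ↥(E ⊓ T) ∣ p ^ 2 := hE2 ▸ Subgroup.card_dvd_of_le inf_le_left
    obtain ⟨k, hk, hk2⟩ := (Nat.dvd_prime_pow (Fact.out : p.Prime)).mp h6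
    have hk3 : k ≠ 2 := by
      rintro rfl
      have h7 : E ⊓ T = E := Subgroup.eq_of_le_of_card_ge inf_le_left (by rw [hk2, hE2])
      apply hxT
      have h70 : x ∈ E ⊓ T := by rw [h7]; exact hxE
      exact h70.2
    have h8 : Nat.card ↥(E ⊓ T) ≤ Nat.card Z := by
      rw [hk2, h2]
      have hk1 : k ≤ 1 := by omega
      calc p ^ k ≤ p ^ 1 := Nat.pow_le_pow_right (Fact.out : p.Prime).pos hk1
        _ = p := pow_one p
    have h9 : Z = E ⊓ T := Subgroup.eq_of_le_of_card_ge hle h8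
    rw [← h9]
  -- the elements of order `p` of `C_T(x)` lie in `Z`
  have hom : ∀ y ∈ T ⊓ centralizer ({x} : Set R), y ^ p = 1 → y ∈ Z := by
    intro y hy hyp
    have hyx : x * y = y * x := (mem_centralizer_iff.mp hy.2) x rfl
    have hyE : y ∈ E := by
      apply p0_mem_of_max p E hE hEmax y hyp
      intro a ha
      have h10 : Z ⊔ zpowers x ≤ centralizer ({y} : Set R) := by
        apply sup_le
        · intro z hz
          rw [mem_centralizer_iff]
          rintro _ rfl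
          exact (mem_center_iff.mp (hZc hz)) _
        · rw [zpowers_le, mem_centralizer_iff]
          rintro _ rfl
          exact hyx.symm
      exact (mem_centralizer_iff.mp (h10 (hgen ha))) y rfl
    exact hET ⟨hyE, hy.1⟩
  have hcyc : IsCyclic ↥(T ⊓ centralizer ({x} : Set R)) :=
    Cfsg.Agent.Lib.helper30.isCyclic_of_omega_le p hp _ Z (hR.to_subgroup _) h2 hom
  haveI : T.Normal := by
    haveI := h4
    exact Subgroup.normal_of_characteristic T
  have hcard : Nat.card (R ⧸ T) = p := by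
    rw [← Subgroup.index_eq_card]; exact h5
  have hx1 : (QuotientGroup.mk x : R ⧸ T) ≠ 1 := by
    intro h
    exact hxT ((QuotientGroup.eq_one_iff x).mp h)
  -- decomposition of the centralizer of `E`
  have hdec : ∀ g ∈ centralizer (E : Set R), ∃ k : ℤ, ∃ t ∈ T ⊓ centralizer ({x} : Set R),
      g = x ^ k * t := by
    intro g hg
    have h11 : (QuotientGroup.mk g : R ⧸ T) ∈ zpowers (QuotientGroup.mk x : R ⧸ T) :=
      mem_zpowers_of_prime_card hcard hx1
    obtain ⟨k, hk⟩ := mem_zpowers_iff.mp h11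
    have h12 : (QuotientGroup.mk (x ^ k) : R ⧸ T) = QuotientGroup.mk g := by
      rw [← hk]; exact map_zpow (QuotientGroup.mk' T) x k
    have h13 : (x ^ k)⁻¹ * g ∈ T := QuotientGroup.eq.mp h12
    refine ⟨k, (x ^ k)⁻¹ * g, Subgroup.mem_inf.mpr ⟨h13, ?_⟩, by group⟩
    rw [mem_centralizer_iff]
    intro h hh
    rw [Set.mem_singleton_iff.mp hh]
    have hgx : x * g = g * x := (mem_centralizer_iff.mp hg) x hxE
    have c1 : Commute x g := hgx
    have c2 : Commute x ((x ^ k)⁻¹) := ((Commute.refl x).zpow_right k).inv_right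
    exact (c2.mul_right c1).eq
  intro g hg g' hg'
  obtain ⟨k, t, ht, rfl⟩ := hdec g hg
  obtain ⟨k', t', ht', rfl⟩ := hdec g' hg'
  have c1 : Commute x t := (mem_centralizer_iff.mp ht.2) x rfl
  have c2 : Commute x t' := (mem_centralizer_iff.mp ht'.2) x rfl
  have c3 : Commute t t' := by
    have h14 := (IsCyclic.isMulCommutative (α := ↥(T ⊓ centralizer ({x} : Set R)))).is_comm.comm
      ⟨t, ht⟩ ⟨t', ht'⟩
    exact congrArg Subtype.val h14
  have e1 : Commute (x ^ k) (x ^ k' * t') :=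
    ((Commute.refl x).zpow_zpow k k').mul_right (c2.zpow_left k)
  have e2 : Commute t (x ^ k' * t') := (c1.symm.zpow_right k').mul_right c3
  exact (e1.mul_left e2).eq

/-- **(P0)**: for a maximal elementary abelian `p`-subgroup `A` of order `p ^ 2` of a minimal simple
group of odd order and a `p`-subgroup `S ≥ A`, the centralizer `C_S(A)` is abelian. -/
theorem bg_p0_cent {G : Type*} [Group G] [Finite G] (hG : Cfsg.IsMinSimpleOddOrder G) (p : ℕ)
    [Fact p.Prime] (A S : Subgroup G) (hA : Cfsg.IsElementaryAbelian p A)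
    (hA2 : Nat.card A = p ^ 2)
    (hAmax : ∀ B : Subgroup G, Cfsg.IsElementaryAbelian p B → A ≤ B → B = A)
    (hS : IsPGroup p S) (hAS : A ≤ S) :
    ∀ x ∈ S ⊓ Subgroup.centralizer (A : Set G), ∀ y ∈ S ⊓ Subgroup.centralizer (A : Set G),
      x * y = y * x := by
  obtain ⟨P, hSP⟩ := hS.exists_le_sylow
  have hAP : A ≤ (P : Subgroup G) := hAS.trans hSP
  have hp2 : p ≠ 2 := by
    rintro rfl
    have h1 : Nat.card A ∣ Nat.card G := Subgroup.card_subgroup_dvd_card A
    rw [hA2] at h1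
    have h2 : Odd (Nat.card G) := hG.1
    have h3 : (2 : ℕ) ∣ Nat.card G := dvd_trans (by norm_num) h1
    exact (Nat.not_even_iff_odd.mpr h2) (even_iff_two_dvd.mpr h3)
  intro x hx y hy
  have hxP : x ∈ (P : Subgroup G) := hSP hx.1
  have hyP : y ∈ (P : Subgroup G) := hSP hy.1
  have hxA : ∀ a ∈ A, a * x = x * a := mem_centralizer_iff.mp hx.2
  have hyA : ∀ a ∈ A, a * y = y * a := mem_centralizer_iff.mp hy.2
  by_cases hr : Cfsg.PRankLE p 2 (P : Subgroup G)
  · rcases Cfsg.Agent.S1412.result hG p P hr with hab |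
      ⟨P₁, P₂, hsup, hcomm, -, -, hexp, hcyc, hcl⟩
    · have h := hab.is_comm.comm (⟨x, hxP⟩ : (P : Subgroup G)) ⟨y, hyP⟩
      exact congrArg Subtype.val h
    · have hexp' : ∀ a ∈ P₁, a ^ p = 1 := by
        intro a ha
        have h := Monoid.pow_exponent_eq_one (⟨a, ha⟩ : P₁)
        rw [hexp] at h
        simpa using congrArg Subtype.val h
      have hdec : ∀ g ∈ (P : Subgroup G), ∃ a ∈ P₁, ∃ b ∈ P₂, g = a * b := by
        intro g hg
        rw [← hsup] at hg
        exact exists_mul_of_mem_sup_of_comm hcomm hg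
      -- `A ≤ P₁`
      have hAP1 : A ≤ P₁ := by
        intro a ha
        obtain ⟨a₁, ha₁, b₁, hb₁, rfl⟩ := hdec a (hAP ha)
        have h1 : (a₁ * b₁) ^ p = 1 := hA.2 _ ha
        have hc : Commute a₁ b₁ := hcomm a₁ ha₁ b₁ hb₁
        rw [hc.mul_pow, hexp' a₁ ha₁, one_mul] at h1
        have h2 : b₁ ∈ P₁ ⊓ Subgroup.centralizer (P₁ : Set G) := by
          rw [← hcl]
          exact Subgroup.subset_closure ⟨hb₁, h1⟩
        exact P₁.mul_mem ha₁ h2.1
      -- decomposition of elements of `C_P(A)`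
      have hdec2 : ∀ g ∈ (P : Subgroup G), (∀ a ∈ A, a * g = g * a) →
          ∃ a ∈ A, ∃ b ∈ P₂, g = a * b := by
        intro g hg hgA
        obtain ⟨a₁, ha₁, b₁, hb₁, rfl⟩ := hdec g hg
        refine ⟨a₁, ?_, b₁, hb₁, rfl⟩
        apply p0_mem_of_max p A hA hAmax a₁ (hexp' a₁ ha₁)
        intro a ha
        have h1 : a * (a₁ * b₁) = a₁ * b₁ * a := hgA a ha
        have h2 : a * b₁ = b₁ * a := hcomm a (hAP1 ha) b₁ hb₁
        have h3 : a₁ * a * b₁ = a * a₁ * b₁ := by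
          rw [mul_assoc a₁ a b₁, h2, ← mul_assoc, ← h1, mul_assoc]
        exact mul_right_cancel h3
      obtain ⟨a, ha, b, hb, rfl⟩ := hdec2 x hxP hxA
      obtain ⟨a', ha', b', hb', rfl⟩ := hdec2 y hyP hyA
      have c1 : Commute a a' := by
        have h := hA.1.is_comm.comm (⟨a, ha⟩ : A) ⟨a', ha'⟩
        exact congrArg Subtype.val h
      have c2 : Commute a b' := hcomm a (hAP1 ha) b' hb'
      have c3 : Commute b a' := (hcomm a' (hAP1 ha') b hb).symm
      have c4 : Commute b b' := by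
        have h := (IsCyclic.isMulCommutative (α := ↥P₂)).is_comm.comm ⟨b, hb⟩ ⟨b', hb'⟩
        exact congrArg Subtype.val h
      exact ((c1.mul_right c2).mul_left (c3.mul_right c4)).eq
  · -- rank at least three
    have hE : Cfsg.IsElementaryAbelian p (A.subgroupOf (P : Subgroup G)) := by
      refine ⟨⟨⟨fun a b => ?_⟩⟩, fun e he => ?_⟩
      · have h := hA.1.is_comm.comm (⟨((a : (P : Subgroup G)) : G), mem_subgroupOf.mp a.2⟩ : A)
          ⟨((b : (P : Subgroup G)) : G), mem_subgroupOf.mp b.2⟩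
        have h' : ((a : (P : Subgroup G)) : G) * ((b : (P : Subgroup G)) : G) =
            ((b : (P : Subgroup G)) : G) * ((a : (P : Subgroup G)) : G) := congrArg Subtype.val h
        apply Subtype.ext
        apply Subtype.ext
        exact h'
      · apply Subtype.ext
        have h := hA.2 (e : G) (mem_subgroupOf.mp he)
        simpa using h
    have hE2 : Nat.card (A.subgroupOf (P : Subgroup G)) = p ^ 2 := by
      rw [← hA2]
      exact Nat.card_congr (Subgroup.subgroupOfEquivOfLe hAP).toEquiv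
    have hEmax : ∀ B : Subgroup (P : Subgroup G), Cfsg.IsElementaryAbelian p B →
        A.subgroupOf (P : Subgroup G) ≤ B → B = A.subgroupOf (P : Subgroup G) := by
      intro B hB hEB
      have hB' : Cfsg.IsElementaryAbelian p (B.map (P : Subgroup G).subtype) := by
        refine ⟨⟨⟨?_⟩⟩, ?_⟩
        · rintro ⟨_, ⟨u, hu, rfl⟩⟩ ⟨_, ⟨v, hv, rfl⟩⟩
          have h := hB.1.is_comm.comm (⟨u, hu⟩ : B) ⟨v, hv⟩
          apply Subtype.ext
          have h2 := congrArg (fun z : B => (((z : (P : Subgroup G)) : G))) h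
          simpa using h2
        · rintro _ ⟨u, hu, rfl⟩
          have h := hB.2 u hu
          have h2 := congrArg (fun z : (P : Subgroup G) => (z : G)) h
          simpa using h2
      have hAB' : A ≤ B.map (P : Subgroup G).subtype := by
        intro a ha
        exact ⟨⟨a, hAP ha⟩, hEB (mem_subgroupOf.mpr ha), rfl⟩
      have h3 := hAmax _ hB' hAB'
      apply le_antisymm _ hEB
      intro b hb
      rw [mem_subgroupOf, ← h3]
      exact ⟨b, hb, rfl⟩
    have hmain := p0_cent_rank3 (R := (P : Subgroup G)) p hp2 P.isPGroup' hr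
      (A.subgroupOf (P : Subgroup G)) hE hE2 hEmax
    have hx' : (⟨x, hxP⟩ : (P : Subgroup G)) ∈
        centralizer ((A.subgroupOf (P : Subgroup G) : Subgroup (P : Subgroup G)) :
          Set (P : Subgroup G)) := by
      rw [mem_centralizer_iff]
      intro e he
      apply Subtype.ext
      exact hxA (e : G) (mem_subgroupOf.mp he)
    have hy' : (⟨y, hyP⟩ : (P : Subgroup G)) ∈
        centralizer ((A.subgroupOf (P : Subgroup G) : Subgroup (P : Subgroup G)) :
          Set (P : Subgroup G)) := by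
      rw [mem_centralizer_iff]
      intro e he
      apply Subtype.ext
      exact hyA (e : G) (mem_subgroupOf.mp he)
    have h := hmain _ hx' _ hy'
    exact congrArg Subtype.val h

/-- `Ω₁(Z(P))` as a subgroup of the ambient group -/
def p0Z {G : Type*} [Group G] (p : ℕ) (P : Subgroup G) : Subgroup G where
  carrier := {x | x ∈ P ∧ x ∈ centralizer (P : Set G) ∧ x ^ p = 1}
  mul_mem' := by
    rintro a b ⟨ha, hac, hap⟩ ⟨hb, hbc, hbp⟩
    refine ⟨P.mul_mem ha hb, (centralizer _).mul_mem hac hbc, ?_⟩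
    have hc : Commute a b := (mem_centralizer_iff.mp hbc) a ha
    rw [hc.mul_pow, hap, hbp, one_mul]
  one_mem' := ⟨P.one_mem, (centralizer _).one_mem, one_pow p⟩
  inv_mem' := by
    rintro a ⟨ha, hac, hap⟩
    exact ⟨P.inv_mem ha, (centralizer _).inv_mem hac, by rw [inv_pow, hap, inv_one]⟩

/-- a `p`-element normalizing a group of order `p` centralizes it -/
theorem p0_pelt_cent {G : Type*} [Group G] (p : ℕ) [hp : Fact p.Prime] (y b : G) (n : ℕ)
    (hy : y ^ (p ^ n) = 1) (hb : b ^ p = 1) (k : ℤ) (hyb : y * b * y⁻¹ = b ^ k) :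
    y * b * y⁻¹ = b := by
  have hind : ∀ j : ℕ, y ^ j * b * (y ^ j)⁻¹ = b ^ (k ^ j) := by
    intro j
    induction j with
    | zero => simp
    | succ j ih =>
      have e1 : y ^ (j + 1) * b * (y ^ (j + 1))⁻¹ = y * (y ^ j * b * (y ^ j)⁻¹) * y⁻¹ := by
        rw [pow_succ']; group
      have e2 : y * b ^ (k ^ j) * y⁻¹ = (y * b * y⁻¹) ^ (k ^ j) := by
        rw [conj_zpow]
      rw [e1, ih, e2, hyb, ← zpow_mul, pow_succ']
  by_cases hb1 : b = 1
  · subst hb1; simp
  have h1 := hind (p ^ n)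
  rw [hy] at h1
  simp only [one_mul, inv_one, mul_one] at h1
  have hord : orderOf b = p := orderOf_eq_prime hb hb1
  have h3 : b ^ (k ^ (p ^ n) - 1) = 1 := by
    rw [zpow_sub, zpow_one, ← h1, mul_inv_cancel]
  have h4 : (p : ℤ) ∣ k ^ (p ^ n) - 1 := by
    have h40 : ((orderOf b : ℕ) : ℤ) ∣ k ^ (p ^ n) - 1 := orderOf_dvd_iff_zpow_eq_one.mpr h3
    rwa [hord] at h40
  have h5 : (p : ℤ) ∣ k - 1 := by
    have h6 : ((k ^ (p ^ n) - 1 : ℤ) : ZMod p) = 0 :=
      (ZMod.intCast_zmod_eq_zero_iff_dvd _ p).mpr h4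
    push_cast at h6
    rw [ZMod.pow_card_pow] at h6
    have h7 : ((k - 1 : ℤ) : ZMod p) = 0 := by push_cast; exact h6
    exact (ZMod.intCast_zmod_eq_zero_iff_dvd _ p).mp h7
  have h8 : b ^ (k - 1) = 1 :=
    orderOf_dvd_iff_zpow_eq_one.mp (by rw [hord]; exact h5)
  rw [hyb]
  calc b ^ k = b ^ (k - 1 + 1) := by rw [sub_add_cancel]
    _ = b := by rw [zpow_add, h8, one_mul, zpow_one]

/-- **(P0), second part**: a nonabelian `p`-subgroup `P` containing a maximal elementary abelian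
subgroup `A` of order `p ^ 2`: `Z = Ω₁(Z(P))` has order `p`, lies in `A`, and `N_P(A)` is transitive
on the subgroups of order `p` of `A` other than `Z`. -/
theorem bg_p0_nonab {G : Type*} [Group G] [Finite G] (hG : Cfsg.IsMinSimpleOddOrder G) (p : ℕ)
    [hp : Fact p.Prime] (A P : Subgroup G) (hA : Cfsg.IsElementaryAbelian p A)
    (hA2 : Nat.card A = p ^ 2)
    (hAmax : ∀ B : Subgroup G, Cfsg.IsElementaryAbelian p B → A ≤ B → B = A)
    (hP : IsPGroup p P) (hAP : A ≤ P) (hnab : ¬ ∀ x ∈ P, ∀ y ∈ P, x * y = y * x) :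
    ∃ Z : Subgroup G, Z ≤ A ∧ Nat.card Z = p ∧ Z ≤ Subgroup.centralizer (P : Set G) ∧
      (∀ x ∈ P, x ∈ Subgroup.centralizer (P : Set G) → x ^ p = 1 → x ∈ Z) ∧
      ∀ X X' : Subgroup G, X ≤ A → X' ≤ A → Nat.card X = p → Nat.card X' = p → X ≠ Z → X' ≠ Z →
        ∃ y ∈ P, y ∈ Subgroup.normalizer (A : Set G) ∧
          X' = X.map (MulAut.conj y).toMonoidHom := by
  have hcent := bg_p0_cent hG p A P hA hA2 hAmax hP hAP
  have hAc : ∀ a ∈ A, ∀ b ∈ A, a * b = b * a := fun a ha b hb =>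
    congrArg Subtype.val (hA.1.is_comm.comm (⟨a, ha⟩ : A) ⟨b, hb⟩)
  set Z := p0Z p P with hZdef
  have hZA : Z ≤ A := fun z hz =>
    p0_mem_of_max p A hA hAmax z hz.2.2
      (fun a ha => ((mem_centralizer_iff.mp hz.2.1) a (hAP ha)).symm)
  have hZcP : Z ≤ centralizer (P : Set G) := fun z hz => hz.2.1
  have hnc : ¬ A ≤ centralizer (P : Set G) := by
    intro h
    apply hnab
    intro x hx y hy
    exact hcent x
      ⟨hx, mem_centralizer_iff.mpr (fun a ha => ((mem_centralizer_iff.mp (h ha)) x hx).symm)⟩ y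
      ⟨hy, mem_centralizer_iff.mpr (fun a ha => ((mem_centralizer_iff.mp (h ha)) y hy).symm)⟩
  have hZneA : Z ≠ A := fun h => hnc (fun a ha => hZcP (h ▸ ha))
  -- `Z` is nontrivial
  have hZ1 : ∃ z ∈ Z, z ≠ 1 := by
    have hntP : Nontrivial ↥P := by
      by_contra hnt
      rw [not_nontrivial_iff_subsingleton] at hnt
      apply hnab
      intro x hx y hy
      have h1 : (⟨x, hx⟩ : P) = ⟨y, hy⟩ := Subsingleton.elim _ _
      have h2 : x = y := congrArg Subtype.val h1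
      rw [h2]
    have hntZ : Nontrivial (center ↥P) := hP.center_nontrivial
    have h1 : p ∣ Nat.card (center ↥P) := by
      rcases (hP.to_subgroup (center ↥P)).card_eq_or_dvd with h | h
      · exfalso
        exact (Finite.one_lt_card_iff_nontrivial.mpr inferInstance).ne' h
      · exact h
    obtain ⟨z, hz⟩ := exists_prime_orderOf_dvd_card' (G := center ↥P) p h1
    have hzp : ((z : ↥P) : G) ^ p = 1 := by
      have h2 := pow_orderOf_eq_one z
      rw [hz] at h2
      have h3 := congrArg (fun w : center ↥P => ((w : ↥P) : G)) h2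
      simpa using h3
    refine ⟨((z : ↥P) : G), ⟨(z : ↥P).2, ?_, hzp⟩, ?_⟩
    · rw [mem_centralizer_iff]
      intro g hg
      have h2 := (mem_center_iff.mp z.2) ⟨g, hg⟩
      exact congrArg Subtype.val h2
    · intro h
      have h2 : z = 1 := Subtype.ext (Subtype.ext h)
      rw [h2, orderOf_one] at hz
      exact hp.out.one_lt.ne hz
  obtain ⟨z₁, hz₁Z, hz₁1⟩ := hZ1
  have hZcard : Nat.card Z = p := by
    have h1 : Nat.card Z ∣ p ^ 2 := hA2 ▸ Subgroup.card_dvd_of_le hZA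
    obtain ⟨k, hk, hk2⟩ := (Nat.dvd_prime_pow hp.out).mp h1
    have hk0 : k ≠ 0 := by
      rintro rfl
      rw [pow_zero] at hk2
      have h2 : Z = ⊥ := (Subgroup.card_eq_one).mp hk2
      rw [h2] at hz₁Z
      exact hz₁1 (mem_bot.mp hz₁Z)
    have hk2' : k ≠ 2 := by
      rintro rfl
      exact hZneA (Subgroup.eq_of_le_of_card_ge hZA (by rw [hk2, hA2]))
    have hk1 : k = 1 := by omega
    rw [hk1, pow_one] at hk2
    exact hk2
  -- an element of `P` normalizing but not centralizing `A`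
  have hy : ∃ y ∈ P, y ∈ normalizer (A : Set G) ∧ ¬ (∀ a ∈ A, y * a = a * y) := by
    set C : Subgroup G := P ⊓ centralizer (A : Set G) with hC
    have hCP : C.subgroupOf P < ⊤ := by
      rw [lt_top_iff_ne_top]
      intro h
      apply hnc
      intro a ha
      rw [mem_centralizer_iff]
      intro g hg
      have h1 : (⟨g, hg⟩ : P) ∈ C.subgroupOf P := h ▸ mem_top _
      have h2 : g ∈ C := mem_subgroupOf.mp h1
      exact ((mem_centralizer_iff.mp h2.2) a ha).symm
    have hnilP : Group.IsNilpotent ↥P := hP.isNilpotent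
    have hnc' := Group.normalizerCondition_of_isNilpotent (G := ↥P) (C.subgroupOf P) hCP
    obtain ⟨y', hy'N, hy'C⟩ := SetLike.exists_of_lt hnc'
    have hconj : ∀ w' : ↥P, w' ∈ normalizer ((C.subgroupOf P : Subgroup ↥P) : Set ↥P) →
        ∀ a ∈ A, (w' : G) * a * (w' : G)⁻¹ ∈ A := by
      intro w' hw' a ha
      have haC : (⟨a, hAP ha⟩ : P) ∈ C.subgroupOf P := by
        rw [mem_subgroupOf]
        exact ⟨hAP ha, mem_centralizer_iff.mpr (fun b hb => hAc b hb a ha)⟩
      have h1 := (mem_normalizer_iff.mp hw' _).mp haC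
      have h2 : (w' : G) * a * (w' : G)⁻¹ ∈ C := by
        have := mem_subgroupOf.mp h1
        simpa using this
      apply p0_mem_of_max p A hA hAmax
      · rw [conj_pow, hA.2 a ha, mul_one, mul_inv_cancel]
      · intro b hb
        exact ((mem_centralizer_iff.mp h2.2) b hb).symm
    refine ⟨(y' : G), y'.2, ?_, ?_⟩
    · rw [mem_normalizer_iff]
      intro h
      constructor
      · intro hh
        exact hconj y' hy'N h hh
      · intro hh
        have h1 := hconj y'⁻¹ ((normalizer _).inv_mem hy'N) _ hh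
        have h2 : ((y'⁻¹ : ↥P) : G) * ((y' : G) * h * (y' : G)⁻¹) * ((y'⁻¹ : ↥P) : G)⁻¹ = h := by
          simp [mul_assoc]
        rwa [h2] at h1
    · intro h
      apply hy'C
      rw [mem_subgroupOf]
      exact ⟨y'.2, mem_centralizer_iff.mpr (fun a ha => (h a ha).symm)⟩
  obtain ⟨y, hyP, hyN, hyC⟩ := hy
  have hyA : ∀ a ∈ A, y * a * y⁻¹ ∈ A := fun a ha => (mem_normalizer_iff.mp hyN a).mp ha
  have hyZ : ∀ z ∈ Z, y * z * y⁻¹ = z := by
    intro z hz
    have h1 : y * z = z * y := (mem_centralizer_iff.mp hz.2.1) y hyP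
    rw [h1, mul_inv_cancel_right]
  -- the commutator map is nontrivial outside `Z`
  have hbeta : ∀ a ∈ A, a ∉ Z → y * a * y⁻¹ * a⁻¹ ≠ 1 := by
    intro a ha haZ h
    apply hyC
    have h1 : y * a = a * y := by
      have h2 : y * a * y⁻¹ = a := mul_inv_eq_one.mp h
      calc y * a = y * a * y⁻¹ * y := by group
        _ = a * y := by rw [h2]
    have hgen := p0_gen p A Z hA2 hZcard hZA a ha haZ
    have h3 : Z ⊔ zpowers a ≤ centralizer ({y} : Set G) := by
      apply sup_le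
      · intro z hz
        rw [mem_centralizer_iff]
        rintro _ rfl
        exact (mem_centralizer_iff.mp hz.2.1) _ hyP
      · rw [zpowers_le, mem_centralizer_iff]
        rintro _ rfl
        exact h1
    intro b hb
    exact (mem_centralizer_iff.mp (h3 (hgen hb))) y rfl
  -- the commutator map is multiplicative on `A`
  let φ : A →* G := MonoidHom.mk' (fun a => y * (a : G) * y⁻¹ * (a : G)⁻¹) (by
    intro a b
    have h0 : ((a : G) * (b : G))⁻¹ = (a : G)⁻¹ * (b : G)⁻¹ := by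
      rw [mul_inv_rev]
      exact hAc _ (A.inv_mem b.2) _ (A.inv_mem a.2)
    have h1 : (y * (b : G) * y⁻¹) * (a : G)⁻¹ = (a : G)⁻¹ * (y * (b : G) * y⁻¹) :=
      hAc _ (hyA b b.2) _ (A.inv_mem a.2)
    show y * ((a : G) * (b : G)) * y⁻¹ * ((a : G) * (b : G))⁻¹ =
      y * (a : G) * y⁻¹ * (a : G)⁻¹ * (y * (b : G) * y⁻¹ * (b : G)⁻¹)
    calc y * ((a : G) * (b : G)) * y⁻¹ * ((a : G) * (b : G))⁻¹
        = y * ((a : G) * (b : G)) * y⁻¹ * ((a : G)⁻¹ * (b : G)⁻¹) := by rw [h0]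
      _ = y * (a : G) * y⁻¹ * ((y * (b : G) * y⁻¹) * (a : G)⁻¹) * (b : G)⁻¹ := by group
      _ = y * (a : G) * y⁻¹ * ((a : G)⁻¹ * (y * (b : G) * y⁻¹)) * (b : G)⁻¹ := by rw [h1]
      _ = y * (a : G) * y⁻¹ * (a : G)⁻¹ * (y * (b : G) * y⁻¹ * (b : G)⁻¹) := by group)
  have hφ : ∀ (a : G) (ha : a ∈ A), φ ⟨a, ha⟩ = y * a * y⁻¹ * a⁻¹ := fun _ _ => rfl
  obtain ⟨n₀, hn₀⟩ := hP ⟨y, hyP⟩
  have hn₀' : y ^ (p ^ n₀) = 1 := by
    have := congrArg Subtype.val hn₀
    simpa using this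
  -- the commutator map takes values in `Z`
  have halpha : ∀ a ∈ A, a ∉ Z → y * a * y⁻¹ * a⁻¹ ∈ Z := by
    intro a ha haZ
    have hbA : y * a * y⁻¹ * a⁻¹ ∈ A := A.mul_mem (hyA a ha) (A.inv_mem ha)
    by_contra hbZ
    have hgen := p0_gen p A Z hA2 hZcard hZA a ha haZ
    obtain ⟨z, hz, w, hw, hzw⟩ := exists_mul_of_mem_sup_of_comm
      (fun u hu v hv => hAc u (hZA hu) v ((zpowers_le.mpr ha) hv)) (hgen (hyA a ha))
    obtain ⟨k, rfl⟩ := mem_zpowers_iff.mp hw
    have h1 : y * (y * a * y⁻¹ * a⁻¹) * y⁻¹ = (y * a * y⁻¹ * a⁻¹) ^ k := by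
      have e1 : y * (y * a * y⁻¹ * a⁻¹) * y⁻¹ = φ ⟨y * a * y⁻¹, hyA a ha⟩ := by
        rw [hφ]; group
      have e2 : (⟨y * a * y⁻¹, hyA a ha⟩ : A) = ⟨z, hZA hz⟩ * (⟨a, ha⟩ : A) ^ k := by
        apply Subtype.ext
        rw [Subgroup.coe_mul, Subgroup.coe_zpow]
        exact hzw
      have e3 : φ ⟨z, hZA hz⟩ = 1 := by
        rw [hφ, hyZ z hz, mul_inv_cancel]
      rw [e1, e2, map_mul, map_zpow, e3, one_mul, hφ]
    have h2 : y * (y * a * y⁻¹ * a⁻¹) * y⁻¹ = y * a * y⁻¹ * a⁻¹ :=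
      p0_pelt_cent p y _ n₀ hn₀' (hA.2 _ hbA) k h1
    exact hbeta _ hbA hbZ (by rw [h2, mul_inv_cancel])
  -- the conclusion
  refine ⟨Z, hZA, hZcard, hZcP, fun x hx hxc hxp => ⟨hx, hxc, hxp⟩, ?_⟩
  intro X X' hXA hX'A hX hX' hXZ hX'Z
  have hex : ∀ Y : Subgroup G, Nat.card Y = p → ∃ g ∈ Y, g ≠ 1 := by
    intro Y hY
    by_contra h
    have h2 : Y = ⊥ := (Subgroup.eq_bot_iff_forall Y).mpr (fun g hg => by
      by_contra hg1
      exact h ⟨g, hg, hg1⟩)
    rw [h2, Subgroup.card_bot] at hY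
    exact hp.out.one_lt.ne hY
  have hnotZ : ∀ Y : Subgroup G, Nat.card Y = p → Y ≠ Z → ∀ g ∈ Y, g ≠ 1 → g ∉ Z := by
    intro Y hY hYZ g hg hg1 hgZ
    apply hYZ
    rw [← p0_eq_zpowers p Y hY g hg hg1, p0_eq_zpowers p Z hZcard g hgZ hg1]
  obtain ⟨a', ha'X', ha'1⟩ := hex X' hX'
  obtain ⟨x₁, hx₁X, hx₁1⟩ := hex X hX
  have ha'Z : a' ∉ Z := hnotZ X' hX' hX'Z a' ha'X' ha'1
  have hx₁Z : x₁ ∉ Z := hnotZ X hX hXZ x₁ hx₁X hx₁1
  have hgen := p0_gen p A Z hA2 hZcard hZA x₁ (hXA hx₁X) hx₁Z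
  obtain ⟨z₀, hz₀, w, hw, hzw⟩ := exists_mul_of_mem_sup_of_comm
    (fun u hu v hv => hAc u (hZA hu) v ((zpowers_le.mpr (hXA hx₁X)) hv)) (hgen (hX'A ha'X'))
  have hwX : w ∈ X := (zpowers_le.mpr hx₁X) hw
  have hw1 : w ≠ 1 := by
    rintro rfl
    rw [mul_one] at hzw
    exact ha'Z (hzw ▸ hz₀)
  have hwZ : w ∉ Z := hnotZ X hX hXZ w hwX hw1
  have hbZ' := halpha w (hXA hwX) hwZ
  have hb1' := hbeta w (hXA hwX) hwZ
  obtain ⟨b₀, hb₀⟩ : ∃ b, b = y * w * y⁻¹ * w⁻¹ := ⟨_, rfl⟩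
  rw [← hb₀] at hbZ' hb1'
  have e3 : y * w * y⁻¹ = b₀ * w := by rw [hb₀]; group
  have hZb : zpowers b₀ = Z := p0_eq_zpowers p Z hZcard b₀ hbZ' hb1'
  have hz₀' : z₀ ∈ Submonoid.powers b₀ := by
    rw [mem_powers_iff_mem_zpowers, hZb]; exact hz₀
  obtain ⟨n, hn⟩ := (Submonoid.mem_powers_iff _ _).mp hz₀'
  have hind : ∀ j : ℕ, y ^ j * w * (y ^ j)⁻¹ = b₀ ^ j * w := by
    intro j
    induction j with
    | zero => simp
    | succ j ih =>
      have e1 : y ^ (j + 1) * w * (y ^ (j + 1))⁻¹ = y * (y ^ j * w * (y ^ j)⁻¹) * y⁻¹ := by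
        rw [pow_succ']; group
      have e2 : y * (b₀ ^ j * w) * y⁻¹ = (y * b₀ * y⁻¹) ^ j * (y * w * y⁻¹) := by
        rw [conj_pow]; group
      calc y ^ (j + 1) * w * (y ^ (j + 1))⁻¹ = y * (y ^ j * w * (y ^ j)⁻¹) * y⁻¹ := e1
        _ = y * (b₀ ^ j * w) * y⁻¹ := by rw [ih]
        _ = (y * b₀ * y⁻¹) ^ j * (y * w * y⁻¹) := e2
        _ = b₀ ^ j * (b₀ * w) := by rw [hyZ _ hbZ', e3]
        _ = b₀ ^ (j + 1) * w := by rw [pow_succ, mul_assoc]
  refine ⟨y ^ n, P.pow_mem hyP n, (normalizer _).pow_mem hyN n, ?_⟩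
  rw [← p0_eq_zpowers p X hX w hwX hw1, ← p0_eq_zpowers p X' hX' a' ha'X' ha'1,
    MonoidHom.map_zpowers]
  congr 1
  show a' = y ^ n * w * (y ^ n)⁻¹
  rw [hind n, hn, hzw]

end BGP0

end Cfsg.Agent.Lib.helper26
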