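import Mathlib
import Cfsg.Agent.Lib.helper55.BGTau1
import Cfsg.Agent.Lib.helper13.BG11a
import Cfsg.Agent.Lib.helper13.SigFus
import Cfsg.Agent.Lib.helper13.Count
import Cfsg.Agent.Lib.helper71.BGTenA
import Cfsg.Agent.Lib.helper71.BGTenB
import Cfsg.Agent.Lib.helper71.BGTwelveAux
import Cfsg.Agent.Lib.helper60.BGCentU
import Cfsg.Agent.Lib.helper65.Fitting
import Cfsg.Agent.S1350
import Cfsg.Agent.S1404
import Cfsg.Agent.S1416
import Cfsg.Agent.S1417
import Cfsg.Agent.S1424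

/-!
# B-G Theorem 14.4, first part (statement S1374)

`x ∈ M_σ#`.  Then `C_M(x)` is a Hall subgroup of `C_G(x)` with a normal complement `R` in
`C_G(x)` acting regularly on the conjugates of `M` containing `x`.

The sigma-partition (second clause of the frozen statement S1378) enters as the explicit
hypothesis `H1378 G`.

* `setting` : `q ∈ σ(M)`, `X ≤ M` a nontrivial `q`-subgroup, `N ≠ M` maximal over `N_G(X)`.  Then
  `q ∈ τ₂(N)`, `N_σ` is nilpotent, `M ∩ N` is a complement of `N_σ` in `N`, `N_σ ∩ M = 1`.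
* `caseII_main` : in this setting, for `x ∈ M` with `X ≤ ⟨x⟩`: `C_G(x) ≤ N`, and
  `R := N_σ ∩ C_G(x)` has all the properties asked for in S1374.
* `bg1374` : the conclusion of S1374.
-/

set_option autoImplicit false

namespace Cfsg.Agent.Lib.helper26.BG1374

open Cfsg Subgroup Cfsg.Agent.Lib.helper8 Cfsg.Agent.Lib.helper13 Cfsg.Agent.Lib.helper55.BGJ

variable {G : Type*} [Group G]

/-- The second clause of the frozen statement S1378 (the sigma-partition). -/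
def H1378 (G : Type*) [Group G] : Prop :=
  ∀ M N : Subgroup G, IsCoatom M → IsCoatom N → (Cfsg.sigma M ∩ Cfsg.sigma N).Nonempty →
    ∃ g : G, N = M.map (MulAut.conj g).toMonoidHom

theorem map_conj_mul_right_of_mem {M : Subgroup G} (b : G) {d : G} (hd : d ∈ M) :
    M.map (MulAut.conj (b * d)).toMonoidHom = M.map (MulAut.conj b).toMonoidHom := by
  ext y
  rw [sf_mem_map_conj_iff, sf_mem_map_conj_iff]
  have h : (b * d)⁻¹ * y * (b * d) = d⁻¹ * (b⁻¹ * y * b) * d := by group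
  rw [h]
  constructor
  · intro h1
    have h2 := M.mul_mem (M.mul_mem hd h1) (M.inv_mem hd)
    have h3 : d * (d⁻¹ * (b⁻¹ * y * b) * d) * d⁻¹ = b⁻¹ * y * b := by group
    rwa [h3] at h2
  · intro h1
    exact M.mul_mem (M.mul_mem (M.inv_mem hd) h1) hd

theorem map_conj_of_mem {M : Subgroup G} {d : G} (hd : d ∈ M) :
    M.map (MulAut.conj d).toMonoidHom = M := by
  ext y
  rw [sf_mem_map_conj_iff]
  constructor
  · intro h1
    have h2 := M.mul_mem (M.mul_mem hd h1) (M.inv_mem hd)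
    have h3 : d * (d⁻¹ * y * d) * d⁻¹ = y := by group
    rwa [h3] at h2
  · intro h1
    exact M.mul_mem (M.mul_mem (M.inv_mem hd) h1) hd

theorem inv_mul_mem_normalizer_of_map_conj_eq {M : Subgroup G} {r r' : G}
    (h : M.map (MulAut.conj r).toMonoidHom = M.map (MulAut.conj r').toMonoidHom) :
    r'⁻¹ * r ∈ normalizer (M : Set G) := by
  rw [mem_normalizer_iff]
  intro y
  have h1 : r * y * r⁻¹ ∈ M.map (MulAut.conj r).toMonoidHom ↔ y ∈ M := by
    rw [sf_mem_map_conj_iff]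
    have : r⁻¹ * (r * y * r⁻¹) * r = y := by group
    rw [this]
  have h2 : r * y * r⁻¹ ∈ M.map (MulAut.conj r').toMonoidHom ↔
      r'⁻¹ * r * y * (r'⁻¹ * r)⁻¹ ∈ M := by
    rw [sf_mem_map_conj_iff]
    have : r'⁻¹ * (r * y * r⁻¹) * r' = r'⁻¹ * r * y * (r'⁻¹ * r)⁻¹ := by group
    rw [this]
  rw [← h1, h, h2]

/-- The setting of B-G 14.4: `q ∈ σ(M)`, `X ≤ M` a nontrivial `q`-subgroup, `N ≠ M` a maximal
subgroup containing `N_G(X)`. -/
theorem setting [Finite G] (hG : IsMinSimpleOddOrder G) (h78 : H1378 G)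
    {M N : Subgroup G} (hM : IsCoatom M) (hN : IsCoatom N) (hne : N ≠ M)
    {q : ℕ} [Fact q.Prime] (hqM : q ∈ sigma M) (X : Subgroup G) (hXq : IsPGroup q X)
    (hX1 : X ≠ ⊥) (hXM : X ≤ M) (hNX : normalizer (X : Set G) ≤ N) :
    q ∈ tau2 N ∧ Group.IsNilpotent (sigmaCore N) ∧ IsComplIn (M ⊓ N) (sigmaCore N) N ∧
      sigmaCore N ⊓ M = ⊥ := by
  have hU := bgx_uniq hG
  have hF := bgx_fus hG
  have h16 : CentHyp G := by
    intro M hM p _ A hAM hAe hAc
    exact (Cfsg.Agent.S1416.result hG M hM p A ⟨hAM, hAe, hAc⟩).1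
  have h17 : Tau2Hyp G := by
    intro M hM p _ hp A hAM hAe hAc
    obtain ⟨h1, -, h3, -⟩ := Cfsg.Agent.S1417.result hG M hM p hp A ⟨hAM, hAe, hAc⟩
    exact ⟨h1, h3⟩
  have hXN : X ≤ N := le_normalizer.trans hNX
  have hXMN : X ≤ M ⊓ N := le_inf hXM hXN
  obtain ⟨Sy, hSy⟩ := (hXq.comap_of_injective (M ⊓ N).subtype (M ⊓ N).subtype_injective :
    IsPGroup q (X.subgroupOf (M ⊓ N))).exists_le_sylow
  have hXS : X ≤ (Sy : Subgroup ↥(M ⊓ N)).map (M ⊓ N).subtype := by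
    intro x hx
    exact ⟨⟨x, hXMN hx⟩, hSy (mem_subgroupOf.mpr hx), rfl⟩
  obtain ⟨hnc, hNS, hidx⟩ :=
    Cfsg.Agent.S1424.result hG M hM q hqM X hXq hX1 hXM N hN hne hNX Sy hXS
  have hS'q : IsPGroup q ((Sy : Subgroup ↥(M ⊓ N)).map (M ⊓ N).subtype) := Sy.isPGroup'.map _
  have hS'MN : (Sy : Subgroup ↥(M ⊓ N)).map (M ⊓ N).subtype ≤ M ⊓ N := map_subtype_le _
  generalize (Sy : Subgroup ↥(M ⊓ N)).map (M ⊓ N).subtype = S' at hXS hNS hidx hS'q hS'MN
  have hqN : q ∉ sigma N := by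
    intro hqN
    obtain ⟨g, hg⟩ := h78 M N hM hN ⟨q, hqM, hqN⟩
    exact hnc g hg
  obtain ⟨hτ, hnil, hfac⟩ := caseB_struct hG hU hF h16 h17 hM hN hqM hqN X hXq hX1 hNX S'
      hXS hS'q hS'MN hidx
  have hS''q : IsPGroup q (S'.subgroupOf N) :=
    hS'q.comap_of_injective N.subtype N.subtype_injective
  have hidx' : ¬ q ∣ (S'.subgroupOf N).index := hidx
  have hS'N : S' ≤ N := hS'MN.trans inf_le_right
  have hPmap : ((hS''q.toSylow hidx' : Sylow q ↥N) : Subgroup ↥N).map N.subtype = S' := by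
    rw [IsPGroup.toSylow_coe]; exact Subgroup.map_subgroupOf_eq_of_le hS'N
  obtain ⟨A, hAS, hAe, hAc⟩ :=
    exists_elemAb_sq_le_sylow N q hτ.2.2.1 hτ.2.2.2 (hS''q.toSylow hidx')
  rw [hPmap] at hAS
  have hAM : A ≤ M := (hAS.trans hS'MN).trans inf_le_left
  have hAN : A ≤ N := (hAS.trans hS'MN).trans inf_le_right
  have hbot : sigmaCore N ⊓ M = ⊥ :=
    (Cfsg.Agent.S1417.result hG N hN q hτ A ⟨hAN, hAe, hAc⟩).2.2.2.2.1 M hM hne.symm hAM
  refine ⟨hτ, hnil, ⟨inf_le_right, Cfsg.Agent.Lib.helper71.BGA.sigmaCore_le N, ?_, ?_⟩, hbot⟩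
  · rw [eq_bot_iff, ← hbot]
    exact fun y hy => ⟨hy.2, hy.1.1⟩
  · intro l hl
    obtain ⟨b, hb, d, hd, h⟩ := hfac l⁻¹ (N.inv_mem hl)
    refine ⟨d⁻¹, (M ⊓ N).inv_mem hd, b⁻¹, (sigmaCore N).inv_mem hb, ?_⟩
    rw [← mul_inv_rev, ← h, inv_inv]

/-- Abstract form of the structure of `C_G(x)` in case II. -/
theorem caseII_struct {M N Ns : Subgroup G} (hnorm : N ≤ normalizer (Ns : Set G))
    (hcompl : IsComplIn (M ⊓ N) Ns N) {x : G} (hxM : x ∈ M) (hxN : x ∈ N)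
    (hCN : centralizer ({x} : Set G) ≤ N) :
    centralizer ({x} : Set G) ≤
        normalizer ((Ns ⊓ centralizer ({x} : Set G) : Subgroup G) : Set G) ∧
      IsComplIn (M ⊓ centralizer ({x} : Set G)) (Ns ⊓ centralizer ({x} : Set G))
        (centralizer ({x} : Set G)) := by
  obtain ⟨-, hNsN, hbot, hfac⟩ := hcompl
  have hconj : ∀ g ∈ N, ∀ n, n ∈ Ns ↔ g * n * g⁻¹ ∈ Ns :=
    fun g hg n => mem_normalizer_iff.mp (hnorm hg) n
  constructor
  · intro c hc
    rw [mem_normalizer_iff]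
    intro n
    have hcc : n ∈ centralizer ({x} : Set G) ↔ c * n * c⁻¹ ∈ centralizer ({x} : Set G) := by
      constructor
      · intro hn
        exact mul_mem (mul_mem hc hn) (inv_mem hc)
      · intro hn
        have h2 := mul_mem (mul_mem (inv_mem hc) hn) hc
        have h3 : c⁻¹ * (c * n * c⁻¹) * c = n := by group
        rwa [h3] at h2
    rw [Subgroup.mem_inf, Subgroup.mem_inf, hconj c (hCN hc) n, hcc]
  · refine ⟨inf_le_right, inf_le_right, ?_, ?_⟩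
    · rw [eq_bot_iff, ← hbot]
      exact fun y hy => ⟨⟨hy.1.1, hNsN hy.2.1⟩, hy.2.1⟩
    · intro c hc
      obtain ⟨a, ha, b, hb, rfl⟩ := hfac c (hCN hc)
      rw [mem_centralizer_singleton_iff] at hc
      have h1 : x⁻¹ * b * x * b⁻¹ ∈ Ns := by
        have h2 : x⁻¹ * b * x⁻¹⁻¹ ∈ Ns := (hconj x⁻¹ (N.inv_mem hxN) b).mp hb
        rw [inv_inv] at h2
        exact Ns.mul_mem h2 (Ns.inv_mem hb)
      have h3 : x⁻¹ * b * x * b⁻¹ = x⁻¹ * a⁻¹ * x * a := by
        have h4 : b * x = a⁻¹ * x * a * b := by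
          have : a⁻¹ * (a * b * x) = a⁻¹ * (x * (a * b)) := by rw [hc]
          calc b * x = a⁻¹ * (a * b * x) := by group
            _ = a⁻¹ * (x * (a * b)) := this
            _ = a⁻¹ * x * a * b := by group
        calc x⁻¹ * b * x * b⁻¹ = x⁻¹ * (b * x) * b⁻¹ := by group
          _ = x⁻¹ * (a⁻¹ * x * a * b) * b⁻¹ := by rw [h4]
          _ = x⁻¹ * a⁻¹ * x * a := by group
      have h5 : x⁻¹ * a⁻¹ * x * a ∈ M ⊓ N := by
        have hxMN : x ∈ M ⊓ N := ⟨hxM, hxN⟩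
        exact mul_mem (mul_mem (mul_mem (inv_mem hxMN) (inv_mem ha)) hxMN) ha
      have h6 : x⁻¹ * b * x * b⁻¹ = 1 := by
        have h7 : x⁻¹ * b * x * b⁻¹ ∈ (M ⊓ N) ⊓ Ns := ⟨h3 ▸ h5, h1⟩
        rw [hbot] at h7
        exact Subgroup.mem_bot.mp h7
      have hbx : b * x = x * b := by
        calc b * x = x * (x⁻¹ * b * x * b⁻¹) * b := by group
          _ = x * b := by rw [h6, mul_one]
      have hax : a * x = x * a := by
        have h8 : a * x * b = x * a * b := by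
          calc a * x * b = a * (x * b) := by group
            _ = a * (b * x) := by rw [hbx]
            _ = a * b * x := by group
            _ = x * (a * b) := hc
            _ = x * a * b := by group
        exact mul_right_cancel h8
      exact ⟨a, ⟨ha.1, mem_centralizer_singleton_iff.mpr hax⟩, b,
        ⟨hb, mem_centralizer_singleton_iff.mpr hbx⟩, rfl⟩

/-- Abstract form of the regularity statement in case II. -/
theorem caseII_reg {M N Ns : Subgroup G} (hnorm : N ≤ normalizer (Ns : Set G))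
    (hcompl : IsComplIn (M ⊓ N) Ns N) (hMn : normalizer (M : Set G) = M) {x : G}
    (hxM : x ∈ M) (hxN : x ∈ N)
    (hfus : ∀ g : G, x ∈ M.map (MulAut.conj g).toMonoidHom →
      ∃ c ∈ N, M.map (MulAut.conj g).toMonoidHom = M.map (MulAut.conj c).toMonoidHom) :
    ∀ g : G, x ∈ M.map (MulAut.conj g).toMonoidHom →
      ∃! r : G, r ∈ Ns ⊓ centralizer ({x} : Set G) ∧
        M.map (MulAut.conj r).toMonoidHom = M.map (MulAut.conj g).toMonoidHom := by
  obtain ⟨-, hNsN, hbot, hfac⟩ := hcompl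
  intro g hg
  obtain ⟨c, hc, hgc⟩ := hfus g hg
  obtain ⟨a, ha, b, hb, hab⟩ := hfac c⁻¹ (N.inv_mem hc)
  have hcr : c = b⁻¹ * a⁻¹ := by rw [← mul_inv_rev, ← hab, inv_inv]
  have hmap : M.map (MulAut.conj g).toMonoidHom = M.map (MulAut.conj b⁻¹).toMonoidHom := by
    rw [hgc, hcr]; exact map_conj_mul_right_of_mem b⁻¹ (M.inv_mem ha.1)
  have hbN : b ∈ N := hNsN hb
  have hconj : ∀ g ∈ N, ∀ n, n ∈ Ns ↔ g * n * g⁻¹ ∈ Ns :=
    fun g hg n => mem_normalizer_iff.mp (hnorm hg) n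
  have hxb : b⁻¹ * x = x * b⁻¹ := by
    rw [hmap, sf_mem_map_conj_iff, inv_inv] at hg
    have h1 : x⁻¹ * (b * x * b⁻¹) ∈ M ⊓ N :=
      ⟨M.mul_mem (M.inv_mem hxM) hg,
        N.mul_mem (N.inv_mem hxN) (N.mul_mem (N.mul_mem hbN hxN) (N.inv_mem hbN))⟩
    have h2 : x⁻¹ * (b * x * b⁻¹) ∈ Ns := by
      have h3 : x⁻¹ * b * x⁻¹⁻¹ ∈ Ns := (hconj x⁻¹ (N.inv_mem hxN) b).mp hb
      rw [inv_inv] at h3
      have h4 := Ns.mul_mem h3 (Ns.inv_mem hb)
      have h5 : x⁻¹ * b * x * b⁻¹ = x⁻¹ * (b * x * b⁻¹) := by group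
      rwa [h5] at h4
    have h6 : x⁻¹ * (b * x * b⁻¹) ∈ (M ⊓ N) ⊓ Ns := ⟨h1, h2⟩
    rw [hbot, Subgroup.mem_bot] at h6
    have h7 : x = b * x * b⁻¹ := inv_mul_eq_one.mp h6
    calc b⁻¹ * x = b⁻¹ * (b * x * b⁻¹) := by rw [← h7]
      _ = x * b⁻¹ := by group
  refine ⟨b⁻¹, ⟨⟨Ns.inv_mem hb, mem_centralizer_singleton_iff.mpr hxb⟩, hmap.symm⟩, ?_⟩
  rintro r' ⟨⟨hr'Ns, -⟩, hr'⟩
  have h8 : (b⁻¹)⁻¹ * r' ∈ normalizer (M : Set G) :=
    inv_mul_mem_normalizer_of_map_conj_eq (hr'.trans hmap)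
  rw [hMn] at h8
  have h9 : (b⁻¹)⁻¹ * r' ∈ (M ⊓ N) ⊓ Ns :=
    ⟨⟨h8, N.mul_mem (N.inv_mem (N.inv_mem hbN)) (hNsN hr'Ns)⟩,
      Ns.mul_mem (Ns.inv_mem (Ns.inv_mem hb)) hr'Ns⟩
  rw [hbot, Subgroup.mem_bot] at h9
  exact (inv_mul_eq_one.mp h9).symm

/-- Abstract form of the coprimality statement in case II. -/
theorem caseII_coprime [Finite G] {M N Ns : Subgroup G} {π : Set ℕ} (hHall : IsPiHallOf π Ns N)
    (hcompl : IsComplIn (M ⊓ N) Ns N) {C : Subgroup G} (hCN : C ≤ N)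
    (hC : IsComplIn (M ⊓ C) (Ns ⊓ C) C) :
    (Nat.card ↥(M ⊓ C)).Coprime ((M ⊓ C).relIndex C) := by
  have h1 : Nat.card ↥(M ⊓ C) * Nat.card ↥(Ns ⊓ C) = Nat.card C :=
    Cfsg.Agent.Lib.helper60.BGCentU.card_of_isComplIn hC
  have h2 : (M ⊓ C).relIndex C * Nat.card ↥(M ⊓ C) = Nat.card C :=
    relIndex_mul_card_of_le inf_le_right
  have h3 : (M ⊓ C).relIndex C = Nat.card ↥(Ns ⊓ C) := by
    rw [← h1, mul_comm] at h2
    exact Nat.eq_of_mul_eq_mul_left Nat.card_pos h2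
  have h4 : Nat.card ↥(M ⊓ N) * Nat.card Ns = Nat.card N :=
    Cfsg.Agent.Lib.helper60.BGCentU.card_of_isComplIn hcompl
  have h5 : Ns.relIndex N * Nat.card Ns = Nat.card N := relIndex_mul_card_of_le hHall.1
  have h6 : Ns.relIndex N = Nat.card ↥(M ⊓ N) := by
    rw [← h4] at h5
    exact Nat.eq_of_mul_eq_mul_right Nat.card_pos h5
  rw [h3]
  apply Nat.coprime_of_dvd
  intro p hp hp1 hp2
  have h7 : p ∈ π := hHall.2.1 p hp (hp2.trans (Subgroup.card_dvd_of_le inf_le_left))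
  apply hHall.2.2 p hp h7
  rw [h6]
  exact hp1.trans (Subgroup.card_dvd_of_le (inf_le_inf_left M hCN))

/-- The prime-order subgroup attached to a nonidentity element of `M_σ`. -/
theorem exists_prime_sub [Finite G] (M : Subgroup G) {x : G} (hx : x ∈ sigmaCore M)
    (hx1 : x ≠ 1) :
    ∃ (q : ℕ) (X : Subgroup G), q.Prime ∧ q ∈ sigma M ∧ q ∣ orderOf x ∧ IsPGroup q X ∧ X ≠ ⊥ ∧
      X ≤ M ∧ X ≤ zpowers x := by
  have hox : orderOf x ≠ 1 := fun h => hx1 (orderOf_eq_one_iff.mp h)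
  obtain ⟨q, hq, hqx⟩ := Nat.exists_prime_and_dvd hox
  have : Fact q.Prime := ⟨hq⟩
  have hox0 : orderOf x ≠ 0 := (orderOf_pos x).ne'
  have hyo : orderOf (x ^ (orderOf x / q)) = q := orderOf_pow_orderOf_div hox0 hqx
  have hxM : x ∈ M := Cfsg.Agent.Lib.helper71.BGA.sigmaCore_le M hx
  have hqM : q ∈ sigma M := by
    have h1 : q ∣ Nat.card (sigmaCore M) := hqx.trans (Subgroup.orderOf_dvd_natCard _ hx)
    unfold sigmaCore at h1
    rw [Subgroup.card_map_of_injective M.subtype_injective] at h1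
    exact Cfsg.Agent.Lib.helper65.piCore_isPiGrp (G := ↥M) (sigma M) q hq h1
  refine ⟨q, zpowers (x ^ (orderOf x / q)), hq, hqM, hqx, ?_, ?_, ?_, ?_⟩
  · apply IsPGroup.of_card (n := 1)
    rw [Nat.card_zpowers, hyo, pow_one]
  · intro h
    have h2 : x ^ (orderOf x / q) = 1 := by
      rw [← Subgroup.mem_bot, ← h]; exact mem_zpowers _
    rw [← orderOf_eq_one_iff, hyo] at h2
    exact hq.one_lt.ne' h2
  · rw [zpowers_le]; exact M.pow_mem hxM _
  · rw [zpowers_le]; exact Subgroup.pow_mem _ (mem_zpowers x) _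

theorem centralizer_le_of_le_zpowers {X : Subgroup G} {x : G} (hXx : X ≤ zpowers x) :
    centralizer ({x} : Set G) ≤ centralizer (X : Set G) := by
  intro c hc
  rw [mem_centralizer_iff]
  intro y hy
  obtain ⟨k, rfl⟩ := mem_zpowers_iff.mp (hXx hy)
  rw [mem_centralizer_singleton_iff] at hc
  exact ((Commute.zpow_right (show Commute c x from hc) k)).eq.symm

/-- Fusion control: a conjugate of `M` containing `x` is conjugate to `M` by an element of
`C_G(X)`, for a nontrivial `σ(M)`-subgroup `X ≤ ⟨x⟩` of `M`. -/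
theorem fus_of_le_zpowers [Finite G] (hG : IsMinSimpleOddOrder G) {M : Subgroup G}
    (hM : IsCoatom M) {q : ℕ} [Fact q.Prime] (hqM : q ∈ sigma M) (X : Subgroup G)
    (hXq : IsPGroup q X) (hX1 : X ≠ ⊥) (hXM : X ≤ M) {x : G} (hXx : X ≤ zpowers x) :
    ∀ g : G, x ∈ M.map (MulAut.conj g).toMonoidHom →
      ∃ c ∈ centralizer (X : Set G),
        M.map (MulAut.conj g).toMonoidHom = M.map (MulAut.conj c).toMonoidHom := by
  intro g hg
  have hXg : X.map (MulAut.conj g⁻¹).toMonoidHom ≤ M := by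
    rintro _ ⟨y, hy, rfl⟩
    have h1 : y ∈ M.map (MulAut.conj g).toMonoidHom := by
      have h2 : zpowers x ≤ M.map (MulAut.conj g).toMonoidHom := by rw [zpowers_le]; exact hg
      exact h2 (hXx hy)
    rw [sf_mem_map_conj_iff] at h1
    simpa using h1
  obtain ⟨m, hm, c, hc, hgc⟩ :=
    (Cfsg.Agent.S1404.result hG M hM q hqM X hXq hX1 hXM).1 g⁻¹ hXg
  refine ⟨c⁻¹, inv_mem hc, ?_⟩
  have h3 : g = c⁻¹ * m⁻¹ := by rw [← mul_inv_rev, ← hgc, inv_inv]
  rw [h3]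
  exact map_conj_mul_right_of_mem c⁻¹ (M.inv_mem hm)

/-- Case II of B-G 14.4: `q ∈ σ(M)`, `X ≤ M ∩ ⟨x⟩` a nontrivial `q`-subgroup, `N ≠ M` maximal
over `N_G(X)`.  Then `C_G(x) ≤ N` and `R := N_σ ∩ C_G(x)` is as wanted in S1374. -/
theorem caseII_main [Finite G] (hG : IsMinSimpleOddOrder G) (h78 : H1378 G)
    {M N : Subgroup G} (hM : IsCoatom M) (hN : IsCoatom N) (hne : N ≠ M)
    {q : ℕ} [Fact q.Prime] (hqM : q ∈ sigma M) (X : Subgroup G) (hXq : IsPGroup q X)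
    (hX1 : X ≠ ⊥) (hXM : X ≤ M) (hNX : normalizer (X : Set G) ≤ N) {x : G} (hxM : x ∈ M)
    (hXx : X ≤ zpowers x) :
    centralizer ({x} : Set G) ≤ N ∧
    (Nat.card ↥(M ⊓ centralizer ({x} : Set G))).Coprime
        ((M ⊓ centralizer ({x} : Set G)).relIndex (centralizer ({x} : Set G))) ∧
    centralizer ({x} : Set G) ≤
        normalizer ((sigmaCore N ⊓ centralizer ({x} : Set G) : Subgroup G) : Set G) ∧
    IsComplIn (M ⊓ centralizer ({x} : Set G)) (sigmaCore N ⊓ centralizer ({x} : Set G))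
        (centralizer ({x} : Set G)) ∧
    ∀ g : G, x ∈ M.map (MulAut.conj g).toMonoidHom →
      ∃! r : G, r ∈ sigmaCore N ⊓ centralizer ({x} : Set G) ∧
        M.map (MulAut.conj r).toMonoidHom = M.map (MulAut.conj g).toMonoidHom := by
  obtain ⟨-, -, hcompl, -⟩ := setting hG h78 hM hN hne hqM X hXq hX1 hXM hNX
  have hCX := centralizer_le_of_le_zpowers hXx
  have hXN' : centralizer (X : Set G) ≤ N := (centralizer_le_normalizer _).trans hNX
  have hCN : centralizer ({x} : Set G) ≤ N := hCX.trans hXN'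
  have hxN : x ∈ N := hCN (mem_centralizer_singleton_iff.mpr rfl)
  have hnorm := Cfsg.Agent.Lib.helper71.BGA.le_normalizer_sigmaCore N
  have hHall := (Cfsg.Agent.S1350.result hG N hN).1
  obtain ⟨h1, h2⟩ := caseII_struct hnorm hcompl hxM hxN hCN
  have hMbot : M ≠ ⊥ := fun h => hX1 (le_bot_iff.mp (h ▸ hXM))
  have : IsSimpleGroup G := hG.2.1
  have hMn : normalizer (M : Set G) = M :=
    Cfsg.Agent.Lib.helper71.BGA.normalizer_eq_of_isCoatom hM hMbot
  refine ⟨hCN, caseII_coprime hHall hcompl hCN h2, h1, h2, ?_⟩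
  apply caseII_reg hnorm hcompl hMn hxM hxN
  intro g hg
  obtain ⟨c, hc, h⟩ := fus_of_le_zpowers hG hM hqM X hXq hX1 hXM hXx g hg
  exact ⟨c, hXN' hc, h⟩

/-- **B-G Theorem 14.4, first part** (the conclusion of statement S1374), from the
sigma-partition. -/
theorem bg1374 [Finite G] (hG : IsMinSimpleOddOrder G) (h78 : H1378 G)
    (M : Subgroup G) (hM : IsCoatom M) (x : G) (hx : x ∈ sigmaCore M) (hx1 : x ≠ 1) :
    (Nat.card ↥(M ⊓ centralizer ({x} : Set G))).Coprime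
        ((M ⊓ centralizer ({x} : Set G)).relIndex (centralizer ({x} : Set G))) ∧
      ∃ R : Subgroup G, centralizer ({x} : Set G) ≤ normalizer (R : Set G) ∧
        IsComplIn (M ⊓ centralizer ({x} : Set G)) R (centralizer ({x} : Set G)) ∧
        ∀ g : G, x ∈ M.map (MulAut.conj g).toMonoidHom →
          ∃! r : G, r ∈ R ∧
            M.map (MulAut.conj r).toMonoidHom = M.map (MulAut.conj g).toMonoidHom := by
  obtain ⟨q, X, hq, hqM, -, hXq, hX1, hXM, hXx⟩ := exists_prime_sub M hx hx1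
  have : Fact q.Prime := ⟨hq⟩
  have hxM : x ∈ M := Cfsg.Agent.Lib.helper71.BGA.sigmaCore_le M hx
  have hCX := centralizer_le_of_le_zpowers hXx
  by_cases hNM : normalizer (X : Set G) ≤ M
  · have hCM : centralizer ({x} : Set G) ≤ M :=
      hCX.trans ((centralizer_le_normalizer _).trans hNM)
    have hinf : M ⊓ centralizer ({x} : Set G) = centralizer ({x} : Set G) :=
      inf_of_le_right hCM
    refine ⟨?_, ⊥, ?_, ?_, ?_⟩
    · rw [hinf, Subgroup.relIndex_self]; exact Nat.coprime_one_right _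
    · intro c _
      rw [mem_normalizer_iff]
      intro n
      simp [Subgroup.mem_bot]
    · refine ⟨inf_le_right, bot_le, inf_bot_eq _, ?_⟩
      intro c hc
      exact ⟨c, ⟨hCM hc, hc⟩, 1, Subgroup.mem_bot.mpr rfl, (mul_one c).symm⟩
    · intro g hg
      obtain ⟨c, hc, h⟩ := fus_of_le_zpowers hG hM hqM X hXq hX1 hXM hXx g hg
      have hcM : c ∈ M := ((centralizer_le_normalizer _).trans hNM) hc
      rw [h, map_conj_of_mem hcM]
      refine ⟨1, ⟨Subgroup.mem_bot.mpr rfl, map_conj_of_mem M.one_mem⟩, ?_⟩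
      rintro r ⟨hr, -⟩
      exact Subgroup.mem_bot.mp hr
  · have hXtop : X ≠ ⊤ := fun h => hM.1 (top_le_iff.mp (h ▸ hXM))
    have hNtop := Cfsg.Agent.Lib.helper71.BG12.normalizer_ne_top' hG hX1 hXtop
    obtain ⟨N, hN, hNX⟩ := (eq_top_or_exists_le_coatom _).resolve_left hNtop
    have hne : N ≠ M := by rintro rfl; exact hNM hNX
    obtain ⟨-, h1, h2, h3, h4⟩ := caseII_main hG h78 hM hN hne hqM X hXq hX1 hXM hNX hxM hXx
    exact ⟨h1, _, h2, h3, h4⟩

end Cfsg.Agent.Lib.helper26.BG1374
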