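import Mathlib
import Cfsg.Agent.Lib.helper26.BG1374
import Cfsg.Agent.Lib.helper29.FittingHall
import Cfsg.Agent.Lib.helper54.BG1360Glue
import Cfsg.Agent.Lib.helper3.BGCross

/-!
# B-G Theorem 14.4, second part (statement S1375)

`x ∈ M_σ#` with `C_G(x) ≰ M`.  Then exactly one maximal subgroup `N` contains `C_G(x)`;
`N_σ = N_F`, `C_{N_σ}(x)` is a normal complement of `C_M(x)` in `C_G(x)`, `M ∩ N` is a complement
of `N_σ` in `N`, and for every standard factorisation `N = K' U' N_σ`: `U' ≠ 1`, `x ∈ A(N)`,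
`x ∉ N_σ`.

The sigma-partition (frozen S1378, second clause) and the dichotomy S1432 enter as the explicit
hypotheses `H1378 G` and `H1432 G`.
-/

set_option autoImplicit false

namespace Cfsg.Agent.Lib.helper26.BG1375

open Cfsg Subgroup Cfsg.Agent.Lib.helper8 Cfsg.Agent.Lib.helper13 Cfsg.Agent.Lib.helper55.BGJ
open Cfsg.Agent.Lib.helper26.BG1374

variable {G : Type*} [Group G]

/-- The frozen statement S1432. -/
def H1432 (G : Type*) [Group G] : Prop :=
  ∀ (M : Subgroup G), IsCoatom M → ∀ (x : G), x ∈ Cfsg.sigmaCore M → x ≠ 1 → ∀ (x' : G),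
    x' ∈ M ⊓ Subgroup.centralizer ({x} : Set G) → x' ≠ 1 →
    (∀ p : ℕ, p.Prime → p ∣ orderOf x' → p ∉ Cfsg.sigma M) →
    ((∀ p : ℕ, p.Prime → p ∣ orderOf x' → p ∈ Cfsg.kappa M) ∧
        Subgroup.centralizer ({x} : Set G) ≤ M) ∨
      ((∀ p : ℕ, p.Prime → p ∣ orderOf x' → p ∈ Cfsg.tau2 M) ∧
        (∃ L : Subgroup G, IsCoatom L ∧ ∀ p : ℕ, p.Prime → p ∣ orderOf x' → p ∈ Cfsg.sigma L) ∧
        (Subgroup.centralizer ({x'} : Set G) ≤ M ∧
          ∀ L : Subgroup G, IsCoatom L → Subgroup.centralizer ({x'} : Set G) ≤ L → L = M))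

theorem map_conj_le_of_mem_normalizer {A : Subgroup G} {g : G}
    (hA : g ∈ normalizer (A : Set G)) : A.map (MulAut.conj g).toMonoidHom ≤ A := by
  rintro _ ⟨a, ha, rfl⟩
  exact (mem_normalizer_iff.mp hA a).mp ha

theorem mem_normalizer_sup {A B : Subgroup G} {g : G} (hA : g ∈ normalizer (A : Set G))
    (hB : g ∈ normalizer (B : Set G)) : g ∈ normalizer ((A ⊔ B : Subgroup G) : Set G) := by
  have key : ∀ g : G, g ∈ normalizer (A : Set G) → g ∈ normalizer (B : Set G) →
      ∀ h ∈ A ⊔ B, g * h * g⁻¹ ∈ A ⊔ B := by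
    intro g hA hB h hh
    have h1 : (A ⊔ B).map (MulAut.conj g).toMonoidHom ≤ A ⊔ B := by
      rw [Subgroup.map_sup]
      exact sup_le_sup (map_conj_le_of_mem_normalizer hA) (map_conj_le_of_mem_normalizer hB)
    exact h1 ⟨h, hh, rfl⟩
  rw [mem_normalizer_iff]
  intro h
  constructor
  · exact key g hA hB h
  · intro hh
    have h2 := key g⁻¹ (inv_mem hA) (inv_mem hB) _ hh
    have e : g⁻¹ * (g * h * g⁻¹) * g⁻¹⁻¹ = h := by group
    rwa [e] at h2

/-- A prime divisor of `|N_F|` lies in `σ(N)`: `N` has a normal Sylow subgroup for it. -/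
theorem mem_sigma_of_dvd_card_fittingHall [Finite G] (hG : IsMinSimpleOddOrder G)
    {N : Subgroup G} (hN : IsCoatom N) {p : ℕ} (hp : p.Prime)
    (hdvd : p ∣ Nat.card (fittingHall ↥N)) : p ∈ sigma N := by
  have : Fact p.Prime := ⟨hp⟩
  obtain ⟨N₁, ⟨hn, hnil, hcop⟩, hpN⟩ :=
    Cfsg.Agent.Lib.helper29.exists_dvd_card_of_dvd_card_sSup _ (fun N hN => hN.1) p hp hdvd
  obtain ⟨P₁⟩ : Nonempty (Sylow p ↥N₁) := inferInstance
  have hP₁n : (P₁ : Subgroup ↥N₁).Normal := inferInstance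
  have hchar : (P₁ : Subgroup ↥N₁).Characteristic := Sylow.characteristic_of_normal P₁ hP₁n
  have hQn : ((P₁ : Subgroup ↥N₁).map N₁.subtype).Normal :=
    ConjAct.normal_of_characteristic_of_normal
  have hQp : IsPGroup p ((P₁ : Subgroup ↥N₁).map N₁.subtype) := P₁.isPGroup'.map _
  have hQidx : ¬ p ∣ ((P₁ : Subgroup ↥N₁).map N₁.subtype).index := by
    rw [Subgroup.index_map_subtype]
    intro h
    rcases (Nat.Prime.dvd_mul hp).mp h with h | h
    · exact P₁.not_dvd_index h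
    · exact hp.one_lt.ne' (Nat.eq_one_of_dvd_coprimes hcop hpN h)
  generalize (P₁ : Subgroup ↥N₁).map N₁.subtype = Q at hQn hQp hQidx
  have hSN : Q.map N.subtype ≤ N := map_subtype_le _
  have hSp : IsPGroup p (Q.map N.subtype) := hQp.map _
  have hSidx : ¬ p ∣ (Q.map N.subtype).relIndex N := by
    rw [Cfsg.Agent.Lib.helper71.BGA.relIndex_map_subtype]; exact hQidx
  have hS1 : Q.map N.subtype ≠ ⊥ := by
    intro h
    rw [h, Subgroup.relIndex_bot_left] at hSidx
    exact hSidx (hpN.trans (Subgroup.card_subgroup_dvd_card N₁))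
  have hNS : N ≤ normalizer ((Q.map N.subtype : Subgroup G) : Set G) :=
    Cfsg.Agent.Lib.helper71.BGA.map_subtype_le_normalizer Q
  have hStop : Q.map N.subtype ≠ ⊤ := fun h => hN.1 (top_le_iff.mp (h ▸ hSN))
  have hNtop := Cfsg.Agent.Lib.helper71.BG12.normalizer_ne_top' hG hS1 hStop
  have hNeq : normalizer ((Q.map N.subtype : Subgroup G) : Set G) ≤ N := by
    by_contra hcon
    exact hNtop (hN.2 _ (lt_of_le_not_ge hNS hcon))
  exact Cfsg.Agent.Lib.helper3.mem_sigma_of_sylow hp _ hSN hSp hS1 hSidx hNeq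

/-- If `N_σ` is nilpotent then `N_σ = N_F`. -/
theorem sigmaCore_eq_fittingHallOf [Finite G] (hG : IsMinSimpleOddOrder G) {N : Subgroup G}
    (hN : IsCoatom N) (hnil : Group.IsNilpotent (sigmaCore N)) :
    sigmaCore N = fittingHallOf N := by
  have hHall := (Cfsg.Agent.S1350.result hG N hN).1
  have key : piCore (sigma N) ↥N = fittingHall ↥N := by
    apply le_antisymm
    · apply Cfsg.Agent.Lib.helper29.le_fittingHall _ inferInstance
      · have e := (piCore (sigma N) ↥N).equivMapOfInjective N.subtype N.subtype_injective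
        exact Group.nilpotent_of_mulEquiv (G := ↥(sigmaCore N)) e.symm
      · apply Nat.coprime_of_dvd
        intro p hp h1 h2
        have h3 : p ∈ sigma N :=
          Cfsg.Agent.Lib.helper65.piCore_isPiGrp (G := ↥N) (sigma N) p hp h1
        apply hHall.2.2 p hp h3
        unfold sigmaCore
        rw [Cfsg.Agent.Lib.helper71.BGA.relIndex_map_subtype]
        exact h2
    · apply le_sSup
      exact ⟨inferInstance, fun p hp hd => mem_sigma_of_dvd_card_fittingHall hG hN hp hd⟩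
  unfold sigmaCore fittingHallOf
  rw [key]

/-- **B-G Theorem 14.4, second part** (the conclusion of statement S1375), from the
sigma-partition and the dichotomy S1432. -/
theorem bg1375 [Finite G] (hG : IsMinSimpleOddOrder G) (h78 : H1378 G) (h32 : H1432 G)
    (M : Subgroup G) (hM : IsCoatom M) (x : G) (hx : x ∈ sigmaCore M) (hx1 : x ≠ 1)
    (hxM : ¬ centralizer ({x} : Set G) ≤ M) :
    ∃ N : Subgroup G, (IsCoatom N ∧ centralizer ({x} : Set G) ≤ N) ∧
      (∀ L : Subgroup G, IsCoatom L → centralizer ({x} : Set G) ≤ L → L = N) ∧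
      sigmaCore N = fittingHallOf N ∧
      centralizer ({x} : Set G) ≤
        normalizer ((sigmaCore N ⊓ centralizer ({x} : Set G) : Subgroup G) : Set G) ∧
      IsComplIn (M ⊓ centralizer ({x} : Set G)) (sigmaCore N ⊓ centralizer ({x} : Set G))
        (centralizer ({x} : Set G)) ∧
      IsComplIn (M ⊓ N) (sigmaCore N) N ∧
      ∀ K' U' : Subgroup G, IsSigmaDecomposition N K' U' →
        U' ≠ ⊥ ∧ x ∈ sigmaA N U' ∧ x ∉ sigmaCore N := by
  obtain ⟨q, X, hq, hqM, hqx, hXq, hX1, hXM, hXx⟩ := exists_prime_sub M hx hx1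
  have : Fact q.Prime := ⟨hq⟩
  have hxM' : x ∈ M := Cfsg.Agent.Lib.helper71.BGA.sigmaCore_le M hx
  have hCX := centralizer_le_of_le_zpowers hXx
  have hNM : ¬ normalizer (X : Set G) ≤ M :=
    fun h => hxM (hCX.trans ((centralizer_le_normalizer _).trans h))
  have hXtop : X ≠ ⊤ := fun h => hM.1 (top_le_iff.mp (h ▸ hXM))
  have hNtop := Cfsg.Agent.Lib.helper71.BG12.normalizer_ne_top' hG hX1 hXtop
  obtain ⟨N, hN, hNX⟩ := (eq_top_or_exists_le_coatom _).resolve_left hNtop
  have hne : N ≠ M := by rintro rfl; exact hNM hNX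
  obtain ⟨hτ, hnil, hcompl, hbot⟩ := setting hG h78 hM hN hne hqM X hXq hX1 hXM hNX
  obtain ⟨hCN, -, h1, h2, -⟩ := caseII_main hG h78 hM hN hne hqM X hXq hX1 hXM hNX hxM' hXx
  have hxN : x ∈ N := hCN (mem_centralizer_singleton_iff.mpr rfl)
  have hHall := (Cfsg.Agent.S1350.result hG N hN).1
  -- a nonidentity element of `R`
  obtain ⟨r, hr, hr1⟩ : ∃ r ∈ sigmaCore N ⊓ centralizer ({x} : Set G), r ≠ 1 := by
    by_contra hcon
    push Not at hcon
    apply hxM
    intro c hc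
    obtain ⟨a, ha, b, hb, rfl⟩ := h2.2.2.2 c hc
    rw [hcon b hb, mul_one]
    exact ha.1
  -- `x` is a `σ(N)'`-element
  have hxσ : ∀ p : ℕ, p.Prime → p ∣ orderOf x → p ∉ sigma N := by
    intro p hp hpx hpσ
    apply hHall.2.2 p hp hpσ
    have h4 : Nat.card ↥(M ⊓ N) * Nat.card (sigmaCore N) = Nat.card N :=
      Cfsg.Agent.Lib.helper60.BGCentU.card_of_isComplIn hcompl
    have h5 : (sigmaCore N).relIndex N * Nat.card (sigmaCore N) = Nat.card N :=
      relIndex_mul_card_of_le hHall.1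
    have h6 : (sigmaCore N).relIndex N = Nat.card ↥(M ⊓ N) := by
      rw [← h4] at h5
      exact Nat.eq_of_mul_eq_mul_right Nat.card_pos h5
    rw [h6]
    exact hpx.trans (Subgroup.orderOf_dvd_natCard _ ⟨hxM', hxN⟩)
  have hxr : x ∈ N ⊓ centralizer ({r} : Set G) :=
    ⟨hxN, mem_centralizer_singleton_iff.mpr (mem_centralizer_singleton_iff.mp hr.2).symm⟩
  have hτall : (∀ p : ℕ, p.Prime → p ∣ orderOf x → p ∈ tau2 N) ∧
      ∀ L : Subgroup G, IsCoatom L → centralizer ({x} : Set G) ≤ L → L = N := by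
    rcases h32 N hN r hr.1 hr1 x hxr hx1 hxσ with ⟨hκ, -⟩ | ⟨hτ2, -, -, huniq⟩
    · exact absurd (hκ q hq hqx) (Cfsg.Agent.Lib.helper54.PNU.tau2_not_kappa N q hτ)
    · exact ⟨hτ2, huniq⟩
  refine ⟨N, ⟨hN, hCN⟩, hτall.2, sigmaCore_eq_fittingHallOf hG hN hnil, h1, h2, hcompl, ?_⟩
  intro K' U' hKU
  have hxns : x ∉ sigmaCore N := by
    intro h
    have h3 : x ∈ sigmaCore N ⊓ M := ⟨h, hxM'⟩
    rw [hbot, Subgroup.mem_bot] at h3
    exact hx1 h3
  obtain ⟨hU'N, hVN, hUV, hfacN⟩ := hKU.compl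
  have hK'N : K' ≤ N := hKU.hall.1
  have hσN : sigmaCore N ≤ N := Cfsg.Agent.Lib.helper71.BGA.sigmaCore_le N
  have hσnorm := Cfsg.Agent.Lib.helper71.BGA.le_normalizer_sigmaCore N
  refine ⟨?_, ⟨⟨hxN, r, hr.1, hr1, (mem_centralizer_singleton_iff.mp hr.2).symm⟩, ?_⟩, hxns⟩
  · intro hU
    have hc1 : Nat.card U' * Nat.card ↥(K' ⊔ sigmaCore N) = Nat.card N :=
      Cfsg.Agent.Lib.helper60.BGCentU.card_of_isComplIn hKU.compl
    rw [hU, Subgroup.card_bot, one_mul] at hc1
    have hK'norm : K' ≤ normalizer (sigmaCore N : Set G) := hK'N.trans hσnorm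
    have hc2 : Nat.card ↥(K' ⊔ sigmaCore N) ∣ Nat.card (sigmaCore N) * Nat.card K' :=
      card_sup_dvd_mul hK'norm
    have hqN : q ∣ Nat.card N :=
      (dvd_card_of_isPGroup_ne_bot hXq hX1).trans
        (Subgroup.card_dvd_of_le (le_normalizer.trans hNX))
    rw [← hc1] at hqN
    rcases (Nat.Prime.dvd_mul hq).mp (hqN.trans hc2) with h | h
    · exact hτ.2.1 (hHall.2.1 q hq h)
    · exact Cfsg.Agent.Lib.helper54.PNU.tau2_not_kappa N q hτ (hKU.hall.2.1 q hq h)
  · show x ∈ U' ⊔ sigmaCore N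
    have hWN : U' ⊔ sigmaCore N ≤ N := sup_le hU'N hσN
    have hNW : N ≤ normalizer ((U' ⊔ sigmaCore N : Subgroup G) : Set G) := by
      intro n hn
      obtain ⟨u, hu, t, ht, rfl⟩ := hfacN n hn
      have hle : K' ⊔ sigmaCore N ≤ normalizer ((U' ⊔ sigmaCore N : Subgroup G) : Set G) := by
        apply sup_le
        · intro k hk
          exact mem_normalizer_sup (hKU.normal hk) (hσnorm (hK'N hk))
        · exact le_sup_right.trans le_normalizer
      exact mul_mem (le_normalizer (le_sup_left (a := U') hu)) (hle ht)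
    have hNKW : N ≤ K' ⊔ (U' ⊔ sigmaCore N) := by
      intro n hn
      obtain ⟨u, hu, t, ht, rfl⟩ := hfacN n hn
      exact mul_mem (le_sup_right (a := K') (le_sup_left (a := U') hu))
        ((sup_le_sup_left le_sup_right K') ht)
    have hW'n : ((U' ⊔ sigmaCore N).subgroupOf N).Normal :=
      Subgroup.normal_subgroupOf_of_le_normalizer hNW
    have hidx : (U' ⊔ sigmaCore N).relIndex N ∣ Nat.card K' := by
      have e1 : (K' ⊔ (U' ⊔ sigmaCore N)).subgroupOf N = ⊤ := Subgroup.subgroupOf_eq_top.mpr hNKW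
      rw [Subgroup.subgroupOf_sup hK'N hWN] at e1
      have e2 : ((U' ⊔ sigmaCore N).subgroupOf N).relIndex
          (K'.subgroupOf N ⊔ (U' ⊔ sigmaCore N).subgroupOf N) =
          ((U' ⊔ sigmaCore N).subgroupOf N).relIndex (K'.subgroupOf N) :=
        Subgroup.relIndex_sup_right _ _
      rw [e1, Subgroup.relIndex_top_right] at e2
      have e3 : (U' ⊔ sigmaCore N).relIndex N = ((U' ⊔ sigmaCore N).subgroupOf N).index := rfl
      rw [e3, e2]
      have e4 : Nat.card (K'.subgroupOf N) = Nat.card K' :=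
        Nat.card_congr (Subgroup.subgroupOfEquivOfLe hK'N).toEquiv
      rw [← e4]
      exact Subgroup.relIndex_dvd_card _ _
    have hpow : x ^ ((U' ⊔ sigmaCore N).relIndex N) ∈ U' ⊔ sigmaCore N := by
      have h5 := Subgroup.pow_index_mem ((U' ⊔ sigmaCore N).subgroupOf N) (⟨x, hxN⟩ : ↥N)
      rw [Subgroup.mem_subgroupOf] at h5
      exact h5
    have hcop : ((U' ⊔ sigmaCore N).relIndex N).Coprime (orderOf x) := by
      apply Nat.coprime_of_dvd
      intro p hp hp1 hp2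
      exact Cfsg.Agent.Lib.helper54.PNU.tau2_not_kappa N p (hτall.1 p hp hp2)
        (hKU.hall.2.1 p hp (hp1.trans hidx))
    obtain ⟨m, hm⟩ := exists_pow_eq_self_of_coprime hcop
    rw [← hm]
    exact Subgroup.pow_mem _ hpow m

end Cfsg.Agent.Lib.helper26.BG1375
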