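import Mathlib
import Cfsg.Prelude.Def_Transfer
import Cfsg.Prelude.Def_Solvable
import Cfsg.Agent.Lib.helper59.UniqueOrderP

/-!
Definitions for the S4409 split (helper26): 2-subgroups without an abelian noncyclic subgroup of
order 8, and the minimal coprime-action setting.
-/

set_option autoImplicit false

namespace Cfsg.Agent.Lib.helper26.S4409

variable {G : Type*} [Group G]

/-- `Y` contains no abelian noncyclic subgroup of order 8. -/
def NoP (Y : Subgroup G) : Prop :=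
  ∀ A : Subgroup G, A ≤ Y → IsMulCommutative ↥A → Nat.card ↥A = 8 → IsCyclic ↥A

/-- `Y` is a Klein four-group. -/
def IsV4 (Y : Subgroup G) : Prop := Nat.card ↥Y = 4 ∧ ∀ y ∈ Y, y * y = 1

/-- `Y` is a quaternion group of order 8. -/
def IsQ8 (Y : Subgroup G) : Prop := Nonempty (↥Y ≃* QuaternionGroup 2)

/-- The minimal setting: `X` a 2-subgroup normalized by the odd-order subgroup `H`, every proper
`H`-invariant subgroup of `X` is `NoP`, and `X` itself is not `NoP`. -/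
def MinSet (X H : Subgroup G) : Prop :=
  IsPGroup 2 ↥X ∧ H ≤ Subgroup.normalizer (X : Set G) ∧ (Nat.card ↥H).Coprime 2 ∧
  (∀ Y : Subgroup G, Y ≤ X → Y ≠ X → H ≤ Subgroup.normalizer (Y : Set G) → NoP Y) ∧ ¬ NoP X

/-- `M` is a maximal proper subgroup of `X` among those normalized by `X` and by `H`. -/
def IsMaxInv (X H M : Subgroup G) : Prop :=
  M ≤ X ∧ M ≠ X ∧ X ≤ Subgroup.normalizer (M : Set G) ∧ H ≤ Subgroup.normalizer (M : Set G) ∧
  ∀ N : Subgroup G, M ≤ N → N ≤ X → X ≤ Subgroup.normalizer (N : Set G) →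
    H ≤ Subgroup.normalizer (N : Set G) → N = M ∨ N = X

/-- The conclusion of S4409 for a subgroup `X`. -/
def Concl (X : Subgroup G) : Prop :=
  IsMulCommutative ↥X ∨
    (Cfsg.IsExtraspecial 2 ↥X ∧ 32 ≤ Nat.card ↥X) ∨
    (∃ (X₀ : Subgroup G) (k : ℕ), X₀ ≤ X ∧ X₀.relIndex X = 2 ∧
      Nonempty (↥X₀ ≃* QuaternionGroup (2 ^ (k + 1))) ∧
      X₀ ⊔ (X ⊓ Subgroup.centralizer (X₀ : Set G)) = X) ∨
    (Cfsg.IsSpecial 2 ↥X ∧ Nat.card ↥(Subgroup.center ↥X) = 4)

end Cfsg.Agent.Lib.helper26.S4409
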