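import Mathlib
import Cfsg.Agent.Lib.helper69.SNDefs

/-!
# S4073 piece DIH (helper26): a non-abelian normal subgroup of a dihedral group of odd degree
is the whole group.
-/

set_option autoImplicit false

namespace Cfsg.Agent.Lib.helper26.SNG

open Cfsg.Agent.Lib.helper69.SNG

universe u v

/-- **[DIH]** -/
theorem dihedral_odd_normal (k : ℕ) (hk : Odd k) (H : Subgroup (DihedralGroup k)) [H.Normal]
    (hH : ¬ IsMulCommutative H) : H = ⊤ := by
  classical
  -- `H` contains a reflection
  have hsr : ∃ i : ZMod k, DihedralGroup.sr i ∈ H := by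
    by_contra hno
    simp only [not_exists] at hno
    apply hH
    rw [comm_iff]
    intro a ha b hb
    cases a with
    | r i =>
      cases b with
      | r j => simp [add_comm]
      | sr j => exact absurd hb (hno j)
    | sr i => exact absurd ha (hno i)
  obtain ⟨i, hi⟩ := hsr
  obtain ⟨t, ht⟩ := hk
  have h2 : (2 : ZMod k) * ((t : ZMod k) + 1) = 1 := by
    have h0 : ((2 * t + 1 : ℕ) : ZMod k) = 0 := by
      rw [← ht]
      exact ZMod.natCast_self k
    push_cast at h0
    linear_combination h0
  -- all reflections are in `H`
  have hall : ∀ m : ZMod k, DihedralGroup.sr m ∈ H := by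
    intro m
    have hc := Subgroup.Normal.conj_mem (inferInstance : H.Normal) _ hi
      (DihedralGroup.r ((i - m) * ((t : ZMod k) + 1)))
    have he : DihedralGroup.r ((i - m) * ((t : ZMod k) + 1)) * DihedralGroup.sr i *
        (DihedralGroup.r ((i - m) * ((t : ZMod k) + 1)))⁻¹ = DihedralGroup.sr m := by
      simp only [DihedralGroup.r_mul_sr, DihedralGroup.inv_r, DihedralGroup.sr_mul_r]
      congr 1
      linear_combination (m - i) * h2
    rw [he] at hc
    exact hc
  rw [eq_top_iff]
  intro x _
  cases x with
  | r j =>
    have := H.mul_mem (hall 0) (hall j)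
    simpa using this
  | sr j => exact hall j

end Cfsg.Agent.Lib.helper26.SNG
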