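import Mathlib
import Cfsg.Agent.Lib.helper15.MaxClass

/-! S3806 piece B (helper12 split): `exists_gen_set`.  Imports only Mathlib + helper15.MaxClass: local copies of the
small pieces B1-B4 are proved here under `helper26_`-prefixed names. -/

set_option autoImplicit false

namespace Cfsg.Agent.Lib.helper26

open Subgroup
open scoped commutatorElement

/-- local B1 -/
theorem helper26_mc_twoStep {T : Type*} [Group T] (i : ℕ) :
    ∃ C : Subgroup T, C.Normal ∧
      (∀ t : T, t ∈ C ↔ ∀ y ∈ (⊤ : Subgroup T).lowerCentralSeries i,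
        ⁅y, t⁆ ∈ (⊤ : Subgroup T).lowerCentralSeries (i + 2)) ∧
      (C = ⊤ → (⊤ : Subgroup T).lowerCentralSeries (i + 1) ≤
        (⊤ : Subgroup T).lowerCentralSeries (i + 2)) := by
  have hN : ((⊤ : Subgroup T).lowerCentralSeries (i + 2)).Normal := Subgroup.normal_of_characteristic _
  have hL : ((⊤ : Subgroup T).lowerCentralSeries i).Normal := Subgroup.normal_of_characteristic _
  let C : Subgroup T :=
    { carrier := {t | ∀ y ∈ (⊤ : Subgroup T).lowerCentralSeries i,
        ⁅y, t⁆ ∈ (⊤ : Subgroup T).lowerCentralSeries (i + 2)}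
      one_mem' := by
        intro y _
        have : ⁅y, (1 : T)⁆ = 1 := by simp [commutatorElement_def]
        rw [this]; exact Subgroup.one_mem _
      mul_mem' := by
        intro a b ha hb y hy
        have : ⁅y, a * b⁆ = ⁅y, a⁆ * (a * ⁅y, b⁆ * a⁻¹) := by
          simp only [commutatorElement_def]; group
        rw [this]
        exact Subgroup.mul_mem _ (ha y hy) (hN.conj_mem _ (hb y hy) a)
      inv_mem' := by
        intro a ha y hy
        have : ⁅y, a⁻¹⁆ = a⁻¹ * (⁅y, a⁆)⁻¹ * a⁻¹⁻¹ := by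
          simp only [commutatorElement_def]; group
        rw [this]
        exact hN.conj_mem _ (Subgroup.inv_mem _ (ha y hy)) a⁻¹ }
  have hmem : ∀ t : T, t ∈ C ↔ ∀ y ∈ (⊤ : Subgroup T).lowerCentralSeries i,
      ⁅y, t⁆ ∈ (⊤ : Subgroup T).lowerCentralSeries (i + 2) := fun t => Iff.rfl
  refine ⟨C, ⟨?_⟩, hmem, ?_⟩
  · intro t ht g
    rw [hmem] at ht ⊢
    intro y hy
    have : ⁅y, g * t * g⁻¹⁆ = g * ⁅g⁻¹ * y * g⁻¹⁻¹, t⁆ * g⁻¹ := by
      simp only [commutatorElement_def]; group
    rw [this]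
    exact hN.conj_mem _ (ht _ (hL.conj_mem _ hy g⁻¹)) g
  · intro hC
    have h1 : (⊤ : Subgroup T).lowerCentralSeries (i + 1)
        = ⁅(⊤ : Subgroup T).lowerCentralSeries i, (⊤ : Subgroup T)⁆ := Subgroup.lowerCentralSeries_succ _ i
    rw [h1, Subgroup.commutator_le]
    intro y hy t _
    have ht : t ∈ C := by rw [hC]; exact Subgroup.mem_top t
    exact (hmem t).mp ht y hy

/-- local B2 -/
theorem helper26_mc_not_union (p : ℕ) [Fact p.Prime] {T : Type*} [Group T] [Finite T] (m : ℕ)
    (hT : Nat.card T = p ^ m) (F : Finset (Subgroup T)) (hF : ∀ H ∈ F, H ≠ ⊤) (hc : F.card < p) :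
    ∃ x : T, ∀ H ∈ F, x ∉ H := by
  classical
  have hp : p.Prime := Fact.out
  by_contra hcon0
  have hcon : ∀ x : T, ∃ H ∈ F, x ∈ H := by
    intro x
    by_contra h
    exact hcon0 ⟨x, fun H hH hx => h ⟨H, hH, hx⟩⟩
  rcases F.eq_empty_or_nonempty with hF0 | ⟨H0, hH0⟩
  · obtain ⟨H, hH, _⟩ := hcon 1
    rw [hF0] at hH
    exact absurd hH (Finset.notMem_empty H)
  have hbound : ∀ H ∈ F, 1 ≤ m ∧ Nat.card H ≤ p ^ (m - 1) := by
    intro H hH
    have hdvd : Nat.card H ∣ p ^ m := hT ▸ Subgroup.card_subgroup_dvd_card H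
    obtain ⟨j, hj, hcard⟩ := (Nat.dvd_prime_pow hp).mp hdvd
    have hjm : j ≠ m := by
      intro hjm
      apply hF H hH
      apply Subgroup.eq_top_of_card_eq
      rw [hcard, hjm, hT]
    refine ⟨by omega, ?_⟩
    rw [hcard]
    exact Nat.pow_le_pow_right hp.pos (by omega)
  have hm1 : 1 ≤ m := (hbound H0 hH0).1
  have : Fintype T := Fintype.ofFinite T
  have hsub : (Finset.univ : Finset T) ⊆ F.biUnion (fun H => (H : Set T).toFinset) := by
    intro x _
    obtain ⟨H, hH, hx⟩ := hcon x
    exact Finset.mem_biUnion.mpr ⟨H, hH, by simpa using hx⟩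
  have h1 := Finset.card_le_card hsub
  have h2 := Finset.card_biUnion_le (s := F) (t := fun H => (H : Set T).toFinset)
  have h3 : ∑ H ∈ F, ((H : Set T).toFinset).card ≤ F.card * p ^ (m - 1) := by
    rw [← smul_eq_mul]
    apply Finset.sum_le_card_nsmul
    intro H hH
    have := (hbound H hH).2
    rw [Nat.card_eq_fintype_card] at this
    simpa [Set.toFinset_card] using this
  have h4 : Finset.card (Finset.univ : Finset T) = p ^ m := by
    rw [Finset.card_univ, ← Nat.card_eq_fintype_card, hT]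
  have h5 : F.card * p ^ (m - 1) < p * p ^ (m - 1) :=
    Nat.mul_lt_mul_of_pos_right hc (pow_pos hp.pos _)
  have h6 : p * p ^ (m - 1) = p ^ m := by
    rw [← pow_succ']; congr 1; omega
  omega

/-- local B3 -/
theorem helper26_mc_comm_not_mem (p : ℕ) [Fact p.Prime] {T : Type*} [Group T] [Finite T] (i : ℕ)
    (hrel : ((⊤ : Subgroup T).lowerCentralSeries (i + 1)).relIndex
      ((⊤ : Subgroup T).lowerCentralSeries i) = p)
    (s : T) (hs : ¬ ∀ y ∈ (⊤ : Subgroup T).lowerCentralSeries i,
      ⁅y, s⁆ ∈ (⊤ : Subgroup T).lowerCentralSeries (i + 2))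
    (y : T) (hy : y ∈ (⊤ : Subgroup T).lowerCentralSeries i)
    (hy' : y ∉ (⊤ : Subgroup T).lowerCentralSeries (i + 1)) :
    ⁅y, s⁆ ∉ (⊤ : Subgroup T).lowerCentralSeries (i + 2) := by
  have hp : p.Prime := Fact.out
  have hN : ((⊤ : Subgroup T).lowerCentralSeries (i + 2)).Normal := Subgroup.normal_of_characteristic _
  intro hys
  let K : Subgroup T :=
    { carrier := {z | z ∈ (⊤ : Subgroup T).lowerCentralSeries i ∧
        ⁅z, s⁆ ∈ (⊤ : Subgroup T).lowerCentralSeries (i + 2)}
      one_mem' := by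
        refine ⟨Subgroup.one_mem _, ?_⟩
        have : ⁅(1 : T), s⁆ = 1 := by simp [commutatorElement_def]
        rw [this]; exact Subgroup.one_mem _
      mul_mem' := by
        intro a b ha hb
        refine ⟨Subgroup.mul_mem _ ha.1 hb.1, ?_⟩
        have : ⁅a * b, s⁆ = a * ⁅b, s⁆ * a⁻¹ * ⁅a, s⁆ := by
          simp only [commutatorElement_def]; group
        rw [this]
        exact Subgroup.mul_mem _ (hN.conj_mem _ hb.2 a) ha.2
      inv_mem' := by
        intro a ha
        refine ⟨Subgroup.inv_mem _ ha.1, ?_⟩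
        have : ⁅a⁻¹, s⁆ = a⁻¹ * (⁅a, s⁆)⁻¹ * a⁻¹⁻¹ := by
          simp only [commutatorElement_def]; group
        rw [this]
        exact hN.conj_mem _ (Subgroup.inv_mem _ ha.2) a⁻¹ }
  have hKmem : ∀ z : T, z ∈ K ↔ z ∈ (⊤ : Subgroup T).lowerCentralSeries i ∧
      ⁅z, s⁆ ∈ (⊤ : Subgroup T).lowerCentralSeries (i + 2) := fun z => Iff.rfl
  have hKL : K ≤ (⊤ : Subgroup T).lowerCentralSeries i := fun z hz => ((hKmem z).mp hz).1
  have hanti : (⊤ : Subgroup T).lowerCentralSeries (i + 1) ≤ (⊤ : Subgroup T).lowerCentralSeries i :=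
    Subgroup.lowerCentralSeries_antitone (⊤ : Subgroup T) (Nat.le_succ i)
  have hLK : (⊤ : Subgroup T).lowerCentralSeries (i + 1) ≤ K := by
    intro z hz
    refine (hKmem z).mpr ⟨hanti hz, ?_⟩
    have h2 : (⊤ : Subgroup T).lowerCentralSeries (i + 2)
        = ⁅(⊤ : Subgroup T).lowerCentralSeries (i + 1), (⊤ : Subgroup T)⁆ :=
      Subgroup.lowerCentralSeries_succ _ (i + 1)
    rw [h2]
    exact Subgroup.commutator_mem_commutator hz (Subgroup.mem_top s)
  have hyK : y ∈ K := (hKmem y).mpr ⟨hy, hys⟩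
  have hmul := Subgroup.relIndex_mul_relIndex _ _ _ hLK hKL
  rw [hrel] at hmul
  have h1 : ((⊤ : Subgroup T).lowerCentralSeries (i + 1)).relIndex K ≠ 1 := by
    intro h
    exact hy' (Subgroup.relIndex_eq_one.mp h hyK)
  have h2 : ((⊤ : Subgroup T).lowerCentralSeries (i + 1)).relIndex K = p := by
    have hd : ((⊤ : Subgroup T).lowerCentralSeries (i + 1)).relIndex K ∣ p := Dvd.intro _ hmul
    rcases (Nat.dvd_prime hp).mp hd with h | h
    · exact absurd h h1
    · exact h
  have h3 : K.relIndex ((⊤ : Subgroup T).lowerCentralSeries i) = 1 := by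
    rw [h2] at hmul
    have : p * K.relIndex ((⊤ : Subgroup T).lowerCentralSeries i) = p * 1 := by rw [hmul, mul_one]
    exact Nat.eq_of_mul_eq_mul_left hp.pos this
  have hle := Subgroup.relIndex_eq_one.mp h3
  apply hs
  intro z hz
  exact ((hKmem z).mp (hle hz)).2

/-- local B4 -/
theorem helper26_mc_pow_mem (p : ℕ) [Fact p.Prime] {T : Type*} [Group T] [Finite T] (m : ℕ) (hm : 3 ≤ m)
    (hT : Nat.card T = p ^ m) (hidx : ((⊤ : Subgroup T).lowerCentralSeries 1).index = p ^ 2) (x : T) :
    x ^ p ∈ (⊤ : Subgroup T).lowerCentralSeries 1 := by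
  have hp : p.Prime := Fact.out
  have hnil : Group.IsNilpotent T := (IsPGroup.of_card hT).isNilpotent
  rw [Subgroup.top_lowerCentralSeries_one] at hidx ⊢
  have hQ : Nat.card (T ⧸ commutator T) = p ^ 2 := by
    rw [← hidx]; rfl
  have hncyc : ¬ IsCyclic (T ⧸ commutator T) := by
    intro hcyc
    have hbot := Cfsg.Agent.Lib.helper15.MaxClass.commutator_eq_bot_of_isCyclic hcyc
    rw [hbot, Subgroup.index_bot, hT] at hidx
    have := Nat.pow_right_injective hp.two_le hidx
    omega
  have hord : orderOf (QuotientGroup.mk x : T ⧸ commutator T) ∣ p ^ 2 := by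
    rw [← hQ]; exact orderOf_dvd_natCard _
  obtain ⟨j, hj, hjord⟩ := (Nat.dvd_prime_pow hp).mp hord
  have hj2 : j ≠ 2 := by
    intro hj2
    apply hncyc
    apply isCyclic_of_orderOf_eq_card (QuotientGroup.mk x : T ⧸ commutator T)
    rw [hjord, hj2, hQ]
  have hdvd : orderOf (QuotientGroup.mk x : T ⧸ commutator T) ∣ p := by
    rw [hjord]
    calc p ^ j ∣ p ^ 1 := Nat.pow_dvd_pow p (by omega)
      _ = p := pow_one p
  have h1 : (QuotientGroup.mk x : T ⧸ commutator T) ^ p = 1 := orderOf_dvd_iff_pow_eq_one.mp hdvd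
  rw [← QuotientGroup.mk_pow, QuotientGroup.eq_one_iff] at h1
  exact h1

end Cfsg.Agent.Lib.helper26

namespace Cfsg.Agent.Lib.helper12.MC

open Subgroup
open scoped commutatorElement
open Cfsg.Agent.Lib.helper26

/-- B: a conjugation-closed generating set whose `p`-th powers lie deep in the lower central series. -/
theorem exists_gen_set (p : ℕ) [Fact p.Prime] {T : Type*} [Group T] [Finite T] (k : ℕ) (hk : 2 ≤ k)
    (hpk : k + 2 ≤ p)
    (hidx : ∀ i, 1 ≤ i → i ≤ 2 * k → ((⊤ : Subgroup T).lowerCentralSeries i).index = p ^ (i + 1))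
    (hbot : (⊤ : Subgroup T).lowerCentralSeries (2 * k) = ⊥) :
    ∃ U : Set T, (∀ s ∈ U, ∀ g : T, g * s * g⁻¹ ∈ U) ∧ Subgroup.closure U = ⊤ ∧
      ∀ s ∈ U, s ^ p ∈ (⊤ : Subgroup T).lowerCentralSeries (k + 1) := by
  classical
  have hp : p.Prime := Fact.out
  -- the order of T
  have hcardT : Nat.card T = p ^ (2 * k + 1) := by
    have h := hidx (2 * k) (by omega) le_rfl
    rw [hbot, Subgroup.index_bot] at h
    exact h
  -- the two-step centralizers
  choose C hCn hCmem hCtop using fun i : ℕ => helper26_mc_twoStep (T := T) i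
  have hCne : ∀ i, 1 ≤ i → i ≤ k → C i ≠ ⊤ := by
    intro i hi1 hik hCi
    have hle := hCtop i hCi
    have hdvd := Subgroup.index_dvd_of_le hle
    rw [hidx (i + 2) (by omega) (by omega), hidx (i + 1) (by omega) (by omega)] at hdvd
    have := (Nat.pow_dvd_pow_iff_le_right hp.one_lt).mp hdvd
    omega
  refine ⟨{s | ∀ i, 1 ≤ i → i ≤ k → s ∉ C i}, ?_, ?_, ?_⟩
  · intro s hs g i hi1 hik hmem
    apply hs i hi1 hik
    have := (hCn i).conj_mem _ hmem g⁻¹
    simpa [mul_assoc] using this
  · by_contra hne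
    set M : Subgroup T := Subgroup.closure {s | ∀ i, 1 ≤ i → i ≤ k → s ∉ C i} with hM
    obtain ⟨x, hx⟩ := helper26_mc_not_union p (2 * k + 1) hcardT
      (insert M ((Finset.Icc 1 k).image C))
      (by
        intro H hH
        rcases Finset.mem_insert.mp hH with h | h
        · rw [h]; exact hne
        · obtain ⟨i, hi, rfl⟩ := Finset.mem_image.mp h
          rw [Finset.mem_Icc] at hi
          exact hCne i hi.1 hi.2)
      (by
        have h1 := Finset.card_insert_le M ((Finset.Icc 1 k).image C)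
        have h2 : ((Finset.Icc 1 k).image C).card ≤ k := by
          have := Finset.card_image_le (s := Finset.Icc 1 k) (f := C)
          simpa using this
        omega)
    have hxU : x ∈ {s | ∀ i, 1 ≤ i → i ≤ k → s ∉ C i} := by
      intro i hi1 hik
      exact hx (C i) (Finset.mem_insert_of_mem (Finset.mem_image_of_mem C (Finset.mem_Icc.mpr ⟨hi1, hik⟩)))
    exact hx M (Finset.mem_insert_self _ _) (Subgroup.subset_closure hxU)
  · intro s hs
    have key : ∀ i, 1 ≤ i → i ≤ k + 1 → s ^ p ∈ (⊤ : Subgroup T).lowerCentralSeries i := by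
      intro i hi1
      induction i, hi1 using Nat.le_induction with
      | base =>
        intro _
        exact helper26_mc_pow_mem p (2 * k + 1) (by omega) hcardT (by simpa using hidx 1 le_rfl (by omega)) s
      | succ i hi1 ih =>
        intro hik
        have hmem := ih (by omega)
        by_contra hnot
        have hrel : ((⊤ : Subgroup T).lowerCentralSeries (i + 1)).relIndex
            ((⊤ : Subgroup T).lowerCentralSeries i) = p := by
          have hle : (⊤ : Subgroup T).lowerCentralSeries (i + 1) ≤ (⊤ : Subgroup T).lowerCentralSeries i :=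
            Subgroup.lowerCentralSeries_antitone (⊤ : Subgroup T) (Nat.le_succ i)
          have h := Subgroup.relIndex_mul_index hle
          rw [hidx (i + 1) (by omega) (by omega), hidx i hi1 (by omega)] at h
          have hpos : 0 < p ^ (i + 1) := pow_pos hp.pos _
          have : ((⊤ : Subgroup T).lowerCentralSeries (i + 1)).relIndex
              ((⊤ : Subgroup T).lowerCentralSeries i) * p ^ (i + 1) = p * p ^ (i + 1) := by
            rw [h]; ring
          exact Nat.eq_of_mul_eq_mul_right hpos this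
        have hsC : ¬ ∀ y ∈ (⊤ : Subgroup T).lowerCentralSeries i,
            ⁅y, s⁆ ∈ (⊤ : Subgroup T).lowerCentralSeries (i + 2) := by
          intro h
          exact hs i hi1 (by omega) ((hCmem i s).mpr h)
        have h3 := helper26_mc_comm_not_mem p i hrel s hsC (s ^ p) hmem hnot
        apply h3
        have : ⁅s ^ p, s⁆ = 1 := by
          rw [commutatorElement_eq_one_iff_commute]
          exact (Commute.refl s).pow_left p
        rw [this]
        exact Subgroup.one_mem _
    exact key (k + 1) (by omega) le_rfl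

end Cfsg.Agent.Lib.helper12.MC
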