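import Mathlib.GroupTheory.Sylow
import Mathlib.GroupTheory.Index
import Mathlib.GroupTheory.Coset.Basic
import Mathlib.Combinatorics.Enumerative.DoubleCounting
import Cfsg.Prelude.Def_Involutions
import Cfsg.Agent.Lib.helper26.Involutions

/-!
Basic theory of strongly embedded subgroups (`Cfsg.IsStronglyEmbedded`): control of fusion of involutions,
conjugacy of all involutions, and the counting lemma: every coset `gH` contains exactly as many involutions
as `H` does.
-/

set_option autoImplicit false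

namespace Cfsg.Agent.Lib.helper26

namespace SE

variable {G : Type*} [Group G] {H : Subgroup G}

theorem mem_map_conj_iff (H : Subgroup G) (g x : G) :
    x ∈ H.map (MulAut.conj g).toMonoidHom ↔ g⁻¹ * x * g ∈ H := by
  constructor
  · rintro ⟨h, hh, rfl⟩
    simpa [mul_assoc] using hh
  · intro h
    exact ⟨g⁻¹ * x * g, h, by simp [mul_assoc]⟩

/-- `H` controls fusion of its involutions. -/
theorem mem_of_conj_mem [Finite G] (hH : Cfsg.IsStronglyEmbedded H) {t g : G}
    (ht : orderOf t = 2) (htH : t ∈ H) (hg : g⁻¹ * t * g ∈ H) : g ∈ H := by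
  by_contra hgH
  have hodd := hH.2.2 g hgH
  have hmem : t ∈ H ⊓ H.map (MulAut.conj g).toMonoidHom := ⟨htH, (mem_map_conj_iff H g t).2 hg⟩
  have hdvd : orderOf (⟨t, hmem⟩ : ↥(H ⊓ H.map (MulAut.conj g).toMonoidHom)) ∣
      Nat.card ↥(H ⊓ H.map (MulAut.conj g).toMonoidHom) := orderOf_dvd_natCard _
  rw [Subgroup.orderOf_mk, ht] at hdvd
  exact (Nat.not_even_iff_odd.2 hodd) (even_iff_two_dvd.2 hdvd)

theorem mem_of_conj_mem' [Finite G] (hH : Cfsg.IsStronglyEmbedded H) {t g : G}
    (ht : orderOf t = 2) (htH : t ∈ H) (hg : g * t * g⁻¹ ∈ H) : g ∈ H := by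
  have : g⁻¹ ∈ H := mem_of_conj_mem hH ht htH (by simpa using hg)
  simpa using H.inv_mem this

/-- `H` contains the centralizers of its involutions. -/
theorem mem_of_commute [Finite G] (hH : Cfsg.IsStronglyEmbedded H) {t g : G}
    (ht : orderOf t = 2) (htH : t ∈ H) (hc : g * t = t * g) : g ∈ H := by
  apply mem_of_conj_mem hH ht htH
  have : g⁻¹ * t * g = t := by
    calc g⁻¹ * t * g = g⁻¹ * (t * g) := by group
      _ = g⁻¹ * (g * t) := by rw [hc]
      _ = t := by group
  rw [this]; exact htH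

/-- The product of an involution of `H` and an involution outside `H` has odd order. -/
theorem odd_orderOf_mul [Finite G] (hH : Cfsg.IsStronglyEmbedded H) {a b : G}
    (ha : orderOf a = 2) (hb : orderOf b = 2) (haH : a ∈ H) (hbH : b ∉ H) :
    Odd (orderOf (a * b)) := by
  by_contra hodd
  rw [Nat.not_odd_iff_even] at hodd
  obtain ⟨z, hz, hza, hzb⟩ := exists_central_involution_of_even ha hb hodd
  have hzH : z ∈ H := mem_of_commute hH ha haH hza
  exact hbH (mem_of_commute hH hz hzH hzb.symm)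

/-- An involution of `H` is conjugate to any involution outside `H`. -/
theorem exists_conj_of_not_mem [Finite G] (hH : Cfsg.IsStronglyEmbedded H) {a b : G}
    (ha : orderOf a = 2) (hb : orderOf b = 2) (haH : a ∈ H) (hbH : b ∉ H) :
    ∃ w : G, w * a * w⁻¹ = b :=
  exists_conj_of_odd ha hb (odd_orderOf_mul hH ha hb haH hbH)

/-- `H` contains an involution. -/
theorem exists_involution_mem [Finite G] (hH : Cfsg.IsStronglyEmbedded H) :
    ∃ s : G, orderOf s = 2 ∧ s ∈ H := by
  have : Fact (Nat.Prime 2) := ⟨Nat.prime_two⟩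
  obtain ⟨x, hx⟩ := exists_prime_orderOf_dvd_card' (G := H) 2 (even_iff_two_dvd.1 hH.2.1)
  exact ⟨x, by rw [Subgroup.orderOf_coe]; exact hx, x.2⟩

/-- There is an involution outside `H`. -/
theorem exists_involution_not_mem [Finite G] (hH : Cfsg.IsStronglyEmbedded H) :
    ∃ u : G, orderOf u = 2 ∧ u ∉ H := by
  obtain ⟨s, hs, hsH⟩ := exists_involution_mem hH
  have hne : ∃ g : G, g ∉ H := by
    by_contra h
    exact hH.1 (Subgroup.eq_top_iff' H |>.2 (fun x => by_contra (fun hx => h ⟨x, hx⟩)))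
  obtain ⟨g, hg⟩ := hne
  refine ⟨g * s * g⁻¹, by rw [orderOf_conj_eq]; exact hs, fun h => hg ?_⟩
  exact mem_of_conj_mem' hH hs hsH h

/-- Every involution is conjugate into `H`. -/
theorem exists_conj_mem [Finite G] (hH : Cfsg.IsStronglyEmbedded H) {t : G} (ht : orderOf t = 2) :
    ∃ g : G, g⁻¹ * t * g ∈ H := by
  by_cases htH : t ∈ H
  · exact ⟨1, by simpa using htH⟩
  · obtain ⟨s, hs, hsH⟩ := exists_involution_mem hH
    obtain ⟨w, hw⟩ := exists_conj_of_not_mem hH hs ht hsH htH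
    refine ⟨w, ?_⟩
    rw [← hw]
    have : w⁻¹ * (w * s * w⁻¹) * w = s := by group
    rw [this]; exact hsH

/-- The coset `gH` with `g⁻¹ t g ∈ H` is unique. -/
theorem coset_unique [Finite G] (hH : Cfsg.IsStronglyEmbedded H) {t g₁ g₂ : G} (ht : orderOf t = 2)
    (h1 : g₁⁻¹ * t * g₁ ∈ H) (h2 : g₂⁻¹ * t * g₂ ∈ H) : g₁⁻¹ * g₂ ∈ H := by
  apply mem_of_conj_mem hH (t := g₁⁻¹ * t * g₁) (by rw [orderOf_conj_eq']; exact ht) h1
  have : (g₁⁻¹ * g₂)⁻¹ * (g₁⁻¹ * t * g₁) * (g₁⁻¹ * g₂) = g₂⁻¹ * t * g₂ := by group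
  rw [this]; exact h2

/-- All involutions of `G` are conjugate. -/
theorem exists_conj_involutions [Finite G] (hH : Cfsg.IsStronglyEmbedded H) {a b : G}
    (ha : orderOf a = 2) (hb : orderOf b = 2) : ∃ c : G, c * a * c⁻¹ = b := by
  obtain ⟨u, hu, huH⟩ := exists_involution_not_mem hH
  obtain ⟨g₁, h1⟩ := exists_conj_mem hH ha
  obtain ⟨g₂, h2⟩ := exists_conj_mem hH hb
  obtain ⟨w₁, hw₁⟩ := exists_conj_of_not_mem hH (by rw [orderOf_conj_eq']; exact ha) hu h1 huH
  obtain ⟨w₂, hw₂⟩ := exists_conj_of_not_mem hH (by rw [orderOf_conj_eq']; exact hb) hu h2 huH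
  refine ⟨g₂ * w₂⁻¹ * w₁ * g₁⁻¹, ?_⟩
  have e : g₂ * w₂⁻¹ * w₁ * g₁⁻¹ * a * (g₂ * w₂⁻¹ * w₁ * g₁⁻¹)⁻¹
      = g₂ * w₂⁻¹ * (w₁ * (g₁⁻¹ * a * g₁) * w₁⁻¹) * w₂ * g₂⁻¹ := by group
  rw [e, hw₁, ← hw₂]
  group

theorem isConj_involutions [Finite G] (hH : Cfsg.IsStronglyEmbedded H) {a b : G}
    (ha : orderOf a = 2) (hb : orderOf b = 2) : IsConj a b := by
  obtain ⟨c, hc⟩ := exists_conj_involutions hH ha hb
  exact isConj_iff.2 ⟨c, hc⟩

/-- If `i` is an involution in the coset `gH` then `i * g ∈ H`. -/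
theorem mul_mem_of_inv_mul_mem {g i : G} (hi : orderOf i = 2) (hiH : g⁻¹ * i ∈ H) : i * g ∈ H := by
  have := H.inv_mem hiH
  rw [mul_inv_rev, inv_inv, inv_eq_self_of_orderOf_two hi] at this
  exact this

/-- Key injectivity statement: for `g ∉ H` and a fixed involution `s ∈ H`, the map
`i ↦ (i g) s (i g)⁻¹` is injective on the involutions of the coset `gH`. -/
theorem conj_injective [Finite G] (hH : Cfsg.IsStronglyEmbedded H) {g s i i' : G} (hg : g ∉ H)
    (hs : orderOf s = 2) (hsH : s ∈ H) (hi : orderOf i = 2) (hiH : g⁻¹ * i ∈ H)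
    (hi' : orderOf i' = 2) (_hi'H : g⁻¹ * i' ∈ H)
    (heq : (i * g) * s * (i * g)⁻¹ = (i' * g) * s * (i' * g)⁻¹) : i = i' := by
  have hii := inv_eq_self_of_orderOf_two hi
  have hii' := inv_eq_self_of_orderOf_two hi'
  have hi2 := mul_self_of_orderOf_two hi
  set b := g⁻¹ * i * g with hb
  have hbo : orderOf b = 2 := by rw [hb, orderOf_conj_eq']; exact hi
  have hbH : b ∉ H := by
    intro h
    apply hg
    have : g = (g⁻¹ * i)⁻¹ * b := by rw [hb]; group
    rw [this]; exact H.mul_mem (H.inv_mem hiH) h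
  have hodd : Odd (orderOf (s * b)) := odd_orderOf_mul hH hs hbo hsH hbH
  set k := g⁻¹ * (i * i') * g with hk
  -- s commutes with k
  have hks : k * s * k⁻¹ = s := by
    have hk' : k = (i * g)⁻¹ * (i' * g) := by
      rw [hk, mul_inv_rev, hii]; group
    have e : k * s * k⁻¹ = (i * g)⁻¹ * ((i' * g) * s * (i' * g)⁻¹) * (i * g) := by
      rw [hk']; group
    rw [e, ← heq]; group
  have hsk : s * k * s⁻¹ = k := by
    calc s * k * s⁻¹ = (k * s * k⁻¹) * k * s⁻¹ := by rw [hks]
      _ = k * (s * (k⁻¹ * k) * s⁻¹) := by group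
      _ = k := by group
  -- b inverts k
  have hbk : b * k * b⁻¹ = k⁻¹ := by
    rw [hb, hk]
    have e1 : g⁻¹ * i * g * (g⁻¹ * (i * i') * g) * (g⁻¹ * i * g)⁻¹ = g⁻¹ * ((i * i) * i' * i⁻¹) * g := by
      group
    have e2 : (g⁻¹ * (i * i') * g)⁻¹ = g⁻¹ * (i'⁻¹ * i⁻¹) * g := by group
    rw [e1, e2, hi2, hii, hii', one_mul]
  have hrk : (s * b) * k * (s * b)⁻¹ = k⁻¹ := by
    calc (s * b) * k * (s * b)⁻¹ = s * (b * k * b⁻¹) * s⁻¹ := by group
      _ = s * k⁻¹ * s⁻¹ := by rw [hbk]
      _ = (s * k * s⁻¹)⁻¹ := by group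
      _ = k⁻¹ := by rw [hsk]
  have hkk : k * k = 1 := mul_self_eq_one_of_inverted_by_odd hrk hodd
  have hk1 : k = 1 := by
    by_contra hne
    have hko : orderOf k = 2 := orderOf_two_of_mul_self hkk hne
    have hkH : k ∈ H := by
      apply mem_of_commute hH hs hsH
      calc k * s = (k * s * k⁻¹) * k := by group
        _ = s * k := by rw [hks]
    apply hbH
    apply mem_of_commute hH hko hkH
    have hkinv := inv_eq_self_of_orderOf_two hko
    rw [hkinv] at hbk
    calc b * k = (b * k * b⁻¹) * b := by group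
      _ = k * b := by rw [hbk]
  have h1 : i * i' = 1 := by
    have : i * i' = g * k * g⁻¹ := by rw [hk]; group
    rw [this, hk1]; group
  calc i = i'⁻¹ := eq_inv_of_mul_eq_one_left h1
    _ = i' := hii'

/-! ### Counting involutions in cosets -/

/-- For `g ∈ H` the involutions of the coset `gH = H` are the involutions of `H`. -/
theorem card_coset_of_mem {g : G} (hg : g ∈ H) :
    Nat.card {i : G // orderOf i = 2 ∧ g⁻¹ * i ∈ H} = Nat.card {t : G // orderOf t = 2 ∧ t ∈ H} := by
  apply Nat.card_congr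
  apply Equiv.subtypeEquivRight
  intro i
  have : g⁻¹ * i ∈ H ↔ i ∈ H := by
    constructor
    · intro h
      have := H.mul_mem hg h
      simpa using this
    · intro h; exact H.mul_mem (H.inv_mem hg) h
  rw [this]

/-- For `g ∉ H` the coset `gH` contains at most as many involutions as `H`. -/
theorem card_coset_le [Finite G] (hH : Cfsg.IsStronglyEmbedded H) {g : G} (hg : g ∉ H) :
    Nat.card {i : G // orderOf i = 2 ∧ g⁻¹ * i ∈ H} ≤ Nat.card {t : G // orderOf t = 2 ∧ t ∈ H} := by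
  obtain ⟨s, hs, hsH⟩ := exists_involution_mem hH
  let φ : {i : G // orderOf i = 2 ∧ g⁻¹ * i ∈ H} → {t : G // orderOf t = 2 ∧ t ∈ H} := fun i =>
    ⟨(i.1 * g) * s * (i.1 * g)⁻¹, by rw [orderOf_conj_eq]; exact hs,
      H.mul_mem (H.mul_mem (mul_mem_of_inv_mul_mem i.2.1 i.2.2) hsH)
        (H.inv_mem (mul_mem_of_inv_mul_mem i.2.1 i.2.2))⟩
  apply Nat.card_le_card_of_injective φ
  intro i i' h
  apply Subtype.ext
  exact conj_injective hH hg hs hsH i.2.1 i.2.2 i'.2.1 i'.2.2 (congrArg Subtype.val h)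

/-- Double counting 1: pairs `(g, i)` with `i` an involution in `gH`. -/
theorem sum_card_coset [Fintype G] (H : Subgroup G) :
    ∑ g : G, Nat.card {i : G // orderOf i = 2 ∧ g⁻¹ * i ∈ H} =
      Nat.card {i : G // orderOf i = 2} * Nat.card H := by
  classical
  have h1 : ∀ g : G, Nat.card {i : G // orderOf i = 2 ∧ g⁻¹ * i ∈ H} =
      ((Finset.univ.filter (fun i : G => orderOf i = 2)).bipartiteAbove
        (fun g i => g⁻¹ * i ∈ H) g).card := by
    intro g
    rw [Nat.card_eq_fintype_card, Fintype.card_subtype]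
    congr 1
    ext i
    simp [Finset.bipartiteAbove]
  simp_rw [h1]
  rw [Finset.sum_card_bipartiteAbove_eq_sum_card_bipartiteBelow]
  have h2 : ∀ i : G, ((Finset.univ : Finset G).bipartiteBelow (fun g i => g⁻¹ * i ∈ H) i).card =
      Nat.card H := by
    intro i
    rw [Finset.bipartiteBelow, ← Fintype.card_subtype, ← Nat.card_eq_fintype_card]
    exact Nat.card_congr
      { toFun := fun g => ⟨g.1⁻¹ * i, g.2⟩
        invFun := fun h => ⟨i * h.1⁻¹, by
          have : (i * (h.1)⁻¹)⁻¹ * i = h.1 := by group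
          rw [this]; exact h.2⟩
        left_inv := fun g => by
          apply Subtype.ext
          show i * (g.1⁻¹ * i)⁻¹ = g.1
          group
        right_inv := fun h => by
          apply Subtype.ext
          show (i * (h.1)⁻¹)⁻¹ * i = h.1
          group }
  simp_rw [h2]
  rw [Finset.sum_const, smul_eq_mul, Nat.card_eq_fintype_card (α := {i : G // orderOf i = 2}),
    Fintype.card_subtype]

/-- The involutions "fixing the coset `gH`" correspond to the involutions of `H`. -/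
theorem card_fix (H : Subgroup G) (g : G) :
    Nat.card {t : G // orderOf t = 2 ∧ g⁻¹ * t * g ∈ H} =
      Nat.card {t : G // orderOf t = 2 ∧ t ∈ H} := by
  exact Nat.card_congr
    { toFun := fun t => ⟨g⁻¹ * t.1 * g, by rw [orderOf_conj_eq']; exact t.2.1, t.2.2⟩
      invFun := fun t => ⟨g * t.1 * g⁻¹, by rw [orderOf_conj_eq]; exact t.2.1, by
        have : g⁻¹ * (g * t.1 * g⁻¹) * g = t.1 := by group
        rw [this]; exact t.2.2⟩
      left_inv := fun t => by
        apply Subtype.ext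
        show g * (g⁻¹ * t.1 * g) * g⁻¹ = t.1
        group
      right_inv := fun t => by
        apply Subtype.ext
        show g⁻¹ * (g * t.1 * g⁻¹) * g = t.1
        group }

/-- Double counting 2: pairs `(g, t)` with `t` an involution and `g⁻¹ t g ∈ H`. -/
theorem sum_card_fix [Fintype G] (hH : Cfsg.IsStronglyEmbedded H) :
    ∑ g : G, Nat.card {t : G // orderOf t = 2 ∧ g⁻¹ * t * g ∈ H} =
      Nat.card {i : G // orderOf i = 2} * Nat.card H := by
  classical
  have h1 : ∀ g : G, Nat.card {t : G // orderOf t = 2 ∧ g⁻¹ * t * g ∈ H} =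
      ((Finset.univ.filter (fun i : G => orderOf i = 2)).bipartiteAbove
        (fun g t => g⁻¹ * t * g ∈ H) g).card := by
    intro g
    rw [Nat.card_eq_fintype_card, Fintype.card_subtype]
    congr 1
    ext i
    simp [Finset.bipartiteAbove]
  simp_rw [h1]
  rw [Finset.sum_card_bipartiteAbove_eq_sum_card_bipartiteBelow]
  have h2 : ∀ t ∈ Finset.univ.filter (fun i : G => orderOf i = 2),
      ((Finset.univ : Finset G).bipartiteBelow (fun g t => g⁻¹ * t * g ∈ H) t).card =
      Nat.card H := by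
    intro t ht
    have hto : orderOf t = 2 := (Finset.mem_filter.1 ht).2
    obtain ⟨g₀, hg₀⟩ := exists_conj_mem hH hto
    rw [Finset.bipartiteBelow, ← Fintype.card_subtype, ← Nat.card_eq_fintype_card]
    exact Nat.card_congr
      { toFun := fun g => ⟨g₀⁻¹ * g.1, coset_unique hH hto hg₀ g.2⟩
        invFun := fun h => ⟨g₀ * h.1, by
          have : (g₀ * h.1)⁻¹ * t * (g₀ * h.1) = h.1⁻¹ * (g₀⁻¹ * t * g₀) * h.1 := by group
          rw [this]; exact H.mul_mem (H.mul_mem (H.inv_mem h.2) hg₀) h.2⟩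
        left_inv := fun g => by
          apply Subtype.ext
          show g₀ * (g₀⁻¹ * g.1) = g.1
          group
        right_inv := fun h => by
          apply Subtype.ext
          show g₀⁻¹ * (g₀ * h.1) = h.1
          group }
  rw [Finset.sum_congr rfl h2]
  rw [Finset.sum_const, smul_eq_mul, Nat.card_eq_fintype_card (α := {i : G // orderOf i = 2}),
    Fintype.card_subtype]

/-- **Counting lemma**: every coset `gH` contains exactly as many involutions as `H`. -/
theorem card_coset_eq [Finite G] (hH : Cfsg.IsStronglyEmbedded H) (g : G) :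
    Nat.card {i : G // orderOf i = 2 ∧ g⁻¹ * i ∈ H} = Nat.card {t : G // orderOf t = 2 ∧ t ∈ H} := by
  classical
  cases nonempty_fintype G
  have hle : ∀ g ∈ (Finset.univ : Finset G),
      Nat.card {i : G // orderOf i = 2 ∧ g⁻¹ * i ∈ H} ≤ Nat.card {t : G // orderOf t = 2 ∧ t ∈ H} := by
    intro g _
    by_cases hg : g ∈ H
    · exact (card_coset_of_mem hg).le
    · exact card_coset_le hH hg
  have hsum : ∑ g : G, Nat.card {i : G // orderOf i = 2 ∧ g⁻¹ * i ∈ H} =
      ∑ _g : G, Nat.card {t : G // orderOf t = 2 ∧ t ∈ H} := by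
    rw [sum_card_coset, ← sum_card_fix hH]
    apply Finset.sum_congr rfl
    intro g _
    exact card_fix H g
  exact (Finset.sum_eq_sum_iff_of_le hle).1 hsum g (Finset.mem_univ g)

/-- Surjectivity: for `g ∉ H`, a fixed involution `s ∈ H` and any involution `t ∈ H` there is an involution
`i ∈ gH` with `(i g) s (i g)⁻¹ = t`. -/
theorem exists_involution_conj [Finite G] (hH : Cfsg.IsStronglyEmbedded H) {g s t : G} (hg : g ∉ H)
    (hs : orderOf s = 2) (hsH : s ∈ H) (ht : orderOf t = 2) (htH : t ∈ H) :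
    ∃ i : G, orderOf i = 2 ∧ g⁻¹ * i ∈ H ∧ (i * g) * s * (i * g)⁻¹ = t := by
  let φ : {i : G // orderOf i = 2 ∧ g⁻¹ * i ∈ H} → {t : G // orderOf t = 2 ∧ t ∈ H} := fun i =>
    ⟨(i.1 * g) * s * (i.1 * g)⁻¹, by rw [orderOf_conj_eq]; exact hs,
      H.mul_mem (H.mul_mem (mul_mem_of_inv_mul_mem i.2.1 i.2.2) hsH)
        (H.inv_mem (mul_mem_of_inv_mul_mem i.2.1 i.2.2))⟩
  have hinj : Function.Injective φ := by
    intro i i' h
    apply Subtype.ext
    exact conj_injective hH hg hs hsH i.2.1 i.2.2 i'.2.1 i'.2.2 (congrArg Subtype.val h)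
  have hbij : Function.Bijective φ := by
    rw [Nat.bijective_iff_injective_and_card]
    exact ⟨hinj, card_coset_eq hH g⟩
  obtain ⟨i, hi⟩ := hbij.2 ⟨t, ht, htH⟩
  exact ⟨i.1, i.2.1, i.2.2, congrArg Subtype.val hi⟩

end SE

end Cfsg.Agent.Lib.helper26
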