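import Mathlib.GroupTheory.Sylow
import Mathlib.GroupTheory.Subgroup.Centralizer
import Mathlib.GroupTheory.SpecificGroups.Cyclic
import Mathlib.GroupTheory.Complement
import Cfsg.Prelude.Def_Involutions
import Cfsg.Agent.Lib.helper26.Basic
import Cfsg.Agent.Lib.helper26.StronglyEmbedded

/-!
Groups in which the centralizer of every involution is an elementary abelian 2-group
(the hypothesis of the Brauer–Suzuki–Wall theorem), with a Sylow 2-subgroup `T` that is neither cyclic
nor normal: `T` is elementary abelian, `T = C_G(t)` for every involution `t ∈ T`, and `N_G(T)` is strongly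
embedded.
-/

set_option autoImplicit false

namespace Cfsg.Agent.Lib.helper26

/-- Any `p`-element of the normalizer of a Sylow `p`-subgroup lies in it. -/
theorem mem_sylow_of_mem_normalizer {G : Type*} [Group G] {p : ℕ} [Fact p.Prime] (P : Sylow p G)
    {x : G} (hx : x ∈ Subgroup.normalizer ((P : Subgroup G) : Set G)) (hxp : ∃ k : ℕ, x ^ p ^ k = 1) :
    x ∈ (P : Subgroup G) := by
  have h1 : IsPGroup p (Subgroup.zpowers x) := isPGroup_zpowers_of_pow x hxp
  have h2 : Subgroup.zpowers x ≤ Subgroup.normalizer ((P : Subgroup G) : Set G) := by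
    rw [Subgroup.zpowers_le]; exact hx
  have h3 : IsPGroup p (Subgroup.zpowers x ⊔ (P : Subgroup G) : Subgroup G) :=
    h1.to_sup_of_normal_right' P.isPGroup' h2
  have h4 := P.is_maximal' h3 le_sup_right
  have : x ∈ Subgroup.zpowers x ⊔ (P : Subgroup G) :=
    Subgroup.mem_sup_left (Subgroup.mem_zpowers x)
  rw [h4] at this
  exact this

namespace CIT

variable {G : Type*} [Group G]

theorem isPGroup_centralizer
    (hC : ∀ t : G, orderOf t = 2 → IsMulCommutative (Subgroup.centralizer ({t} : Set G)) ∧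
      ∀ c ∈ Subgroup.centralizer ({t} : Set G), c ^ 2 = 1)
    {t : G} (ht : orderOf t = 2) : IsPGroup 2 (Subgroup.centralizer ({t} : Set G)) := by
  rintro ⟨c, hc⟩
  refine ⟨1, ?_⟩
  apply Subtype.ext
  simpa using (hC t ht).2 c hc

/-- A non-cyclic Sylow 2-subgroup contains a central involution. -/
theorem exists_central_involution [Finite G] (T : Sylow 2 G) (hnc : ¬ IsCyclic (T : Subgroup G)) :
    ∃ z : G, z ∈ (T : Subgroup G) ∧ orderOf z = 2 ∧ ∀ x ∈ (T : Subgroup G), x * z = z * x := by
  have : Fact (Nat.Prime 2) := ⟨Nat.prime_two⟩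
  have hnt : Nontrivial (T : Subgroup G) := by
    by_contra h
    rw [not_nontrivial_iff_subsingleton] at h
    exact hnc isCyclic_of_subsingleton
  have hcn : Nontrivial (Subgroup.center (T : Subgroup G)) := T.isPGroup'.center_nontrivial
  have hcp : IsPGroup 2 (Subgroup.center (T : Subgroup G)) :=
    T.isPGroup'.to_subgroup _
  have h2 : 2 ∣ Nat.card (Subgroup.center (T : Subgroup G)) := by
    rcases hcp.card_eq_or_dvd with h | h
    · exact absurd h (Finite.one_lt_card_iff_nontrivial.2 hcn).ne'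
    · exact h
  obtain ⟨z, hz⟩ := exists_prime_orderOf_dvd_card' (G := Subgroup.center (T : Subgroup G)) 2 h2
  refine ⟨((z : (T : Subgroup G)) : G), (z : (T : Subgroup G)).2, ?_, ?_⟩
  · rw [Subgroup.orderOf_coe, Subgroup.orderOf_coe]; exact hz
  · intro x hx
    have := Subgroup.mem_center_iff.1 z.2 ⟨x, hx⟩
    exact congrArg Subtype.val this

section

variable [Finite G] (T : Sylow 2 G) (hnc : ¬ IsCyclic (T : Subgroup G))
  (hC : ∀ t : G, orderOf t = 2 → IsMulCommutative (Subgroup.centralizer ({t} : Set G)) ∧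
      ∀ c ∈ Subgroup.centralizer ({t} : Set G), c ^ 2 = 1)

include hnc hC

/-- `T` is the centralizer of some central involution. -/
theorem exists_centralizer_eq :
    ∃ z : G, z ∈ (T : Subgroup G) ∧ orderOf z = 2 ∧
      Subgroup.centralizer ({z} : Set G) = (T : Subgroup G) := by
  obtain ⟨z, hzT, hz, hzc⟩ := exists_central_involution T hnc
  refine ⟨z, hzT, hz, ?_⟩
  apply T.is_maximal' (isPGroup_centralizer hC hz)
  intro x hx
  rw [Subgroup.mem_centralizer_singleton_iff]
  exact hzc x hx

theorem comm_of_mem {x y : G} (hx : x ∈ (T : Subgroup G)) (hy : y ∈ (T : Subgroup G)) :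
    x * y = y * x := by
  obtain ⟨z, -, hz, hzT⟩ := exists_centralizer_eq T hnc hC
  have hcomm := (hC z hz).1
  rw [← hzT] at hx hy
  have := mul_comm' (⟨x, hx⟩ : Subgroup.centralizer ({z} : Set G)) ⟨y, hy⟩
  exact congrArg Subtype.val this

theorem sq_of_mem {x : G} (hx : x ∈ (T : Subgroup G)) : x ^ 2 = 1 := by
  obtain ⟨z, -, hz, hzT⟩ := exists_centralizer_eq T hnc hC
  rw [← hzT] at hx
  exact (hC z hz).2 x hx

theorem orderOf_of_mem {x : G} (hx : x ∈ (T : Subgroup G)) (hx1 : x ≠ 1) : orderOf x = 2 := by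
  have h := sq_of_mem T hnc hC hx
  rw [pow_two] at h
  exact orderOf_two_of_mul_self h hx1

/-- `T` is the centralizer of each of its involutions. -/
theorem centralizer_eq {t : G} (ht : orderOf t = 2) (htT : t ∈ (T : Subgroup G)) :
    Subgroup.centralizer ({t} : Set G) = (T : Subgroup G) := by
  apply T.is_maximal' (isPGroup_centralizer hC ht)
  intro x hx
  rw [Subgroup.mem_centralizer_singleton_iff]
  exact comm_of_mem T hnc hC hx htT

theorem mem_of_commute {t x : G} (ht : orderOf t = 2) (htT : t ∈ (T : Subgroup G))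
    (hc : x * t = t * x) : x ∈ (T : Subgroup G) := by
  rw [← centralizer_eq T hnc hC ht htT, Subgroup.mem_centralizer_singleton_iff]
  exact hc

/-- Involutions of `N_G(T)` lie in `T`. -/
theorem mem_of_mem_normalizer {x : G} (hx : x ∈ Subgroup.normalizer ((T : Subgroup G) : Set G))
    (hxo : orderOf x = 2) : x ∈ (T : Subgroup G) := by
  have : Fact (Nat.Prime 2) := ⟨Nat.prime_two⟩
  apply mem_sylow_of_mem_normalizer T hx
  exact ⟨1, by rw [pow_one, ← hxo]; exact pow_orderOf_eq_one x⟩

omit hnc hC in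
theorem le_normalizer : (T : Subgroup G) ≤ Subgroup.normalizer ((T : Subgroup G) : Set G) :=
  Subgroup.le_normalizer

/-- If `s` and `g⁻¹ s g` are involutions of `T` then `g` normalizes `T`. -/
theorem mem_normalizer_of_conj_mem {s g : G} (hs : orderOf s = 2) (hsT : s ∈ (T : Subgroup G))
    (hgs : g⁻¹ * s * g ∈ (T : Subgroup G)) :
    g ∈ Subgroup.normalizer ((T : Subgroup G) : Set G) := by
  have hs' : orderOf (g⁻¹ * s * g) = 2 := by rw [orderOf_conj_eq']; exact hs
  rw [Subgroup.mem_normalizer_iff]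
  intro x
  constructor
  · intro hx
    apply mem_of_commute T hnc hC hs hsT
    have h := comm_of_mem T hnc hC hx hgs
    calc g * x * g⁻¹ * s = g * (x * (g⁻¹ * s * g)) * g⁻¹ := by group
      _ = g * ((g⁻¹ * s * g) * x) * g⁻¹ := by rw [h]
      _ = s * (g * x * g⁻¹) := by group
  · intro hx
    apply mem_of_commute T hnc hC hs' hgs
    have h := comm_of_mem T hnc hC hx hsT
    calc x * (g⁻¹ * s * g) = g⁻¹ * ((g * x * g⁻¹) * s) * g := by group
      _ = g⁻¹ * (s * (g * x * g⁻¹)) * g := by rw [h]
      _ = g⁻¹ * s * g * x := by group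

/-- **`N_G(T)` is strongly embedded** (`T` not normal). -/
theorem isStronglyEmbedded_normalizer (hnn : ¬ (T : Subgroup G).Normal) :
    Cfsg.IsStronglyEmbedded (Subgroup.normalizer ((T : Subgroup G) : Set G)) := by
  have : Fact (Nat.Prime 2) := ⟨Nat.prime_two⟩
  obtain ⟨z, hzT, hz, -⟩ := exists_central_involution T hnc
  refine ⟨?_, ?_, ?_⟩
  · intro h
    exact hnn (Subgroup.normalizer_eq_top_iff.1 h)
  · rw [even_iff_two_dvd]
    have h1 : orderOf (⟨z, le_normalizer T hzT⟩ :
        Subgroup.normalizer ((T : Subgroup G) : Set G)) ∣ _ := orderOf_dvd_natCard _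
    rwa [Subgroup.orderOf_mk, hz] at h1
  · intro g hg
    by_contra hodd
    rw [Nat.not_odd_iff_even, even_iff_two_dvd] at hodd
    obtain ⟨s, hs⟩ := exists_prime_orderOf_dvd_card' (G := ↥(Subgroup.normalizer ((T : Subgroup G) : Set G) ⊓
      (Subgroup.normalizer ((T : Subgroup G) : Set G)).map (MulAut.conj g).toMonoidHom)) 2 hodd
    have hso : orderOf (s : G) = 2 := by rw [Subgroup.orderOf_coe]; exact hs
    have hs1 : (s : G) ∈ Subgroup.normalizer ((T : Subgroup G) : Set G) := s.2.1
    have hs2 : g⁻¹ * (s : G) * g ∈ Subgroup.normalizer ((T : Subgroup G) : Set G) :=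
      (SE.mem_map_conj_iff _ g s).1 s.2.2
    have hsT : (s : G) ∈ (T : Subgroup G) := mem_of_mem_normalizer T hnc hC hs1 hso
    have hsT' : g⁻¹ * (s : G) * g ∈ (T : Subgroup G) :=
      mem_of_mem_normalizer T hnc hC hs2 (by rw [orderOf_conj_eq']; exact hso)
    exact hg (mem_normalizer_of_conj_mem T hnc hC hso hsT hsT')

end

end CIT

end Cfsg.Agent.Lib.helper26
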