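import Mathlib

/-!
Fixed-point-free automorphisms of order 3 of a finite group (helper26):
`y * ρ y * ρ (ρ y) = 1`, `y` commutes with `ρ y`, `ρ`-invariant subgroups have order `≡ 1 (mod 3)`.
-/

set_option autoImplicit false

namespace Cfsg.Agent.Lib.helper26

namespace Fpf3

variable {T : Type*} [Group T]

/-- `ρ` has `ρ³ = 1` pointwise and is fixed-point-free. -/
structure Hyp (ρ : MulAut T) : Prop where
  cube : ∀ y : T, ρ (ρ (ρ y)) = y
  fp : ∀ y : T, ρ y = y → y = 1

variable {ρ : MulAut T}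

theorem of_order (hρ : orderOf ρ = 3) (hfp : ∀ y : T, ρ y = y → y = 1) : Hyp ρ := by
  refine ⟨fun y => ?_, hfp⟩
  have h3 : ρ ^ 3 = 1 := by rw [← hρ]; exact pow_orderOf_eq_one ρ
  have := congrArg (fun f : MulAut T => f y) h3
  simpa [pow_succ, MulAut.mul_apply] using this

theorem delta_injective (h : Hyp ρ) : Function.Injective (fun y : T => y⁻¹ * ρ y) := by
  intro y z hyz
  simp only at hyz
  have h2 : ρ (z * y⁻¹) = z * y⁻¹ := by
    rw [map_mul, map_inv]
    have h1 : ρ z = z * (y⁻¹ * ρ y) := by rw [hyz]; group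
    rw [h1]; group
  have h3 := h.fp _ h2
  exact (mul_inv_eq_one.mp h3).symm

theorem prod3 [Finite T] (h : Hyp ρ) (y : T) : y * ρ y * ρ (ρ y) = 1 := by
  obtain ⟨w, rfl⟩ := (Finite.injective_iff_surjective.mp (delta_injective h)) y
  simp only [map_mul, map_inv, h.cube]
  group

theorem rho2_eq [Finite T] (h : Hyp ρ) (y : T) : ρ (ρ y) = (y * ρ y)⁻¹ :=
  eq_inv_of_mul_eq_one_right (prod3 h y)

theorem comm_rho [Finite T] (h : Hyp ρ) (y : T) : y * ρ y = ρ y * y := by
  have h1 := prod3 h y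
  have h2 := prod3 h y⁻¹
  simp only [map_inv] at h2
  have e1 : ρ (ρ y) = (y * ρ y)⁻¹ := eq_inv_of_mul_eq_one_right h1
  have e2 : ρ (ρ y) = (ρ y * y)⁻¹ := by
    have h3 : (ρ (ρ y))⁻¹ = (y⁻¹ * (ρ y)⁻¹)⁻¹ := eq_inv_of_mul_eq_one_right h2
    rw [← inv_inv (ρ (ρ y)), h3]; group
  exact inv_injective (e1.symm.trans e2)

theorem rho_ne_one (h : Hyp ρ) {y : T} (hy : y ≠ 1) : ρ y ≠ 1 := by
  intro h1
  apply hy
  have := congrArg (fun t => ρ (ρ t)) h1
  simpa [h.cube] using this

theorem rho_ne_self (h : Hyp ρ) {y : T} (hy : y ≠ 1) : ρ y ≠ y := fun h1 => hy (h.fp y h1)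

theorem rho2_ne_self (h : Hyp ρ) {y : T} (hy : y ≠ 1) : ρ (ρ y) ≠ y := by
  intro h1
  apply rho_ne_self h hy
  have := congrArg (fun t => ρ t) h1
  simpa [h.cube] using this.symm

theorem rho2_ne_rho (h : Hyp ρ) {y : T} (hy : y ≠ 1) : ρ (ρ y) ≠ ρ y :=
  rho_ne_self h (rho_ne_one h hy)

/-- `ρ` maps the centre into itself (any automorphism). -/
theorem rho_mem_center (ρ : MulAut T) {z : T} (hz : z ∈ Subgroup.center T) :
    ρ z ∈ Subgroup.center T := by
  rw [Subgroup.mem_center_iff] at hz ⊢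
  intro g
  have hg : ρ (ρ.symm g) = g := ρ.apply_symm_apply g
  calc g * ρ z = ρ (ρ.symm g) * ρ z := by rw [hg]
    _ = ρ (ρ.symm g * z) := by rw [map_mul]
    _ = ρ (z * ρ.symm g) := by rw [hz]
    _ = ρ z * g := by rw [map_mul, hg]

/-- invariance of a closure from invariance of the generators -/
theorem rho_mem_closure (ρ : MulAut T) {S : Set T} (hS : ∀ s ∈ S, ρ s ∈ Subgroup.closure S) :
    ∀ y ∈ Subgroup.closure S, ρ y ∈ Subgroup.closure S := by
  intro y hy
  induction hy using Subgroup.closure_induction with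
  | mem s hs => exact hS s hs
  | one => rw [map_one]; exact one_mem _
  | mul a b _ _ ha hb => rw [map_mul]; exact mul_mem ha hb
  | inv a _ ha => rw [map_inv]; exact inv_mem ha

/-- a `ρ`-invariant subgroup is mapped onto itself -/
theorem exists_rho_eq (h : Hyp ρ) {H : Subgroup T} (hH : ∀ y ∈ H, ρ y ∈ H) {y : T} (hy : y ∈ H) :
    ∃ w ∈ H, ρ w = y := ⟨ρ (ρ y), hH _ (hH _ hy), h.cube y⟩

theorem card_mod_three [Finite T] (h : Hyp ρ) (H : Subgroup T) (hH : ∀ y ∈ H, ρ y ∈ H) :
    Nat.card H % 3 = 1 := by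
  classical
  haveI : Fintype H := Fintype.ofFinite H
  let f : Function.End H := fun y => ⟨ρ y, hH y y.2⟩
  have hf : f ^ 3 ^ 1 = 1 := by
    funext y
    apply Subtype.ext
    simp only [pow_one, pow_succ, pow_zero, one_mul]
    show ρ (ρ (ρ (y : T))) = y
    exact h.cube y
  haveI : Fact (Nat.Prime 3) := ⟨Nat.prime_three⟩
  have hmod := Equiv.Perm.card_fixedPoints_modEq (p := 3) (n := 1) hf
  have hfix : Function.fixedPoints f = {1} := by
    ext y
    simp only [Function.mem_fixedPoints, Function.IsFixedPt, Set.mem_singleton_iff]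
    constructor
    · intro hy
      have : ρ (y : T) = y := congrArg Subtype.val hy
      exact Subtype.ext (h.fp _ this)
    · rintro rfl
      apply Subtype.ext
      show ρ ((1 : H) : T) = ((1 : H) : T)
      simp
  have hc : Fintype.card (Function.fixedPoints f) = 1 := by
    have : Fintype.card (Function.fixedPoints f) = Fintype.card ({1} : Set H) :=
      Fintype.card_congr (Equiv.setCongr hfix)
    rw [this]; simp
  rw [hc] at hmod
  rw [Nat.card_eq_fintype_card]
  exact hmod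

theorem card_cases [Finite T] (h : Hyp ρ) (hT : Nat.card T = 64) (H : Subgroup T)
    (hH : ∀ y ∈ H, ρ y ∈ H) :
    Nat.card H = 1 ∨ Nat.card H = 4 ∨ Nat.card H = 16 ∨ Nat.card H = 64 := by
  have h1 := card_mod_three h H hH
  have h2 : Nat.card H ∣ 2 ^ 6 := by
    have := Subgroup.card_subgroup_dvd_card H
    rw [hT] at this
    exact this
  obtain ⟨k, hk, hk2⟩ := (Nat.dvd_prime_pow Nat.prime_two).mp h2
  rw [hk2] at h1 ⊢
  interval_cases k <;> simp_all

/-- if `y⁻¹ * ρ y` lies in an invariant subgroup `N`, so does `y` -/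
theorem mem_of_delta_mem [Finite T] (h : Hyp ρ) (N : Subgroup T) (hN : ∀ y ∈ N, ρ y ∈ N) {y : T}
    (hy : y⁻¹ * ρ y ∈ N) : y ∈ N := by
  let d : N → N := fun n => ⟨(n : T)⁻¹ * ρ n, mul_mem (inv_mem n.2) (hN n n.2)⟩
  have hd : Function.Injective d := by
    intro a b hab
    have : (a : T)⁻¹ * ρ a = (b : T)⁻¹ * ρ b := congrArg Subtype.val hab
    exact Subtype.ext (delta_injective h this)
  obtain ⟨n, hn⟩ := (Finite.injective_iff_surjective.mp hd) ⟨_, hy⟩
  have : (n : T)⁻¹ * ρ n = y⁻¹ * ρ y := congrArg Subtype.val hn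
  have := delta_injective h this
  rw [← this]; exact n.2

end Fpf3

end Cfsg.Agent.Lib.helper26
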