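import Mathlib
import Cfsg.Agent.Lib.helper26.Fpf3

/-!
2-groups `T` with a fixed-point-free automorphism `ρ` of order 3 and an involutory automorphism
`t` commuting with `ρ` having at most four fixed points (helper26).  Part 1: counting lemmas.
-/

set_option autoImplicit false

namespace Cfsg.Agent.Lib.helper26

namespace Fix2

open Fpf3

variable {T : Type*} [Group T]

/-- standing hypotheses -/
structure Hyp2 (ρ t : MulAut T) : Prop where
  hyp : Fpf3.Hyp ρ
  invol : ∀ x : T, t (t x) = x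
  comm : ∀ x : T, t (ρ x) = ρ (t x)
  pg : IsPGroup 2 T
  fix : Nat.card {x : T // t x = x} ≤ 4

/-- counting by fibres which are contained in cosets of `W` -/
theorem card_le_of_fibers [Finite T] (S A : Set T) (f : T → T) (W : Subgroup T)
    (hmaps : ∀ x ∈ S, f x ∈ A) (hfib : ∀ x ∈ S, ∀ y ∈ S, f x = f y → x * y⁻¹ ∈ W) :
    S.ncard ≤ Nat.card W * A.ncard := by
  classical
  let r : T → T := fun a => if h : ∃ x ∈ S, f x = a then h.choose else 1
  have hr : ∀ x ∈ S, r (f x) ∈ S ∧ f (r (f x)) = f x := by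
    intro x hx
    have h : ∃ y ∈ S, f y = f x := ⟨x, hx, rfl⟩
    simp only [r, dif_pos h]
    exact h.choose_spec
  let g : T → T × T := fun x => (x * (r (f x))⁻¹, f x)
  have hg : ∀ x ∈ S, g x ∈ ((W : Set T) ×ˢ A) := by
    intro x hx
    exact ⟨hfib x hx _ (hr x hx).1 (hr x hx).2.symm, hmaps x hx⟩
  have hinj : Set.InjOn g S := by
    intro x hx y hy hxy
    have h1 : f x = f y := congrArg Prod.snd hxy
    have h2 : x * (r (f x))⁻¹ = y * (r (f y))⁻¹ := congrArg Prod.fst hxy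
    rw [h1] at h2
    exact mul_right_cancel h2
  have h3 := Set.ncard_le_ncard_of_injOn g hg hinj (Set.toFinite _)
  rw [Set.ncard_prod] at h3
  have h4 : (W : Set T).ncard = Nat.card W := (Nat.card_coe_set_eq (W : Set T)).symm
  rw [h4] at h3
  exact h3

/-- the subgroup of fixed points of `t` -/
def W (t : MulAut T) : Subgroup T where
  carrier := {x | t x = x}
  mul_mem' := by
    intro a b ha hb
    show t (a * b) = a * b
    rw [map_mul, show t a = a from ha, show t b = b from hb]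
  one_mem' := map_one t
  inv_mem' := by
    intro a ha
    show t a⁻¹ = a⁻¹
    rw [map_inv, show t a = a from ha]

theorem mem_W {t : MulAut T} {x : T} : x ∈ W t ↔ t x = x := Iff.rfl

variable {ρ t : MulAut T}

theorem card_W_le (h : Hyp2 ρ t) : Nat.card (W t) ≤ 4 := h.fix

theorem W_inv (h : Hyp2 ρ t) : ∀ y ∈ W t, ρ y ∈ W t := by
  intro y hy
  rw [mem_W] at hy ⊢
  rw [h.comm, hy]

/-- a nontrivial subgroup of a 2-group contains an involution -/
theorem exists_invol (hp : IsPGroup 2 T) (H : Subgroup T) {w : T} (hw : w ∈ H) (hw1 : w ≠ 1) :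
    ∃ u ∈ H, u ≠ 1 ∧ u ^ 2 = 1 := by
  obtain ⟨m, hm⟩ := (IsPGroup.iff_orderOf.mp hp) w
  have hm0 : m ≠ 0 := by
    rintro rfl
    rw [pow_zero, orderOf_eq_one_iff] at hm
    exact hw1 hm
  refine ⟨w ^ 2 ^ (m - 1), pow_mem hw _, ?_, ?_⟩
  · apply pow_ne_one_of_lt_orderOf (by positivity)
    rw [hm]
    exact Nat.pow_lt_pow_right (by norm_num) (by omega)
  · rw [← pow_mul, ← pow_succ, show m - 1 + 1 = m by omega, ← hm, pow_orderOf_eq_one]

/-- the unique involution of a cyclic 2-group -/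
theorem zpow_invol {x : T} {n : ℕ} (hn : 1 ≤ n) (hx : orderOf x = 2 ^ n) {k : ℤ}
    (h2 : (x ^ k) ^ 2 = 1) (h1 : x ^ k ≠ 1) : x ^ k = x ^ 2 ^ (n - 1) := by
  have e1 : x ^ (k * 2) = 1 := by
    rw [zpow_mul]; exact_mod_cast h2
  have d1 : (orderOf x : ℤ) ∣ k * 2 := orderOf_dvd_iff_zpow_eq_one.mpr e1
  rw [hx] at d1
  have e2 : ((2 ^ n : ℕ) : ℤ) = 2 ^ (n - 1) * 2 := by
    push_cast
    rw [← pow_succ, show n - 1 + 1 = n by omega]
  rw [e2] at d1
  have d2 : (2 ^ (n - 1) : ℤ) ∣ k := Int.dvd_of_mul_dvd_mul_right (by norm_num) d1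
  obtain ⟨m, rfl⟩ := d2
  have hpow : (x ^ (2 ^ (n - 1) : ℤ)) ^ (2 : ℤ) = 1 := by
    rw [← zpow_mul, ← e2]
    rw [zpow_natCast, ← hx, pow_orderOf_eq_one]
  rcases Int.even_or_odd' m with ⟨j, rfl | rfl⟩
  · exfalso
    apply h1
    rw [show (2 ^ (n - 1) : ℤ) * (2 * j) = (2 ^ (n - 1) * 2) * j by ring, zpow_mul, zpow_mul,
      hpow, one_zpow]
  · rw [show (2 ^ (n - 1) : ℤ) * (2 * j + 1) = (2 ^ (n - 1) * 2) * j + 2 ^ (n - 1) by ring,
      zpow_add, zpow_mul, zpow_mul, hpow, one_zpow, one_mul]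
    exact_mod_cast zpow_natCast x (2 ^ (n - 1))

end Fix2

end Cfsg.Agent.Lib.helper26
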