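import Cfsg.Agent.Lib.helper26.CIT3

/-!
Brauer–Suzuki–Wall situation, continued: `T` acts regularly on the cosets of `H = N_G(T)` other
than `H` itself.
-/

set_option autoImplicit false

namespace Cfsg.Agent.Lib.helper26

namespace CIT

variable {G : Type*} [Group G] [Finite G] (T : Sylow 2 G) (hnc : ¬ IsCyclic (T : Subgroup G))
  (hC : ∀ t : G, orderOf t = 2 → IsMulCommutative (Subgroup.centralizer ({t} : Set G)) ∧
      ∀ c ∈ Subgroup.centralizer ({t} : Set G), c ^ 2 = 1)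
  (hnn : ¬ (T : Subgroup G).Normal)
  (u : G) (hu : orderOf u = 2) (huH : u ∉ Subgroup.normalizer ((T : Subgroup G) : Set G))

include hnc hC hnn hu huH

/-- `D` is commutative. -/
theorem D_comm {d d' : G} (hd : d ∈ Dsub T u) (hd' : d' ∈ Dsub T u) : d * d' = d' * d := by
  have e1 := u_inverts_D T hnc hC hnn u hu huH hd
  have e2 := u_inverts_D T hnc hC hnn u hu huH hd'
  have e3 := u_inverts_D T hnc hC hnn u hu huH (mul_mem hd hd')
  have e4 : u * (d * d') * u⁻¹ = (u * d * u⁻¹) * (u * d' * u⁻¹) := by group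
  rw [e4, e1, e2] at e3
  have e5 : (d⁻¹ * d'⁻¹)⁻¹ = ((d * d')⁻¹)⁻¹ := by rw [e3]
  rw [mul_inv_rev, inv_inv, inv_inv, inv_inv] at e5
  exact e5.symm

theorem eq_one_of_commute {t d : G} (ht : t ∈ (T : Subgroup G)) (hd : d ∈ Dsub T u) (hd1 : d ≠ 1)
    (hc : d * t = t * d) : t = 1 := by
  by_contra hne
  have hto : orderOf t = 2 := orderOf_of_mem T hnc hC ht hne
  exact hd1 (eq_one_of_mem_D_of_mem_T T hnc hC hnn u hu huH hd
    (mem_of_commute T hnc hC hto ht hc))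

/-- Every element of `H ∖ T` is `T`-conjugate into `D`. -/
theorem exists_T_conj_mem_D {h : G} (hh : h ∈ Subgroup.normalizer ((T : Subgroup G) : Set G))
    (hhT : h ∉ (T : Subgroup G)) : ∃ t ∈ (T : Subgroup G), t⁻¹ * h * t ∈ Dsub T u := by
  obtain ⟨d₀, hd₀, t₀, ht₀, rfl⟩ := exists_D_mul_T T hnc hC hnn u hu huH hh
  have hd₀1 : d₀ ≠ 1 := by
    rintro rfl
    rw [one_mul] at hhT
    exact hhT ht₀
  have hconj : ∀ t ∈ (T : Subgroup G), d₀⁻¹ * t * d₀ ∈ (T : Subgroup G) := by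
    intro t ht
    have h1 := (Subgroup.mem_normalizer_iff.1 (inv_mem hd₀.1) t).1 ht
    rwa [inv_inv] at h1
  have hsq : ∀ t ∈ (T : Subgroup G), t * t = 1 := by
    intro t ht
    have := sq_of_mem T hnc hC ht
    rwa [pow_two] at this
  let f : ↥(T : Subgroup G) → ↥(T : Subgroup G) := fun (t : ↥(T : Subgroup G)) =>
    ⟨d₀⁻¹ * (t : G) * d₀ * (t : G), mul_mem (hconj (t : G) t.property) t.property⟩
  have hinj : Function.Injective f := by
    rintro ⟨a, ha⟩ ⟨b, hb⟩ hff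
    have h1 : d₀⁻¹ * a * d₀ * a = d₀⁻¹ * b * d₀ * b := congrArg Subtype.val hff
    have h2 : a * d₀ * a = b * d₀ * b := by
      have e : ∀ x : G, x * d₀ * x = d₀ * (d₀⁻¹ * x * d₀ * x) := fun x => by group
      rw [e, e, h1]
    have hcomm : a * b = b * a := comm_of_mem T hnc hC ha hb
    have h3 : (b * a) * d₀ * (b * a) = d₀ := by
      calc (b * a) * d₀ * (b * a) = (b * a) * d₀ * (a * b) := by rw [hcomm]
        _ = b * (a * d₀ * a) * b := by group
        _ = b * (b * d₀ * b) * b := by rw [h2]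
        _ = (b * b) * d₀ * (b * b) := by group
        _ = d₀ := by rw [hsq _ hb, one_mul, mul_one]
    have h4 : d₀ * (b * a) = (b * a) * d₀ := by
      calc d₀ * (b * a) = ((b * a) * d₀ * (b * a)) * (b * a) := by rw [h3]
        _ = (b * a) * d₀ * ((b * a) * (b * a)) := by group
        _ = (b * a) * d₀ := by rw [hsq _ (mul_mem hb ha), mul_one]
    have h5 := eq_one_of_commute T hnc hC hnn u hu huH (mul_mem hb ha) hd₀ hd₀1 h4
    apply Subtype.ext
    show a = b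
    calc a = (b * b) * a := by rw [hsq _ hb, one_mul]
      _ = b * (b * a) := by group
      _ = b := by rw [h5, mul_one]
  obtain ⟨⟨t, htT⟩, ht⟩ := (Finite.injective_iff_surjective.1 hinj) ⟨t₀, ht₀⟩
  have h1 : d₀⁻¹ * t * d₀ * t = t₀ := congrArg Subtype.val ht
  refine ⟨t, htT, ?_⟩
  have e : t⁻¹ * (d₀ * t₀) * t = d₀ * (t * t) := by
    rw [← h1]
    group
  rw [e, hsq _ htT, mul_one]
  exact hd₀

/-- `T` is transitive on the cosets other than `H`: every `g ∉ H` lies in `t u H` for some `t ∈ T`. -/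
theorem T_transitive {g : G} (hg : g ∉ Subgroup.normalizer ((T : Subgroup G) : Set G)) :
    ∃ t ∈ (T : Subgroup G), g⁻¹ * (t * u) ∈ Subgroup.normalizer ((T : Subgroup G) : Set G) := by
  obtain ⟨i, hi, hiH⟩ := exists_involution_coset T hnc hC hnn u hu huH g
  have hi' : i ∉ Subgroup.normalizer ((T : Subgroup G) : Set G) := by
    intro hiN
    apply hg
    have e : g = i * (g⁻¹ * i)⁻¹ := by group
    rw [e]
    exact mul_mem hiN (inv_mem hiH)
  obtain ⟨d', hd', hd'1⟩ := exists_ne_one_mem_D T hnc hC hnn i hi hi'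
  have hd'T : d' ∉ (T : Subgroup G) := fun h =>
    hd'1 (eq_one_of_mem_D_of_mem_T T hnc hC hnn i hi hi' hd' h)
  obtain ⟨t, ht, hd⟩ := exists_T_conj_mem_D T hnc hC hnn u hu huH hd'.1 hd'T
  have htN : t ∈ Subgroup.normalizer ((T : Subgroup G) : Set G) := le_normalizer T ht
  have hd1 : t⁻¹ * d' * t ≠ 1 := by
    intro e
    apply hd'1
    have e' : d' = t * (t⁻¹ * d' * t) * t⁻¹ := by group
    rw [e', e]
    group
  have hi2 : orderOf (t⁻¹ * i * t) = 2 := by rw [orderOf_conj_eq']; exact hi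
  have hi2H : t⁻¹ * i * t ∉ Subgroup.normalizer ((T : Subgroup G) : Set G) := by
    intro h
    apply hi'
    have e : i = t * (t⁻¹ * i * t) * t⁻¹ := by group
    rw [e]
    exact mul_mem (mul_mem htN h) (inv_mem htN)
  -- `d ∈ D(i')`
  have hdi : t⁻¹ * d' * t ∈ Dsub T (t⁻¹ * i * t) := by
    refine Subgroup.mem_inf.2 ⟨hd.1, (SE.mem_map_conj_iff _ _ _).2 ?_⟩
    have h1 : i⁻¹ * d' * i ∈ Subgroup.normalizer ((T : Subgroup G) : Set G) :=
      (SE.mem_map_conj_iff _ i d').1 hd'.2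
    have e : (t⁻¹ * i * t)⁻¹ * (t⁻¹ * d' * t) * (t⁻¹ * i * t) = t⁻¹ * (i⁻¹ * d' * i) * t := by group
    rw [e]
    exact mul_mem (mul_mem (inv_mem htN) h1) htN
  -- `D(i') ≤ D(u)`
  have hle : Dsub T (t⁻¹ * i * t) ≤ Dsub T u := by
    intro e he
    have hc := D_comm T hnc hC hnn (t⁻¹ * i * t) hi2 hi2H he hdi
    obtain ⟨d₁, hd₁, t₁, ht₁, rfl⟩ := exists_D_mul_T T hnc hC hnn u hu huH he.1
    have hc2 := D_comm T hnc hC hnn u hu huH hd₁ hd
    have h3 : (t⁻¹ * d' * t) * t₁ = t₁ * (t⁻¹ * d' * t) := by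
      have h4 : d₁ * (t₁ * (t⁻¹ * d' * t)) = d₁ * ((t⁻¹ * d' * t) * t₁) := by
        calc d₁ * (t₁ * (t⁻¹ * d' * t)) = d₁ * t₁ * (t⁻¹ * d' * t) := by group
          _ = (t⁻¹ * d' * t) * (d₁ * t₁) := hc
          _ = ((t⁻¹ * d' * t) * d₁) * t₁ := by group
          _ = (d₁ * (t⁻¹ * d' * t)) * t₁ := by rw [hc2]
          _ = d₁ * ((t⁻¹ * d' * t) * t₁) := by group
      exact (mul_left_cancel h4).symm
    have h5 := eq_one_of_commute T hnc hC hnn u hu huH ht₁ hd hd1 h3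
    rw [h5, mul_one]
    exact hd₁
  have hDeq : Dsub T u = Dsub T (t⁻¹ * i * t) := by
    symm
    apply Subgroup.eq_of_le_of_card_ge hle
    have h1 := card_D T hnc hC hnn u hu huH
    have h2 := card_D T hnc hC hnn (t⁻¹ * i * t) hi2 hi2H
    have h1' : Nat.card ↥(Dsub T u) = Nat.card (T : Subgroup G) - 1 := h1
    have h2' : Nat.card ↥(Dsub T (t⁻¹ * i * t)) = Nat.card (T : Subgroup G) - 1 := h2
    rw [h1', h2']
  have h6 := mul_mem_of_D_eq T hnc hC hnn u hu huH hi2 hi2H hDeq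
  refine ⟨t, ht, ?_⟩
  have e : g⁻¹ * (t * u) = (g⁻¹ * i) * (t * (u * (t⁻¹ * i * t))⁻¹) := by
    rw [mul_inv_rev, inv_eq_self_of_orderOf_two hu]
    have hii : i * i = 1 := mul_self_of_orderOf_two hi
    have hi_inv : i⁻¹ = i := inv_eq_self_of_orderOf_two hi
    calc g⁻¹ * (t * u) = g⁻¹ * (i * i) * (t * u) := by rw [hii, mul_one]
      _ = g⁻¹ * i * (t * (t⁻¹ * i⁻¹ * t) * u) := by rw [hi_inv]; group
      _ = g⁻¹ * i * (t * ((t⁻¹ * i * t)⁻¹ * u)) := by group
  rw [e]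
  exact mul_mem hiH (mul_mem htN (inv_mem h6))

omit hu huH in
/-- `T` acts freely on the cosets other than `H`. -/
theorem T_semiregular {t g : G} (ht : t ∈ (T : Subgroup G))
    (hg : g ∉ Subgroup.normalizer ((T : Subgroup G) : Set G))
    (hfix : g⁻¹ * t * g ∈ Subgroup.normalizer ((T : Subgroup G) : Set G)) : t = 1 := by
  by_contra hne
  have hH := isStronglyEmbedded_normalizer T hnc hC hnn
  have hto : orderOf t = 2 := orderOf_of_mem T hnc hC ht hne
  exact hg (SE.mem_of_conj_mem hH hto (le_normalizer T ht) hfix)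

end CIT

end Cfsg.Agent.Lib.helper26
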