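import Mathlib
import Cfsg.Agent.Lib.helper26.Fix2a

/-!
Abelian 2-groups with a fixed-point-free automorphism `ρ` of order 3 and an involutory
automorphism `t` commuting with `ρ` with at most four fixed points (helper26):
they are elementary abelian of order 16 or homocyclic of rank two.
-/

set_option autoImplicit false

namespace Cfsg.Agent.Lib.helper26

namespace Fix2

open Fpf3

section general

variable {T : Type*} [Group T]

theorem two_dvd_of_pow {x : T} {n : ℕ} (hn : 1 ≤ n) (hx : orderOf x = 2 ^ n) {i : ℤ}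
    (h : (x ^ i) ^ 2 ^ (n - 1) = 1) : (2 : ℤ) ∣ i := by
  have e1 : x ^ (i * ((2 ^ (n - 1) : ℕ) : ℤ)) = 1 := by rw [zpow_mul, zpow_natCast]; exact h
  have d1 : (orderOf x : ℤ) ∣ i * ((2 ^ (n - 1) : ℕ) : ℤ) := orderOf_dvd_iff_zpow_eq_one.mpr e1
  rw [hx] at d1
  have e2 : ((2 ^ n : ℕ) : ℤ) = 2 * ((2 ^ (n - 1) : ℕ) : ℤ) := by
    push_cast; rw [← pow_succ', show n - 1 + 1 = n by omega]
  rw [e2] at d1
  exact Int.dvd_of_mul_dvd_mul_right (by positivity) d1

end general

variable {A : Type*} [CommGroup A] [Finite A] {ρ t : MulAut A}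

/-- elements of exponent 2 -/
def Om (A : Type*) [CommGroup A] : Subgroup A := (powMonoidHom 2 : A →* A).ker

theorem mem_Om {x : A} : x ∈ Om A ↔ x ^ 2 = 1 := by
  unfold Om; rw [MonoidHom.mem_ker, powMonoidHom_apply]

theorem Om_inv (σ : MulAut A) : ∀ y ∈ Om A, σ y ∈ Om A := by
  intro y hy; rw [mem_Om] at hy ⊢; rw [← map_pow, hy, map_one]

theorem inv_eq_of_mem_Om {x : A} (hx : x ∈ Om A) : x⁻¹ = x := by
  rw [mem_Om] at hx
  exact inv_eq_of_mul_eq_one_left (by rw [← pow_two]; exact hx)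

theorem nu_fiber : ∀ x ∈ (Om A : Set A), ∀ y ∈ (Om A : Set A),
    x * t x = y * t y → x * y⁻¹ ∈ W t := by
  intro x hx y hy hxy
  rw [mem_W, map_mul, map_inv]
  have hx' := inv_eq_of_mem_Om hx
  have hy' := inv_eq_of_mem_Om hy
  have e : t x = x⁻¹ * (y * t y) := by rw [← hxy]; group
  calc t x * (t y)⁻¹ = x⁻¹ * (y * t y) * (t y)⁻¹ := by rw [e]
    _ = x⁻¹ * y := by group
    _ = x * y⁻¹ := by rw [hx', hy']

theorem nu_mem (h : Hyp2 ρ t) (x : A) : x * t x ∈ W t := by
  show t (x * t x) = x * t x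
  rw [map_mul, h.invol, mul_comm]

theorem card_Om_le (h : Hyp2 ρ t) : Nat.card (Om A) ≤ 16 := by
  have h1 := card_le_of_fibers (Om A : Set A) (W t : Set A) (fun x => x * t x) (W t)
    (fun x _ => nu_mem h x) nu_fiber
  have h2 := card_W_le h
  have h3 : (W t : Set A).ncard = Nat.card (W t) := (Nat.card_coe_set_eq _).symm
  have h4 : (Om A : Set A).ncard = Nat.card (Om A) := (Nat.card_coe_set_eq _).symm
  rw [h3, h4] at h1
  calc Nat.card (Om A) ≤ Nat.card (W t) * Nat.card (W t) := h1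
    _ ≤ 4 * 4 := Nat.mul_le_mul h2 h2

theorem card_Om_cases (h : Hyp2 ρ t) :
    Nat.card (Om A) = 1 ∨ Nat.card (Om A) = 4 ∨ Nat.card (Om A) = 16 := by
  haveI : Fact (Nat.Prime 2) := ⟨Nat.prime_two⟩
  have h1 := card_mod_three h.hyp (Om A) (Om_inv ρ)
  have h2 := card_Om_le h
  obtain ⟨k, hk⟩ := IsPGroup.iff_card.mp (h.pg.to_subgroup (Om A))
  rw [hk] at h1 h2 ⊢
  have hk4 : k ≤ 4 := by
    by_contra hcon
    push Not at hcon
    have : 2 ^ 5 ≤ 2 ^ k := Nat.pow_le_pow_right (by norm_num) hcon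
    omega
  interval_cases k <;> simp_all

theorem eq_one_of_card_Om (h : Hyp2 ρ t) (h1 : Nat.card (Om A) = 1) (x : A) : x = 1 := by
  by_contra hx
  obtain ⟨u, -, hu1, hu2⟩ := exists_invol h.pg ⊤ (Subgroup.mem_top x) hx
  have : u ∈ Om A := mem_Om.mpr hu2
  rw [Subgroup.card_eq_one.mp h1] at this
  exact hu1 (Subgroup.mem_bot.mp this)

theorem homocyclic (h : Hyp2 ρ t) (h4 : Nat.card (Om A) = 4) :
    ∃ (x : A) (n : ℕ), 1 ≤ n ∧ orderOf x = 2 ^ n ∧ (∀ y : A, y ∈ Subgroup.closure {x, ρ x}) ∧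
      Subgroup.zpowers x ⊓ Subgroup.zpowers (ρ x) = ⊥ := by
  obtain ⟨x, hxmax⟩ := Finite.exists_max (fun y : A => orderOf y)
  obtain ⟨n, hn⟩ := (IsPGroup.iff_orderOf.mp h.pg) x
  have hexp : ∀ y : A, y ^ 2 ^ n = 1 := by
    intro y
    obtain ⟨m, hm⟩ := (IsPGroup.iff_orderOf.mp h.pg) y
    have hle := hxmax y
    simp only [hm, hn] at hle
    have hmn : m ≤ n := (Nat.pow_le_pow_iff_right (by norm_num)).mp hle
    obtain ⟨d, rfl⟩ := Nat.exists_eq_add_of_le hmn
    rw [pow_add, pow_mul, ← hm, pow_orderOf_eq_one, one_pow]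
  have hn1 : 1 ≤ n := by
    by_contra hcon
    have hn0 : n = 0 := by omega
    subst hn0
    have hall : ∀ y : A, y = 1 := fun y => by simpa using hexp y
    have : Om A = ⊥ := by
      rw [Subgroup.eq_bot_iff_forall]; intro y _; exact hall y
    rw [this, Subgroup.card_bot] at h4
    omega
  have hx01 : x ^ 2 ^ (n - 1) ≠ 1 := by
    apply pow_ne_one_of_lt_orderOf (by positivity)
    rw [hn]; exact Nat.pow_lt_pow_right (by norm_num) (by omega)
  have hx02 : (x ^ 2 ^ (n - 1)) ^ 2 = 1 := by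
    rw [← pow_mul, ← pow_succ, show n - 1 + 1 = n by omega]; exact hexp x
  have hρn : orderOf (ρ x) = 2 ^ n := by rw [MulEquiv.orderOf_eq]; exact hn
  have hind : Subgroup.zpowers x ⊓ Subgroup.zpowers (ρ x) = ⊥ := by
    rw [Subgroup.eq_bot_iff_forall]
    by_contra hcon
    push Not at hcon
    obtain ⟨w, hw, hw1⟩ := hcon
    obtain ⟨u, hu, hu1, hu2⟩ := exists_invol h.pg _ hw hw1
    obtain ⟨k, hk⟩ := Subgroup.mem_zpowers_iff.mp hu.1
    obtain ⟨j, hj⟩ := Subgroup.mem_zpowers_iff.mp hu.2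
    have e1 : u = x ^ 2 ^ (n - 1) := by
      rw [← hk]; exact zpow_invol hn1 hn (by rw [hk]; exact hu2) (by rw [hk]; exact hu1)
    have e2 : u = ρ (x ^ 2 ^ (n - 1)) := by
      rw [← hj, map_pow]
      exact zpow_invol hn1 hρn (by rw [hj]; exact hu2) (by rw [hj]; exact hu1)
    exact rho_ne_self h.hyp hx01 (e2.symm.trans e1)
  have hxH : x ∈ Subgroup.closure ({x, ρ x} : Set A) := Subgroup.subset_closure (by simp)
  have hρxH : ρ x ∈ Subgroup.closure ({x, ρ x} : Set A) := Subgroup.subset_closure (by simp)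
  have hHinv : ∀ y ∈ Subgroup.closure ({x, ρ x} : Set A),
      ρ y ∈ Subgroup.closure ({x, ρ x} : Set A) := by
    apply rho_mem_closure
    intro s hs
    rcases hs with rfl | hs
    · exact hρxH
    · rw [Set.mem_singleton_iff] at hs
      rw [hs, rho2_eq h.hyp x]
      exact inv_mem (mul_mem hxH hρxH)
  have hOmH : Om A ≤ Subgroup.closure ({x, ρ x} : Set A) := by
    have hinv : ∀ y ∈ Subgroup.closure ({x, ρ x} : Set A) ⊓ Om A,
        ρ y ∈ Subgroup.closure ({x, ρ x} : Set A) ⊓ Om A :=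
      fun y hy => ⟨hHinv y hy.1, Om_inv ρ y hy.2⟩
    have hmod := card_mod_three h.hyp _ hinv
    have hle := Subgroup.card_le_of_le
      (inf_le_right : Subgroup.closure ({x, ρ x} : Set A) ⊓ Om A ≤ Om A)
    rw [h4] at hle
    have hne1 : Nat.card ↥(Subgroup.closure ({x, ρ x} : Set A) ⊓ Om A) ≠ 1 := by
      intro h1
      have hbot := Subgroup.card_eq_one.mp h1
      have : x ^ 2 ^ (n - 1) ∈ Subgroup.closure ({x, ρ x} : Set A) ⊓ Om A :=
        ⟨pow_mem hxH _, mem_Om.mpr hx02⟩
      rw [hbot, Subgroup.mem_bot] at this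
      exact hx01 this
    have h4' : Nat.card ↥(Subgroup.closure ({x, ρ x} : Set A) ⊓ Om A) = 4 := by omega
    have := Subgroup.eq_of_le_of_card_ge
      (inf_le_right : Subgroup.closure ({x, ρ x} : Set A) ⊓ Om A ≤ Om A) (by rw [h4, h4'])
    rw [← this]; exact inf_le_left
  have key : ∀ k : ℕ, ∀ y : A, y ^ 2 ^ k = 1 → y ∈ Subgroup.closure ({x, ρ x} : Set A) := by
    intro k
    induction k with
    | zero => intro y hy; rw [pow_zero, pow_one] at hy; rw [hy]; exact one_mem _
    | succ k ih =>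
      intro y hy
      have hy2 : (y ^ 2) ^ 2 ^ k = 1 := by rw [← pow_mul, ← pow_succ']; exact hy
      obtain ⟨i, j, hij⟩ := Subgroup.mem_closure_pair.mp (ih _ hy2)
      have e1 : (x ^ i) ^ 2 ^ (n - 1) * ((ρ x) ^ j) ^ 2 ^ (n - 1) = 1 := by
        rw [← mul_pow, hij, ← pow_mul, ← pow_succ', show n - 1 + 1 = n by omega]; exact hexp y
      have e2 : (x ^ i) ^ 2 ^ (n - 1) ∈ Subgroup.zpowers x ⊓ Subgroup.zpowers (ρ x) := by
        refine Subgroup.mem_inf.mpr ⟨pow_mem (zpow_mem (Subgroup.mem_zpowers x) i) _, ?_⟩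
        rw [eq_inv_of_mul_eq_one_left e1]
        exact inv_mem (pow_mem (zpow_mem (Subgroup.mem_zpowers _) j) _)
      rw [hind, Subgroup.mem_bot] at e2
      have e3 : ((ρ x) ^ j) ^ 2 ^ (n - 1) = 1 := by rw [e2, one_mul] at e1; exact e1
      obtain ⟨i', rfl⟩ := two_dvd_of_pow hn1 hn e2
      obtain ⟨j', rfl⟩ := two_dvd_of_pow hn1 hρn e3
      have hh : x ^ i' * (ρ x) ^ j' ∈ Subgroup.closure ({x, ρ x} : Set A) :=
        mul_mem (zpow_mem hxH _) (zpow_mem hρxH _)
      have hsq : (y * (x ^ i' * (ρ x) ^ j')⁻¹) ^ 2 = 1 := by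
        have e5 : (x ^ i' * (ρ x) ^ j') ^ 2 = y ^ 2 := by
          rw [mul_pow, ← zpow_natCast (x ^ i') 2, ← zpow_mul, ← zpow_natCast ((ρ x) ^ j') 2,
            ← zpow_mul, mul_comm i' _, mul_comm j' _]
          exact hij
        rw [mul_pow, inv_pow, e5, mul_inv_cancel]
      have h5 := mul_mem (hOmH (mem_Om.mpr hsq)) hh
      rwa [inv_mul_cancel_right] at h5
  exact ⟨x, n, hn1, hn, fun y => key n y (hexp y), hind⟩

theorem elementary (h : Hyp2 ρ t) (h16 : Nat.card (Om A) = 16) :
    Nat.card A = 16 ∧ ∀ x : A, x ^ 2 = 1 := by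
  have hW4 := card_W_le h
  have hsurj : ∀ w ∈ W t, ∃ e ∈ Om A, e * t e = w := by
    have hIW : (fun e => e * t e) '' (Om A : Set A) ⊆ (W t : Set A) := by
      rintro _ ⟨e, _, rfl⟩
      exact nu_mem h e
    have h1 := card_le_of_fibers (Om A : Set A) ((fun e => e * t e) '' (Om A : Set A))
      (fun x => x * t x) (W t) (fun x hx => ⟨x, hx, rfl⟩) nu_fiber
    have h3 : (Om A : Set A).ncard = Nat.card (Om A) := (Nat.card_coe_set_eq _).symm
    rw [h3, h16] at h1
    have hWn : (W t : Set A).ncard = Nat.card (W t) := (Nat.card_coe_set_eq _).symm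
    have hI4 : (W t : Set A).ncard ≤ ((fun e => e * t e) '' (Om A : Set A)).ncard := by
      rw [hWn]
      by_contra hcon
      push Not at hcon
      have : Nat.card (W t) * ((fun e => e * t e) '' (Om A : Set A)).ncard < 4 * 4 := by
        nlinarith
      omega
    have hIeq := Set.eq_of_subset_of_ncard_le hIW hI4 (Set.toFinite _)
    intro w hw
    have : w ∈ (fun e => e * t e) '' (Om A : Set A) := by rw [hIeq]; exact hw
    obtain ⟨e, he, rfl⟩ := this
    exact ⟨e, he, rfl⟩
  have hWOm : W t ≤ Om A := by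
    intro w hw
    obtain ⟨e, he, rfl⟩ := hsurj w hw
    exact mul_mem he (Om_inv t e he)
  have hall : ∀ x : A, x ^ 2 = 1 := by
    by_contra hcon
    push Not at hcon
    obtain ⟨y0, hy0⟩ := hcon
    have hk : ∃ k : A, t k = k⁻¹ ∧ k ^ 2 ≠ 1 := by
      by_contra hk
      push Not at hk
      have hθW : ∀ y : A, y⁻¹ * t y ∈ W t := by
        intro y
        have e1 : t (y⁻¹ * t y) = (y⁻¹ * t y)⁻¹ := by
          rw [map_mul, map_inv, h.invol, mul_inv_rev, inv_inv, mul_comm]
        have e2 := hk _ e1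
        show t (y⁻¹ * t y) = y⁻¹ * t y
        rw [e1]; exact inv_eq_of_mem_Om (mem_Om.mpr e2)
      have h1 := card_le_of_fibers (Set.univ : Set A) (W t : Set A) (fun y => y⁻¹ * t y) (W t)
        (fun y _ => hθW y) (by
          intro x _ y _ hxy
          show t (x * y⁻¹) = x * y⁻¹
          have e : t x = x * (y⁻¹ * t y) := by
            have hxy' : x⁻¹ * t x = y⁻¹ * t y := hxy
            rw [← hxy']; group
          rw [map_mul, map_inv, e]; group)
      have hWn : (W t : Set A).ncard = Nat.card (W t) := (Nat.card_coe_set_eq _).symm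
      rw [Set.ncard_univ, hWn] at h1
      have h16' : Nat.card A ≤ 16 := by
        calc Nat.card A ≤ Nat.card (W t) * Nat.card (W t) := h1
          _ ≤ 4 * 4 := Nat.mul_le_mul hW4 hW4
      have htop : Om A = ⊤ := Subgroup.eq_top_of_card_eq _
        (le_antisymm (Subgroup.card_le_card_group _) (by rw [h16]; exact h16'))
      exact hy0 (mem_Om.mp (by rw [htop]; trivial))
    obtain ⟨k, hk1, hk2⟩ := hk
    obtain ⟨m, hm⟩ := (IsPGroup.iff_orderOf.mp h.pg) k
    have hm2 : 2 ≤ m := by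
      by_contra hcon
      push Not at hcon
      apply hk2
      have : orderOf k ∣ 2 := by
        rw [hm]; interval_cases m <;> norm_num
      exact orderOf_dvd_iff_pow_eq_one.mp this
    have hk'1 : t (k ^ 2 ^ (m - 2)) = (k ^ 2 ^ (m - 2))⁻¹ := by rw [map_pow, hk1, inv_pow]
    have hk'4 : ((k ^ 2 ^ (m - 2)) ^ 2) ^ 2 = 1 := by
      have e : 2 ^ (m - 2) * (2 * 2) = 2 ^ m := by
        rw [← pow_two, ← pow_add]; congr 1; omega
      rw [← pow_mul, ← pow_mul, e, ← hm]
      exact pow_orderOf_eq_one k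
    have hk'2 : (k ^ 2 ^ (m - 2)) ^ 2 ≠ 1 := by
      rw [← pow_mul, ← pow_succ]
      apply pow_ne_one_of_lt_orderOf (by positivity)
      rw [hm]; exact Nat.pow_lt_pow_right (by norm_num) (by omega)
    have hk'W : (k ^ 2 ^ (m - 2)) ^ 2 ∈ W t := by
      show t ((k ^ 2 ^ (m - 2)) ^ 2) = (k ^ 2 ^ (m - 2)) ^ 2
      rw [map_pow, hk'1, inv_pow]
      exact inv_eq_of_mem_Om (mem_Om.mpr hk'4)
    obtain ⟨e, he, hee⟩ := hsurj _ hk'W
    have hxW : k ^ 2 ^ (m - 2) * e ∈ W t := by
      show t (k ^ 2 ^ (m - 2) * e) = k ^ 2 ^ (m - 2) * e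
      have e1 : t e = e⁻¹ * (k ^ 2 ^ (m - 2)) ^ 2 := by rw [← hee]; group
      rw [map_mul, hk'1, e1, inv_eq_of_mem_Om he, pow_two, mul_comm e, ← mul_assoc,
        inv_mul_cancel_left]
    have := mem_Om.mp (hWOm hxW)
    rw [mul_pow, mem_Om.mp he, mul_one] at this
    exact hk'2 this
  refine ⟨?_, hall⟩
  have htop : Om A = ⊤ := by
    rw [Subgroup.eq_top_iff']; intro x; exact mem_Om.mpr (hall x)
  rw [← h16, htop, Subgroup.card_top]

theorem abelian_cases (h : Hyp2 ρ t) :
    (Nat.card A = 16 ∧ ∀ x : A, x ^ 2 = 1) ∨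
    (∃ (x : A) (n : ℕ), orderOf x = 2 ^ n ∧ (∀ y : A, y ∈ Subgroup.closure {x, ρ x}) ∧
      Subgroup.zpowers x ⊓ Subgroup.zpowers (ρ x) = ⊥) := by
  rcases card_Om_cases h with h1 | h4 | h16
  · right
    refine ⟨1, 0, by simp, fun y => ?_, by simp⟩
    rw [eq_one_of_card_Om h h1 y]; exact one_mem _
  · right
    obtain ⟨x, n, -, hx, hgen, hind⟩ := homocyclic h h4
    exact ⟨x, n, hx, hgen, hind⟩
  · left; exact elementary h h16

omit [Finite A] in
theorem comm_aux {a b c d : A} (h : a * b = c * d) : a * c⁻¹ = d * b⁻¹ := by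
  have e : a = d * b⁻¹ * c := by
    rw [mul_comm c d] at h
    rw [mul_assoc, mul_comm b⁻¹ c, ← mul_assoc, ← h, mul_inv_cancel_right]
  rw [e, mul_inv_cancel_right]

omit [Finite A] in
/-- two independent generators of the same order give a homocyclic group -/
theorem homocyclic_equiv {x y : A} {m : ℕ} [NeZero m] (hx : orderOf x = m) (hy : orderOf y = m)
    (hgen : ∀ z : A, z ∈ Subgroup.closure {x, y})
    (hind : Subgroup.zpowers x ⊓ Subgroup.zpowers y = ⊥) :
    Nonempty (A ≃* Multiplicative (ZMod m) × Multiplicative (ZMod m)) := by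
  have hp : ∀ (u : A), orderOf u = m → ∀ a b : ZMod m, u ^ (a + b).val = u ^ a.val * u ^ b.val := by
    intro u hu a b
    rw [ZMod.val_add, ← pow_add, ← pow_mod_orderOf u (a.val + b.val), hu]
  have hz : ∀ (u : A), orderOf u = m → ∀ i : ℤ, u ^ ((i : ZMod m)).val = u ^ i := by
    intro u hu i
    rw [← zpow_natCast, ZMod.val_intCast, ← hu, zpow_mod_orderOf]
  have hinj1 : ∀ (u : A), orderOf u = m → ∀ a b : ZMod m, u ^ a.val = u ^ b.val → a = b := by
    intro u hu a b hab
    apply ZMod.val_injective m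
    exact pow_injOn_Iio_orderOf (x := u) (by rw [Set.mem_Iio, hu]; exact ZMod.val_lt a)
      (by rw [Set.mem_Iio, hu]; exact ZMod.val_lt b) hab
  let φ : Multiplicative (ZMod m) × Multiplicative (ZMod m) →* A :=
    { toFun := fun p => x ^ (Multiplicative.toAdd p.1).val * y ^ (Multiplicative.toAdd p.2).val
      map_one' := by simp
      map_mul' := by
        intro p q
        show x ^ (Multiplicative.toAdd p.1 + Multiplicative.toAdd q.1).val *
          y ^ (Multiplicative.toAdd p.2 + Multiplicative.toAdd q.2).val = _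
        rw [hp x hx, hp y hy]
        exact mul_mul_mul_comm _ _ _ _ }
  have hinj : Function.Injective φ := by
    intro p q hpq
    have hpq' : x ^ (Multiplicative.toAdd p.1).val * y ^ (Multiplicative.toAdd p.2).val =
        x ^ (Multiplicative.toAdd q.1).val * y ^ (Multiplicative.toAdd q.2).val := hpq
    have hmem : x ^ (Multiplicative.toAdd p.1).val * (x ^ (Multiplicative.toAdd q.1).val)⁻¹ ∈
        Subgroup.zpowers x ⊓ Subgroup.zpowers y := by
      refine Subgroup.mem_inf.mpr ⟨mul_mem (pow_mem (Subgroup.mem_zpowers x) _)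
        (inv_mem (pow_mem (Subgroup.mem_zpowers x) _)), ?_⟩
      rw [comm_aux hpq']
      exact mul_mem (pow_mem (Subgroup.mem_zpowers y) _)
        (inv_mem (pow_mem (Subgroup.mem_zpowers y) _))
    rw [hind, Subgroup.mem_bot] at hmem
    have e1 : x ^ (Multiplicative.toAdd p.1).val = x ^ (Multiplicative.toAdd q.1).val :=
      mul_inv_eq_one.mp hmem
    rw [e1] at hpq'
    have e2 : y ^ (Multiplicative.toAdd p.2).val = y ^ (Multiplicative.toAdd q.2).val :=
      mul_left_cancel hpq'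
    exact Prod.ext (hinj1 x hx _ _ e1) (hinj1 y hy _ _ e2)
  have hsurj : Function.Surjective φ := by
    intro z
    obtain ⟨i, j, hij⟩ := Subgroup.mem_closure_pair.mp (hgen z)
    refine ⟨(Multiplicative.ofAdd (i : ZMod m), Multiplicative.ofAdd (j : ZMod m)), ?_⟩
    show x ^ ((i : ZMod m)).val * y ^ ((j : ZMod m)).val = z
    rw [← hij, hz x hx, hz y hy]
  exact ⟨(MulEquiv.ofBijective φ ⟨hinj, hsurj⟩).symm⟩

/-- final form of the abelian classification -/
theorem abelian_final (h : Hyp2 ρ t) :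
    (Nat.card A = 16 ∧ ∀ x : A, x ^ 2 = 1) ∨
    (∃ n : ℕ, Nonempty (A ≃* Multiplicative (ZMod (2 ^ n)) × Multiplicative (ZMod (2 ^ n)))) := by
  rcases abelian_cases h with h1 | ⟨x, n, hx, hgen, hind⟩
  · exact Or.inl h1
  · right
    exact ⟨n, homocyclic_equiv hx (by rw [MulEquiv.orderOf_eq]; exact hx) hgen hind⟩

/-- generation by two `ρ`-orbits -/
theorem gen4 (h : Hyp2 ρ t) :
    ∃ a b : A, ∀ y : A, y ∈ Subgroup.closure {a, ρ a, b, ρ b} := by
  rcases abelian_cases h with ⟨h16, -⟩ | ⟨x, n, -, hgen, -⟩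
  · have hinv2 : ∀ a : A, ∀ y ∈ Subgroup.closure ({a, ρ a} : Set A),
        ρ y ∈ Subgroup.closure ({a, ρ a} : Set A) := by
      intro a
      apply rho_mem_closure
      intro s hs
      rcases hs with rfl | hs
      · exact Subgroup.subset_closure (by simp)
      · rw [Set.mem_singleton_iff] at hs
        rw [hs, rho2_eq h.hyp a]
        exact inv_mem (mul_mem (Subgroup.subset_closure (by simp))
          (Subgroup.subset_closure (by simp)))
    have hinv4 : ∀ a b : A, ∀ y ∈ Subgroup.closure ({a, ρ a, b, ρ b} : Set A),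
        ρ y ∈ Subgroup.closure ({a, ρ a, b, ρ b} : Set A) := by
      intro a b
      apply rho_mem_closure
      intro s hs
      rcases hs with rfl | rfl | rfl | hs
      · exact Subgroup.subset_closure (by simp)
      · rw [rho2_eq h.hyp a]
        exact inv_mem (mul_mem (Subgroup.subset_closure (by simp))
          (Subgroup.subset_closure (by simp)))
      · exact Subgroup.subset_closure (by simp)
      · rw [Set.mem_singleton_iff] at hs
        rw [hs, rho2_eq h.hyp b]
        exact inv_mem (mul_mem (Subgroup.subset_closure (by simp))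
          (Subgroup.subset_closure (by simp)))
    have hcases : ∀ H : Subgroup A, (∀ y ∈ H, ρ y ∈ H) →
        Nat.card H = 1 ∨ Nat.card H = 4 ∨ Nat.card H = 16 := by
      intro H hH
      have h1 := card_mod_three h.hyp H hH
      have h2 : Nat.card H ∣ 2 ^ 4 := by
        have := Subgroup.card_subgroup_dvd_card H
        rw [h16] at this
        exact this
      obtain ⟨k, hk, hk2⟩ := (Nat.dvd_prime_pow Nat.prime_two).mp h2
      rw [hk2] at h1 ⊢
      interval_cases k <;> simp_all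
    haveI : Nontrivial A := by
      apply (Finite.one_lt_card_iff_nontrivial).mp
      rw [h16]; norm_num
    obtain ⟨a, ha⟩ := exists_ne (1 : A)
    have haH : a ∈ Subgroup.closure ({a, ρ a} : Set A) := Subgroup.subset_closure (by simp)
    have hne1 : Nat.card (Subgroup.closure ({a, ρ a} : Set A)) ≠ 1 := by
      intro h1
      rw [Subgroup.card_eq_one.mp h1, Subgroup.mem_bot] at haH
      exact ha haH
    have hle : ∀ b : A, Subgroup.closure ({a, ρ a} : Set A) ≤
        Subgroup.closure ({a, ρ a, b, ρ b} : Set A) := by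
      intro b
      apply Subgroup.closure_mono
      intro s hs
      rcases hs with rfl | hs
      · simp
      · rw [Set.mem_singleton_iff] at hs; subst hs; simp
    by_cases htop : Subgroup.closure ({a, ρ a} : Set A) = ⊤
    · refine ⟨a, 1, fun y => hle 1 ?_⟩
      rw [htop]; trivial
    · obtain ⟨b, hb⟩ : ∃ b : A, b ∉ Subgroup.closure ({a, ρ a} : Set A) := by
        by_contra hcon
        push Not at hcon
        exact htop ((Subgroup.eq_top_iff' _).mpr hcon)
      have hbH : b ∈ Subgroup.closure ({a, ρ a, b, ρ b} : Set A) :=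
        Subgroup.subset_closure (by simp)
      have hlt : Nat.card (Subgroup.closure ({a, ρ a} : Set A)) <
          Nat.card (Subgroup.closure ({a, ρ a, b, ρ b} : Set A)) := by
        by_contra hcon
        push Not at hcon
        have := Subgroup.eq_of_le_of_card_ge (hle b) hcon
        exact hb (this ▸ hbH)
      have h16' : Nat.card (Subgroup.closure ({a, ρ a, b, ρ b} : Set A)) = 16 := by
        rcases hcases _ (hinv2 a) with h1 | h1 | h1 <;>
          rcases hcases _ (hinv4 a b) with h2 | h2 | h2 <;> omega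
      have htop' : Subgroup.closure ({a, ρ a, b, ρ b} : Set A) = ⊤ :=
        Subgroup.eq_top_of_card_eq _ (by rw [h16', h16])
      exact ⟨a, b, fun y => by rw [htop']; trivial⟩
  · refine ⟨x, 1, fun y => ?_⟩
    have hle : Subgroup.closure ({x, ρ x} : Set A) ≤
        Subgroup.closure ({x, ρ x, 1, ρ 1} : Set A) := by
      apply Subgroup.closure_mono
      intro s hs
      rcases hs with rfl | hs
      · simp
      · rw [Set.mem_singleton_iff] at hs; subst hs; simp
    exact hle (hgen y)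

end Fix2

end Cfsg.Agent.Lib.helper26
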