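import Mathlib
import Cfsg.Agent.Lib.helper26.Fix2b

/-!
Groups with a fixed-point-free automorphism `ρ` of order 3 (helper26): every element commutes
with all conjugates of its `ρ`-images, so normal closures of `ρ`-orbits are abelian; products of
two abelian normal subgroups have class two; class-two commutator calculus.
-/

set_option autoImplicit false

namespace Cfsg.Agent.Lib.helper26

namespace Fix2

open Fpf3

variable {T : Type*} [Group T]

/-- a subgroup generated by pairwise commuting elements is commutative -/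
theorem closure_comm {S : Set T} (hS : ∀ s ∈ S, ∀ t ∈ S, s * t = t * s) :
    ∀ p ∈ Subgroup.closure S, ∀ q ∈ Subgroup.closure S, p * q = q * p := by
  have h1 : ∀ s ∈ S, ∀ q ∈ Subgroup.closure S, s * q = q * s := by
    intro s hs q hq
    induction hq using Subgroup.closure_induction with
    | mem t ht => exact hS s hs t ht
    | one => simp
    | mul x y _ _ hx hy => rw [← mul_assoc, hx, mul_assoc, hy, mul_assoc]
    | inv x _ hx =>
      calc s * x⁻¹ = x⁻¹ * (x * s) * x⁻¹ := by group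
        _ = x⁻¹ * (s * x) * x⁻¹ := by rw [hx]
        _ = x⁻¹ * s := by group
  intro p hp q hq
  induction hp using Subgroup.closure_induction with
  | mem s hs => exact h1 s hs q hq
  | one => simp
  | mul x y _ _ hx hy => rw [mul_assoc, hy, ← mul_assoc, hx, mul_assoc]
  | inv x _ hx =>
    calc x⁻¹ * q = x⁻¹ * (q * x) * x⁻¹ := by group
      _ = x⁻¹ * (x * q) * x⁻¹ := by rw [hx]
      _ = q * x⁻¹ := by group

/-- products of two commutative normal subgroups have class two -/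
theorem class_two_of_sup {M N : Subgroup T} [M.Normal] [N.Normal]
    (hM : ∀ p ∈ M, ∀ q ∈ M, p * q = q * p) (hN : ∀ p ∈ N, ∀ q ∈ N, p * q = q * p)
    (htop : M ⊔ N = ⊤) (x y : T) : x * y * x⁻¹ * y⁻¹ ∈ Subgroup.center T := by
  have hC : ∀ c ∈ M ⊓ N, c ∈ Subgroup.center T := by
    intro c hc
    rw [Subgroup.mem_center_iff]
    intro g
    have hle : M ⊔ N ≤ Subgroup.centralizer ({c} : Set T) := by
      apply sup_le
      · intro m hm
        rw [Subgroup.mem_centralizer_iff]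
        intro z hz
        rw [Set.mem_singleton_iff] at hz; subst hz
        exact hM z hc.1 m hm
      · intro n hn
        rw [Subgroup.mem_centralizer_iff]
        intro z hz
        rw [Set.mem_singleton_iff] at hz; subst hz
        exact hN z hc.2 n hn
    have hg : g ∈ Subgroup.centralizer ({c} : Set T) := hle (by rw [htop]; trivial)
    exact (Subgroup.mem_centralizer_iff.mp hg c rfl).symm
  have hdec : ∀ g : T, ∃ m ∈ M, ∃ n ∈ N, m * n = g := by
    intro g
    have : g ∈ M ⊔ N := by rw [htop]; trivial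
    exact Subgroup.mem_sup_of_normal_right.mp this
  have hMN : ∀ m ∈ M, ∀ n ∈ N, m * n * m⁻¹ * n⁻¹ ∈ M ⊓ N := by
    intro m hm n hn
    refine Subgroup.mem_inf.mpr ⟨?_, ?_⟩
    · have : m * n * m⁻¹ * n⁻¹ = m * (n * m⁻¹ * n⁻¹) := by group
      rw [this]
      exact mul_mem hm (Subgroup.Normal.conj_mem inferInstance _ (inv_mem hm) n)
    · exact mul_mem (Subgroup.Normal.conj_mem inferInstance _ hn m) (inv_mem hn)
  have hM1 : ∀ m ∈ M, ∀ g : T, m * g * m⁻¹ * g⁻¹ ∈ M ⊓ N := by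
    intro m hm g
    obtain ⟨m', hm', n, hn, rfl⟩ := hdec g
    have hcomm := hM m hm m' hm'
    have hcen := Subgroup.mem_center_iff.mp (hC _ (hMN m hm n hn))
    have e : m * (m' * n) * m⁻¹ * (m' * n)⁻¹ = m' * (m * n * m⁻¹ * n⁻¹) * m'⁻¹ := by
      calc m * (m' * n) * m⁻¹ * (m' * n)⁻¹ = (m * m') * n * m⁻¹ * n⁻¹ * m'⁻¹ := by group
        _ = (m' * m) * n * m⁻¹ * n⁻¹ * m'⁻¹ := by rw [hcomm]
        _ = m' * (m * n * m⁻¹ * n⁻¹) * m'⁻¹ := by group
    rw [e, hcen m', mul_inv_cancel_right]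
    exact hMN m hm n hn
  have hN1 : ∀ n ∈ N, ∀ g : T, n * g * n⁻¹ * g⁻¹ ∈ M ⊓ N := by
    intro n hn g
    obtain ⟨m, hm, n', hn', rfl⟩ := hdec g
    have hcomm : Commute n' n := (hN n hn n' hn').symm
    have hcomm' : n' * n⁻¹ = n⁻¹ * n' := hcomm.inv_right.eq
    have e : n * (m * n') * n⁻¹ * (m * n')⁻¹ = n * m * n⁻¹ * m⁻¹ := by
      calc n * (m * n') * n⁻¹ * (m * n')⁻¹ = n * m * (n' * n⁻¹) * n'⁻¹ * m⁻¹ := by group
        _ = n * m * (n⁻¹ * n') * n'⁻¹ * m⁻¹ := by rw [hcomm']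
        _ = n * m * n⁻¹ * m⁻¹ := by group
    rw [e]
    have : n * m * n⁻¹ * m⁻¹ = (m * n * m⁻¹ * n⁻¹)⁻¹ := by group
    rw [this]; exact inv_mem (hMN m hm n hn)
  obtain ⟨m, hm, n, hn, rfl⟩ := hdec x
  have e : m * n * y * (m * n)⁻¹ * y⁻¹ =
      m * (n * y * n⁻¹ * y⁻¹) * m⁻¹ * (m * y * m⁻¹ * y⁻¹) := by group
  rw [e]
  have h1 := hC _ (hN1 n hn y)
  have h2 := hC _ (hM1 m hm y)
  rw [Subgroup.mem_center_iff.mp h1 m, mul_inv_cancel_right]
  exact mul_mem h1 h2

/-- a normal subgroup of a finite 2-group which supplements the commutator subgroup is everything -/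
theorem eq_top_of_sup_commutator [Finite T] (hp : IsPGroup 2 T) (K : Subgroup T) [K.Normal]
    (h : ∀ y : T, ∃ k ∈ K, k⁻¹ * y ∈ commutator T) : K = ⊤ := by
  haveI : Fact (Nat.Prime 2) := ⟨Nat.prime_two⟩
  apply QuotientGroup.subgroup_eq_top_of_subsingleton
  by_contra hns
  rw [not_subsingleton_iff_nontrivial] at hns
  haveI : Group.IsNilpotent (T ⧸ K) := (hp.to_quotient K).isNilpotent
  have hlt := Group.IsSolvable.commutator_lt_top_of_nontrivial (T ⧸ K)
  apply hlt.ne
  rw [eq_top_iff]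
  intro q _
  obtain ⟨y, rfl⟩ := QuotientGroup.mk_surjective q
  obtain ⟨k, hk, hd⟩ := h y
  have e : (QuotientGroup.mk y : T ⧸ K) = QuotientGroup.mk' K (k⁻¹ * y) := by
    rw [QuotientGroup.mk'_apply, QuotientGroup.mk_mul, QuotientGroup.mk_inv,
      (QuotientGroup.eq_one_iff k).mpr hk, inv_one, one_mul]
  rw [e]
  have hmap : (commutator T).map (QuotientGroup.mk' K) ≤ commutator (T ⧸ K) := by
    rw [commutator_def, commutator_def, Subgroup.map_commutator]
    exact Subgroup.commutator_mono le_top le_top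
  exact hmap (Subgroup.mem_map_of_mem _ hd)

section twist

variable [Finite T] {ρ : MulAut T}

/-- the twisted automorphism `x ↦ g * ρ x * g⁻¹` is again fixed-point-free of order 3 -/
theorem hyp_tw (h : Hyp ρ) (g : T) : Hyp (MulAut.conj g * ρ) := by
  obtain ⟨c, hc⟩ := (Finite.injective_iff_surjective.mp (delta_injective h)) g
  have hc' : c⁻¹ * ρ c = g := hc
  refine ⟨fun y => ?_, fun y hy => ?_⟩
  · simp only [MulAut.mul_apply, MulAut.conj_apply, map_mul, map_inv, h.cube]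
    rw [rho2_eq h g]; group
  · have hy' : g * ρ y * g⁻¹ = y := hy
    have hy2 : ρ y = g⁻¹ * y * g := by
      conv_rhs => rw [← hy']
      group
    have hfix : ρ (c * y * c⁻¹) = c * y * c⁻¹ := by
      rw [map_mul, map_mul, map_inv, hy2, ← hc']; group
    have h1 := h.fp _ hfix
    have e : y = c⁻¹ * (c * y * c⁻¹) * c := by group
    rw [e, h1]; group

theorem comm_conj_rho (h : Hyp ρ) (x g : T) : x * (g * ρ x * g⁻¹) = g * ρ x * g⁻¹ * x :=
  comm_rho (hyp_tw h g) x

/-- `ρ x` commutes with every conjugate of `x` -/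
theorem rho_comm_conj (h : Hyp ρ) (x g : T) : ρ x * (g * x * g⁻¹) = g * x * g⁻¹ * ρ x := by
  have h1 := comm_conj_rho h x g⁻¹
  rw [inv_inv] at h1
  calc ρ x * (g * x * g⁻¹) = g * (g⁻¹ * ρ x * g * x) * g⁻¹ := by group
    _ = g * (x * (g⁻¹ * ρ x * g)) * g⁻¹ := by rw [h1]
    _ = g * x * g⁻¹ * ρ x := by group

/-- `ρ (ρ x)` commutes with every conjugate of `x` -/
theorem rho2_comm_conj (h : Hyp ρ) (x g : T) :
    ρ (ρ x) * (g * x * g⁻¹) = g * x * g⁻¹ * ρ (ρ x) := by
  have h1 := comm_conj_rho h (ρ (ρ x)) g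
  rw [h.cube] at h1
  exact h1

/-- `x` commutes with its conjugates -/
theorem comm_conj_self (h : Hyp ρ) (x g : T) : x * (g * x * g⁻¹) = g * x * g⁻¹ * x := by
  have e : (ρ x * ρ (ρ x))⁻¹ = x := by
    have := prod3 h x
    rw [mul_assoc] at this
    exact (eq_inv_of_mul_eq_one_left this).symm
  have h1 : Commute (ρ x) (g * x * g⁻¹) := rho_comm_conj h x g
  have h2 : Commute (ρ (ρ x)) (g * x * g⁻¹) := rho2_comm_conj h x g
  have h3 : Commute (ρ x * ρ (ρ x))⁻¹ (g * x * g⁻¹) := (h1.mul_left h2).inv_left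
  rw [e] at h3
  exact h3

/-- the normal closure of `{x, ρ x}` -/
def NN (ρ : MulAut T) (x : T) : Subgroup T := Subgroup.normalClosure {x, ρ x}

instance NN_normal (x : T) : (NN ρ x).Normal := Subgroup.normalClosure_normal

omit [Finite T] in
theorem self_mem_NN (x : T) : x ∈ NN ρ x := Subgroup.subset_normalClosure (by simp)

omit [Finite T] in
theorem rho_mem_NN (x : T) : ρ x ∈ NN ρ x := Subgroup.subset_normalClosure (by simp)

theorem NN_comm (h : Hyp ρ) (x : T) : ∀ p ∈ NN ρ x, ∀ q ∈ NN ρ x, p * q = q * p := by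
  unfold NN Subgroup.normalClosure
  apply closure_comm
  intro s hs u hu
  rw [Group.mem_conjugatesOfSet_iff] at hs hu
  obtain ⟨a, ha, hsa⟩ := hs
  obtain ⟨b, hb, hub⟩ := hu
  obtain ⟨c, rfl⟩ := isConj_iff.mp hsa
  obtain ⟨d, rfl⟩ := isConj_iff.mp hub
  have key : ∀ e : T, a * (e * b * e⁻¹) = e * b * e⁻¹ * a := by
    intro e
    rcases ha with ha | ha <;> rcases hb with hb | hb
    · rw [ha, hb]; exact comm_conj_self h x e
    · rw [Set.mem_singleton_iff] at hb; rw [ha, hb]; exact comm_conj_rho h x e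
    · rw [Set.mem_singleton_iff] at ha; rw [ha, hb]; exact rho_comm_conj h x e
    · rw [Set.mem_singleton_iff] at ha hb; rw [ha, hb]; exact comm_conj_self h (ρ x) e
  have k := key (c⁻¹ * d)
  calc c * a * c⁻¹ * (d * b * d⁻¹) = c * (a * (c⁻¹ * d * b * (c⁻¹ * d)⁻¹)) * c⁻¹ := by group
    _ = c * (c⁻¹ * d * b * (c⁻¹ * d)⁻¹ * a) * c⁻¹ := by rw [k]
    _ = d * b * d⁻¹ * (c * a * c⁻¹) := by group

end twist

end Fix2

end Cfsg.Agent.Lib.helper26
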