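import Mathlib
import Cfsg.Agent.Lib.helper6.SLCard

/-!
The Heisenberg group over the field with four elements (helper26): the group of upper
unitriangular `3 × 3` matrices over `F4`, of order 64; it embeds in `PSL_3(4)` as a Sylow
2-subgroup (`Heis.exists_sylow`).  `Heis.homOf` builds homomorphisms out of it from three
coordinate maps, and `bilin_key` identifies a biadditive map on `F4` from its values on `1, ω`.
-/

set_option autoImplicit false

namespace Cfsg.Agent.Lib.helper26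

namespace Heis4

instance fact4 : Fact (∀ r : ZMod 2, r ^ 2 ≠ 1 + 1 * r) := ⟨by decide⟩

/-- the field with four elements, `F_2[ω]`, `ω^2 = 1 + ω` -/
abbrev F4 := QuadraticAlgebra (ZMod 2) 1 1

instance fintypeF4 : Fintype F4 :=
  Fintype.ofEquiv (ZMod 2 × ZMod 2) (QuadraticAlgebra.equivProd 1 1).symm

theorem card_F4 : Fintype.card F4 = 4 := by
  rw [Fintype.card_congr (QuadraticAlgebra.equivProd (1 : ZMod 2) 1)]
  simp

/-- `ω` -/
def w4 : F4 := ⟨0, 1⟩

theorem F4_cases (p : F4) : p = 0 ∨ p = 1 ∨ p = w4 ∨ p = 1 + w4 := by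
  revert p; decide

theorem w4_mul_w4 : w4 * w4 = 1 + w4 := by decide

/-- a biadditive map on `F4` is determined by its values on `1, ω` -/
theorem bilin_key {M : Type*} [Group M] (B : F4 → F4 → M) (Ψ : F4 → M)
    (hB1 : ∀ p p' q, B (p + p') q = B p q * B p' q)
    (hB2 : ∀ p q q', B p (q + q') = B p q * B p q')
    (hΨ : ∀ r r', Ψ (r + r') = Ψ r * Ψ r')
    (h11 : B 1 1 = Ψ 1) (h1w : B 1 w4 = Ψ w4) (hw1 : B w4 1 = Ψ w4)
    (hww : B w4 w4 = Ψ (1 + w4)) : ∀ p q, B p q = Ψ (p * q) := by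
  have hΨ0 : Ψ 0 = 1 := by
    have h := hΨ 0 0
    rw [add_zero] at h
    exact left_eq_mul.mp h
  have hB0l : ∀ q, B 0 q = 1 := fun q => by
    have h := hB1 0 0 q
    rw [add_zero] at h
    exact left_eq_mul.mp h
  have hB0r : ∀ p, B p 0 = 1 := fun p => by
    have h := hB2 p 0 0
    rw [add_zero] at h
    exact left_eq_mul.mp h
  have step1 : ∀ q, B 1 q = Ψ (1 * q) → B w4 q = Ψ (w4 * q) → ∀ p, B p q = Ψ (p * q) := by
    intro q h1 hw p
    rcases F4_cases p with rfl | rfl | rfl | rfl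
    · rw [hB0l, zero_mul, hΨ0]
    · exact h1
    · exact hw
    · rw [hB1, h1, hw, ← hΨ, ← add_mul]
  have s1 : ∀ p, B p 1 = Ψ (p * 1) :=
    step1 1 (by rw [one_mul]; exact h11) (by rw [mul_one]; exact hw1)
  have sw : ∀ p, B p w4 = Ψ (p * w4) :=
    step1 w4 (by rw [one_mul]; exact h1w) (by rw [w4_mul_w4]; exact hww)
  intro p q
  rcases F4_cases q with rfl | rfl | rfl | rfl
  · rw [hB0r, mul_zero, hΨ0]
  · exact s1 p
  · exact sw p
  · rw [hB2, s1, sw, ← hΨ, ← mul_add]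

/-- the Heisenberg group over `F4`: upper unitriangular `3 × 3` matrices
`!![1, p, r; 0, 1, q; 0, 0, 1]` -/
@[ext] structure Heis where
  p : F4
  q : F4
  r : F4

namespace Heis

instance instMulHeis : Mul Heis := ⟨fun a b => ⟨a.p + b.p, a.q + b.q, a.r + b.r + a.p * b.q⟩⟩

instance instOneHeis : One Heis := ⟨⟨0, 0, 0⟩⟩

instance instInvHeis : Inv Heis := ⟨fun a => ⟨-a.p, -a.q, -a.r + a.p * a.q⟩⟩

@[simp] theorem mul_p (a b : Heis) : (a * b).p = a.p + b.p := rfl

@[simp] theorem mul_q (a b : Heis) : (a * b).q = a.q + b.q := rfl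

@[simp] theorem mul_r (a b : Heis) : (a * b).r = a.r + b.r + a.p * b.q := rfl

@[simp] theorem one_p : (1 : Heis).p = 0 := rfl

@[simp] theorem one_q : (1 : Heis).q = 0 := rfl

@[simp] theorem one_r : (1 : Heis).r = 0 := rfl

@[simp] theorem inv_p (a : Heis) : a⁻¹.p = -a.p := rfl

@[simp] theorem inv_q (a : Heis) : a⁻¹.q = -a.q := rfl

@[simp] theorem inv_r (a : Heis) : a⁻¹.r = -a.r + a.p * a.q := rfl

instance instGroupHeis : Group Heis := Group.ofLeftAxioms
  (by intro a b c; refine Heis.ext ?_ ?_ ?_ <;> simp only [mul_p, mul_q, mul_r] <;> ring)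
  (by intro a; refine Heis.ext ?_ ?_ ?_ <;> simp only [mul_p, mul_q, mul_r, one_p, one_q, one_r]
        <;> ring)
  (by intro a; refine Heis.ext ?_ ?_ ?_ <;>
        simp only [mul_p, mul_q, mul_r, one_p, one_q, one_r, inv_p, inv_q, inv_r] <;> ring)

/-- coordinates -/
def equivTriple : Heis ≃ F4 × F4 × F4 where
  toFun a := (a.p, a.q, a.r)
  invFun t := ⟨t.1, t.2.1, t.2.2⟩
  left_inv _ := rfl
  right_inv _ := rfl

instance instFintypeHeis : Fintype Heis := Fintype.ofEquiv _ equivTriple.symm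

theorem card : Nat.card Heis = 64 := by
  rw [Nat.card_congr equivTriple, Nat.card_prod, Nat.card_prod, Nat.card_eq_fintype_card, card_F4]

/-- the matrix of an element -/
def mat (a : Heis) : Matrix (Fin 3) (Fin 3) F4 := !![1, a.p, a.r; 0, 1, a.q; 0, 0, 1]

theorem det_mat (a : Heis) : (mat a).det = 1 := by
  simp [mat, Matrix.det_fin_three]

theorem mat_one : mat 1 = 1 := by
  refine Matrix.ext fun i j => ?_
  fin_cases i <;> fin_cases j <;> simp [mat]

theorem mat_mul (a b : Heis) : mat (a * b) = mat a * mat b := by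
  refine Matrix.ext fun i j => ?_
  fin_cases i <;> fin_cases j <;> simp [mat, Matrix.mul_apply, Fin.sum_univ_three]
  all_goals ring

/-- into `SL_3(4)` -/
def toSL : Heis →* Matrix.SpecialLinearGroup (Fin 3) F4 where
  toFun a := ⟨mat a, det_mat a⟩
  map_one' := Subtype.ext mat_one
  map_mul' a b := Subtype.ext (mat_mul a b)

/-- into `PSL_3(4)` -/
def toPSL : Heis →* Matrix.ProjectiveSpecialLinearGroup (Fin 3) F4 :=
  (QuotientGroup.mk' (Subgroup.center (Matrix.SpecialLinearGroup (Fin 3) F4))).comp toSL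

theorem toPSL_injective : Function.Injective toPSL := by
  rw [injective_iff_map_eq_one]
  intro a ha
  have h1 : toSL a ∈ Subgroup.center (Matrix.SpecialLinearGroup (Fin 3) F4) := by
    have h : (QuotientGroup.mk' (Subgroup.center (Matrix.SpecialLinearGroup (Fin 3) F4)))
        (toSL a) = 1 := ha
    rwa [QuotientGroup.mk'_apply, QuotientGroup.eq_one_iff] at h
  rw [Matrix.SpecialLinearGroup.mem_center_iff] at h1
  obtain ⟨r, -, hr⟩ := h1
  have h01 := congrFun (congrFun hr 0) 1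
  have h02 := congrFun (congrFun hr 0) 2
  have h12 := congrFun (congrFun hr 1) 2
  have e01 : ((toSL a : Matrix.SpecialLinearGroup (Fin 3) F4) : Matrix (Fin 3) (Fin 3) F4) 0 1
      = a.p := rfl
  have e02 : ((toSL a : Matrix.SpecialLinearGroup (Fin 3) F4) : Matrix (Fin 3) (Fin 3) F4) 0 2
      = a.r := rfl
  have e12 : ((toSL a : Matrix.SpecialLinearGroup (Fin 3) F4) : Matrix (Fin 3) (Fin 3) F4) 1 2
      = a.q := rfl
  rw [e01] at h01
  rw [e02] at h02
  rw [e12] at h12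
  simp at h01 h02 h12
  refine Heis.ext ?_ ?_ ?_
  · exact h01.symm
  · exact h12.symm
  · exact h02.symm

theorem card_PSL34 : Nat.card (Matrix.ProjectiveSpecialLinearGroup (Fin 3) F4) = 20160 := by
  have h := Cfsg.Agent.Lib.helper6.card_PSL (F := F4) 3 (by norm_num)
  rw [card_F4, Fin.prod_univ_three] at h
  norm_num [-Nat.card_eq_fintype_card] at h
  omega

/-- the Heisenberg group is a Sylow 2-subgroup of `PSL_3(4)` -/
theorem exists_sylow : ∃ S : Sylow 2 (Matrix.ProjectiveSpecialLinearGroup (Fin 3) F4),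
    Nonempty (Heis ≃* ↥(S : Subgroup (Matrix.ProjectiveSpecialLinearGroup (Fin 3) F4))) := by
  haveI : Fact (Nat.Prime 2) := ⟨Nat.prime_two⟩
  have hcard : Nat.card toPSL.range = 64 := by
    rw [← card]
    exact Nat.card_congr (MonoidHom.ofInjective toPSL_injective).toEquiv.symm
  have hp : IsPGroup 2 toPSL.range := IsPGroup.of_card (n := 6) (by rw [hcard]; norm_num)
  have hidx : ¬ 2 ∣ toPSL.range.index := by
    have h1 := Subgroup.index_mul_card toPSL.range
    rw [hcard, card_PSL34] at h1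
    have h2 : toPSL.range.index = 315 := by omega
    rw [h2]; norm_num
  refine ⟨hp.toSylow hidx, ⟨?_⟩⟩
  have hcoe : ((hp.toSylow hidx : Sylow 2 (Matrix.ProjectiveSpecialLinearGroup (Fin 3) F4)) :
      Subgroup (Matrix.ProjectiveSpecialLinearGroup (Fin 3) F4)) = toPSL.range :=
    IsPGroup.toSylow_coe hp hidx
  exact (MonoidHom.ofInjective toPSL_injective).trans (MulEquiv.subgroupCongr hcoe.symm)

/-- a homomorphism from the Heisenberg group built from three "coordinate" maps -/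
def homOf {M : Type*} [Group M] (α β Ψ : F4 → M)
    (hα : ∀ p p', α (p + p') = α p * α p') (hβ : ∀ q q', β (q + q') = β q * β q')
    (hΨ : ∀ r r', Ψ (r + r') = Ψ r * Ψ r') (hΨc : ∀ r g, g * Ψ r = Ψ r * g)
    (hcomm : ∀ p q, α p * β q = β q * α p * Ψ (p * q)) : Heis →* M :=
  MonoidHom.mk' (fun a => β a.q * α a.p * Ψ a.r) (by
    intro a b
    simp only [mul_p, mul_q, mul_r]
    rw [hα, hβ, hΨ, hΨ]
    have hX : ∀ g, Ψ a.r * g = g * Ψ a.r := fun g => (hΨc a.r g).symm
    have hW : ∀ g, Ψ (a.p * b.q) * g = g * Ψ (a.p * b.q) := fun g => (hΨc _ g).symm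
    symm
    calc β a.q * α a.p * Ψ a.r * (β b.q * α b.p * Ψ b.r)
        = β a.q * α a.p * (Ψ a.r * (β b.q * α b.p)) * Ψ b.r := by group
      _ = β a.q * α a.p * ((β b.q * α b.p) * Ψ a.r) * Ψ b.r := by rw [hX]
      _ = β a.q * (α a.p * β b.q) * α b.p * (Ψ a.r * Ψ b.r) := by group
      _ = β a.q * (β b.q * α a.p * Ψ (a.p * b.q)) * α b.p * (Ψ a.r * Ψ b.r) := by rw [hcomm]
      _ = β a.q * β b.q * α a.p * (Ψ (a.p * b.q) * (α b.p * (Ψ a.r * Ψ b.r))) := by group
      _ = β a.q * β b.q * α a.p * ((α b.p * (Ψ a.r * Ψ b.r)) * Ψ (a.p * b.q)) := by rw [hW]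
      _ = β a.q * β b.q * (α a.p * α b.p) * (Ψ a.r * Ψ b.r * Ψ (a.p * b.q)) := by group)

theorem homOf_apply {M : Type*} [Group M] (α β Ψ : F4 → M)
    (hα : ∀ p p', α (p + p') = α p * α p') (hβ : ∀ q q', β (q + q') = β q * β q')
    (hΨ : ∀ r r', Ψ (r + r') = Ψ r * Ψ r') (hΨc : ∀ r g, g * Ψ r = Ψ r * g)
    (hcomm : ∀ p q, α p * β q = β q * α p * Ψ (p * q)) (a : Heis) :
    homOf α β Ψ hα hβ hΨ hΨc hcomm a = β a.q * α a.p * Ψ a.r := rfl

theorem homOf_injective {M : Type*} [Group M] (α β Ψ : F4 → M)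
    (hα : ∀ p p', α (p + p') = α p * α p') (hβ : ∀ q q', β (q + q') = β q * β q')
    (hΨ : ∀ r r', Ψ (r + r') = Ψ r * Ψ r') (hΨc : ∀ r g, g * Ψ r = Ψ r * g)
    (hcomm : ∀ p q, α p * β q = β q * α p * Ψ (p * q))
    (N₁ N₂ : Subgroup M) (h1 : ∀ p, α p ∈ N₁) (h1' : ∀ r, Ψ r ∈ N₁)
    (hβN : ∀ q, β q ∈ N₁ → q = 0) (h2 : ∀ r, Ψ r ∈ N₂) (hαN : ∀ p, α p ∈ N₂ → p = 0)
    (hΨ1 : ∀ r, Ψ r = 1 → r = 0) :
    Function.Injective (homOf α β Ψ hα hβ hΨ hΨc hcomm) := by
  have hα0 : α 0 = 1 := by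
    have h := hα 0 0
    rw [add_zero] at h
    exact left_eq_mul.mp h
  have hβ0 : β 0 = 1 := by
    have h := hβ 0 0
    rw [add_zero] at h
    exact left_eq_mul.mp h
  rw [injective_iff_map_eq_one]
  intro a ha
  rw [homOf_apply] at ha
  have hq : a.q = 0 := by
    apply hβN
    have h : β a.q = (α a.p * Ψ a.r)⁻¹ := by
      apply eq_inv_of_mul_eq_one_left
      rw [← ha]; group
    rw [h]
    exact inv_mem (mul_mem (h1 _) (h1' _))
  rw [hq, hβ0, one_mul] at ha
  have hp : a.p = 0 := by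
    apply hαN
    have h : α a.p = (Ψ a.r)⁻¹ := eq_inv_of_mul_eq_one_left ha
    rw [h]
    exact inv_mem (h2 _)
  rw [hp, hα0, one_mul] at ha
  have hr : a.r = 0 := hΨ1 _ ha
  exact Heis.ext hp hq hr

end Heis

end Heis4

end Cfsg.Agent.Lib.helper26
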