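import Mathlib
import Cfsg.Agent.Lib.helper26.Fpf3

/-!
Nonabelian groups of order 64 with a fixed-point-free automorphism of order 3 (helper26):
the centre `Z` is a four-group, `T/Z` is elementary abelian (class two, squares central),
and the commutator map is "`F₄`-bilinear": `[ρ a, b] = [a, ρ b] = ρ² [a, b]`.
-/

set_option autoImplicit false

namespace Cfsg.Agent.Lib.helper26

namespace S64

open Fpf3

variable {T : Type*} [Group T] [Finite T] {ρ : MulAut T}

/-- standing hypotheses -/
structure Hyp64 (ρ : MulAut T) : Prop where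
  hyp : Fpf3.Hyp ρ
  card : Nat.card T = 64
  na : ¬ ∀ a b : T, a * b = b * a

/-- the abelian invariant subgroup `⟨a, ρ a, Z⟩` -/
def A (ρ : MulAut T) (a : T) : Subgroup T :=
  Subgroup.closure ({a, ρ a} ∪ (Subgroup.center T : Set T))

theorem self_mem_A (a : T) : a ∈ A ρ a :=
  Subgroup.subset_closure (Or.inl (by simp))

theorem rho_mem_A (a : T) : ρ a ∈ A ρ a :=
  Subgroup.subset_closure (Or.inl (by simp))

theorem center_le_A (a : T) : Subgroup.center T ≤ A ρ a :=
  fun _ hz => Subgroup.subset_closure (Or.inr hz)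

theorem A_comm (h : Fpf3.Hyp ρ) (a : T) : ∀ p ∈ A ρ a, ∀ q ∈ A ρ a, p * q = q * p := by
  have hgen : ∀ s ∈ ({a, ρ a} ∪ (Subgroup.center T : Set T)),
      ∀ t ∈ ({a, ρ a} ∪ (Subgroup.center T : Set T)), s * t = t * s := by
    intro s hs t ht
    rcases hs with hs | hs
    · rcases ht with ht | ht
      · rcases hs with rfl | hs <;> rcases ht with rfl | ht
        · rfl
        · rw [Set.mem_singleton_iff] at ht; rw [ht]; exact comm_rho h s
        · rw [Set.mem_singleton_iff] at hs; rw [hs]; exact (comm_rho h t).symm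
        · rw [Set.mem_singleton_iff] at hs ht; rw [hs, ht]
      · exact (Subgroup.mem_center_iff.mp ht s)
    · exact (Subgroup.mem_center_iff.mp hs t).symm
  have h1 : ∀ s ∈ ({a, ρ a} ∪ (Subgroup.center T : Set T)), ∀ q ∈ A ρ a, s * q = q * s := by
    intro s hs q hq
    induction hq using Subgroup.closure_induction with
    | mem t ht => exact hgen s hs t ht
    | one => simp
    | mul x y _ _ hx hy => rw [← mul_assoc, hx, mul_assoc, hy, mul_assoc]
    | inv x _ hx =>
      calc s * x⁻¹ = x⁻¹ * (x * s) * x⁻¹ := by group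
        _ = x⁻¹ * (s * x) * x⁻¹ := by rw [hx]
        _ = x⁻¹ * s := by group
  intro p hp q hq
  induction hp using Subgroup.closure_induction with
  | mem s hs => exact h1 s hs q hq
  | one => simp
  | mul x y _ _ hx hy => rw [mul_assoc, hy, ← mul_assoc, hx, mul_assoc]
  | inv x _ hx =>
    calc x⁻¹ * q = x⁻¹ * (q * x) * x⁻¹ := by group
      _ = x⁻¹ * (x * q) * x⁻¹ := by rw [hx]
      _ = q * x⁻¹ := by group

theorem A_inv (h : Fpf3.Hyp ρ) (a : T) : ∀ y ∈ A ρ a, ρ y ∈ A ρ a := by
  apply rho_mem_closure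
  intro s hs
  rcases hs with hs | hs
  · rcases hs with rfl | hs
    · exact rho_mem_A s
    · rw [Set.mem_singleton_iff] at hs
      rw [hs, rho2_eq h a]
      exact inv_mem (mul_mem (self_mem_A a) (rho_mem_A a))
  · exact center_le_A a (rho_mem_center ρ hs)

theorem center_inv : ∀ y ∈ Subgroup.center T, ρ y ∈ Subgroup.center T :=
  fun _ hy => rho_mem_center ρ hy

theorem isPGroup (H : Hyp64 ρ) : IsPGroup 2 T := IsPGroup.of_card (n := 6) (by rw [H.card]; norm_num)

theorem card_center_cases (H : Hyp64 ρ) :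
    Nat.card (Subgroup.center T) = 4 ∨ Nat.card (Subgroup.center T) = 16 := by
  haveI : Fact (Nat.Prime 2) := ⟨Nat.prime_two⟩
  haveI : Nontrivial T := by
    apply (Finite.one_lt_card_iff_nontrivial).mp
    rw [H.card]; norm_num
  haveI := (isPGroup H).center_nontrivial
  have h1 : 1 < Nat.card (Subgroup.center T) := Finite.one_lt_card_iff_nontrivial.mpr inferInstance
  rcases card_cases H.hyp H.card (Subgroup.center T) center_inv with h | h | h | h
  · omega
  · exact Or.inl h
  · exact Or.inr h
  · exfalso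
    have htop : Subgroup.center T = ⊤ := Subgroup.eq_top_of_card_eq _ (by rw [h, H.card])
    apply H.na
    intro a b
    have : a ∈ Subgroup.center T := by rw [htop]; trivial
    exact (Subgroup.mem_center_iff.mp this b).symm

theorem card_A_and_center (H : Hyp64 ρ) {a : T} (ha : a ∉ Subgroup.center T) :
    Nat.card (A ρ a) = 16 ∧ Nat.card (Subgroup.center T) = 4 := by
  have hlt : Nat.card (Subgroup.center T) < Nat.card (A ρ a) := by
    by_contra hle
    push_neg at hle
    have := Subgroup.eq_of_le_of_card_ge (center_le_A (ρ := ρ) a) hle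
    exact ha (this ▸ self_mem_A a)
  have hne : Nat.card (A ρ a) ≠ 64 := by
    intro h64
    have htop : A ρ a = ⊤ := Subgroup.eq_top_of_card_eq _ (by rw [h64, H.card])
    apply H.na
    intro p q
    exact A_comm H.hyp a p (by rw [htop]; trivial) q (by rw [htop]; trivial)
  rcases card_cases H.hyp H.card (A ρ a) (A_inv H.hyp a) with h | h | h | h <;>
    rcases card_center_cases H with h' | h' <;> omega

theorem card_center (H : Hyp64 ρ) : Nat.card (Subgroup.center T) = 4 := by
  by_contra hne
  apply H.na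
  intro a b
  by_contra hab
  have ha : a ∉ Subgroup.center T := by
    intro ha
    exact hab (Subgroup.mem_center_iff.mp ha b).symm
  exact hne (card_A_and_center H ha).2

theorem card_A (H : Hyp64 ρ) {a : T} (ha : a ∉ Subgroup.center T) : Nat.card (A ρ a) = 16 :=
  (card_A_and_center H ha).1

/-- a `ρ`-invariant subgroup containing `A a` (`a` not central) is `A a` or everything -/
theorem eq_A_or_top (H : Hyp64 ρ) {a : T} (ha : a ∉ Subgroup.center T) (K : Subgroup T)
    (hK : ∀ y ∈ K, ρ y ∈ K) (hAK : A ρ a ≤ K) : K = A ρ a ∨ K = ⊤ := by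
  have h16 := card_A H ha
  have hle := Subgroup.card_le_of_le hAK
  rcases card_cases H.hyp H.card K hK with h | h | h | h
  · omega
  · omega
  · left
    exact (Subgroup.eq_of_le_of_card_ge hAK (by rw [h, h16])).symm
  · right
    exact Subgroup.eq_top_of_card_eq _ (by rw [h, H.card])

theorem centralizer_A (H : Hyp64 ρ) {a : T} (ha : a ∉ Subgroup.center T) :
    Subgroup.centralizer (A ρ a : Set T) = A ρ a := by
  have hinv : ∀ y ∈ Subgroup.centralizer (A ρ a : Set T), ρ y ∈ Subgroup.centralizer (A ρ a : Set T) := by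
    intro y hy
    rw [Subgroup.mem_centralizer_iff] at hy ⊢
    intro g hg
    obtain ⟨w, hw, rfl⟩ := exists_rho_eq H.hyp (A_inv H.hyp a) hg
    rw [← map_mul, ← map_mul, hy w hw]
  have hle : A ρ a ≤ Subgroup.centralizer (A ρ a : Set T) := by
    intro p hp
    rw [Subgroup.mem_centralizer_iff]
    intro q hq
    exact A_comm H.hyp a q hq p hp
  rcases eq_A_or_top H ha _ hinv hle with h | h
  · exact h
  · exfalso
    apply ha
    rw [Subgroup.mem_center_iff]
    intro g
    have hg : g ∈ Subgroup.centralizer (A ρ a : Set T) := by rw [h]; trivial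
    exact (Subgroup.mem_centralizer_iff.mp hg a (self_mem_A a)).symm

theorem normal_A (H : Hyp64 ρ) {a : T} (ha : a ∉ Subgroup.center T) : (A ρ a).Normal := by
  haveI : Fact (Nat.Prime 2) := ⟨Nat.prime_two⟩
  haveI : Group.IsNilpotent T := (isPGroup H).isNilpotent
  have hinv : ∀ y ∈ Subgroup.normalizer (A ρ a : Set T), ρ y ∈ Subgroup.normalizer (A ρ a : Set T) := by
    intro y hy
    rw [Subgroup.mem_normalizer_iff] at hy ⊢
    intro g
    have hg : g = ρ (ρ (ρ g)) := (H.hyp.cube g).symm
    constructor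
    · intro hgA
      obtain ⟨w, hw, rfl⟩ := exists_rho_eq H.hyp (A_inv H.hyp a) hgA
      rw [← map_mul, ← map_inv, ← map_mul]
      exact A_inv H.hyp a _ ((hy w).mp hw)
    · intro hgA
      -- ρ y * g * (ρ y)⁻¹ = ρ (y * w * y⁻¹) with w = ρ (ρ g)
      have e : ρ y * g * (ρ y)⁻¹ = ρ (y * ρ (ρ g) * y⁻¹) := by
        rw [map_mul, map_mul, map_inv, H.hyp.cube]
      rw [e] at hgA
      have h2 : y * ρ (ρ g) * y⁻¹ ∈ A ρ a := by
        have := A_inv H.hyp a _ (A_inv H.hyp a _ hgA)
        rwa [H.hyp.cube] at this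
      have h3 : ρ (ρ g) ∈ A ρ a := (hy _).mpr h2
      have := A_inv H.hyp a _ h3
      rwa [H.hyp.cube] at this
  have hle : A ρ a ≤ Subgroup.normalizer (A ρ a : Set T) := Subgroup.le_normalizer
  rcases eq_A_or_top H ha _ hinv hle with h | h
  · exfalso
    have hlt : A ρ a < ⊤ := by
      rw [lt_top_iff_ne_top]
      intro htop
      have := card_A H ha
      rw [htop, Subgroup.card_top, H.card] at this
      omega
    have := normalizerCondition_of_isNilpotent (A ρ a) hlt
    rw [h] at this
    exact lt_irrefl _ this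
  · exact Subgroup.normalizer_eq_top_iff.mp h

/-- the commutator -/
def cm (a b : T) : T := a * b * a⁻¹ * b⁻¹

theorem cm_mem_center (H : Hyp64 ρ) (a b : T) : cm a b ∈ Subgroup.center T := by
  by_cases ha : a ∈ Subgroup.center T
  · have : cm a b = 1 := by
      unfold cm
      rw [← Subgroup.mem_center_iff.mp ha b]; group
    rw [this]; exact one_mem _
  by_cases hb : b ∈ A ρ a
  · have : cm a b = 1 := by
      unfold cm
      rw [A_comm H.hyp a a (self_mem_A a) b hb]; group
    rw [this]; exact one_mem _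
  have hbZ : b ∉ Subgroup.center T := fun hbZ => hb (center_le_A a hbZ)
  haveI := normal_A H ha
  haveI := normal_A H hbZ
  have h1 : cm a b ∈ A ρ a := by
    have : cm a b = a * (b * a⁻¹ * b⁻¹) := by unfold cm; group
    rw [this]
    exact mul_mem (self_mem_A a) (Subgroup.Normal.conj_mem inferInstance _ (inv_mem (self_mem_A a)) b)
  have h2 : cm a b ∈ A ρ b := by
    have : cm a b = (a * b * a⁻¹) * b⁻¹ := by unfold cm; group
    rw [this]
    exact mul_mem (Subgroup.Normal.conj_mem inferInstance _ (self_mem_A b) a) (inv_mem (self_mem_A b))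
  -- A a ⊓ A b = Z
  have hinv : ∀ y ∈ A ρ a ⊓ A ρ b, ρ y ∈ A ρ a ⊓ A ρ b :=
    fun y hy => ⟨A_inv H.hyp a y hy.1, A_inv H.hyp b y hy.2⟩
  have hZle : Subgroup.center T ≤ A ρ a ⊓ A ρ b := le_inf (center_le_A a) (center_le_A b)
  have hcard : Nat.card ↥(A ρ a ⊓ A ρ b) = 4 := by
    have hle1 := Subgroup.card_le_of_le (inf_le_left : A ρ a ⊓ A ρ b ≤ A ρ a)
    have hge := Subgroup.card_le_of_le hZle
    rw [card_center H] at hge
    rw [card_A H ha] at hle1
    rcases card_cases H.hyp H.card _ hinv with h | h | h | h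
    · omega
    · exact h
    · exfalso
      have e1 : A ρ a ⊓ A ρ b = A ρ a :=
        Subgroup.eq_of_le_of_card_ge inf_le_left (by rw [h, card_A H ha])
      have e2 : A ρ a ⊓ A ρ b = A ρ b :=
        Subgroup.eq_of_le_of_card_ge inf_le_right (by rw [h, card_A H hbZ])
      apply hb
      rw [← e1, e2]; exact self_mem_A b
    · omega
  have hZ : Subgroup.center T = A ρ a ⊓ A ρ b :=
    Subgroup.eq_of_le_of_card_ge hZle (by rw [hcard, card_center H])
  rw [hZ]; exact ⟨h1, h2⟩

end S64

end Cfsg.Agent.Lib.helper26
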