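import Mathlib
import Cfsg.Agent.Lib.helper26.Special64

/-!
Nonabelian groups of order 64 with a fixed-point-free automorphism `ρ` of order 3 (helper26),
part 2: the centre has exponent 2, squares are central, commutator calculus
(`cm` is bimultiplicative, symmetric and `[ρ a, b] = [a, ρ b] = ρ² [a, b]`).
-/

set_option autoImplicit false

namespace Cfsg.Agent.Lib.helper26

namespace S64

open Fpf3

variable {T : Type*} [Group T] [Finite T] {ρ : MulAut T}

theorem exists_center_ne_one (H : Hyp64 ρ) : ∃ c ∈ Subgroup.center T, c ≠ 1 := by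
  by_contra hcon
  push_neg at hcon
  have hbot : Subgroup.center T = ⊥ := (Subgroup.eq_bot_iff_forall _).mpr hcon
  have h4 := card_center H
  rw [hbot, Subgroup.card_bot] at h4
  omega

/-- central elements are involutions -/
theorem center_sq (H : Hyp64 ρ) {z : T} (hz : z ∈ Subgroup.center T) : z * z = 1 := by
  let Ω : Subgroup T :=
    { carrier := {z | z ∈ Subgroup.center T ∧ z * z = 1}
      mul_mem' := by
        rintro a b ⟨ha, ha2⟩ ⟨hb, hb2⟩
        refine ⟨mul_mem ha hb, ?_⟩
        have hc : b * a = a * b := Subgroup.mem_center_iff.mp ha b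
        calc a * b * (a * b) = a * (b * a) * b := by group
          _ = a * (a * b) * b := by rw [hc]
          _ = (a * a) * (b * b) := by group
          _ = 1 := by rw [ha2, hb2, one_mul]
      one_mem' := ⟨one_mem _, by simp⟩
      inv_mem' := by
        rintro a ⟨ha, ha2⟩
        refine ⟨inv_mem ha, ?_⟩
        rw [← mul_inv_rev, ha2, inv_one] }
  have hΩmem : ∀ y, y ∈ Ω ↔ (y ∈ Subgroup.center T ∧ y * y = 1) := fun y => Iff.rfl
  have hΩinv : ∀ y ∈ Ω, ρ y ∈ Ω := by
    intro y hy
    rw [hΩmem] at hy ⊢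
    exact ⟨rho_mem_center ρ hy.1, by rw [← map_mul, hy.2, map_one]⟩
  have hΩle : Ω ≤ Subgroup.center T := fun y hy => ((hΩmem y).mp hy).1
  have hcardle := Subgroup.card_le_of_le hΩle
  rw [card_center H] at hcardle
  have hΩ4 : Nat.card Ω = 4 := by
    rcases card_cases H.hyp H.card Ω hΩinv with h | h | h | h
    · exfalso
      have hbot : Ω = ⊥ := Subgroup.card_eq_one.mp h
      obtain ⟨c, hc, hc1⟩ := exists_center_ne_one H
      have hc4 : c ^ 4 = 1 := by
        have h4 : (⟨c, hc⟩ : Subgroup.center T) ^ Nat.card (Subgroup.center T) = 1 :=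
          pow_card_eq_one'
        rw [card_center H] at h4
        have := congrArg Subtype.val h4
        simpa using this
      have hcc : c * c ∈ Ω := by
        rw [hΩmem]
        refine ⟨mul_mem hc hc, ?_⟩
        calc c * c * (c * c) = c ^ 4 := by simp [pow_succ, mul_assoc]
          _ = 1 := hc4
      rw [hbot, Subgroup.mem_bot] at hcc
      have hcΩ : c ∈ Ω := (hΩmem c).mpr ⟨hc, hcc⟩
      rw [hbot, Subgroup.mem_bot] at hcΩ
      exact hc1 hcΩ
    · exact h
    · omega
    · omega
  have hΩZ : Ω = Subgroup.center T :=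
    Subgroup.eq_of_le_of_card_ge hΩle (by rw [hΩ4, card_center H])
  have hz' : z ∈ Ω := by rw [hΩZ]; exact hz
  exact ((hΩmem z).mp hz').2

theorem center_inv_eq (H : Hyp64 ρ) {z : T} (hz : z ∈ Subgroup.center T) : z⁻¹ = z :=
  inv_eq_of_mul_eq_one_left (center_sq H hz)

theorem center_rho2 (H : Hyp64 ρ) {z : T} (hz : z ∈ Subgroup.center T) : ρ (ρ z) = z * ρ z := by
  rw [rho2_eq H.hyp z, center_inv_eq H (mul_mem hz (rho_mem_center ρ hz))]

theorem cm_self (a : T) : cm a a = 1 := by unfold cm; group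

theorem cm_one_left (a : T) : cm 1 a = 1 := by unfold cm; group

theorem cm_one_right (a : T) : cm a 1 = 1 := by unfold cm; group

theorem cm_eq_one_iff (a b : T) : cm a b = 1 ↔ a * b = b * a := by
  unfold cm
  constructor
  · intro h
    have : a * b = (a * b * a⁻¹ * b⁻¹) * (b * a) := by group
    rw [this, h, one_mul]
  · intro h
    rw [h]; group

theorem map_cm (σ : MulAut T) (a b : T) : σ (cm a b) = cm (σ a) (σ b) := by
  unfold cm; simp

theorem cm_mul_left (H : Hyp64 ρ) (a b c : T) : cm (a * b) c = cm a c * cm b c := by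
  have h := Subgroup.mem_center_iff.mp (cm_mem_center H b c)
  calc cm (a * b) c = a * cm b c * a⁻¹ * cm a c := by unfold cm; group
    _ = cm b c * a * a⁻¹ * cm a c := by rw [h a]
    _ = cm b c * cm a c := by group
    _ = cm a c * cm b c := (h (cm a c)).symm

theorem cm_mul_right (H : Hyp64 ρ) (a b c : T) : cm a (b * c) = cm a b * cm a c := by
  have h := Subgroup.mem_center_iff.mp (cm_mem_center H a c)
  calc cm a (b * c) = cm a b * (b * cm a c) * b⁻¹ := by unfold cm; group
    _ = cm a b * (cm a c * b) * b⁻¹ := by rw [h b]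
    _ = cm a b * cm a c := by group

theorem cm_sq (H : Hyp64 ρ) (a b : T) : cm a b * cm a b = 1 := center_sq H (cm_mem_center H a b)

theorem cm_symm (H : Hyp64 ρ) (a b : T) : cm b a = cm a b := by
  have h1 : cm b a = (cm a b)⁻¹ := by unfold cm; group
  rw [h1, center_inv_eq H (cm_mem_center H a b)]

theorem cm_center_left {z : T} (hz : z ∈ Subgroup.center T) (b : T) : cm z b = 1 :=
  (cm_eq_one_iff _ _).mpr (Subgroup.mem_center_iff.mp hz b).symm

theorem cm_center_right {z : T} (hz : z ∈ Subgroup.center T) (b : T) : cm b z = 1 :=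
  (cm_eq_one_iff _ _).mpr (Subgroup.mem_center_iff.mp hz b)

theorem cm_inv_left (H : Hyp64 ρ) (a b : T) : cm a⁻¹ b = cm a b := by
  have h := cm_mul_left H a a⁻¹ b
  rw [mul_inv_cancel, cm_one_left] at h
  have h2 : cm a⁻¹ b = (cm a b)⁻¹ := eq_inv_of_mul_eq_one_right h.symm
  rw [h2, center_inv_eq H (cm_mem_center H a b)]

theorem sq_mem_center (H : Hyp64 ρ) (y : T) : y * y ∈ Subgroup.center T := by
  rw [Subgroup.mem_center_iff]
  intro g
  have h : cm (y * y) g = 1 := by rw [cm_mul_left H, cm_sq H]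
  exact ((cm_eq_one_iff _ _).mp h).symm

theorem mul_sq (H : Hyp64 ρ) (a b : T) : (a * b) * (a * b) = a * a * (b * b) * cm a b := by
  have hc := Subgroup.mem_center_iff.mp (cm_mem_center H b a)
  calc a * b * (a * b) = (a * cm b a) * a * b * b := by unfold cm; group
    _ = (cm b a * a) * a * b * b := by rw [hc a]
    _ = cm b a * (a * a * (b * b)) := by group
    _ = a * a * (b * b) * cm b a := (hc _).symm
    _ = a * a * (b * b) * cm a b := by rw [cm_symm H a b]

theorem cm_rho2_left (H : Hyp64 ρ) (a b : T) : cm (ρ (ρ a)) b = cm a b * cm (ρ a) b := by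
  rw [rho2_eq H.hyp a, cm_inv_left H, cm_mul_left H]

theorem cm_rho2_right (H : Hyp64 ρ) (a b : T) : cm a (ρ (ρ b)) = cm a b * cm a (ρ b) := by
  rw [cm_symm H (ρ (ρ b)) a, cm_rho2_left H, cm_symm H a b, cm_symm H a (ρ b)]

theorem cm_rho_aux (H : Hyp64 ρ) (a b : T) :
    cm (ρ a) b = cm a (ρ b) ∧ cm (ρ a) b = ρ (ρ (cm a b)) := by
  have hzZ : cm a b ∈ Subgroup.center T := cm_mem_center H a b
  have hpZ : cm (ρ a) b ∈ Subgroup.center T := cm_mem_center H _ _
  have hqZ : cm a (ρ b) ∈ Subgroup.center T := cm_mem_center H _ _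
  have h2 : ρ (cm (ρ a) b) = cm a (ρ b) * ρ (cm a b) := by
    rw [map_cm, map_cm]
    exact cm_rho2_left H a (ρ b)
  have h2' : ρ (cm a (ρ b)) = cm (ρ a) b * ρ (cm a b) := by
    rw [map_cm, map_cm]
    exact cm_rho2_right H (ρ a) b
  have hpq : cm (ρ a) b * cm a (ρ b) = 1 := by
    apply H.hyp.fp
    rw [map_mul, h2, h2']
    have hc2 := Subgroup.mem_center_iff.mp hpZ
    calc cm a (ρ b) * ρ (cm a b) * (cm (ρ a) b * ρ (cm a b))
        = cm a (ρ b) * (ρ (cm a b) * cm (ρ a) b) * ρ (cm a b) := by group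
      _ = cm a (ρ b) * (cm (ρ a) b * ρ (cm a b)) * ρ (cm a b) := by rw [hc2 (ρ (cm a b))]
      _ = cm a (ρ b) * cm (ρ a) b * (ρ (cm a b) * ρ (cm a b)) := by group
      _ = cm a (ρ b) * cm (ρ a) b := by rw [center_sq H (rho_mem_center ρ hzZ), mul_one]
      _ = cm (ρ a) b * cm a (ρ b) := hc2 _
  have hpq' : cm (ρ a) b = cm a (ρ b) := by
    have h : cm (ρ a) b = (cm a (ρ b))⁻¹ := eq_inv_of_mul_eq_one_left hpq
    rw [h, center_inv_eq H hqZ]
  refine ⟨hpq', ?_⟩
  have h3 : ρ (cm (ρ a) b) = cm (ρ a) b * ρ (cm a b) := by rw [h2, ← hpq']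
  have h4 : ρ (cm a b) = ρ (ρ (cm (ρ a) b)) := by
    rw [center_rho2 H hpZ, h3, ← mul_assoc, center_sq H hpZ, one_mul]
  rw [h4, H.hyp.cube]

theorem cm_rho_left (H : Hyp64 ρ) (a b : T) : cm (ρ a) b = ρ (ρ (cm a b)) := (cm_rho_aux H a b).2

theorem cm_rho_right (H : Hyp64 ρ) (a b : T) : cm a (ρ b) = ρ (ρ (cm a b)) := by
  rw [← (cm_rho_aux H a b).1]; exact cm_rho_left H a b

/-- the centre is `{1, c, ρ c, ρ² c}` for any central `c ≠ 1` -/
theorem center_cases (H : Hyp64 ρ) {c : T} (hc : c ∈ Subgroup.center T) (hc1 : c ≠ 1) {z : T}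
    (hz : z ∈ Subgroup.center T) : z = 1 ∨ z = c ∨ z = ρ c ∨ z = ρ (ρ c) := by
  classical
  by_contra hcon
  push_neg at hcon
  obtain ⟨h1, h2, h3, h4⟩ := hcon
  have hsub : ((({1, c, ρ c, ρ (ρ c), z} : Finset T)) : Set T) ⊆ (Subgroup.center T : Set T) := by
    intro y hy
    simp only [Finset.coe_insert, Finset.coe_singleton, Set.mem_insert_iff,
      Set.mem_singleton_iff] at hy
    rcases hy with rfl | rfl | rfl | rfl | rfl
    · exact one_mem _
    · exact hc
    · exact rho_mem_center ρ hc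
    · exact rho_mem_center ρ (rho_mem_center ρ hc)
    · exact hz
  have hle := Set.ncard_le_ncard hsub (Set.toFinite _)
  rw [Set.ncard_coe_finset] at hle
  have hZ4 : (Subgroup.center T : Set T).ncard = 4 := by
    rw [← card_center H]; rfl
  have e1 : (1 : T) ∉ ({c, ρ c, ρ (ρ c), z} : Finset T) := by
    simp only [Finset.mem_insert, Finset.mem_singleton, not_or]
    exact ⟨hc1.symm, (rho_ne_one H.hyp hc1).symm,
      (rho_ne_one H.hyp (rho_ne_one H.hyp hc1)).symm, h1.symm⟩
  have e2 : c ∉ ({ρ c, ρ (ρ c), z} : Finset T) := by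
    simp only [Finset.mem_insert, Finset.mem_singleton, not_or]
    exact ⟨(rho_ne_self H.hyp hc1).symm, (rho2_ne_self H.hyp hc1).symm, h2.symm⟩
  have e3 : ρ c ∉ ({ρ (ρ c), z} : Finset T) := by
    simp only [Finset.mem_insert, Finset.mem_singleton, not_or]
    exact ⟨(rho2_ne_rho H.hyp hc1).symm, h3.symm⟩
  have e4 : ρ (ρ c) ∉ ({z} : Finset T) := by
    simp only [Finset.mem_singleton]
    exact h4.symm
  rw [Finset.card_insert_of_notMem e1, Finset.card_insert_of_notMem e2,
    Finset.card_insert_of_notMem e3, Finset.card_insert_of_notMem e4, Finset.card_singleton,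
    hZ4] at hle
  omega

/-- an element commuting with a noncentral `a` lies in `A a` -/
theorem mem_A_of_cm (H : Hyp64 ρ) {a : T} (ha : a ∉ Subgroup.center T) {w : T}
    (h : cm a w = 1) : w ∈ A ρ a := by
  rw [← centralizer_A H ha]
  have hle : A ρ a ≤ Subgroup.centralizer ({w} : Set T) := by
    unfold A
    rw [Subgroup.closure_le]
    intro s hs
    rw [SetLike.mem_coe, Subgroup.mem_centralizer_iff]
    intro g hg
    rw [Set.mem_singleton_iff] at hg
    subst hg
    rcases hs with hs | hs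
    · rcases hs with rfl | hs
      · exact ((cm_eq_one_iff _ _).mp h).symm
      · rw [Set.mem_singleton_iff] at hs
        subst hs
        have h' : cm (ρ a) g = 1 := by rw [cm_rho_left H, h, map_one, map_one]
        exact ((cm_eq_one_iff _ _).mp h').symm
    · exact Subgroup.mem_center_iff.mp hs g
  rw [Subgroup.mem_centralizer_iff]
  intro g hg
  exact (Subgroup.mem_centralizer_iff.mp (hle hg) w rfl).symm

end S64

end Cfsg.Agent.Lib.helper26
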