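import Mathlib
import Cfsg.Agent.Lib.helper26.Special64b

/-!
Nonabelian groups of order 64 with a fixed-point-free automorphism `ρ` of order 3 and an
involutory automorphism `x` inverting `ρ` (helper26), part 3: the fixed points `C` of `x`
form a nonabelian group of order 8, and `T` contains two non-commuting involutions.
-/

set_option autoImplicit false

namespace Cfsg.Agent.Lib.helper26

namespace S64

open Fpf3

variable {T : Type*} [Group T] [Finite T] {ρ x : MulAut T}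

/-- an involutory automorphism inverting `ρ` -/
structure HypX (ρ x : MulAut T) : Prop where
  invol : ∀ y : T, x (x y) = y
  rel : ∀ y : T, x (ρ y) = ρ (ρ (x y))

omit [Finite T] in
theorem HypX.of_order (h : Fpf3.Hyp ρ) (hx : orderOf x = 2) (hxr : x * ρ * x⁻¹ = ρ⁻¹) :
    HypX ρ x := by
  constructor
  · intro y
    have h2 : x ^ 2 = 1 := by rw [← hx]; exact pow_orderOf_eq_one x
    have := congrArg (fun f : MulAut T => f y) h2
    simpa [pow_succ, MulAut.mul_apply] using this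
  · intro y
    have h1 : x * ρ = ρ⁻¹ * x := by rw [← hxr]; group
    have h2 := congrArg (fun f : MulAut T => f y) h1
    simp only [MulAut.mul_apply] at h2
    rw [h2]
    have h3 : ρ⁻¹ (x y) = ρ⁻¹ (ρ (ρ (ρ (x y)))) := by rw [h.cube]
    rw [h3, MulAut.inv_apply_self]

omit [Finite T] in
theorem x_rho2 (X : HypX ρ x) (h : Fpf3.Hyp ρ) (y : T) : x (ρ (ρ y)) = ρ (x y) := by
  rw [X.rel, X.rel, h.cube]

theorem exists_z0 (H : Hyp64 ρ) (X : HypX ρ x) :
    ∃ z0 ∈ Subgroup.center T, z0 ≠ 1 ∧ x z0 = z0 := by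
  obtain ⟨c, hc, hc1⟩ := exists_center_ne_one H
  have hxc : x c ∈ Subgroup.center T := rho_mem_center x hc
  have hxc1 : x c ≠ 1 := by
    intro h
    apply hc1
    have := congrArg x h
    rw [X.invol, map_one] at this
    exact this
  rcases center_cases H hc hc1 hxc with h | h | h | h
  · exact absurd h hxc1
  · exact ⟨c, hc, hc1, h⟩
  · refine ⟨ρ (ρ c), rho_mem_center ρ (rho_mem_center ρ hc),
      rho_ne_one H.hyp (rho_ne_one H.hyp hc1), ?_⟩
    rw [x_rho2 X H.hyp, h]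
  · refine ⟨ρ c, rho_mem_center ρ hc, rho_ne_one H.hyp hc1, ?_⟩
    rw [X.rel, h, H.hyp.cube]

theorem fixed_center (H : Hyp64 ρ) (X : HypX ρ x) {z0 : T} (hz0 : z0 ∈ Subgroup.center T)
    (hz01 : z0 ≠ 1) (hxz0 : x z0 = z0) {z : T} (hz : z ∈ Subgroup.center T) (hxz : x z = z) :
    z = 1 ∨ z = z0 := by
  rcases center_cases H hz0 hz01 hz with h | h | h | h
  · exact Or.inl h
  · exact Or.inr h
  · exfalso
    rw [h, X.rel, hxz0] at hxz
    exact rho2_ne_rho H.hyp hz01 hxz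
  · exfalso
    rw [h, x_rho2 X H.hyp, hxz0] at hxz
    exact rho2_ne_rho H.hyp hz01 hxz.symm

theorem fixed_or (H : Hyp64 ρ) (X : HypX ρ x) {z0 : T} (hz0 : z0 ∈ Subgroup.center T)
    (hz01 : z0 ≠ 1) (hxz0 : x z0 = z0) {w : T} (hw : w⁻¹ * x w ∈ Subgroup.center T) :
    x w = w ∨ x (w * ρ z0) = w * ρ z0 := by
  have hd : x (w⁻¹ * x w) = w⁻¹ * x w := by
    rw [map_mul, map_inv, X.invol]
    have := center_inv_eq H hw
    rw [mul_inv_rev, inv_inv] at this
    exact this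
  rcases fixed_center H X hz0 hz01 hxz0 hw hd with h | h
  · left
    exact (inv_mul_eq_one.mp h).symm
  · right
    have hxw : x w = w * z0 := by rw [← h]; group
    rw [map_mul, hxw, X.rel, hxz0, center_rho2 H hz0]
    calc w * z0 * (z0 * ρ z0) = w * (z0 * z0) * ρ z0 := by group
      _ = w * ρ z0 := by rw [center_sq H hz0, mul_one]

variable (C : Subgroup T)

omit [Finite T] in
theorem C_rho_inter (h : Fpf3.Hyp ρ) (X : HypX ρ x) (hC : ∀ y : T, y ∈ C ↔ x y = y) {e : T}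
    (he : e ∈ C) (hρe : ρ e ∈ C) : e = 1 := by
  have h1 : x (ρ e) = ρ e := (hC _).mp hρe
  rw [X.rel, (hC e).mp he] at h1
  have h2 := h.fp _ h1
  by_contra hne
  exact rho_ne_one h hne h2

omit [Finite T] in
theorem C_pair_injective (h : Fpf3.Hyp ρ) (X : HypX ρ x) (hC : ∀ y : T, y ∈ C ↔ x y = y) :
    Function.Injective (fun p : C × C => (p.1 : T) * ρ (p.2 : T)) := by
  rintro ⟨a, b⟩ ⟨a', b'⟩ hab
  simp only at hab
  have h1 : (a' : T)⁻¹ * a = ρ ((b' : T) * (b : T)⁻¹) := by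
    rw [map_mul, map_inv]
    calc (a' : T)⁻¹ * a = (a' : T)⁻¹ * (a * ρ b) * (ρ (b : T))⁻¹ := by group
      _ = (a' : T)⁻¹ * (a' * ρ b') * (ρ (b : T))⁻¹ := by rw [hab]
      _ = ρ b' * (ρ (b : T))⁻¹ := by group
  have he : (b' : T) * (b : T)⁻¹ ∈ C := mul_mem b'.2 (inv_mem b.2)
  have hρe : ρ ((b' : T) * (b : T)⁻¹) ∈ C := by rw [← h1]; exact mul_mem (inv_mem a'.2) a.2
  have h2 := C_rho_inter C h X hC he hρe
  have hb : b' = b := Subtype.ext (mul_inv_eq_one.mp h2)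
  have ha : a = a' := by
    rw [h2, map_one] at h1
    exact Subtype.ext (inv_mul_eq_one.mp h1).symm
  rw [ha, hb]

theorem card_quot_le (H : Hyp64 ρ) (X : HypX ρ x) (hC : ∀ y : T, y ∈ C ↔ x y = y) {z0 : T}
    (hz0 : z0 ∈ Subgroup.center T) (hz01 : z0 ≠ 1) (hxz0 : x z0 = z0) :
    Nat.card (T ⧸ C) ≤ 2 * Nat.card C := by
  let f : T ⧸ C → T := Quotient.lift (fun w : T => x w * w⁻¹) (by
    intro a b hab
    have hab' : a⁻¹ * b ∈ C := QuotientGroup.leftRel_apply.mp hab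
    have h1 := (hC _).mp hab'
    rw [map_mul, map_inv] at h1
    show x a * a⁻¹ = x b * b⁻¹
    calc x a * a⁻¹ = x a * (a⁻¹ * b) * b⁻¹ := by group
      _ = x a * ((x a)⁻¹ * x b) * b⁻¹ := by rw [h1]
      _ = x b * b⁻¹ := by group)
  have hf : Function.Injective f := by
    intro p q hpq
    obtain ⟨a, rfl⟩ := QuotientGroup.mk_surjective p
    obtain ⟨b, rfl⟩ := QuotientGroup.mk_surjective q
    have h1 : x a * a⁻¹ = x b * b⁻¹ := hpq
    rw [QuotientGroup.eq, hC, map_mul, map_inv]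
    calc (x a)⁻¹ * x b = (x a)⁻¹ * (x b * b⁻¹) * b := by group
      _ = (x a)⁻¹ * (x a * a⁻¹) * b := by rw [h1]
      _ = a⁻¹ * b := by group
  have hrange : Set.range f ⊆ (C : Set T) ∪ (fun c => c * ρ z0) '' (C : Set T) := by
    rintro _ ⟨p, rfl⟩
    obtain ⟨w, rfl⟩ := QuotientGroup.mk_surjective p
    show x w * w⁻¹ ∈ _
    have hxd : x (x w * w⁻¹) = (x w * w⁻¹)⁻¹ := by rw [map_mul, map_inv, X.invol]; group
    have hdZ : (x w * w⁻¹)⁻¹ * x (x w * w⁻¹) ∈ Subgroup.center T := by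
      rw [hxd, ← mul_inv_rev]; exact inv_mem (sq_mem_center H _)
    rcases fixed_or H X hz0 hz01 hxz0 hdZ with h | h
    · left; exact (hC _).mpr h
    · right
      refine ⟨x w * w⁻¹ * ρ z0, (hC _).mpr h, ?_⟩
      show x w * w⁻¹ * ρ z0 * ρ z0 = x w * w⁻¹
      rw [mul_assoc, center_sq H (rho_mem_center ρ hz0), mul_one]
  calc Nat.card (T ⧸ C) = Nat.card (Set.range f) := (Nat.card_range_of_injective hf).symm
    _ = (Set.range f).ncard := rfl
    _ ≤ ((C : Set T) ∪ (fun c => c * ρ z0) '' (C : Set T)).ncard :=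
        Set.ncard_le_ncard hrange (Set.toFinite _)
    _ ≤ (C : Set T).ncard + ((fun c => c * ρ z0) '' (C : Set T)).ncard := Set.ncard_union_le _ _
    _ ≤ (C : Set T).ncard + (C : Set T).ncard :=
        Nat.add_le_add_left (Set.ncard_image_le (Set.toFinite _)) _
    _ = 2 * Nat.card C := by
        have : (C : Set T).ncard = Nat.card C := rfl
        rw [this]; ring

theorem card_C (H : Hyp64 ρ) (X : HypX ρ x) (hC : ∀ y : T, y ∈ C ↔ x y = y) : Nat.card C = 8 := by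
  obtain ⟨z0, hz0, hz01, hxz0⟩ := exists_z0 H X
  have h1 : Nat.card C * Nat.card C ≤ 64 := by
    rw [← H.card, ← Nat.card_prod]
    exact Nat.card_le_card_of_injective _ (C_pair_injective C H.hyp X hC)
  have h2 := card_quot_le C H X hC hz0 hz01 hxz0
  have h3 : Nat.card (T ⧸ C) * Nat.card C = 64 := by
    rw [← H.card]; exact (Subgroup.card_eq_card_quotient_mul_card_subgroup C).symm
  have h4 : Nat.card C ∣ 2 ^ 6 := by
    have := Subgroup.card_subgroup_dvd_card C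
    rw [H.card] at this
    exact this
  obtain ⟨k, hk, hk2⟩ := (Nat.dvd_prime_pow Nat.prime_two).mp h4
  rw [hk2] at h1 h2 h3 ⊢
  interval_cases k
  all_goals try norm_num at h1 h2 h3 ⊢
  all_goals try omega

theorem exists_C_noncentral (H : Hyp64 ρ) (X : HypX ρ x) (hC : ∀ y : T, y ∈ C ↔ x y = y) :
    ∃ c ∈ C, c ∉ Subgroup.center T := by
  by_contra hcon
  push_neg at hcon
  have hle : C ≤ Subgroup.center T := hcon
  have := Subgroup.card_le_of_le hle
  rw [card_C C H X hC, card_center H] at this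
  omega

theorem exists_noncomm (H : Hyp64 ρ) (X : HypX ρ x) (hC : ∀ y : T, y ∈ C ↔ x y = y) {c1 : T}
    (hc1Z : c1 ∉ Subgroup.center T) : ∃ c2 ∈ C, cm c1 c2 ≠ 1 := by
  by_contra hcon
  push_neg at hcon
  have hCA : C ≤ A ρ c1 := fun c hc => mem_A_of_cm H hc1Z (hcon c hc)
  have hinj : Function.Injective (fun p : C × C =>
      (⟨(p.1 : T) * ρ (p.2 : T), mul_mem (hCA p.1.2) (A_inv H.hyp c1 _ (hCA p.2.2))⟩ : A ρ c1)) := by
    intro p q hpq
    exact C_pair_injective C H.hyp X hC (congrArg Subtype.val hpq)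
  have := Nat.card_le_card_of_injective _ hinj
  rw [Nat.card_prod, card_C C H X hC, card_A H hc1Z] at this
  omega

theorem cm_C (H : Hyp64 ρ) (X : HypX ρ x) (hC : ∀ y : T, y ∈ C ↔ x y = y) {z0 : T}
    (hz0 : z0 ∈ Subgroup.center T) (hz01 : z0 ≠ 1) (hxz0 : x z0 = z0) {c1 c2 : T} (h1 : c1 ∈ C)
    (h2 : c2 ∈ C) : cm c1 c2 = 1 ∨ cm c1 c2 = z0 :=
  fixed_center H X hz0 hz01 hxz0 (cm_mem_center H c1 c2)
    (by rw [map_cm, (hC c1).mp h1, (hC c2).mp h2])

theorem sq_C (H : Hyp64 ρ) (X : HypX ρ x) (hC : ∀ y : T, y ∈ C ↔ x y = y) {z0 : T}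
    (hz0 : z0 ∈ Subgroup.center T) (hz01 : z0 ≠ 1) (hxz0 : x z0 = z0) {c : T} (h : c ∈ C) :
    c * c = 1 ∨ c * c = z0 :=
  fixed_center H X hz0 hz01 hxz0 (sq_mem_center H c) (by rw [map_mul, (hC c).mp h])

/-- a noncentral involution -/
theorem exists_invol (H : Hyp64 ρ) (X : HypX ρ x) (hC : ∀ y : T, y ∈ C ↔ x y = y) :
    ∃ u : T, u * u = 1 ∧ u ∉ Subgroup.center T := by
  obtain ⟨z0, hz0, hz01, hxz0⟩ := exists_z0 H X
  obtain ⟨c1, hc1, hc1Z⟩ := exists_C_noncentral C H X hC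
  obtain ⟨c2, hc2, hcm⟩ := exists_noncomm C H X hC hc1Z
  have hcm' : cm c1 c2 = z0 := (cm_C C H X hC hz0 hz01 hxz0 hc1 hc2).resolve_left hcm
  have hc2Z : c2 ∉ Subgroup.center T := fun h => hcm (cm_center_right h c1)
  by_cases h1 : c1 * c1 = 1
  · exact ⟨c1, h1, hc1Z⟩
  by_cases h2 : c2 * c2 = 1
  · exact ⟨c2, h2, hc2Z⟩
  have h1' : c1 * c1 = z0 := (sq_C C H X hC hz0 hz01 hxz0 hc1).resolve_left h1
  have h2' : c2 * c2 = z0 := (sq_C C H X hC hz0 hz01 hxz0 hc2).resolve_left h2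
  refine ⟨c1 * ρ c2, ?_, ?_⟩
  · rw [mul_sq H, h1', ← map_mul, h2', cm_rho_right H, hcm']
    exact prod3 H.hyp z0
  · intro hu
    have e1 : cm (c1 * ρ c2) (ρ c2) = 1 := cm_center_left hu _
    rw [cm_mul_left H, cm_self, mul_one, cm_rho_right H, hcm'] at e1
    exact rho_ne_one H.hyp (rho_ne_one H.hyp hz01) e1

/-- two non-commuting involutions -/
theorem exists_invol_pair (H : Hyp64 ρ) (X : HypX ρ x) (hC : ∀ y : T, y ∈ C ↔ x y = y) :
    ∃ u v : T, u * u = 1 ∧ v * v = 1 ∧ cm u v ≠ 1 := by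
  obtain ⟨u, hu2, huZ⟩ := exists_invol C H X hC
  obtain ⟨w, hw⟩ : ∃ w, w ∉ A ρ u := by
    by_contra hcon
    push_neg at hcon
    have htop : A ρ u = ⊤ := (Subgroup.eq_top_iff' _).mpr hcon
    have h16 := card_A H huZ
    rw [htop, Subgroup.card_top, H.card] at h16
    omega
  have hz1 : cm u w ≠ 1 := fun h1 => hw (mem_A_of_cm H huZ h1)
  have hz1Z : cm u w ∈ Subgroup.center T := cm_mem_center H u w
  have hwwZ := sq_mem_center H w
  have hρu2 : ρ u * ρ u = 1 := by rw [← map_mul, hu2, map_one]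
  obtain ⟨ua, hua, hua2, hcmua⟩ : ∃ ua ∈ A ρ u, ua * ua = 1 ∧ cm ua w = w * w := by
    rcases center_cases H hz1Z hz1 hwwZ with h | h | h | h
    · exact ⟨1, one_mem _, by simp, by rw [cm_one_left, h]⟩
    · exact ⟨u, self_mem_A u, hu2, h.symm⟩
    · refine ⟨ρ (ρ u), A_inv H.hyp u _ (rho_mem_A u), by rw [← map_mul, hρu2, map_one], ?_⟩
      rw [cm_rho_left H, cm_rho_left H, H.hyp.cube, h]
    · exact ⟨ρ u, rho_mem_A u, hρu2, by rw [cm_rho_left H, h]⟩
  refine ⟨u, w * ua, hu2, ?_, ?_⟩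
  · rw [mul_sq H, hua2, mul_one, cm_symm H ua w, hcmua, center_sq H hwwZ]
  · rw [cm_mul_right H]
    have h1 : cm u ua = 1 := (cm_eq_one_iff _ _).mpr (A_comm H.hyp u u (self_mem_A u) ua hua)
    rw [h1, mul_one]
    exact hz1

end S64

end Cfsg.Agent.Lib.helper26
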