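import Mathlib
import Cfsg.Agent.Lib.helper26.Special64c
import Cfsg.Agent.Lib.helper26.Heis4

/-!
Nonabelian groups of order 64 with a fixed-point-free automorphism `ρ` of order 3 (helper26),
part 5: if the group contains two non-commuting involutions, it is isomorphic to the
Heisenberg group over `F4` (a Sylow 2-subgroup of `PSL_3(4)`).
-/

set_option autoImplicit false

namespace Cfsg.Agent.Lib.helper26

namespace S64

open Fpf3 Heis4

variable {T : Type*} [Group T]

theorem zmod2_cases (a : ZMod 2) : a = 0 ∨ a = 1 := by revert a; decide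

/-- `y ^ a` for `a : ZMod 2` -/
def pw (y : T) (a : ZMod 2) : T := if a = 0 then 1 else y

theorem pw_zero (y : T) : pw y 0 = 1 := by simp [pw]

theorem pw_one (y : T) : pw y 1 = y := by
  unfold pw; rw [if_neg (by decide)]

theorem pw_add {y : T} (hy : y * y = 1) (a b : ZMod 2) : pw y (a + b) = pw y a * pw y b := by
  rcases zmod2_cases a with rfl | rfl <;> rcases zmod2_cases b with rfl | rfl
  · simp [pw_zero]
  · simp [pw_zero]
  · simp [pw_zero]
  · have h : (1 : ZMod 2) + 1 = 0 := by decide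
    rw [h, pw_zero, pw_one, hy]

theorem pw_comm {y y' : T} (h : y * y' = y' * y) (a b : ZMod 2) :
    pw y a * pw y' b = pw y' b * pw y a := by
  rcases zmod2_cases a with rfl | rfl <;> rcases zmod2_cases b with rfl | rfl <;>
    simp [pw_zero, pw_one, h]

theorem pw_mem {N : Subgroup T} {y : T} (hy : y ∈ N) (a : ZMod 2) : pw y a ∈ N := by
  unfold pw
  split_ifs
  · exact one_mem _
  · exact hy

/-- the semilinear map `a + b ω ↦ y ^ a * (σ y) ^ b` -/
def ps (σ : MulAut T) (y : T) (p : F4) : T := pw y p.re * pw (σ y) p.im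

theorem ps_one (σ : MulAut T) (y : T) : ps σ y 1 = y := by
  unfold ps
  rw [QuadraticAlgebra.re_one, QuadraticAlgebra.im_one, pw_one, pw_zero, mul_one]

theorem ps_w4 (σ : MulAut T) (y : T) : ps σ y w4 = σ y := by
  unfold ps
  show pw y 0 * pw (σ y) 1 = σ y
  rw [pw_zero, pw_one, one_mul]

theorem ps_one_add_w4 (σ : MulAut T) (y : T) : ps σ y (1 + w4) = y * σ y := by
  unfold ps
  have h1 : (1 + w4 : F4).re = 1 := by decide
  have h2 : (1 + w4 : F4).im = 1 := by decide
  rw [h1, h2, pw_one, pw_one]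

theorem ps_add {σ : MulAut T} {y : T} (hy : y * y = 1) (hc : y * σ y = σ y * y) (p p' : F4) :
    ps σ y (p + p') = ps σ y p * ps σ y p' := by
  unfold ps
  have hσ : σ y * σ y = 1 := by rw [← map_mul, hy, map_one]
  rw [QuadraticAlgebra.re_add, QuadraticAlgebra.im_add, pw_add hy, pw_add hσ]
  have h := pw_comm hc p'.re p.im
  calc pw y p.re * pw y p'.re * (pw (σ y) p.im * pw (σ y) p'.im)
      = pw y p.re * (pw y p'.re * pw (σ y) p.im) * pw (σ y) p'.im := by group
    _ = pw y p.re * (pw (σ y) p.im * pw y p'.re) * pw (σ y) p'.im := by rw [h]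
    _ = pw y p.re * pw (σ y) p.im * (pw y p'.re * pw (σ y) p'.im) := by group

theorem ps_mem {σ : MulAut T} {N : Subgroup T} {y : T} (hy : y ∈ N) (hσ : σ y ∈ N) (p : F4) :
    ps σ y p ∈ N := mul_mem (pw_mem hy _) (pw_mem hσ _)

theorem ps_mem_imp [Finite T] {σ : MulAut T} (h : Fpf3.Hyp σ) (N : Subgroup T)
    (hN : ∀ y ∈ N, σ y ∈ N) {y : T} (hy : y ∉ N) {p : F4} (hp : ps σ y p ∈ N) : p = 0 := by
  rcases F4_cases p with rfl | rfl | rfl | rfl
  · rfl
  · rw [ps_one] at hp; exact absurd hp hy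
  · rw [ps_w4] at hp
    exfalso; apply hy
    have := hN _ (hN _ hp)
    rwa [h.cube] at this
  · rw [ps_one_add_w4] at hp
    exfalso; apply hy
    have h1 : σ (σ y) ∈ N := by rw [rho2_eq h y]; exact inv_mem hp
    have := hN _ h1
    rwa [h.cube] at this

theorem hyp_sq {ρ : MulAut T} (h : Fpf3.Hyp ρ) : Fpf3.Hyp (ρ * ρ) := by
  refine ⟨fun y => ?_, fun y hy => ?_⟩
  · show ρ (ρ (ρ (ρ (ρ (ρ y))))) = y
    rw [h.cube, h.cube]
  · by_contra hne
    exact rho2_ne_self h hne hy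

/-- a nonabelian group of order 64 with a fixed-point-free automorphism of order 3 and two
non-commuting involutions is the Heisenberg group over `F4` -/
theorem exists_heis_equiv [Finite T] {ρ : MulAut T} (H : Hyp64 ρ) {u v : T} (hu : u * u = 1)
    (hv : v * v = 1) (huv : cm u v ≠ 1) : Nonempty (T ≃* Heis) := by
  have hzZ : cm u v ∈ Subgroup.center T := cm_mem_center H u v
  have huZ : u ∉ Subgroup.center T := fun h => huv (cm_center_left h v)
  have hvA : v ∉ A ρ u := fun h =>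
    huv ((cm_eq_one_iff _ _).mpr (A_comm H.hyp u u (self_mem_A u) v h))
  have H2 := hyp_sq H.hyp
  have hα : ∀ p p', ps ρ u (p + p') = ps ρ u p * ps ρ u p' := ps_add hu (comm_rho H.hyp u)
  have hβ : ∀ q q', ps ρ v (q + q') = ps ρ v q * ps ρ v q' := ps_add hv (comm_rho H.hyp v)
  have hΨ : ∀ r r', ps (ρ * ρ) (cm u v) (r + r') = ps (ρ * ρ) (cm u v) r * ps (ρ * ρ) (cm u v) r' :=
    ps_add (center_sq H hzZ) (comm_rho H2 (cm u v))
  have hΨZ : ∀ r, ps (ρ * ρ) (cm u v) r ∈ Subgroup.center T :=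
    fun r => ps_mem hzZ (rho_mem_center (ρ * ρ) hzZ) r
  have hΨc : ∀ r g, g * ps (ρ * ρ) (cm u v) r = ps (ρ * ρ) (cm u v) r * g :=
    fun r g => Subgroup.mem_center_iff.mp (hΨZ r) g
  have hcm : ∀ p q, cm (ps ρ u p) (ps ρ v q) = ps (ρ * ρ) (cm u v) (p * q) := by
    apply bilin_key (fun p q => cm (ps ρ u p) (ps ρ v q)) (ps (ρ * ρ) (cm u v))
    · intro p p' q
      show cm (ps ρ u (p + p')) (ps ρ v q) = _
      rw [hα, cm_mul_left H]
    · intro p q q'
      show cm (ps ρ u p) (ps ρ v (q + q')) = _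
      rw [hβ, cm_mul_right H]
    · exact hΨ
    · show cm (ps ρ u 1) (ps ρ v 1) = ps (ρ * ρ) (cm u v) 1
      rw [ps_one, ps_one, ps_one]
    · show cm (ps ρ u 1) (ps ρ v w4) = ps (ρ * ρ) (cm u v) w4
      rw [ps_one, ps_w4, ps_w4, cm_rho_right H]; rfl
    · show cm (ps ρ u w4) (ps ρ v 1) = ps (ρ * ρ) (cm u v) w4
      rw [ps_one, ps_w4, ps_w4, cm_rho_left H]; rfl
    · show cm (ps ρ u w4) (ps ρ v w4) = ps (ρ * ρ) (cm u v) (1 + w4)
      rw [ps_w4, ps_w4, ps_one_add_w4, ← map_cm]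
      show ρ (cm u v) = cm u v * ρ (ρ (cm u v))
      rw [center_rho2 H hzZ, ← mul_assoc, center_sq H hzZ, one_mul]
  have hcomm : ∀ p q, ps ρ u p * ps ρ v q = ps ρ v q * ps ρ u p * ps (ρ * ρ) (cm u v) (p * q) := by
    intro p q
    have hc := Subgroup.mem_center_iff.mp (cm_mem_center H (ps ρ u p) (ps ρ v q))
    calc ps ρ u p * ps ρ v q = cm (ps ρ u p) (ps ρ v q) * (ps ρ v q * ps ρ u p) := by
          unfold cm; group
      _ = ps ρ v q * ps ρ u p * cm (ps ρ u p) (ps ρ v q) := (hc _).symm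
      _ = ps ρ v q * ps ρ u p * ps (ρ * ρ) (cm u v) (p * q) := by rw [hcm]
  have hinj : Function.Injective
      (Heis.homOf (ps ρ u) (ps ρ v) (ps (ρ * ρ) (cm u v)) hα hβ hΨ hΨc hcomm) := by
    apply Heis.homOf_injective (ps ρ u) (ps ρ v) (ps (ρ * ρ) (cm u v)) hα hβ hΨ hΨc hcomm
      (A ρ u) (Subgroup.center T)
    · intro p; exact ps_mem (self_mem_A u) (rho_mem_A u) p
    · intro r; exact center_le_A u (hΨZ r)
    · intro q hq; exact ps_mem_imp H.hyp (A ρ u) (A_inv H.hyp u) hvA hq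
    · exact hΨZ
    · intro p hp; exact ps_mem_imp H.hyp (Subgroup.center T) center_inv huZ hp
    · intro r hr
      have hr' : ps (ρ * ρ) (cm u v) r ∈ (⊥ : Subgroup T) := by rw [Subgroup.mem_bot]; exact hr
      refine ps_mem_imp H2 ⊥ ?_ ?_ hr'
      · intro y hy
        rw [Subgroup.mem_bot] at hy ⊢
        rw [hy, map_one]
      · rw [Subgroup.mem_bot]; exact huv
  have hbij : Function.Bijective
      (Heis.homOf (ps ρ u) (ps ρ v) (ps (ρ * ρ) (cm u v)) hα hβ hΨ hΨc hcomm) := by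
    rw [Nat.bijective_iff_injective_and_card]
    exact ⟨hinj, by rw [Heis.card, H.card]⟩
  exact ⟨(MulEquiv.ofBijective _ hbij).symm⟩

end S64

end Cfsg.Agent.Lib.helper26
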