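import Mathlib
import Cfsg.Agent.Lib.helper26.Fix2c
import Cfsg.Agent.Lib.helper26.Special64e

/-!
Class-two commutator calculus for groups with a fixed-point-free automorphism `ρ` of order 3
(helper26): `[ρ a, b] = [a, ρ b] = ρ² [a, b]`, and a two-`ρ`-orbit-generated class-two group with
central squares has derived subgroup of order at most four.
-/

set_option autoImplicit false

namespace Cfsg.Agent.Lib.helper26

namespace Fix2

open Fpf3 S64 Heis4

variable {T : Type*} [Group T]

theorem c2_mul_left (hc2 : ∀ a b : T, cm a b ∈ Subgroup.center T) (a b c : T) :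
    cm (a * b) c = cm a c * cm b c := by
  have h := Subgroup.mem_center_iff.mp (hc2 b c)
  calc cm (a * b) c = a * cm b c * a⁻¹ * cm a c := by unfold cm; group
    _ = cm b c * a * a⁻¹ * cm a c := by rw [h a]
    _ = cm b c * cm a c := by group
    _ = cm a c * cm b c := (h (cm a c)).symm

theorem c2_mul_right (hc2 : ∀ a b : T, cm a b ∈ Subgroup.center T) (a b c : T) :
    cm a (b * c) = cm a b * cm a c := by
  have h := Subgroup.mem_center_iff.mp (hc2 a c)
  calc cm a (b * c) = cm a b * (b * cm a c) * b⁻¹ := by unfold cm; group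
    _ = cm a b * (cm a c * b) * b⁻¹ := by rw [h b]
    _ = cm a b * cm a c := by group

theorem cm_swap (a b : T) : cm b a = (cm a b)⁻¹ := by unfold cm; group

variable [Finite T] {ρ : MulAut T}

theorem c2_inv_right (hc2 : ∀ a b : T, cm a b ∈ Subgroup.center T) (a b : T) :
    cm a b⁻¹ = (cm a b)⁻¹ := by
  have h := c2_mul_right hc2 a b b⁻¹
  rw [mul_inv_cancel, cm_one_right] at h
  exact eq_inv_of_mul_eq_one_right h.symm

theorem c2_inv_left (hc2 : ∀ a b : T, cm a b ∈ Subgroup.center T) (a b : T) :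
    cm a⁻¹ b = (cm a b)⁻¹ := by
  have h := c2_mul_left hc2 a a⁻¹ b
  rw [mul_inv_cancel, cm_one_left] at h
  exact eq_inv_of_mul_eq_one_right h.symm

theorem c2_rho_swap (h : Hyp ρ) (hc2 : ∀ a b : T, cm a b ∈ Subgroup.center T) (a b : T) :
    cm (ρ a) b = cm a (ρ b) := by
  have h1 : cm (a * b) (ρ a * ρ b) = 1 := by
    rw [cm_eq_one_iff, ← map_mul]; exact comm_rho h (a * b)
  rw [c2_mul_left hc2, c2_mul_right hc2, c2_mul_right hc2] at h1
  have e1 : cm a (ρ a) = 1 := (cm_eq_one_iff _ _).mpr (comm_rho h a)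
  have e2 : cm b (ρ b) = 1 := (cm_eq_one_iff _ _).mpr (comm_rho h b)
  rw [e1, e2, one_mul, mul_one, cm_swap (ρ a) b] at h1
  exact (mul_inv_eq_one.mp h1).symm

theorem c2_rho_right (h : Hyp ρ) (hc2 : ∀ a b : T, cm a b ∈ Subgroup.center T) (a b : T) :
    cm a (ρ b) = ρ (ρ (cm a b)) := by
  have h1 : cm a (b * ρ b * ρ (ρ b)) = 1 := by rw [prod3 h b, cm_one_right]
  rw [c2_mul_right hc2, c2_mul_right hc2] at h1
  have e : cm a (ρ (ρ b)) = ρ (cm a b) := by
    rw [← c2_rho_swap h hc2 a (ρ b), map_cm]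
  rw [e] at h1
  have hX := Subgroup.mem_center_iff.mp (hc2 a (ρ b))
  rw [rho2_eq h (cm a b)]
  apply eq_inv_of_mul_eq_one_left
  rw [← mul_assoc, ← hX (cm a b)]
  exact h1

theorem c2_rho_left (h : Hyp ρ) (hc2 : ∀ a b : T, cm a b ∈ Subgroup.center T) (a b : T) :
    cm (ρ a) b = ρ (ρ (cm a b)) := by
  rw [c2_rho_swap h hc2]; exact c2_rho_right h hc2 a b

theorem F4_add_self (p : F4) : p + p = 0 := by revert p; decide

omit [Finite T] in
theorem ps_zero (σ : MulAut T) (y : T) : ps σ y 0 = 1 := by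
  unfold ps
  rw [QuadraticAlgebra.re_zero, QuadraticAlgebra.im_zero, pw_zero, pw_zero, mul_one]

/-- the derived subgroup of a class-two group generated modulo its centre by two `ρ`-orbits,
with central squares, has order at most four -/
theorem card_of_class_two (h : Hyp ρ) (hc2 : ∀ a b : T, cm a b ∈ Subgroup.center T)
    (hsq : ∀ x : T, x * x ∈ Subgroup.center T) (a b : T)
    (hgen : ∀ y : T, ∃ k ∈ Subgroup.closure ({a, ρ a, b, ρ b} : Set T),
      k⁻¹ * y ∈ Subgroup.center T) :
    Nat.card (commutator T) ≤ 4 := by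
  have hcc : cm a b * cm a b = 1 := by
    rw [← c2_mul_left hc2]; exact cm_center_left (hsq a) b
  have hcρ : cm a b * ρ (cm a b) = ρ (cm a b) * cm a b := comm_rho h _
  have hρc2 : ρ (ρ (cm a b)) = cm a b * ρ (cm a b) := by
    rw [rho2_eq h]
    apply inv_eq_of_mul_eq_one_left
    calc cm a b * ρ (cm a b) * (cm a b * ρ (cm a b))
        = cm a b * (ρ (cm a b) * cm a b) * ρ (cm a b) := by group
      _ = cm a b * (cm a b * ρ (cm a b)) * ρ (cm a b) := by rw [hcρ]
      _ = (cm a b * cm a b) * ρ (cm a b * cm a b) := by rw [map_mul]; group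
      _ = 1 := by rw [hcc, map_one, one_mul]
  have P1 : ∃ p : F4, (1 : T) = ps ρ (cm a b) p := ⟨0, (ps_zero ρ _).symm⟩
  have Pc : ∃ p : F4, cm a b = ps ρ (cm a b) p := ⟨1, (ps_one ρ _).symm⟩
  have Pmul : ∀ z z' : T, (∃ p : F4, z = ps ρ (cm a b) p) → (∃ p : F4, z' = ps ρ (cm a b) p) →
      ∃ p : F4, z * z' = ps ρ (cm a b) p := by
    rintro z z' ⟨p, rfl⟩ ⟨p', rfl⟩
    exact ⟨p + p', (ps_add hcc hcρ p p').symm⟩
  have Pinv : ∀ z : T, (∃ p : F4, z = ps ρ (cm a b) p) → ∃ p : F4, z⁻¹ = ps ρ (cm a b) p := by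
    rintro z ⟨p, rfl⟩
    refine ⟨p, ?_⟩
    apply inv_eq_of_mul_eq_one_left
    rw [← ps_add hcc hcρ, F4_add_self, ps_zero]
  have Pρ : ∀ z : T, (∃ p : F4, z = ps ρ (cm a b) p) → ∃ p : F4, ρ z = ps ρ (cm a b) p := by
    rintro z ⟨p, rfl⟩
    rcases F4_cases p with rfl | rfl | rfl | rfl
    · exact ⟨0, by rw [ps_zero, map_one]⟩
    · exact ⟨w4, by rw [ps_one, ps_w4]⟩
    · exact ⟨1 + w4, by rw [ps_w4, ps_one_add_w4, hρc2]⟩
    · refine ⟨1, ?_⟩
      rw [ps_one_add_w4, ps_one, map_mul, hρc2, ← mul_assoc, ← hcρ, mul_assoc,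
        ← map_mul, hcc, map_one, mul_one]
  have step : ∀ x : T, (∃ p : F4, cm x a = ps ρ (cm a b) p) →
      (∃ p : F4, cm x b = ps ρ (cm a b) p) → ∀ y : T, ∃ p : F4, cm x y = ps ρ (cm a b) p := by
    intro x hxa hxb y
    obtain ⟨k, hk, hky⟩ := hgen y
    have hy : y = k * (k⁻¹ * y) := by group
    rw [hy, c2_mul_right hc2, cm_center_right hky, mul_one]
    clear hy hky
    induction hk using Subgroup.closure_induction with
    | mem s hs =>
      rcases hs with rfl | rfl | rfl | hs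
      · exact hxa
      · rw [c2_rho_right h hc2]; exact Pρ _ (Pρ _ hxa)
      · exact hxb
      · rw [Set.mem_singleton_iff] at hs
        rw [hs, c2_rho_right h hc2]; exact Pρ _ (Pρ _ hxb)
    | one => rw [cm_one_right]; exact P1
    | mul u v _ _ hu hv => rw [c2_mul_right hc2]; exact Pmul _ _ hu hv
    | inv u _ hu => rw [c2_inv_right hc2]; exact Pinv _ hu
  have stepa : ∀ y : T, ∃ p : F4, cm a y = ps ρ (cm a b) p :=
    step a (by rw [cm_self]; exact P1) Pc
  have stepb : ∀ y : T, ∃ p : F4, cm b y = ps ρ (cm a b) p :=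
    step b (by rw [cm_swap a b]; exact Pinv _ Pc) (by rw [cm_self]; exact P1)
  have all : ∀ x y : T, ∃ p : F4, cm x y = ps ρ (cm a b) p := by
    intro x y
    obtain ⟨k, hk, hkx⟩ := hgen x
    have hx : x = k * (k⁻¹ * x) := by group
    rw [hx, c2_mul_left hc2, cm_center_left hkx, mul_one]
    clear hx hkx
    induction hk using Subgroup.closure_induction with
    | mem s hs =>
      rcases hs with rfl | rfl | rfl | hs
      · exact stepa y
      · rw [c2_rho_left h hc2]; exact Pρ _ (Pρ _ (stepa y))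
      · exact stepb y
      · rw [Set.mem_singleton_iff] at hs
        rw [hs, c2_rho_left h hc2]; exact Pρ _ (Pρ _ (stepb y))
    | one => rw [cm_one_left]; exact P1
    | mul u v _ _ hu hv => rw [c2_mul_left hc2]; exact Pmul _ _ hu hv
    | inv u _ hu => rw [c2_inv_left hc2]; exact Pinv _ hu
  have hsub : (commutator T : Set T) ⊆ Set.range (ps ρ (cm a b)) := by
    intro z hz
    have hz' : z ∈ commutator T := hz
    rw [commutator_eq_closure] at hz'
    clear hz
    have : ∃ p : F4, z = ps ρ (cm a b) p := by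
      induction hz' using Subgroup.closure_induction with
      | mem s hs =>
        obtain ⟨g₁, g₂, rfl⟩ := hs
        exact all g₁ g₂
      | one => exact P1
      | mul u v _ _ hu hv => exact Pmul _ _ hu hv
      | inv u _ hu => exact Pinv _ hu
    obtain ⟨p, hp⟩ := this
    exact ⟨p, hp.symm⟩
  have h1 := Set.ncard_le_ncard hsub (Set.finite_range _)
  have h2 : (Set.range (ps ρ (cm a b))).ncard ≤ 4 := by
    rw [← Set.image_univ]
    refine (Set.ncard_image_le (Set.toFinite _)).trans ?_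
    rw [Set.ncard_univ, Nat.card_eq_fintype_card, card_F4]
  have h3 : (commutator T : Set T).ncard = Nat.card (commutator T) :=
    (Nat.card_coe_set_eq _).symm
  omega

end Fix2

end Cfsg.Agent.Lib.helper26
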