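import Mathlib
import Cfsg.Agent.Lib.helper26.Fix2d

/-!
2-groups `T` with a fixed-point-free automorphism `ρ` of order 3 and an involutory automorphism
`t` commuting with `ρ` having at most four fixed points (helper26): passage to the abelianization;
a nonabelian such group has order 64; an abelian one is elementary of order 16 or homocyclic.
-/

set_option autoImplicit false

namespace Cfsg.Agent.Lib.helper26

namespace Fix2

open Fpf3 S64 Heis4

variable {T : Type*} [Group T]

/-- the induced automorphism of the abelianization -/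
noncomputable def ab (σ : MulAut T) : MulAut (Abelianization T) := MulEquiv.abelianizationCongr σ

theorem ab_of (σ : MulAut T) (x : T) : ab σ (Abelianization.of x) = Abelianization.of (σ x) :=
  rfl

theorem of_surj : Function.Surjective (Abelianization.of : T → Abelianization T) :=
  fun q => Quot.inductionOn q (fun x => ⟨x, rfl⟩)

theorem of_eq_one_iff (x : T) : Abelianization.of x = 1 ↔ x ∈ commutator T := by
  rw [← MonoidHom.mem_ker, Abelianization.ker_of]

theorem comm_inv (σ : MulAut T) : ∀ y ∈ commutator T, σ y ∈ commutator T := by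
  intro y hy
  have : (commutator T).map σ.toMonoidHom ≤ commutator T := by
    rw [commutator_def, Subgroup.map_commutator]; exact Subgroup.commutator_mono le_top le_top
  exact this (Subgroup.mem_map_of_mem _ hy)

variable [Finite T] {ρ t : MulAut T}

theorem card_fix_ab (h : Hyp2 ρ t) :
    Nat.card {q : Abelianization T // ab t q = q} ≤ 4 := by
  classical
  have h1 := card_le_of_fibers {x : T | x⁻¹ * t x ∈ commutator T} (commutator T : Set T)
    (fun x => x⁻¹ * t x) (W t) (fun x hx => hx) (by
      intro x _ y _ hxy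
      show t (x * y⁻¹) = x * y⁻¹
      have e : t x = x * (y⁻¹ * t y) := by
        have hxy' : x⁻¹ * t x = y⁻¹ * t y := hxy
        rw [← hxy']; group
      rw [map_mul, map_inv, e]; group)
  have hT' : (commutator T : Set T).ncard = Nat.card (commutator T) :=
    (Nat.card_coe_set_eq _).symm
  rw [hT'] at h1
  let s : Abelianization T → T := Function.surjInv of_surj
  have hs : ∀ q, Abelianization.of (s q) = q := Function.surjInv_eq of_surj
  have h2 := Set.ncard_le_ncard_of_injOn
    (s := ({q : Abelianization T | ab t q = q} ×ˢ (commutator T : Set T)))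
    (t := {x : T | x⁻¹ * t x ∈ commutator T})
    (fun p : Abelianization T × T => s p.1 * p.2) (by
      rintro ⟨q, d⟩ ⟨hq, hd⟩
      have hq' : ab t q = q := hq
      have hd' : d ∈ commutator T := hd
      show (s q * d)⁻¹ * t (s q * d) ∈ commutator T
      rw [← of_eq_one_iff, map_mul, map_inv, ← ab_of, map_mul, hs,
        (of_eq_one_iff d).mpr hd', mul_one, hq', inv_mul_cancel]) (by
      rintro ⟨q, d⟩ ⟨_, hd⟩ ⟨q', d'⟩ ⟨_, hd'⟩ hqd
      have hd1 : d ∈ commutator T := hd
      have hd1' : d' ∈ commutator T := hd'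
      have hqd' : s q * d = s q' * d' := hqd
      have e1 := congrArg (Abelianization.of : T → Abelianization T) hqd'
      rw [map_mul, map_mul, hs, hs, (of_eq_one_iff d).mpr hd1, (of_eq_one_iff d').mpr hd1',
        mul_one, mul_one] at e1
      subst e1
      have e2 : d = d' := mul_left_cancel hqd'
      rw [e2]) (Set.toFinite _)
  rw [Set.ncard_prod, hT'] at h2
  have hW := card_W_le h
  have hpos : 0 < Nat.card (commutator T) := Nat.card_pos
  have h3 : {q : Abelianization T | ab t q = q}.ncard * Nat.card (commutator T) ≤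
      4 * Nat.card (commutator T) :=
    h2.trans (h1.trans (Nat.mul_le_mul_right _ hW))
  have h4 : {q : Abelianization T | ab t q = q}.ncard ≤ 4 := Nat.le_of_mul_le_mul_right h3 hpos
  have h5 : Nat.card {q : Abelianization T // ab t q = q} =
      {q : Abelianization T | ab t q = q}.ncard :=
    Nat.card_coe_set_eq {q : Abelianization T | ab t q = q}
  rw [h5]; exact h4

theorem hyp2_ab (h : Hyp2 ρ t) : Hyp2 (ab ρ) (ab t) := by
  refine ⟨⟨?_, ?_⟩, ?_, ?_, ?_, card_fix_ab h⟩
  · intro q
    obtain ⟨x, rfl⟩ := of_surj q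
    rw [ab_of, ab_of, ab_of, h.hyp.cube]
  · intro q hq
    obtain ⟨x, rfl⟩ := of_surj q
    rw [ab_of] at hq
    have : x⁻¹ * ρ x ∈ commutator T := by
      rw [← of_eq_one_iff, map_mul, map_inv, hq, inv_mul_cancel]
    exact (of_eq_one_iff x).mpr (mem_of_delta_mem h.hyp _ (comm_inv ρ) this)
  · intro q
    obtain ⟨x, rfl⟩ := of_surj q
    rw [ab_of, ab_of, h.invol]
  · intro q
    obtain ⟨x, rfl⟩ := of_surj q
    rw [ab_of, ab_of, ab_of, ab_of, h.comm]
  · exact h.pg.to_quotient (commutator T)

theorem lift_gen (h : Hyp2 ρ t) : ∃ a b : T, ∀ y : T,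
    ∃ k ∈ Subgroup.closure ({a, ρ a, b, ρ b} : Set T), k⁻¹ * y ∈ commutator T := by
  obtain ⟨a', b', hgen⟩ := gen4 (hyp2_ab h)
  obtain ⟨a, rfl⟩ := of_surj a'
  obtain ⟨b, rfl⟩ := of_surj b'
  refine ⟨a, b, fun y => ?_⟩
  have hy := hgen (Abelianization.of y)
  rw [ab_of, ab_of] at hy
  have himg : ({Abelianization.of a, Abelianization.of (ρ a), Abelianization.of b,
      Abelianization.of (ρ b)} : Set (Abelianization T)) =
      Abelianization.of '' ({a, ρ a, b, ρ b} : Set T) := by
    simp [Set.image_insert_eq]
  rw [himg, ← MonoidHom.map_closure] at hy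
  obtain ⟨k, hk, hky⟩ := Subgroup.mem_map.mp hy
  refine ⟨k, hk, ?_⟩
  rw [← of_eq_one_iff, map_mul, map_inv, hky, inv_mul_cancel]

/-- a nonabelian group in the class has order 64 -/
theorem card_of_nonabelian (h : Hyp2 ρ t) (hna : ¬ ∀ a b : T, a * b = b * a) :
    Nat.card T = 64 := by
  obtain ⟨a, b, hgen⟩ := lift_gen h
  have htop : NN ρ a ⊔ NN ρ b = ⊤ := by
    apply eq_top_of_sup_commutator h.pg
    intro y
    obtain ⟨k, hk, hky⟩ := hgen y
    refine ⟨k, ?_, hky⟩
    have hle : Subgroup.closure ({a, ρ a, b, ρ b} : Set T) ≤ NN ρ a ⊔ NN ρ b := by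
      rw [Subgroup.closure_le]
      intro s hs
      rcases hs with hs | hs | hs | hs
      · rw [hs]; exact (le_sup_left : NN ρ a ≤ _) (self_mem_NN a)
      · rw [hs]; exact (le_sup_left : NN ρ a ≤ _) (rho_mem_NN a)
      · rw [hs]; exact (le_sup_right : NN ρ b ≤ _) (self_mem_NN b)
      · rw [Set.mem_singleton_iff] at hs
        rw [hs]; exact (le_sup_right : NN ρ b ≤ _) (rho_mem_NN b)
    exact hle hk
  have hc2 : ∀ x y : T, cm x y ∈ Subgroup.center T :=
    fun x y => class_two_of_sup (NN_comm h.hyp a) (NN_comm h.hyp b) htop x y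
  have hT'Z : commutator T ≤ Subgroup.center T := by
    rw [commutator_eq_closure, Subgroup.closure_le]
    rintro _ ⟨g₁, g₂, rfl⟩
    exact hc2 g₁ g₂
  rcases abelian_cases (hyp2_ab h) with ⟨h16, hexp⟩ | ⟨x', n, -, hgen', -⟩
  · have hsq : ∀ x : T, x * x ∈ Subgroup.center T := by
      intro x
      apply hT'Z
      rw [← of_eq_one_iff, map_mul, ← pow_two]; exact hexp _
    have hgenZ : ∀ y : T, ∃ k ∈ Subgroup.closure ({a, ρ a, b, ρ b} : Set T),
        k⁻¹ * y ∈ Subgroup.center T := by
      intro y
      obtain ⟨k, hk, hky⟩ := hgen y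
      exact ⟨k, hk, hT'Z hky⟩
    have h4 := card_of_class_two h.hyp hc2 hsq a b hgenZ
    have hidx : Nat.card (Abelianization T) = (commutator T).index := rfl
    have hmul := Subgroup.card_mul_index (commutator T)
    rw [← hidx, h16] at hmul
    have hmod := card_mod_three h.hyp ⊤ (fun y _ => Subgroup.mem_top _)
    rw [Subgroup.card_top] at hmod
    have hpos : 0 < Nat.card (commutator T) := Nat.card_pos
    have hcases : Nat.card (commutator T) = 1 ∨ Nat.card (commutator T) = 4 := by omega
    rcases hcases with h1 | h4'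
    · exfalso
      apply hna
      intro u v
      have hm : cm u v ∈ commutator T := by
        rw [commutator_eq_closure]; exact Subgroup.subset_closure ⟨u, v, rfl⟩
      rw [Subgroup.card_eq_one.mp h1, Subgroup.mem_bot] at hm
      exact (cm_eq_one_iff u v).mp hm
    · rw [h4'] at hmul; omega
  · exfalso
    obtain ⟨x, rfl⟩ := of_surj x'
    have htop1 : NN ρ x = ⊤ := by
      apply eq_top_of_sup_commutator h.pg
      intro y
      have hy := hgen' (Abelianization.of y)
      rw [ab_of] at hy
      have himg : ({Abelianization.of x, Abelianization.of (ρ x)} : Set (Abelianization T)) =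
          Abelianization.of '' ({x, ρ x} : Set T) := by
        simp [Set.image_insert_eq]
      rw [himg, ← MonoidHom.map_closure] at hy
      obtain ⟨k, hk, hky⟩ := Subgroup.mem_map.mp hy
      refine ⟨k, ?_, ?_⟩
      · have hle : Subgroup.closure ({x, ρ x} : Set T) ≤ NN ρ x := by
          rw [Subgroup.closure_le]
          intro s hs
          rcases hs with hs | hs
          · rw [hs]; exact self_mem_NN x
          · rw [Set.mem_singleton_iff] at hs
            rw [hs]; exact rho_mem_NN x
        exact hle hk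
      · rw [← of_eq_one_iff, map_mul, map_inv, hky, inv_mul_cancel]
    apply hna
    intro u v
    exact NN_comm h.hyp x u (by rw [htop1]; trivial) v (by rw [htop1]; trivial)

/-- the abelian groups in the class -/
theorem abelian_class (h : Hyp2 ρ t) (hab : ∀ a b : T, a * b = b * a) :
    (Nat.card T = 16 ∧ ∀ x : T, x ^ 2 = 1) ∨
    (∃ n : ℕ, Nonempty (T ≃* Multiplicative (ZMod (2 ^ n)) × Multiplicative (ZMod (2 ^ n)))) := by
  have hinj : Function.Injective (Abelianization.of : T →* Abelianization T) := by
    rw [injective_iff_map_eq_one]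
    intro x hx
    rw [of_eq_one_iff, commutator_eq_closure] at hx
    have hle : Subgroup.closure (commutatorSet T) ≤ ⊥ := by
      rw [Subgroup.closure_le]
      rintro _ ⟨g₁, g₂, rfl⟩
      rw [SetLike.mem_coe, Subgroup.mem_bot, commutatorElement_def, hab g₁ g₂]
      group
    exact Subgroup.mem_bot.mp (hle hx)
  let e : T ≃* Abelianization T := MulEquiv.ofBijective Abelianization.of ⟨hinj, of_surj⟩
  rcases abelian_final (hyp2_ab h) with ⟨h16, hexp⟩ | ⟨n, ⟨f⟩⟩
  · left
    refine ⟨by rw [Nat.card_congr e.toEquiv, h16], fun x => ?_⟩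
    apply e.injective
    rw [map_pow, map_one]; exact hexp _
  · right
    exact ⟨n, ⟨e.trans f⟩⟩

end Fix2

end Cfsg.Agent.Lib.helper26
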