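import Mathlib
import Cfsg.Prelude.Def_FusionSystem

set_option autoImplicit false

open Cfsg Cfsg.FusionSystem

namespace Cfsg.Agent.Lib.helper26.RS

/-- A power of `g` which is a `p`-element and congruent to `g` modulo `p ^ k`-th powers. -/
theorem exists_pow_pElement {G : Type*} [Group G] [Finite G] (p : ℕ) [Fact p.Prime] (g : G) (k : ℕ) :
    ∃ e : ℕ, e ≡ 1 [MOD p ^ k] ∧ ∃ j : ℕ, orderOf (g ^ e) = p ^ j := by
  have hp : p.Prime := Fact.out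
  have hn : orderOf g ≠ 0 := (orderOf_pos g).ne'
  obtain ⟨a, m, hm, hnm⟩ := Nat.exists_eq_pow_mul_and_not_dvd hn p hp.ne_one
  have hco : (p ^ k).Coprime m := Nat.Coprime.pow_left k ((Nat.Prime.coprime_iff_not_dvd hp).2 hm)
  obtain ⟨e, he1, he0⟩ := Nat.chineseRemainder hco 1 0
  refine ⟨e, he1, ?_⟩
  have hme : m ∣ e := (Nat.modEq_zero_iff_dvd).1 he0
  have h1 : (g ^ e) ^ (p ^ a) = 1 := by
    rw [← pow_mul]
    apply orderOf_dvd_iff_pow_eq_one.1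
    rw [hnm, mul_comm e]
    exact Nat.mul_dvd_mul_left _ hme
  have h2 : orderOf (g ^ e) ∣ p ^ a := orderOf_dvd_of_pow_eq_one h1
  obtain ⟨j, -, hj⟩ := (Nat.dvd_prime_pow hp).1 h2
  exact ⟨j, hj⟩

/-- In a realized system, every element of `Aut_F(P)` is induced by conjugation in the group. -/
theorem autGroup_realized {Ω : Type*} [Group Ω] {S : Subgroup Ω} (F : Cfsg.FusionSystem S)
    {G : Type*} [Group G] (ι : S →* G) (hR : F.IsRealizedBy ι) (P : Subgroup Ω) (hP : P ≤ S)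
    (α : MulAut P) (hα : α ∈ F.autGroup P) :
    ∃ g : G, ∀ x : P, ι ⟨((α x : P) : Ω), hP (α x).2⟩ = g * ι ⟨x, hP x.2⟩ * g⁻¹ := by
  unfold FusionSystem.autGroup at hα
  induction hα using Subgroup.closure_induction with
  | mem β hβ =>
    have h := (hR.2 P hP (P.subtype.comp β.toMonoidHom) (fun x => hP (β x).2)).1 hβ
    obtain ⟨g, hg⟩ := h
    exact ⟨g, fun x => hg x⟩
  | one => exact ⟨1, fun x => by simp⟩
  | mul β γ _ _ ihβ ihγ =>
    obtain ⟨g, hg⟩ := ihβ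
    obtain ⟨k, hk⟩ := ihγ
    refine ⟨g * k, fun x => ?_⟩
    have h1 := hg (γ x)
    have h2 := hk x
    show ι ⟨((β (γ x) : P) : Ω), _⟩ = _
    rw [h1, h2]
    simp [mul_assoc]
  | inv β _ ihβ =>
    obtain ⟨g, hg⟩ := ihβ
    refine ⟨g⁻¹, fun x => ?_⟩
    have h1 := hg (β⁻¹ x)
    have h3 : β (β⁻¹ x) = x := by simp
    have h4 : ι ⟨(x : Ω), hP x.2⟩ = g * ι ⟨((β⁻¹ x : P) : Ω), hP (β⁻¹ x).2⟩ * g⁻¹ := by
      rw [← h1]
      congr 2
      rw [h3]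
    rw [h4]
    simp [mul_assoc]

theorem autGroup_realized_pow {Ω : Type*} [Group Ω] {S : Subgroup Ω}
    {G : Type*} [Group G] (ι : S →* G) (P : Subgroup Ω) (hP : P ≤ S)
    (α : MulAut P) (g : G)
    (hg : ∀ x : P, ι ⟨((α x : P) : Ω), hP (α x).2⟩ = g * ι ⟨x, hP x.2⟩ * g⁻¹) (n : ℕ) :
    ∀ x : P, ι ⟨(((α ^ n) x : P) : Ω), hP ((α ^ n) x).2⟩ = g ^ n * ι ⟨x, hP x.2⟩ * (g ^ n)⁻¹ := by
  induction n with
  | zero => intro x; simp
  | succ n ih =>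
    intro x
    have h1 : (α ^ (n + 1)) x = α ((α ^ n) x) := by
      rw [pow_succ']; rfl
    have h2 := hg ((α ^ n) x)
    have h3 := ih x
    have h4 : ι ⟨(((α ^ (n + 1)) x : P) : Ω), hP ((α ^ (n + 1)) x).2⟩
        = ι ⟨((α ((α ^ n) x) : P) : Ω), hP (α ((α ^ n) x)).2⟩ := by
      congr 2
      rw [h1]
    rw [h4, h2, h3, pow_succ']
    simp [mul_assoc]

theorem primeToPIndex_of_conj {Ω : Type*} [Group Ω] {S : Subgroup Ω} [Finite S] (p : ℕ)
    [Fact p.Prime] (hS : IsPGroup p S) (F : Cfsg.FusionSystem S)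
    {G : Type*} [Group G] [Finite G] (ι : S →* G) (hR : F.IsRealizedBy ι)
    (H : Subgroup G) (hH : ∀ g : G, (∃ k : ℕ, orderOf g = p ^ k) → g ∈ H)
    (E₀ : Cfsg.FusionSystem S)
    (hE₀ : ∀ (P : Subgroup Ω) (hP : P ≤ S) (φ : P →* Ω) (hφ : ∀ x : P, φ x ∈ S),
      φ ∈ E₀.Hom P ↔ ∃ h ∈ H, ∀ x : P, ι ⟨φ x, hφ x⟩ = h * ι ⟨x, hP x.2⟩ * h⁻¹) :
    E₀.HasPrimeToPIndexIn F p := by
  refine ⟨?_, ?_⟩
  · intro P φ hφ
    obtain ⟨hP, hφS⟩ := E₀.le_of_mem hφ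
    obtain ⟨h, -, hh⟩ := (hE₀ P hP φ hφS).1 hφ
    exact (hR.2 P hP φ hφS).2 ⟨h, hh⟩
  · intro P hP
    rw [Subgroup.map_le_iff_le_comap, Subgroup.closure_le]
    rintro α ⟨k, hk⟩
    show ((α : MulAut P)) ∈ E₀.autGroup P
    apply Subgroup.subset_closure
    show P.subtype.comp (α : MulAut P).toMonoidHom ∈ E₀.Hom P
    rw [hE₀ P hP (P.subtype.comp (α : MulAut P).toMonoidHom) (fun x => hP ((α : MulAut P) x).2)]
    obtain ⟨g, hg⟩ := autGroup_realized F ι hR P hP (α : MulAut P) α.2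
    obtain ⟨e, he1, j, hj⟩ := exists_pow_pElement p g k
    refine ⟨g ^ e, hH _ ⟨j, hj⟩, ?_⟩
    have hord : orderOf (α : MulAut P) = p ^ k := by
      rw [Subgroup.orderOf_coe]; exact hk
    have hpow : (α : MulAut P) ^ e = (α : MulAut P) := by
      have : (α : MulAut P) ^ e = (α : MulAut P) ^ 1 := by
        rw [pow_eq_pow_iff_modEq, hord]
        exact he1
      rw [this, pow_one]
    intro x
    have h5 := autGroup_realized_pow ι P hP (α : MulAut P) g hg e x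
    have h6 : ι ⟨((((α : MulAut P) ^ e) x : P) : Ω), hP (((α : MulAut P) ^ e) x).2⟩
        = ι ⟨(((α : MulAut P) x : P) : Ω), hP ((α : MulAut P) x).2⟩ := by
      congr 2
      rw [hpow]
    rw [h6] at h5
    exact h5

end Cfsg.Agent.Lib.helper26.RS
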