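import Mathlib
import Cfsg.Agent.Lib.helper90.BG1363B
import Cfsg.Agent.Lib.helper26.BG1374
import Cfsg.Agent.Lib.helper55.BGSigmaJ
import Cfsg.Agent.Lib.helper29.Trans
import Cfsg.Agent.S1429
import Cfsg.Agent.S1430

/-!
# S1363, piece SC (helper90's split): `r ∈ σ(H)` is impossible (from SG, KP, T2 as hypotheses)
-/

set_option autoImplicit false

namespace Cfsg.Agent.Lib.helper90.BG1363

open Cfsg Subgroup Cfsg.Agent.Lib.helper8 Cfsg.Agent.Lib.helper13 Cfsg.Agent.Lib.helper55.BGJ

variable {G : Type*} [Group G]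

theorem helper26_conj_mem_centralizer {A : Subgroup G} {a h : G} (ha : a ∈ A)
    (hh : h ∈ centralizer (A : Set G)) : a * h * a⁻¹ ∈ centralizer (A : Set G) := by
  rw [mem_centralizer_iff] at hh ⊢
  intro b hb
  have hb' : a⁻¹ * b * a * h = h * (a⁻¹ * b * a) :=
    hh _ (A.mul_mem (A.mul_mem (A.inv_mem ha) hb) ha)
  calc b * (a * h * a⁻¹) = a * ((a⁻¹ * b * a) * h) * a⁻¹ := by group
    _ = a * (h * (a⁻¹ * b * a)) * a⁻¹ := by rw [hb']
    _ = a * h * a⁻¹ * b := by group

theorem helper26_le_normalizer_inf_centralizer {A B : Subgroup G}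
    (hAB : A ≤ normalizer (B : Set G)) :
    A ≤ normalizer ((B ⊓ centralizer (A : Set G) : Subgroup G) : Set G) := by
  intro a ha
  rw [mem_normalizer_iff]
  intro h
  have h1 := mem_normalizer_iff.mp (hAB ha) h
  have h2 : h ∈ centralizer (A : Set G) ↔ a * h * a⁻¹ ∈ centralizer (A : Set G) := by
    constructor
    · exact helper26_conj_mem_centralizer ha
    · intro hh
      have h3 := helper26_conj_mem_centralizer (A.inv_mem ha) hh
      have e : a⁻¹ * (a * h * a⁻¹) * a⁻¹⁻¹ = h := by group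
      rwa [e] at h3
  rw [Subgroup.mem_inf, Subgroup.mem_inf, h1, h2]

theorem case_sigma [Finite G] (hG : IsMinSimpleOddOrder G) {M K U : Subgroup G} (c : Ctx M K U)
    (hSG : ∀ H : Subgroup G, IsCoatom H → U ≤ H → K ≤ H → Nat.card K ∉ sigma H)
    (hKP : ∀ H : Subgroup G, IsCoatom H → K ≤ H → Nat.card K ∈ kappa H →
      ∃ g : G, H = M.map (MulAut.conj g).toMonoidHom)
    (hT2 : ∀ (r : ℕ) (X : Subgroup G), X ≤ U → Nat.card X = r →
      K ≤ Subgroup.normalizer (X : Set G) → ∀ H : Subgroup G, IsCoatom H → U ≤ H → K ≤ H →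
      Nat.card K ∉ sigma H → r ∈ tau2 H → False)
    (r : ℕ) (X : Subgroup G) (hXU : X ≤ U) (hX : Nat.card X = r)
    (hKX : K ≤ Subgroup.normalizer (X : Set G))
    (H : Subgroup G) (hH : IsCoatom H) (hNX : Subgroup.normalizer (X : Set G) ≤ H)
    (hrH : r ∈ sigma H) : False := by
  have h30 : Cfsg.Agent.Lib.helper69.H1430 G :=
    fun M hM K hK hK1 => Cfsg.Agent.S1430.result hG M hM K hK hK1
  have hU := bgx_uniq hG
  have hF := bgx_fus hG
  have hM := c.hM
  have hr : r.Prime := hrH.1
  have hqp : (Nat.card K).Prime := ctx_Kprime hG c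
  obtain ⟨q, hq⟩ : ∃ q, q = Nat.card K := ⟨_, rfl⟩
  rw [← hq] at hqp hSG hKP hT2
  have : Fact q.Prime := ⟨hqp⟩
  have hcomm := ctx_comm hG c
  -- 1. `U, K ≤ H`; `q ∉ σ(H) ∪ κ(H)`
  have hUH : U ≤ H := by
    intro u hu
    apply hNX
    rw [Subgroup.mem_normalizer_iff]
    intro x
    have comm : ∀ y ∈ X, u * y = y * u := fun y hy => hcomm u hu y (hXU hy)
    constructor
    · intro hx
      have e : u * x * u⁻¹ = x := by rw [comm x hx]; group
      rw [e]; exact hx
    · intro hx
      have e : x = u⁻¹ * (u * x * u⁻¹) * u := by group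
      have e2 : u⁻¹ * (u * x * u⁻¹) * u = u * x * u⁻¹ := by
        rw [mul_assoc, ← comm _ hx]; group
      rw [e, e2]; exact hx
  have hKH : K ≤ H := hKX.trans hNX
  have hqσ : q ∉ sigma H := hSG H hH hUH hKH
  have hrU : r ∣ Nat.card U := by rw [← hX]; exact Subgroup.card_dvd_of_le hXU
  have hrσM : r ∉ sigma M := ((ctx_hall hG c).2.1 r hr hrU).2.2
  have hqκ : q ∉ kappa H := by
    intro hqκ
    obtain ⟨g, hg⟩ := hKP H hH hKH hqκ
    apply hrσM
    rw [← Cfsg.Agent.Lib.helper3.sigma_map_conj M g, ← hg]; exact hrH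
  -- 2. `H_σ` is nilpotent and contains `X`
  have hqH : q ∣ Nat.card H := by rw [hq]; exact Subgroup.card_dvd_of_le hKH
  obtain ⟨S⟩ : Nonempty (Sylow q ↥H) := inferInstance
  have hnil : Group.IsNilpotent (sigmaCore H) :=
    (Cfsg.Agent.S1429.result hG H hH (fun h => hqκ (h q hqp hqH hqσ)) q hqH
      (by rintro (h | h); exact hqσ h; exact hqκ h) S).2.2
  have hXH : X ≤ H := hXU.trans hUH
  have hXσ : X ≤ sigmaCore H := by
    apply le_sigmaCore_of_le hG hU hF H hH X hXH
    intro p hp hpX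
    rw [hX] at hpX
    have h1 : p = r := (Nat.prime_dvd_prime_iff_eq hp hr).mp hpX
    rw [h1]; exact hrH
  have hnorm := Cfsg.Agent.Lib.helper71.BGA.le_normalizer_sigmaCore H
  have hKσ : ∀ k ∈ K, k ∈ sigmaCore H → k = 1 := by
    intro k hk hkσ
    by_contra hk1
    apply hqσ
    have ho : orderOf k = q := by
      have h1 : orderOf k ∣ q := by rw [hq]; exact Subgroup.orderOf_dvd_natCard K hk
      rcases (Nat.dvd_prime hqp).mp h1 with h | h
      · exact absurd (orderOf_eq_one_iff.mp h) hk1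
      · exact h
    have h2 : q ∣ Nat.card (sigmaCore H) := by
      rw [← ho]; exact Subgroup.orderOf_dvd_natCard _ hkσ
    exact Cfsg.Agent.Lib.helper29.prime_mem_of_dvd_card_piCoreOf (sigma H) H q hqp h2
  by_cases hUσ : U ≤ sigmaCore H
  · -- 3. `U ≤ H_σ`
    by_cases hUeq : U = sigmaCore H
    · have hHM : H ≤ M := by
        intro h hh
        apply c.hNU
        rw [hUeq]; exact hnorm hh
      rcases hH.le_iff.mp hHM with h | h
      · exact hM.1 h
      · apply hrσM; rw [h]; exact hrH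
    · have hlt : U.subgroupOf (sigmaCore H) < ⊤ := by
        rw [lt_top_iff_ne_top]
        intro h
        exact hUeq (le_antisymm hUσ (Subgroup.subgroupOf_eq_top.mp h))
      have hnc := Group.normalizerCondition_of_isNilpotent (G := ↥(sigmaCore H)) _ hlt
      obtain ⟨n, hn, hnU⟩ := SetLike.exists_of_lt hnc
      have hnN : (n : G) ∈ normalizer (U : Set G) := by
        rw [mem_normalizer_iff] at hn ⊢
        intro h
        constructor
        · intro hh
          have h1 := (hn ⟨h, hUσ hh⟩).mp (by rw [mem_subgroupOf]; exact hh)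
          rw [mem_subgroupOf] at h1
          simpa using h1
        · intro hh
          have hhσ : h ∈ sigmaCore H := by
            have h1 := (sigmaCore H).mul_mem
              ((sigmaCore H).mul_mem ((sigmaCore H).inv_mem n.2) (hUσ hh)) n.2
            have e : (n : G)⁻¹ * ((n : G) * h * (n : G)⁻¹) * (n : G) = h := by group
            rwa [e] at h1
          have h2 := (hn ⟨h, hhσ⟩).mpr (by rw [mem_subgroupOf]; simpa using hh)
          rw [mem_subgroupOf] at h2
          exact h2
      obtain ⟨u, hu, k, hk, hnuk⟩ := ctx_norm hG c (n : G) hnN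
      have hkσ : k ∈ sigmaCore H := by
        have h1 : k = u⁻¹ * (n : G) := by rw [hnuk]; group
        rw [h1]; exact (sigmaCore H).mul_mem ((sigmaCore H).inv_mem (hUσ hu)) n.2
      have hk1 := hKσ k hk hkσ
      apply hnU
      rw [mem_subgroupOf, hnuk, hk1, mul_one]; exact hu
  · -- 4. some prime `t` of `|U|` is outside `σ(H)`
    obtain ⟨u, hu, huσ⟩ := SetLike.not_le_iff_exists.mp hUσ
    obtain ⟨t, ht, htu, htσ⟩ : ∃ t : ℕ, t.Prime ∧ t ∣ orderOf u ∧ t ∉ sigma H := by
      by_contra hcon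
      push Not at hcon
      apply huσ
      have h1 : zpowers u ≤ sigmaCore H := by
        apply le_sigmaCore_of_le hG hU hF H hH (zpowers u) (by rw [zpowers_le]; exact hUH hu)
        intro p hp hpd
        rw [Nat.card_zpowers] at hpd
        exact hcon p hp hpd
      exact h1 (mem_zpowers u)
    have htU : t ∣ Nat.card U := htu.trans (Subgroup.orderOf_dvd_natCard U hu)
    obtain ⟨X', hX'U, hX't, hKX'⟩ := ctx_omega hG c t ht htU
    have hX'H : X' ≤ H := hX'U.trans hUH
    have hX'1 : X' ≠ ⊥ := by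
      rintro rfl
      rw [Subgroup.card_bot] at hX't
      exact ht.one_lt.ne hX't
    have htκ : t ∉ kappa H := by
      intro htκ
      obtain ⟨KH, hKHhall, hX'KH⟩ :=
        exists_hall_kappa_ge hG H hH X' hX'H (by rw [hX't]; exact htκ)
      have hKH1 : KH ≠ ⊥ := fun h => hX'1 (le_bot_iff.mp (h ▸ hX'KH))
      obtain ⟨-, -, h3⟩ := h30 H hH KH hKHhall hKH1
      have h4 := (h3 X' hX'KH (by rw [hX't]; exact ht)).1
      have hKle : K ≤ KH ⊔ (sigmaCore H ⊓ centralizer (KH : Set G)) := by
        rw [← h4]; exact le_inf hKH hKX'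
      have hnormKH : KH ≤
          normalizer ((sigmaCore H ⊓ centralizer (KH : Set G) : Subgroup G) : Set G) :=
        helper26_le_normalizer_inf_centralizer (hKHhall.1.trans hnorm)
      have hdvd : q ∣ Nat.card (sigmaCore H ⊓ centralizer (KH : Set G) : Subgroup G) *
          Nat.card KH := by
        have h5 : q ∣ Nat.card ↥(KH ⊔ (sigmaCore H ⊓ centralizer (KH : Set G))) := by
          rw [hq]; exact Subgroup.card_dvd_of_le hKle
        exact h5.trans (card_sup_dvd_mul hnormKH)
      rcases (Nat.Prime.dvd_mul hqp).mp hdvd with h | h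
      · apply hqσ
        exact Cfsg.Agent.Lib.helper29.prime_mem_of_dvd_card_piCoreOf (sigma H) H q hqp
          (h.trans (Subgroup.card_dvd_of_le inf_le_left))
      · exact hqκ (hKHhall.2.1 q hqp h)
    have hr1 : ¬ PRankLE t 1 ↥H := by
      intro hrk
      apply htκ
      obtain ⟨y, hy, hy1⟩ : ∃ y ∈ X', y ≠ 1 := by
        by_contra hcon; push Not at hcon
        exact hX'1 ((Subgroup.eq_bot_iff_forall X').mpr hcon)
      have hyo : orderOf y = t := by
        have h1 : orderOf y ∣ t := by rw [← hX't]; exact Subgroup.orderOf_dvd_natCard X' hy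
        rcases (Nat.dvd_prime ht).mp h1 with h | h
        · exact absurd (orderOf_eq_one_iff.mp h) hy1
        · exact h
      have hX1 : X ≠ ⊥ := by
        rintro rfl
        rw [Subgroup.card_bot] at hX
        exact hr.one_lt.ne hX
      obtain ⟨k, hk, hk1⟩ : ∃ k ∈ X, k ≠ 1 := by
        by_contra hcon; push Not at hcon
        exact hX1 ((Subgroup.eq_bot_iff_forall X).mpr hcon)
      exact mem_kappa_of_rank_one hG H t ht htσ hrk y k (hX'H hy) hyo (hXσ hk) hk1
        (hcomm y (hX'U hy) k (hXU hk))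
    have hr2 : PRankLE t 2 ↥H := by
      by_contra h
      exact htσ (bg_alpha_sub_sigma hG hU H hH ⟨ht, h⟩)
    exact hT2 t X' hX'U hX't hKX' H hH hUH hKH hqσ ⟨ht, htσ, hr2, hr1⟩

end Cfsg.Agent.Lib.helper90.BG1363
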