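import Mathlib
import Cfsg.Agent.Lib.helper90.BG1363B
import Cfsg.Agent.Lib.helper25.BG1367
import Cfsg.Agent.Lib.helper25.BGTenNineC
import Cfsg.Agent.Lib.helper26.BG1374
import Cfsg.Agent.Lib.helper74.BGPairA
import Cfsg.Agent.Lib.helper29.Trans
import Cfsg.Agent.S1378
import Cfsg.Agent.S1404

/-!
# S1363, piece SG (helper90's split): `|K| ∉ σ(H)` for every maximal subgroup `H ≥ U K`
-/

set_option autoImplicit false

namespace Cfsg.Agent.Lib.helper90.BG1363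

open Cfsg Subgroup Cfsg.Agent.Lib.helper13 Cfsg.Agent.Lib.helper26.BG1374

variable {G : Type*} [Group G]

theorem not_sigma [Finite G] (hG : IsMinSimpleOddOrder G) {M K U : Subgroup G} (c : Ctx M K U)
    (H : Subgroup G) (hH : IsCoatom H) (hUH : U ≤ H) (hKH : K ≤ H) :
    Nat.card K ∉ sigma H := by
  intro hqH
  have h30 : Cfsg.Agent.Lib.helper69.H1430 G :=
    fun M hM K hK hK1 => Cfsg.Agent.S1430.result hG M hM K hK hK1
  have hM := c.hM
  have hKhall := c.hKU.hall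
  have hK1 := c.hK1
  have hqp : (Nat.card K).Prime := ctx_Kprime hG c
  obtain ⟨q, hq⟩ : ∃ q, q = Nat.card K := ⟨_, rfl⟩
  rw [← hq] at hqp hqH
  have : Fact q.Prime := ⟨hqp⟩
  have hKpg : IsPGroup q K := IsPGroup.of_card (n := 1) (by rw [← hq, pow_one])
  -- 1. a maximal subgroup `L` over `N_G(K)`
  have hNtop := Cfsg.Agent.Lib.helper25.BGT.normalizer_ne_top_of_isPGroup hG q K hKpg hK1
  obtain ⟨L, hL, hNL⟩ := (eq_top_or_exists_le_coatom _).resolve_left hNtop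
  obtain ⟨h30a, -, h30c⟩ := h30 M hM K hKhall hK1
  have hKLσ : K ≤ sigmaCore L := (h30c K le_rfl (hq ▸ hqp)).2.2 L hL hNL
  have hqL : q ∈ sigma L := by
    have h1 : q ∣ Nat.card (sigmaCore L) := by rw [hq]; exact Subgroup.card_dvd_of_le hKLσ
    exact Cfsg.Agent.Lib.helper29.prime_mem_of_dvd_card_piCoreOf (sigma L) L q hqp h1
  -- 2. `H = L`
  obtain ⟨g, hg⟩ := (Cfsg.Agent.S1378.result hG).2 L H hL hH ⟨q, hqL, hqH⟩
  have hKL : K ≤ L := le_normalizer.trans hNL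
  have hHL : H = L := by
    have hKg : K.map (MulAut.conj g⁻¹).toMonoidHom ≤ L := by
      rintro _ ⟨k, hk, rfl⟩
      have h1 : k ∈ L.map (MulAut.conj g).toMonoidHom := hg ▸ hKH hk
      rw [sf_mem_map_conj_iff] at h1
      simpa using h1
    obtain ⟨m, hm, c', hc', hgc⟩ :=
      (Cfsg.Agent.S1404.result hG L hL q hqL K hKpg hK1 hKL).1 g⁻¹ hKg
    have hcL : c' ∈ L := hNL (Subgroup.centralizer_le_normalizer _ hc')
    have hgL : g ∈ L := by
      have h2 : g = c'⁻¹ * m⁻¹ := by rw [← mul_inv_rev, ← hgc, inv_inv]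
      rw [h2]; exact L.mul_mem (L.inv_mem hcL) (L.inv_mem hm)
    rw [hg]; exact map_conj_of_mem hgL
  subst hHL
  -- 3. `U ≤ H_σ`
  obtain ⟨k, hk, hk1⟩ : ∃ k ∈ K, k ≠ 1 := by
    by_contra hcon; push Not at hcon
    exact hK1 ((Subgroup.eq_bot_iff_forall K).mpr hcon)
  have hnorm := Cfsg.Agent.Lib.helper71.BGA.le_normalizer_sigmaCore H
  have hULσ : U ≤ sigmaCore H := by
    intro u hu
    obtain ⟨v, hv, rfl⟩ := ctx_comm_surj hG c U le_rfl (c.hKU.normal) k hk hk1 u hu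
    have h1 : v * k * v⁻¹ ∈ sigmaCore H :=
      (mem_normalizer_iff.mp (hnorm (hUH hv)) k).mp (hKLσ hk)
    exact (sigmaCore H).mul_mem h1 ((sigmaCore H).inv_mem (hKLσ hk))
  -- 4. `K*` commutes with `U`
  have hKs := Cfsg.Agent.Lib.helper25.BG1367.ks_ne_bot h30 M hM K hKhall hK1
  obtain ⟨y, hy, hy1⟩ : ∃ y ∈ sigmaCore M ⊓ centralizer (K : Set G), y ≠ 1 := by
    by_contra hcon; push Not at hcon
    exact hKs ((Subgroup.eq_bot_iff_forall _).mpr hcon)
  have hdisj : ∀ p : ℕ, p ∈ sigma M → p ∉ sigma H := by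
    intro p hpM hpH
    obtain ⟨g', hg'⟩ := (Cfsg.Agent.S1378.result hG).2 M H hM hH ⟨p, hpM, hpH⟩
    have h1 : q ∈ sigma M := by
      rw [← Cfsg.Agent.Lib.helper3.sigma_map_conj M g', ← hg']; exact hqH
    have hqκ : q ∈ kappa M := hKhall.2.1 q hqp (by rw [hq])
    exact hqκ.2.2.1 h1
  have hbot := Cfsg.Agent.Lib.helper74.BGPairA.sigmaCore_inf_sigmaCore hG M H hM hH hdisj
  obtain ⟨u, hu, hu1⟩ : ∃ u ∈ U, u ≠ 1 := by
    by_contra hcon; push Not at hcon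
    exact c.hU1 ((Subgroup.eq_bot_iff_forall U).mpr hcon)
  have hUM : U ≤ M := c.hKU.compl.1
  have hMnorm := Cfsg.Agent.Lib.helper71.BGA.le_normalizer_sigmaCore M
  have hyH : y ∈ H := hNL (Subgroup.centralizer_le_normalizer _ hy.2)
  have hcomm : u * y * u⁻¹ * y⁻¹ ∈ sigmaCore M ⊓ sigmaCore H := by
    constructor
    · have h1 : u * y * u⁻¹ ∈ sigmaCore M :=
        (mem_normalizer_iff.mp (hMnorm (hUM hu)) y).mp hy.1
      exact (sigmaCore M).mul_mem h1 ((sigmaCore M).inv_mem hy.1)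
    · have h1 : y * u⁻¹ * y⁻¹ ∈ sigmaCore H :=
        (mem_normalizer_iff.mp (hnorm hyH) u⁻¹).mp ((sigmaCore H).inv_mem (hULσ hu))
      have h2 := (sigmaCore H).mul_mem (hULσ hu) h1
      have e : u * (y * u⁻¹ * y⁻¹) = u * y * u⁻¹ * y⁻¹ := by group
      rwa [e] at h2
  rw [hbot, Subgroup.mem_bot] at hcomm
  have hyu : y ∈ sigmaCore M ⊓ centralizer ({u} : Set G) := by
    refine ⟨hy.1, mem_centralizer_singleton_iff.mpr ?_⟩
    have h3 : u * y * u⁻¹ * y⁻¹ * (y * u) = 1 * (y * u) := by rw [hcomm]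
    have e : u * y * u⁻¹ * y⁻¹ * (y * u) = u * y := by group
    rw [e, one_mul] at h3
    exact h3.symm
  rw [ctx_free hG c u hu hu1, Subgroup.mem_bot] at hyu
  exact hy1 hyu

end Cfsg.Agent.Lib.helper90.BG1363
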