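import Mathlib
import Cfsg.Agent.Lib.helper55.P2Defs
import Cfsg.Agent.Lib.helper27.BGKPrime
import Cfsg.Agent.Lib.helper60.BGCentU
import Cfsg.Agent.Lib.helper87.BG1425Main
import Cfsg.Agent.Lib.helper12.FrobFixB
import Cfsg.Agent.Lib.helper54.BGSigmaNe
import Cfsg.Agent.Lib.helper71.BGTwelveFour
import Cfsg.Agent.Lib.helper65.Fitting
import Cfsg.Agent.S1420
import Cfsg.Agent.S1429
import Cfsg.Agent.S1418
import Cfsg.Agent.S1417
import Cfsg.Agent.S1403

/-!
# S1435, piece P4 (`sig_absorb`, "Lemma S")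

`H` a maximal subgroup with `κ(H) = ∅`, `K ≤ H` of prime order `p ∉ σ(H)` with `C_{H_σ}(K) = 1`,
`V ≤ H` a nontrivial abelian `s`-group (`s ∉ σ(H)`, `s ≠ p`) normalized by `K` with `C_V(K) = 1`.
Then `s ∈ τ₂(H)`, `W := Ω₁(V)` has order `s`, `C_G(W)` lies in `H` only, and some element of order `s`
of `H` centralizes both `K` and `V`.
-/

set_option autoImplicit false

namespace Cfsg.Agent.Lib.helper55.P2

open Cfsg Subgroup
open scoped commutatorElement

variable {G : Type*} [Group G]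

/-- A subgroup of prime order is generated by each of its non-identity elements. -/
theorem helper26_p4_gen [Finite G] {K : Subgroup G} (hKp : (Nat.card K).Prime) {k : G}
    (hk : k ∈ K) (hk1 : k ≠ 1) : K = zpowers k := by
  have hle : zpowers k ≤ K := by rw [zpowers_le]; exact hk
  have hdvd : Nat.card (zpowers k) ∣ Nat.card K := Subgroup.card_dvd_of_le hle
  have hne : Nat.card (zpowers k) ≠ 1 := by
    intro h
    rw [Subgroup.card_eq_one] at h
    exact hk1 (Subgroup.zpowers_eq_bot.mp h)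
  have heq : Nat.card (zpowers k) = Nat.card K := ((Nat.dvd_prime hKp).mp hdvd).resolve_left hne
  exact (Subgroup.eq_of_le_of_card_ge hle heq.symm.le).symm

/-- A group of prime order with no fixed point on `V` acts fixed-point-freely elementwise. -/
theorem helper26_p4_fpf [Finite G] {K V : Subgroup G} (hKp : (Nat.card K).Prime)
    (hVK : V ⊓ centralizer (K : Set G) = ⊥) :
    ∀ e ∈ K, e ≠ 1 → ∀ u ∈ V, e * u = u * e → u = 1 := by
  intro e he he1 u hu hc
  have hK := helper26_p4_gen hKp he he1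
  have h1 : zpowers e ≤ centralizer ({u} : Set G) := by
    rw [zpowers_le, mem_centralizer_iff]
    intro y hy
    rw [Set.mem_singleton_iff] at hy
    rw [hy]; exact hc.symm
  have h2 : u ∈ V ⊓ centralizer (K : Set G) := by
    refine mem_inf.mpr ⟨hu, ?_⟩
    rw [mem_centralizer_iff]
    intro k hk
    have hk' : k ∈ zpowers e := by rw [← hK]; exact hk
    exact (mem_centralizer_iff.mp (h1 hk') u rfl).symm
  rw [hVK, mem_bot] at h2
  exact h2

/-- Frobenius-type action: if `K` (of prime order) has no fixed point on `V` and `V ⊔ K` acts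
coprimely on the solvable group `X` with `C_X(K) = 1`, then `V` centralizes `X`. -/
theorem helper26_p4_cent [Finite G] {K V X : Subgroup G} (hKp : (Nat.card K).Prime)
    (hKV : K ≤ normalizer (V : Set G)) (hVK : V ⊓ centralizer (K : Set G) = ⊥)
    (hXn : V ⊔ K ≤ normalizer (X : Set G)) (hsolv : Group.IsSolvable X)
    (hcop : Nat.Coprime (Nat.card X) (Nat.card ↥(V ⊔ K)))
    (hXK : X ⊓ centralizer (K : Set G) = ⊥) : X ≤ centralizer (V : Set G) := by
  have hK1 : K ≠ ⊥ := by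
    intro h
    rw [h, Subgroup.card_bot] at hKp
    exact Nat.not_prime_one hKp
  have hff := Cfsg.Agent.Lib.helper12.ff_formula V K X hK1
    (fun e he u hu => Subgroup.le_normalizer_iff.mp hKV e he u hu)
    (helper26_p4_fpf hKp hVK)
    (fun x hx h hh => Subgroup.le_normalizer_iff.mp hXn x hx h hh) hsolv hcop
  have h1 : X ⊓ centralizer ((V ⊔ K : Subgroup G) : Set G) = ⊥ := by
    rw [eq_bot_iff, ← hXK]
    exact inf_le_inf_left _ (centralizer_le (le_sup_right : K ≤ V ⊔ K))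
  rw [h1, hXK, Subgroup.card_bot, one_pow, one_mul, one_mul] at hff
  have h2 : X ⊓ centralizer (V : Set G) = X :=
    Subgroup.eq_of_le_of_card_ge inf_le_left hff.le
  rw [← h2]
  exact inf_le_right

/-- (P4) Lemma S. -/
theorem helper26_sig_absorb [Finite G] (hG : IsMinSimpleOddOrder G) (H : Subgroup G) (hH : IsCoatom H)
    (hκ : kappa H = ∅) (K : Subgroup G) (hKH : K ≤ H) (hKp : (Nat.card K).Prime)
    (hpσ : Nat.card K ∉ sigma H) (hCK : sigmaCore H ⊓ centralizer (K : Set G) = ⊥)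
    (s : ℕ) (hs : s.Prime) (hsp : s ≠ Nat.card K) (hsσ : s ∉ sigma H)
    (V : Subgroup G) (hVH : V ≤ H) (hVc : ∀ a ∈ V, ∀ b ∈ V, a * b = b * a) (hVs : IsPGroup s V)
    (hV1 : V ≠ ⊥) (hKV : K ≤ normalizer (V : Set G)) (hVK : V ⊓ centralizer (K : Set G) = ⊥) :
    ∃ (x : G) (W : Subgroup G), x ∈ H ∧ orderOf x = s ∧ x ∈ centralizer (K : Set G) ∧
      x ∈ centralizer (V : Set G) ∧ W ≤ V ∧ Nat.card W = s ∧ K ≤ normalizer (W : Set G) ∧
      centralizer (W : Set G) ≤ H ∧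
      (∀ L : Subgroup G, IsCoatom L → centralizer (W : Set G) ≤ L → L = H) ∧ PRankLE s 2 H := by
  have : Fact s.Prime := ⟨hs⟩
  have hU : Cfsg.Agent.Lib.helper8.BGUniqHyp G :=
    fun K hK h1 h2 => Cfsg.Agent.S1403.result hG K hK h1 h2
  have hHσn : H ≤ normalizer (sigmaCore H : Set G) :=
    Cfsg.Agent.Lib.helper13.le_normalizer_sigmaCore H
  have hσ1 : sigmaCore H ≠ ⊥ := Cfsg.Agent.Lib.helper54.sigmaCore_ne_bot hG H hH
  have hVKH : V ⊔ K ≤ H := sup_le hVH hKH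
  have hVKdvd : Nat.card ↥(V ⊔ K) ∣ Nat.card V * Nat.card K := by
    have h1 := Cfsg.Agent.Lib.helper65.card_sup_dvd_mul hKV
    rwa [sup_comm, mul_comm] at h1
  have hVKprime : ∀ q : ℕ, q.Prime → q ∣ Nat.card ↥(V ⊔ K) → q ∉ sigma H := by
    intro q hq hqd
    rcases (Nat.Prime.dvd_mul hq).mp (hqd.trans hVKdvd) with h2 | h2
    · obtain ⟨n, hn⟩ := IsPGroup.iff_card.mp hVs
      rw [hn] at h2
      have h3 := (Nat.prime_dvd_prime_iff_eq hq hs).mp (hq.dvd_of_dvd_pow h2)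
      rw [h3]; exact hsσ
    · have h3 := (Nat.prime_dvd_prime_iff_eq hq hKp).mp h2
      rw [h3]; exact hpσ
  obtain ⟨E, hE, hVKE⟩ :=
    Cfsg.Agent.Lib.helper60.BGCentU.exists_compl_ge hG H hH (V ⊔ K) hVKH hVKprime
  have hVE : V ≤ E := le_sup_left.trans hVKE
  have hKE : K ≤ E := le_sup_right.trans hVKE
  have hEH : E ≤ H := hE.1
  have hcardH : Nat.card E * Nat.card (sigmaCore H) = Nat.card H :=
    Cfsg.Agent.Lib.helper60.BGCentU.card_of_isComplIn hE
  have hsσcard : ¬ s ∣ Nat.card (sigmaCore H) := fun h =>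
    hsσ (Cfsg.Agent.Lib.helper71.BG12.mem_sigma_of_dvd_card_sigmaCore H hs h)
  -- a Sylow `s`-subgroup of `E` containing `V`; it is a Sylow `s`-subgroup of `H`
  have hVsE : IsPGroup s (V.subgroupOf E) := hVs.comap_subtype
  obtain ⟨Q, hQ⟩ := hVsE.exists_le_sylow
  obtain ⟨SE, hSE⟩ : ∃ SE : Subgroup G, SE = (Q : Subgroup E).map E.subtype := ⟨_, rfl⟩
  have hSEE : SE ≤ E := by rw [hSE]; exact map_subtype_le _
  have hVSE : V ≤ SE := by
    intro v hv
    rw [hSE]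
    exact ⟨⟨v, hVE hv⟩, hQ (mem_subgroupOf.mpr hv), rfl⟩
  have hSEcard : Nat.card SE = s ^ (Nat.card E).factorization s := by
    rw [hSE, Subgroup.card_map_of_injective E.subtype_injective]
    exact Q.card_eq_multiplicity
  have hfac : (Nat.card H).factorization s = (Nat.card E).factorization s := by
    rw [← hcardH, Nat.factorization_mul Nat.card_pos.ne' Nat.card_pos.ne', Finsupp.add_apply,
      Nat.factorization_eq_zero_of_not_dvd hsσcard, add_zero]
  have hSEH : SE ≤ H := hSEE.trans hEH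
  have hS0card : Nat.card (SE.subgroupOf H) = s ^ (Nat.card H).factorization s := by
    rw [hfac, ← hSEcard]
    exact Nat.card_congr (Subgroup.subgroupOfEquivOfLe hSEH).toEquiv
  obtain ⟨S, hSdef⟩ : ∃ S : Sylow s H, (S : Subgroup H) = SE.subgroupOf H :=
    ⟨Sylow.ofCard _ hS0card, rfl⟩
  have hSmap : (S : Subgroup H).map H.subtype = SE := by
    rw [hSdef, Subgroup.map_subgroupOf_eq_of_le hSEH]
  -- S1429
  have hpH : Nat.card K ∣ Nat.card H := Subgroup.card_dvd_of_le hKH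
  have hP1 : ¬ (∀ q : ℕ, q.Prime → q ∣ Nat.card H → q ∉ sigma H → q ∈ kappa H) := by
    intro h
    have h1 := h _ hKp hpH hpσ
    rw [hκ] at h1
    exact h1
  have hsV : s ∣ Nat.card V := by
    obtain ⟨n, hn⟩ := IsPGroup.iff_card.mp hVs
    rw [hn]
    rcases Nat.eq_zero_or_pos n with h0 | h0
    · exfalso
      rw [h0, pow_zero] at hn
      exact hV1 (Subgroup.card_eq_one.mp hn)
    · exact dvd_pow_self s h0.ne'
  have hsH : s ∣ Nat.card H := hsV.trans (Subgroup.card_dvd_of_le hVH)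
  have hsκ : s ∉ sigma H ∪ kappa H := by
    rw [hκ, Set.union_empty]; exact hsσ
  obtain ⟨h29a, h29b, h29c⟩ := Cfsg.Agent.S1429.result hG H hH hP1 s hsH hsκ S
  rw [hSmap] at h29a h29b
  obtain ⟨Ω, hΩ⟩ : ∃ Ω : Subgroup G, Ω = closure {x : G | x ∈ SE ∧ x ^ s = 1} := ⟨_, rfl⟩
  rw [← hΩ] at h29a h29b
  have hσsolv : Group.IsSolvable (sigmaCore H) := by
    have := h29c
    infer_instance
  have hcop : Nat.Coprime (Nat.card (sigmaCore H)) (Nat.card ↥(V ⊔ K)) := by
    by_contra h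
    obtain ⟨q, hq, hq1, hq2⟩ := Nat.Prime.not_coprime_iff_dvd.mp h
    exact hVKprime q hq hq2
      (Cfsg.Agent.Lib.helper71.BG12.mem_sigma_of_dvd_card_sigmaCore H hq hq1)
  have hσV : sigmaCore H ≤ centralizer (V : Set G) :=
    helper26_p4_cent hKp hKV hVK (hVKH.trans hHσn) hσsolv hcop hCK
  -- `W = Ω₁(V)`
  have hVcomm : IsMulCommutative V := ⟨⟨fun x y => Subtype.ext (hVc x x.2 y y.2)⟩⟩
  obtain ⟨W, hWdef⟩ : ∃ W : Subgroup G, W = Cfsg.Agent.Lib.helper27.BGKP.omegaSub V hVcomm s :=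
    ⟨_, rfl⟩
  have hWmem : ∀ u : G, u ∈ W ↔ u ∈ V ∧ u ^ s = 1 := fun u => by rw [hWdef]; exact Iff.rfl
  have hWV : W ≤ V := fun a ha => ((hWmem a).mp ha).1
  have hW1 : W ≠ ⊥ := by
    obtain ⟨u, hu⟩ := exists_prime_orderOf_dvd_card' s hsV
    intro h0
    have hmem : (u : G) ∈ W := by
      rw [hWmem]
      refine ⟨u.2, ?_⟩
      have h1 := pow_orderOf_eq_one u
      rw [hu] at h1
      have h2 := congrArg Subtype.val h1
      rwa [Subgroup.coe_pow] at h2
    rw [h0, Subgroup.mem_bot] at hmem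
    have h3 : u = 1 := Subtype.ext hmem
    rw [h3, orderOf_one] at hu
    exact hs.one_lt.ne hu
  have hKW : K ≤ normalizer (W : Set G) := by
    apply Subgroup.le_normalizer_iff.mpr
    intro k hk a ha
    rw [hWmem] at ha ⊢
    refine ⟨Subgroup.le_normalizer_iff.mp hKV k hk a ha.1, ?_⟩
    rw [conj_pow, ha.2, mul_one, mul_inv_cancel]
  have hWΩ : W ≤ Ω := by
    intro u hu
    rw [hΩ]
    exact subset_closure ⟨hVSE ((hWmem u).mp hu).1, ((hWmem u).mp hu).2⟩
  have hσW : sigmaCore H ≤ centralizer (W : Set G) := hσV.trans (centralizer_le hWV)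
  have hWneΩ : W ≠ Ω := by
    intro h
    apply hσ1
    rw [eq_bot_iff, ← h29b, ← h]
    exact le_inf le_rfl hσW
  -- orders
  have hSEp : IsPGroup s SE := by rw [hSE]; exact Q.isPGroup'.map E.subtype
  have hΩSE : Ω ≤ SE := by
    rw [hΩ, closure_le]
    intro x hx
    exact hx.1
  obtain ⟨a, ha⟩ := IsPGroup.iff_card.mp (hVs.to_le hWV)
  obtain ⟨b, hb⟩ := IsPGroup.iff_card.mp (hSEp.to_le hΩSE)
  have ha1 : a ≠ 0 := by
    intro h0
    rw [h0, pow_zero] at ha
    exact hW1 (Subgroup.card_eq_one.mp ha)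
  have hab : a ≤ b := by
    have h1 := Subgroup.card_dvd_of_le hWΩ
    rw [ha, hb] at h1
    exact (Nat.pow_dvd_pow_iff_le_right hs.one_lt).mp h1
  have hab' : a ≠ b := by
    intro h
    apply hWneΩ
    exact Subgroup.eq_of_le_of_card_ge hWΩ (by rw [ha, hb, h])
  have hb2 : b ≤ 2 := by
    rw [hb] at h29a
    exact (Nat.pow_le_pow_iff_right hs.one_lt).mp h29a
  have ha_eq : a = 1 := by omega
  have hb_eq : b = 2 := by omega
  have hWcard : Nat.card W = s := by rw [ha, ha_eq, pow_one]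
  have hΩcard : Nat.card Ω = s ^ 2 := by rw [hb, hb_eq]
  have hΩcomm : IsMulCommutative Ω := IsPGroup.isMulCommutative_of_card_eq_prime_sq hΩcard
  have hΩc : ∀ a b : Ω, a * b = b * a := hΩcomm.is_comm.comm
  have hΩexp : ∀ x ∈ Ω, x ^ s = 1 := by
    intro x hx
    have hx' : x ∈ closure {x : G | x ∈ SE ∧ x ^ s = 1} := by rw [← hΩ]; exact hx
    refine Subgroup.closure_induction (p := fun y _ => y ^ s = 1) ?_ ?_ ?_ ?_ hx'
    · intro y hy
      exact hy.2
    · exact one_pow s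
    · intro y z hy hz hys hzs
      have hyΩ : y ∈ Ω := by rw [hΩ]; exact hy
      have hzΩ : z ∈ Ω := by rw [hΩ]; exact hz
      have hc : Commute y z := congrArg Subtype.val (hΩc ⟨y, hyΩ⟩ ⟨z, hzΩ⟩)
      rw [hc.mul_pow, hys, hzs, one_mul]
    · intro y hy hys
      rw [inv_pow, hys, inv_one]
  -- `s ∈ τ₂(H)`
  have hr2 : PRankLE s 2 H := by
    by_contra h
    exact hsσ (Cfsg.Agent.Lib.helper8.bg_alpha_sub_sigma hG hU H hH ⟨hs, h⟩)
  have hΩH : Ω ≤ H := hΩSE.trans hSEH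
  have hr1 : ¬ PRankLE s 1 H := by
    intro h
    have hc1 : IsMulCommutative (Ω.subgroupOf H) := by
      refine ⟨⟨fun x y => ?_⟩⟩
      apply Subtype.ext
      apply Subtype.ext
      have h0 := congrArg Subtype.val (hΩc ⟨x.1.1, x.2⟩ ⟨y.1.1, y.2⟩)
      exact h0
    have he1 : ∀ a ∈ Ω.subgroupOf H, a ^ s = 1 := by
      intro a ha
      apply Subtype.ext
      rw [Subgroup.coe_pow]
      exact hΩexp _ (mem_subgroupOf.mp ha)
    have h1 := h (Ω.subgroupOf H) hc1 he1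
    have h2 : Nat.card (Ω.subgroupOf H) = Nat.card Ω :=
      Nat.card_congr (Subgroup.subgroupOfEquivOfLe hΩH).toEquiv
    rw [h2, hΩcard] at h1
    have h3 := (Nat.pow_le_pow_iff_right hs.one_lt).mp h1
    omega
  have hτ2 : s ∈ tau2 H := ⟨hs, hsσ, hr2, hr1⟩
  have hΩE : Ω ≤ E := hΩSE.trans hSEE
  have hΩel : IsElementaryAbelian s Ω := ⟨hΩcomm, hΩexp⟩
  obtain ⟨⟨h18a, -⟩, -, h18c⟩ :=
    Cfsg.Agent.S1418.result hG H hH E hE s hτ2 Ω ⟨hΩE, hΩel, hΩcard⟩
  have hσW' : sigmaCore H ⊓ centralizer (W : Set G) ≠ ⊥ := by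
    intro h
    apply hσ1
    rw [eq_bot_iff, ← h]
    exact le_inf le_rfl hσW
  obtain ⟨hCW, huniq⟩ := h18c W hWΩ hWcard hσW'
  -- the element `x`
  have hΩK : Ω ⊓ centralizer (K : Set G) ≠ ⊥ := by
    intro h
    have hKΩ : K ≤ normalizer (Ω : Set G) := hKE.trans h18a
    have hΩKH : Ω ⊔ K ≤ H := sup_le hΩH hKH
    have hcop2 : Nat.Coprime (Nat.card (sigmaCore H)) (Nat.card ↥(Ω ⊔ K)) := by
      by_contra hc
      obtain ⟨q, hq, hq1, hq2⟩ := Nat.Prime.not_coprime_iff_dvd.mp hc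
      have hqσ := Cfsg.Agent.Lib.helper71.BG12.mem_sigma_of_dvd_card_sigmaCore H hq hq1
      have h1 : Nat.card ↥(Ω ⊔ K) ∣ Nat.card Ω * Nat.card K := by
        have h0 := Cfsg.Agent.Lib.helper65.card_sup_dvd_mul hKΩ
        rwa [sup_comm, mul_comm] at h0
      rcases (Nat.Prime.dvd_mul hq).mp (hq2.trans h1) with h2 | h2
      · rw [hΩcard] at h2
        have h3 := (Nat.prime_dvd_prime_iff_eq hq hs).mp (hq.dvd_of_dvd_pow h2)
        exact hsσ (h3 ▸ hqσ)
      · have h3 := (Nat.prime_dvd_prime_iff_eq hq hKp).mp h2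
        exact hpσ (h3 ▸ hqσ)
    have h2 := helper26_p4_cent hKp hKΩ h (hΩKH.trans hHσn) hσsolv hcop2 hCK
    apply hσ1
    rw [eq_bot_iff, ← h29b]
    exact le_inf le_rfl h2
  obtain ⟨⟨x, hx⟩, hx1⟩ := Subgroup.ne_bot_iff_exists_ne_one.mp hΩK
  obtain ⟨hxΩ, hxK⟩ := mem_inf.mp hx
  have hx1' : x ≠ 1 := fun h0 => hx1 (Subtype.ext h0)
  have hxo : orderOf x = s := by
    have h1 : orderOf x ∣ s := orderOf_dvd_of_pow_eq_one (hΩexp x hxΩ)
    rcases (Nat.dvd_prime hs).mp h1 with h2 | h2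
    · exact absurd (orderOf_eq_one_iff.mp h2) hx1'
    · exact h2
  obtain ⟨-, h17b, -⟩ := Cfsg.Agent.S1417.result hG H hH s hτ2 Ω ⟨hΩH, hΩel, hΩcard⟩
  have hSc := (h17b S).1
  have hSEc : ∀ y ∈ SE, ∀ z ∈ SE, y * z = z * y := by
    intro y hy z hz
    rw [← hSmap] at hy hz
    obtain ⟨y', hy', rfl⟩ := hy
    obtain ⟨z', hz', rfl⟩ := hz
    have h1 := hSc.is_comm.comm ⟨y', hy'⟩ ⟨z', hz'⟩
    have h2 := congrArg (fun w : (S : Subgroup H) => ((w : H) : G)) h1
    exact h2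
  have hxV : x ∈ centralizer (V : Set G) := by
    rw [mem_centralizer_iff]
    intro v hv
    exact hSEc v (hVSE hv) x (hΩSE hxΩ)
  exact ⟨x, W, hΩH hxΩ, hxo, hxK, hxV, hWV, hWcard, hKW, hCW, huniq, hr2⟩

end Cfsg.Agent.Lib.helper55.P2
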