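import Cfsg.Agent.Lib.helper28.BG1436Imp
import Cfsg.Agent.Lib.helper28.BG1436Defs
import Cfsg.Agent.Lib.helper26.P2P4
import Cfsg.Agent.Lib.helper71.P2P8
import Cfsg.Agent.Lib.helper60.BGCentU
import Cfsg.Agent.Lib.helper65.Fitting
import Cfsg.Agent.Lib.helper71.BGTwelveFour

/-!
# S1436, piece PCa (`tau2_dichotomy`)

`M` a maximal subgroup, `s ∈ τ₂(M)`, `z ∈ M` of prime order `p ∉ σ(M)` acting fixed-point-freely on
`M_σ ≠ 1`.  Then `M` has an elementary abelian subgroup `As` of order `s²` such that either `z`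
centralizes `As`, or some `b ∈ As#` centralizes `M_σ` and some `a₀ ∈ As#` commutes with `z`.
-/

set_option autoImplicit false

namespace Cfsg.Agent.Lib.helper28.BG1436

open Cfsg Subgroup

variable {G : Type*} [Group G]

/-- (PCa) local dichotomy for an element `z` of prime order acting fixed-point-freely on `M_σ`,
`s ∈ τ₂(M)`. -/
theorem tau2_dichotomy [Finite G] (hG : IsMinSimpleOddOrder G) (M : Subgroup G) (hM : IsCoatom M)
    (hσ1 : sigmaCore M ≠ ⊥) (s : ℕ) (hs : s ∈ tau2 M) (p : ℕ) (hp : p.Prime) (hpσ : p ∉ sigma M)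
    (z : G) (hzM : z ∈ M) (hz : orderOf z = p)
    (hfpf : ∀ y ∈ sigmaCore M, z * y = y * z → y = 1) :
    ∃ As : Subgroup G, As ≤ M ∧ IsElementaryAbelian s As ∧ Nat.card As = s ^ 2 ∧
      ((∀ a ∈ As, z * a = a * z) ∨
        ((∃ b ∈ As, b ≠ 1 ∧ ∀ y ∈ sigmaCore M, b * y = y * b) ∧
          ∃ a₀ ∈ As, a₀ ≠ 1 ∧ z * a₀ = a₀ * z)) := by
  obtain ⟨hsp, hsσ, -, -⟩ := id hs
  have : Fact s.Prime := ⟨hsp⟩
  obtain ⟨Z, hZ⟩ : ∃ Z : Subgroup G, Z = zpowers z := ⟨_, rfl⟩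
  have hZcard : Nat.card Z = p := by rw [hZ, Nat.card_zpowers, hz]
  have hZp : (Nat.card Z).Prime := by rw [hZcard]; exact hp
  have hzZ : z ∈ Z := by rw [hZ]; exact mem_zpowers z
  have hZM : Z ≤ M := by rw [hZ, zpowers_le]; exact hzM
  have hZprimes : ∀ q : ℕ, q.Prime → q ∣ Nat.card Z → q ∉ sigma M := by
    intro q hq hqd
    rw [hZcard] at hqd
    rw [(Nat.prime_dvd_prime_iff_eq hq hp).mp hqd]
    exact hpσ
  obtain ⟨E, hE, hZE⟩ := Cfsg.Agent.Lib.helper60.BGCentU.exists_compl_ge hG M hM Z hZM hZprimes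
  obtain ⟨As, hAsE, hAsel, hAscard⟩ := Cfsg.Agent.Lib.helper97.bg7_exists_elemAb_compl M E hE s hs
  have hAsM : As ≤ M := hAsE.trans hE.1
  obtain ⟨⟨h18a, h18b⟩, -, -⟩ :=
    Cfsg.Agent.S1418.result hG M hM E hE s hs As ⟨hAsE, hAsel, hAscard⟩
  obtain ⟨h17nil, -, -, h17d, -⟩ :=
    Cfsg.Agent.S1417.result hG M hM s hs As ⟨hAsM, hAsel, hAscard⟩
  have hAsc : ∀ a ∈ As, ∀ b ∈ As, a * b = b * a := fun a ha b hb =>
    congrArg Subtype.val (hAsel.1.is_comm.comm ⟨a, ha⟩ ⟨b, hb⟩)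
  refine ⟨As, hAsM, hAsel, hAscard, ?_⟩
  by_cases hc : ∀ a ∈ As, z * a = a * z
  · exact Or.inl hc
  right
  have hps : p ≠ s := by
    intro h
    apply hc
    have h1 : Z ≤ As := h18b Z hZE (by rw [hZcard, h])
    intro a ha
    exact hAsc z (h1 hzZ) a ha
  have hZAs : Z ≤ normalizer (As : Set G) := hZE.trans h18a
  have hMσn : M ≤ normalizer (sigmaCore M : Set G) :=
    Cfsg.Agent.Lib.helper13.le_normalizer_sigmaCore M
  have hσsolv : Group.IsSolvable (sigmaCore M) := by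
    have := h17nil
    infer_instance
  have hσZ : sigmaCore M ⊓ centralizer (Z : Set G) = ⊥ := by
    rw [eq_bot_iff]
    intro y hy
    rw [mem_bot]
    obtain ⟨hy1, hy2⟩ := mem_inf.mp hy
    exact hfpf y hy1 (mem_centralizer_iff.mp hy2 z hzZ)
  have hcopV : ∀ V : Subgroup G, V ≤ As → Z ≤ normalizer (V : Set G) →
      Nat.Coprime (Nat.card (sigmaCore M)) (Nat.card ↥(V ⊔ Z)) := by
    intro V hV hZV
    by_contra hcc
    obtain ⟨q, hq, hq1, hq2⟩ := Nat.Prime.not_coprime_iff_dvd.mp hcc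
    have hqσ := Cfsg.Agent.Lib.helper71.BG12.mem_sigma_of_dvd_card_sigmaCore M hq hq1
    have h1 : Nat.card ↥(V ⊔ Z) ∣ Nat.card V * Nat.card Z := by
      have h0 := Cfsg.Agent.Lib.helper65.card_sup_dvd_mul hZV
      rwa [sup_comm, mul_comm] at h0
    rcases (Nat.Prime.dvd_mul hq).mp (hq2.trans h1) with h2 | h2
    · have h3 : q ∣ s ^ 2 := by
        rw [← hAscard]
        exact h2.trans (Subgroup.card_dvd_of_le hV)
      have h4 := (Nat.prime_dvd_prime_iff_eq hq hsp).mp (hq.dvd_of_dvd_pow h3)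
      exact hsσ (h4 ▸ hqσ)
    · rw [hZcard] at h2
      have h4 := (Nat.prime_dvd_prime_iff_eq hq hp).mp h2
      exact hpσ (h4 ▸ hqσ)
  have hcop : (Nat.card As).Coprime (Nat.card Z) := by
    rw [hAscard, hZcard]
    exact Nat.Coprime.pow_left 2 ((Nat.coprime_primes hsp hp).mpr (Ne.symm hps))
  constructor
  · -- the element `b`
    rcases Cfsg.Agent.Lib.helper55.P2.fix_or_fpf Z As hZp hAsc hcop hZAs with h1 | h1
    · exfalso
      apply hc
      intro a ha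
      exact mem_centralizer_iff.mp (h1 ha) z hzZ
    · obtain ⟨V₀, hV₀As, hV₀1, hZV₀, hV₀Z⟩ := h1
      have hV₀M : V₀ ≤ M := hV₀As.trans hAsM
      have h2 := Cfsg.Agent.Lib.helper55.P2.helper26_p4_cent hZp hZV₀ hV₀Z
        ((sup_le hV₀M hZM).trans hMσn) hσsolv (hcopV V₀ hV₀As hZV₀) hσZ
      obtain ⟨⟨b, hb⟩, hb1⟩ := Subgroup.ne_bot_iff_exists_ne_one.mp hV₀1
      refine ⟨b, hV₀As hb, fun h0 => hb1 (Subtype.ext h0), ?_⟩
      intro y hy
      exact mem_centralizer_iff.mp (h2 hy) b hb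
  · -- the element `a₀`
    have h3 : As ⊓ centralizer (Z : Set G) ≠ ⊥ := by
      intro h0
      have h2 := Cfsg.Agent.Lib.helper55.P2.helper26_p4_cent hZp hZAs h0
        ((sup_le hAsM hZM).trans hMσn) hσsolv (hcopV As le_rfl hZAs) hσZ
      apply hσ1
      rw [eq_bot_iff, ← h17d]
      exact le_inf le_rfl h2
    obtain ⟨⟨a₀, ha₀⟩, ha₀1⟩ := Subgroup.ne_bot_iff_exists_ne_one.mp h3
    obtain ⟨h4, h5⟩ := mem_inf.mp ha₀
    exact ⟨a₀, h4, fun h0 => ha₀1 (Subtype.ext h0), mem_centralizer_iff.mp h5 z hzZ⟩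

end Cfsg.Agent.Lib.helper28.BG1436
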