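import Cfsg.Agent.Lib.helper28.BG1436Imp
import Cfsg.Agent.Lib.helper28.BG1436Defs
import Cfsg.Agent.Lib.helper28.BG1436Base
import Cfsg.Agent.Lib.helper26.BG1436_PCa
import Cfsg.Agent.Lib.helper54.BG1360Glue
import Cfsg.Agent.Lib.helper13.SigFus
import Cfsg.Agent.Lib.helper12.BGEleven
import Cfsg.Agent.Lib.helper29.Basic
import Cfsg.Agent.Lib.helper8.BGTen6
import Cfsg.Agent.Lib.helper97.BGEight1
import Cfsg.Agent.S1403

/-!
# S1436, piece PCb (`pair_tau2`), alternative proof: `τ₂(M) = ∅`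

Same statement as `pair_tau2` of the skeleton, under the name `helper26_pair_tau2`.
-/

set_option autoImplicit false

namespace Cfsg.Agent.Lib.helper28.BG1436

open Cfsg Subgroup Cfsg.Agent.Lib.helper8

variable {G : Type*} [Group G]

/-- An elementary abelian subgroup of order `s²` of `N` shows that the `s`-rank of `N` is not `1`. -/
theorem helper26_not_prank_one [Finite G] {N B : Subgroup G} {s : ℕ} (hs : s.Prime) (hBN : B ≤ N)
    (hBel : IsElementaryAbelian s B) (hBcard : Nat.card B = s ^ 2) : ¬ PRankLE s 1 N := by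
  intro h
  have hBc : ∀ a b : B, a * b = b * a := hBel.1.is_comm.comm
  have hc1 : IsMulCommutative (B.subgroupOf N) := by
    refine ⟨⟨fun x y => ?_⟩⟩
    apply Subtype.ext
    apply Subtype.ext
    have h0 := congrArg Subtype.val (hBc ⟨x.1.1, x.2⟩ ⟨y.1.1, y.2⟩)
    exact h0
  have he1 : ∀ a ∈ B.subgroupOf N, a ^ s = 1 := by
    intro a ha
    apply Subtype.ext
    rw [Subgroup.coe_pow]
    exact hBel.2 _ (mem_subgroupOf.mp ha)
  have h1 := h (B.subgroupOf N) hc1 he1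
  have h2 : Nat.card (B.subgroupOf N) = Nat.card B :=
    Nat.card_congr (Subgroup.subgroupOfEquivOfLe hBN).toEquiv
  rw [h2, hBcard] at h1
  have h3 := (Nat.pow_le_pow_iff_right hs.one_lt).mp h1
  omega

/-- A prime `s ∉ σ(N)` of rank `1` with an element of order `s` centralizing a non-identity element
of `N_σ` lies in `κ(N)`. -/
theorem helper26_mem_kappa_of_commute [Finite G] (hG : IsMinSimpleOddOrder G) (N : Subgroup G)
    (s : ℕ) (hs : s.Prime) (hsσ : s ∉ sigma N) (hr1 : PRankLE s 1 N) (a : G) (haN : a ∈ N)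
    (hao : orderOf a = s) (y : G) (hy : y ∈ sigmaCore N) (hy1 : y ≠ 1) (hc : a * y = y * a) :
    s ∈ kappa N := by
  have : Fact s.Prime := ⟨hs⟩
  obtain ⟨hodd, -⟩ := id hG
  have ha1 : a ≠ 1 := by
    intro h
    rw [h, orderOf_one] at hao
    exact hs.one_lt.ne hao
  have hsN : s ∣ Nat.card N := by
    have h1 : orderOf (⟨a, haN⟩ : N) = s := by
      rw [← hao]
      exact (Subgroup.orderOf_coe (⟨a, haN⟩ : N)).symm
    rw [← h1]
    exact orderOf_dvd_natCard _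
  refine ⟨hs, hsN, hsσ, ?_⟩
  intro P₀
  have hcyc : IsCyclic P₀ := bg_sylow_cyclic_of_prank_one hodd (le_refl N) s hr1 P₀
  refine ⟨hcyc, ?_⟩
  have hxp : IsPGroup s (Subgroup.zpowers (⟨a, haN⟩ : ↥N)) := by
    apply IsPGroup.of_card (n := 1)
    rw [Nat.card_zpowers, pow_one, ← hao]
    exact (Subgroup.orderOf_coe (⟨a, haN⟩ : ↥N)).symm
  obtain ⟨P₁, hP₁⟩ := hxp.exists_le_sylow
  obtain ⟨g, hg⟩ := MulAction.exists_smul_eq ↥N P₁ P₀
  have hxP₁ : (⟨a, haN⟩ : ↥N) ∈ P₁ := hP₁ (Subgroup.mem_zpowers _)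
  have hmem : g * ⟨a, haN⟩ * g⁻¹ ∈ P₀ := by
    rw [← hg]
    apply (bg_mem_smul_sylow P₁ g _).mpr
    have : g⁻¹ * (g * ⟨a, haN⟩ * g⁻¹) * g = ⟨a, haN⟩ := by group
    rw [this]; exact hxP₁
  have hgN := Cfsg.Agent.Lib.helper13.le_normalizer_sigmaCore N g.2
  rw [Subgroup.mem_normalizer_iff] at hgN
  refine ⟨g * ⟨a, haN⟩ * g⁻¹, hmem, ?_, (g : G) * y * (g : G)⁻¹, (hgN _).mp hy, ?_, ?_⟩
  · intro h
    apply ha1
    have h' : (⟨a, haN⟩ : ↥N) = 1 := by
      have := congrArg (fun z => g⁻¹ * z * g) h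
      simpa [mul_assoc] using this
    exact congrArg Subtype.val h'
  · intro h
    apply hy1
    have := congrArg (fun z => (g : G)⁻¹ * z * (g : G)) h
    simpa [mul_assoc] using this
  · show (g : G) * a * (g : G)⁻¹ * ((g : G) * y * (g : G)⁻¹) =
      (g : G) * y * (g : G)⁻¹ * ((g : G) * a * (g : G)⁻¹)
    calc (g : G) * a * (g : G)⁻¹ * ((g : G) * y * (g : G)⁻¹)
        = (g : G) * (a * y) * (g : G)⁻¹ := by group
      _ = (g : G) * (y * a) * (g : G)⁻¹ := by rw [hc]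
      _ = (g : G) * y * (g : G)⁻¹ * ((g : G) * a * (g : G)⁻¹) := by group

/-- (PCb) `τ₂(M) = ∅` (alternative proof, same statement as `pair_tau2`). -/
theorem helper26_pair_tau2 [Finite G] (hG : IsMinSimpleOddOrder G) {M N : Subgroup G} {x : G}
    {r : ℕ} {A : Subgroup G} (hM : IsCoatom M) (hN : IsCoatom N) (F : PairFacts M N x r A)
    (hβ : ∀ q ∈ sigma N, q ∣ Nat.card M → q ∈ beta N)
    (p : ℕ) (hp : p ∈ beta N) (hpM : p ∣ Nat.card M) (hκ : kappa M = ∅) : tau2 M = ∅ := by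
  obtain ⟨hodd, -⟩ := id hG
  have hU : BGUniqHyp G := fun K hK h1 h2 => Cfsg.Agent.S1403.result hG K hK h1 h2
  rw [Set.eq_empty_iff_forall_notMem]
  intro s hs
  obtain ⟨hsp, hsσM, hs2, hs1⟩ := id hs
  have : Fact s.Prime := ⟨hsp⟩
  have hpp : p.Prime := hp.1.1
  have : Fact p.Prime := ⟨hpp⟩
  have hpσN : p ∈ sigma N := bg_alpha_sub_sigma hG hU N hN hp.1
  have hpideal : IsIdealPrime p G := hp.2
  have hpσM : p ∉ sigma M := by
    intro h
    obtain ⟨g, hg⟩ := (Cfsg.Agent.S1378.result hG).2 M N hM hN ⟨p, h, hpσN⟩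
    exact F.hnc g hg
  have hp2 : PRankLE p 2 M := by
    by_contra h
    exact hpσM (bg_alpha_sub_sigma hG hU M hM ⟨hpp, h⟩)
  have hp1 : PRankLE p 1 M := by
    by_contra h
    exact (Cfsg.Agent.S1408.result hG M hM p hpσM hp2 h).1 hpideal
  have hpκ : p ∉ kappa M := by
    rw [hκ]
    exact Set.notMem_empty p
  -- a Sylow `p`-subgroup of `M` without fixed points on `M_σ`
  have hex : ∃ P : Sylow p M, ∀ x' : M, x' ∈ (P : Subgroup M) → x' ≠ 1 →
      ∀ y ∈ sigmaCore M, y ≠ 1 → (x' : G) * y ≠ y * x' := by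
    by_contra hne
    apply hpκ
    refine ⟨hpp, hpM, hpσM, fun P =>
      ⟨bg_sylow_cyclic_of_prank_one hodd (le_refl M) p hp1 P, ?_⟩⟩
    by_contra hP
    apply hne
    refine ⟨P, ?_⟩
    intro x' hx'P hx'1 y hy hy1 hc
    exact hP ⟨x', hx'P, hx'1, y, hy, hy1, hc⟩
  obtain ⟨P, hP⟩ := hex
  have hpP : p ∣ Nat.card (P : Subgroup M) := by
    rw [P.card_eq_multiplicity]
    exact dvd_pow_self p (Nat.Prime.factorization_pos_of_dvd hpp Nat.card_pos.ne' hpM).ne'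
  obtain ⟨z', hz'⟩ := exists_prime_orderOf_dvd_card' (G := ↥(P : Subgroup M)) p hpP
  obtain ⟨z, hzdef⟩ : ∃ z : G, z = ((z' : M) : G) := ⟨_, rfl⟩
  have hzM : z ∈ M := by rw [hzdef]; exact (z' : M).2
  have hz : orderOf z = p := by
    rw [hzdef, Subgroup.orderOf_coe, Subgroup.orderOf_coe, hz']
  have hz1 : z ≠ 1 := by
    intro h
    rw [h, orderOf_one] at hz
    exact hpp.one_lt.ne hz
  have hfpf : ∀ y ∈ sigmaCore M, z * y = y * z → y = 1 := by
    intro y hy hc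
    by_contra hy1
    refine hP (z' : M) z'.2 ?_ y hy hy1 (by rw [← hzdef]; exact hc)
    intro h0
    apply hz1
    rw [hzdef, h0]
    rfl
  have hσ1 : sigmaCore M ≠ ⊥ := by
    intro h
    have h1 := F.hx
    rw [h, mem_bot] at h1
    exact F.hx1 h1
  obtain ⟨As, hAsM, hAsel, hAscard, halt⟩ :=
    tau2_dichotomy hG M hM hσ1 s hs p hpp hpσM z hzM hz hfpf
  obtain ⟨c, hcz, hcw⟩ := conj_beta hG N hN p hp z hz
  have hAsc : ∀ a ∈ As, ∀ b ∈ As, a * b = b * a := fun a ha b hb =>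
    congrArg Subtype.val (hAsel.1.is_comm.comm ⟨a, ha⟩ ⟨b, hb⟩)
  have hsM : s ∣ Nat.card M := by
    have h1 : s ∣ Nat.card As := by rw [hAscard]; exact dvd_pow_self s (by norm_num)
    exact h1.trans (Subgroup.card_dvd_of_le hAsM)
  have hsσN : s ∉ sigma N := by
    intro h
    have h1 := hβ s h hsM
    exact (Cfsg.Agent.S1408.result hG M hM s hsσM hs2 hs1).1 h1.2
  have hs2N : PRankLE s 2 N := by
    by_contra h
    exact hsσN (bg_alpha_sub_sigma hG hU N hN ⟨hsp, h⟩)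
  -- the conjugates
  have hM' : IsCoatom (M.map (MulAut.conj c).toMonoidHom) :=
    Cfsg.Agent.Lib.helper13.sf_isCoatom_map_conj hM c
  have hM'N : M.map (MulAut.conj c).toMonoidHom ≠ N := fun h => F.hnc c h.symm
  have hz'1 : c * z * c⁻¹ ≠ 1 := by
    intro h
    apply hz1
    have h2 : z = c⁻¹ * (c * z * c⁻¹) * c := by group
    rw [h2, h]; group
  have hz'M' : c * z * c⁻¹ ∈ M.map (MulAut.conj c).toMonoidHom := ⟨z, hzM, rfl⟩
  -- (i) the conjugate of `As` is not contained in `N`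
  have hi : ¬ (As.map (MulAut.conj c).toMonoidHom ≤ N) := by
    intro hle
    have hAs'el : IsElementaryAbelian s (As.map (MulAut.conj c).toMonoidHom) :=
      Cfsg.Agent.Lib.helper12.isElementaryAbelian_map_conj hAsel c
    have hAs'card : Nat.card (As.map (MulAut.conj c).toMonoidHom) = s ^ 2 := by
      rw [Subgroup.card_map_of_injective (MulAut.conj c).injective, hAscard]
    have hs1N : ¬ PRankLE s 1 N := helper26_not_prank_one hsp hle hAs'el hAs'card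
    have hτ2N : s ∈ tau2 N := ⟨hsp, hsσN, hs2N, hs1N⟩
    have h17 := (Cfsg.Agent.S1417.result hG N hN s hτ2N _ ⟨hle, hAs'el, hAs'card⟩).2.2.2.2.1
    have h1 := h17 _ hM' hM'N (Subgroup.map_mono hAsM)
    have h2 : c * z * c⁻¹ ∈ sigmaCore N ⊓ M.map (MulAut.conj c).toMonoidHom := ⟨hcz, hz'M'⟩
    rw [h1, mem_bot] at h2
    exact hz'1 h2
  rcases halt with hleft | ⟨⟨b, hbAs, hb1, hbσ⟩, a₀, ha₀As, ha₀1, ha₀z⟩
  · apply hi
    rintro _ ⟨a, ha, rfl⟩
    exact hcw a (hleft a ha).symm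
  -- (ii) `s ∈ κ(N)`
  have ha₀N : c * a₀ * c⁻¹ ∈ N := hcw a₀ ha₀z.symm
  have ha₀'1 : c * a₀ * c⁻¹ ≠ 1 := by
    intro h
    apply ha₀1
    have h2 : a₀ = c⁻¹ * (c * a₀ * c⁻¹) * c := by group
    rw [h2, h]; group
  have ha₀'o : orderOf (c * a₀ * c⁻¹) = s :=
    orderOf_eq_prime (by rw [conj_pow, hAsel.2 a₀ ha₀As, mul_one, mul_inv_cancel]) ha₀'1
  have hcomm : c * a₀ * c⁻¹ * (c * z * c⁻¹) = c * z * c⁻¹ * (c * a₀ * c⁻¹) := by
    calc c * a₀ * c⁻¹ * (c * z * c⁻¹) = c * (a₀ * z) * c⁻¹ := by group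
      _ = c * (z * a₀) * c⁻¹ := by rw [ha₀z]
      _ = c * z * c⁻¹ * (c * a₀ * c⁻¹) := by group
  have hs1N : PRankLE s 1 N := by
    by_contra h
    have hτ2N : s ∈ tau2 N := ⟨hsp, hsσN, hs2N, h⟩
    have h20 := (Cfsg.Agent.S1420.result hG N hN (M ⊓ N) F.hcompl).2.2.2 (c * a₀ * c⁻¹) ha₀N
      ha₀'1
      (by
        intro q hq hqd
        rw [ha₀'o] at hqd
        rw [(Nat.prime_dvd_prime_iff_eq hq hsp).mp hqd]
        exact hτ2N)
      ⟨ha₀N, c * z * c⁻¹, hcz, hz'1, hcomm⟩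
    apply hi
    rintro _ ⟨a, ha, rfl⟩
    apply h20.1
    rw [mem_centralizer_iff]
    intro w hw
    rw [Set.mem_singleton_iff] at hw
    rw [hw]
    have h3 := hAsc a₀ ha₀As a ha
    show c * a₀ * c⁻¹ * (c * a * c⁻¹) = c * a * c⁻¹ * (c * a₀ * c⁻¹)
    calc c * a₀ * c⁻¹ * (c * a * c⁻¹) = c * (a₀ * a) * c⁻¹ := by group
      _ = c * (a * a₀) * c⁻¹ := by rw [h3]
      _ = c * a * c⁻¹ * (c * a₀ * c⁻¹) := by group
  have hsκN : s ∈ kappa N :=
    helper26_mem_kappa_of_commute hG N s hsp hsσN hs1N (c * a₀ * c⁻¹) ha₀N ha₀'o (c * z * c⁻¹)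
      hcz hz'1 hcomm
  -- (iii) the contradiction inside `N`
  have hbN : b ∈ N := by
    apply F.hCA
    rw [mem_centralizer_iff]
    intro a ha
    exact (hbσ a (F.hAσ ha)).symm
  have hbo : orderOf b = s := orderOf_eq_prime (hAsel.2 b hbAs) hb1
  have hNsolv : Group.IsSolvable N := Cfsg.Agent.Lib.helper97.bg8_solvable hG N hN N le_rfl
  have hzpb : ∀ q : ℕ, q.Prime → q ∣ Nat.card (zpowers b) → q ∈ kappa N := by
    intro q hq hqd
    rw [Nat.card_zpowers, hbo] at hqd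
    rw [(Nat.prime_dvd_prime_iff_eq hq hsp).mp hqd]
    exact hsκN
  obtain ⟨K₁, hK₁, hbK₁⟩ := Cfsg.Agent.Lib.helper29.BG1366.exists_hallOf_ge (kappa N) N hNsolv
    (zpowers b) (by rw [zpowers_le]; exact hbN) hzpb
  have hbK : b ∈ K₁ := hbK₁ (mem_zpowers b)
  have hK₁1 : K₁ ≠ ⊥ := by
    intro h
    rw [h, mem_bot] at hbK
    exact hb1 hbK
  have hrκN : r ∉ kappa N := Cfsg.Agent.Lib.helper54.PNU.tau2_not_kappa N r F.hrN
  have hrσN : r ∉ sigma N := F.hrN.2.1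
  have hrN : r ∣ Nat.card N := by
    have h1 : r ∣ Nat.card A := by rw [F.hAcard]; exact dvd_pow_self r (by norm_num)
    exact h1.trans (Subgroup.card_dvd_of_le (F.hAle.trans inf_le_right))
  have hK₁p : (Nat.card K₁).Prime :=
    Cfsg.Agent.Lib.helper27.BGKP.kappa_card_prime_of_prime hG
      (fun M hM K hK hK1 => Cfsg.Agent.S1430.result hG M hM K hK hK1) N hN K₁ hK₁ hK₁1 r F.hr hrN
      hrσN hrκN
  have hK₁c : IsCyclic K₁ := by
    have : Fact (Nat.card K₁).Prime := ⟨hK₁p⟩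
    exact isCyclic_of_prime_card rfl
  obtain ⟨U₁, hKU⟩ := (Cfsg.Agent.S1352.result hG N hN K₁ hK₁c hK₁).1
  have h53 := Cfsg.Agent.S1353.result hG N hN K₁ U₁ hKU b hbK hb1
  have hxdec := F.hdec K₁ U₁ hKU
  have hU₁N : U₁ ≤ N := hKU.compl.1
  have hNσn : N ≤ normalizer (sigmaCore N : Set G) :=
    Cfsg.Agent.Lib.helper13.le_normalizer_sigmaCore N
  rw [sup_comm] at hxdec
  obtain ⟨y, hy, u, hu, hxyu⟩ :=
    Cfsg.Agent.Lib.helper29.exists_mul_of_mem_sup_of_le_normalizer (hU₁N.trans hNσn) hxdec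
  -- `b` centralizes `x`
  have hbx : b * x = x * b := hbσ x F.hx
  have hby : b * y * b⁻¹ ∈ sigmaCore N := Subgroup.le_normalizer_iff.mp hNσn b hbN y hy
  have hbu : b * u * b⁻¹ ∈ U₁ := Subgroup.le_normalizer_iff.mp hKU.normal b hbK u hu
  have hkey : y⁻¹ * (b * y * b⁻¹) = u * (b * u * b⁻¹)⁻¹ := by
    have h1 : b * y * b⁻¹ * (b * u * b⁻¹) = y * u := by
      calc b * y * b⁻¹ * (b * u * b⁻¹) = b * (y * u) * b⁻¹ := by group
        _ = b * x * b⁻¹ := by rw [hxyu]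
        _ = x * b * b⁻¹ := by rw [hbx]
        _ = y * u := by rw [hxyu]; group
    calc y⁻¹ * (b * y * b⁻¹) = y⁻¹ * (b * y * b⁻¹ * (b * u * b⁻¹)) * (b * u * b⁻¹)⁻¹ := by group
      _ = y⁻¹ * (y * u) * (b * u * b⁻¹)⁻¹ := by rw [h1]
      _ = u * (b * u * b⁻¹)⁻¹ := by group
  have hmem : u * (b * u * b⁻¹)⁻¹ ∈ U₁ ⊓ (K₁ ⊔ sigmaCore N) := by
    refine mem_inf.mpr ⟨U₁.mul_mem hu (U₁.inv_mem hbu), ?_⟩
    rw [← hkey]
    exact (le_sup_right : sigmaCore N ≤ K₁ ⊔ sigmaCore N)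
      ((sigmaCore N).mul_mem ((sigmaCore N).inv_mem hy) hby)
  rw [hKU.compl.2.2.1, mem_bot] at hmem
  have hbu' : b * u = u * b := by
    have h1 : u = b * u * b⁻¹ := by
      have h2 := mul_inv_eq_one.mp hmem
      exact h2
    calc b * u = b * u * b⁻¹ * b := by group
      _ = u * b := by rw [← h1]
  have hu1 : u = 1 := by
    have h1 : u ∈ U₁ ⊓ centralizer ({b} : Set G) := by
      refine mem_inf.mpr ⟨hu, ?_⟩
      rw [mem_centralizer_iff]
      intro w hw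
      rw [Set.mem_singleton_iff] at hw
      rw [hw]
      exact hbu'
    rw [h53, mem_bot] at h1
    exact h1
  have hxσ : x ∈ sigmaCore N ⊓ M := by
    refine mem_inf.mpr ⟨?_, ?_⟩
    · rw [hxyu, hu1, mul_one]
      exact hy
    · exact Cfsg.Agent.Lib.helper71.BGA.sigmaCore_le M F.hx
  rw [F.hdisj, mem_bot] at hxσ
  exact F.hx1 hxσ

end Cfsg.Agent.Lib.helper28.BG1436
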