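import Mathlib

/-! S4504 piece O00 (helper2 split), spare copy by helper26: `C(P) = P × Z(G)`.  Mathlib only. -/

set_option autoImplicit false

namespace Cfsg.Agent.Lib.helper26

/-- a `p`-element centralizing a Sylow `p`-subgroup lies in it -/
theorem helper26_bg_mem_sylow_of_commute {G : Type*} [Group G] (p : ℕ) [Fact p.Prime] (P : Sylow p G)
    (v : G) (hv : v ∈ Subgroup.centralizer ((P : Subgroup G) : Set G)) (e : ℕ) (hve : v ^ (p ^ e) = 1) :
    v ∈ (P : Subgroup G) := by
  have hp : p.Prime := Fact.out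
  have hpg : IsPGroup p (Subgroup.zpowers v) := by
    intro ⟨w, hw⟩
    obtain ⟨i, rfl⟩ := Subgroup.mem_zpowers_iff.mp hw
    refine ⟨e, ?_⟩
    apply Subtype.ext
    simp only [Subgroup.coe_pow, Subgroup.coe_one]
    rw [← zpow_natCast, ← zpow_mul, mul_comm, zpow_mul, zpow_natCast, hve, one_zpow]
  have hnorm : Subgroup.zpowers v ≤ Subgroup.normalizer ((P : Subgroup G) : Set G) := by
    rw [Subgroup.zpowers_le]
    exact Subgroup.centralizer_le_normalizer _ hv
  have hsup : IsPGroup p (Subgroup.zpowers v ⊔ (P : Subgroup G) : Subgroup G) :=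
    IsPGroup.to_sup_of_normal_right' hpg P.isPGroup' hnorm
  have heq := P.is_maximal' hsup le_sup_right
  have : Subgroup.zpowers v ≤ (P : Subgroup G) := by
    rw [← heq]; exact le_sup_left
  exact this (Subgroup.mem_zpowers v)

end Cfsg.Agent.Lib.helper26

namespace Cfsg.Agent.Lib.helper2.BG

open Cfsg.Agent.Lib.helper26

variable {G : Type*} [Group G] [Fintype G]

/-- O00 (`C(P) = P × Z(G)`), spare copy under a prefixed name. -/
theorem h26_card_centralizer (p : ℕ) [Fact p.Prime] (P : Sylow p G) (hP : Nat.card P = p)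
    (hK : ∀ k ∈ Subgroup.centralizer ((P : Subgroup G) : Set G), ¬ p ∣ orderOf k →
      k ∈ Subgroup.center G)
    (hZ : ∀ z ∈ Subgroup.center G, ¬ p ∣ orderOf z) :
    Nat.card (Subgroup.centralizer ((P : Subgroup G) : Set G)) =
      p * Nat.card (Subgroup.center G) ∧
    ∀ k : G, (k ∈ Subgroup.centralizer ((P : Subgroup G) : Set G) ∧ ¬ p ∣ orderOf k) ↔
      k ∈ Subgroup.center G := by
  classical
  have hp : p.Prime := Fact.out
  have hZC : Subgroup.center G ≤ Subgroup.centralizer ((P : Subgroup G) : Set G) :=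
    Subgroup.center_le_centralizer _
  -- P is abelian, so P ≤ C(P)
  have hPC : (P : Subgroup G) ≤ Subgroup.centralizer ((P : Subgroup G) : Set G) := by
    have hcyc : IsCyclic (P : Subgroup G) := isCyclic_of_prime_card hP
    intro a ha
    rw [Subgroup.mem_centralizer_iff]
    intro b hb
    have hc : IsMulCommutative (P : Subgroup G) := IsCyclic.isMulCommutative
    have := hc.is_comm.comm (⟨a, ha⟩ : (P : Subgroup G)) ⟨b, hb⟩
    have h2 := congrArg (fun t : (P : Subgroup G) => (t : G)) this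
    simpa using h2.symm
  -- P ∩ Z = 1
  have hPZ : ∀ a : G, a ∈ (P : Subgroup G) → a ∈ Subgroup.center G → a = 1 := by
    intro a haP haZ
    by_contra ha1
    have hord : orderOf (⟨a, haP⟩ : (P : Subgroup G)) ∣ p := by
      have := orderOf_dvd_natCard (⟨a, haP⟩ : (P : Subgroup G))
      rwa [hP] at this
    rw [Subgroup.orderOf_mk] at hord
    rcases (Nat.dvd_prime hp).mp hord with h | h
    · exact ha1 (orderOf_eq_one_iff.mp h)
    · exact hZ a haZ (h ▸ dvd_rfl)
  -- decomposition of elements of C(P)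
  have hdec : ∀ k ∈ Subgroup.centralizer ((P : Subgroup G) : Set G),
      ∃ a ∈ (P : Subgroup G), ∃ z ∈ Subgroup.center G, k = a * z := by
    intro k hk
    have hn0 : orderOf k ≠ 0 := (orderOf_pos k).ne'
    obtain ⟨e, m, hpm, hn⟩ := Nat.exists_eq_pow_mul_and_not_dvd hn0 p hp.ne_one
    have hu : k ^ (p ^ e) ∈ Subgroup.center G := by
      apply hK _ (Subgroup.pow_mem _ hk _)
      intro hdvd
      apply hpm
      refine dvd_trans hdvd (orderOf_dvd_of_pow_eq_one ?_)
      rw [← pow_mul, ← hn, pow_orderOf_eq_one]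
    have hv : k ^ m ∈ (P : Subgroup G) := by
      apply helper26_bg_mem_sylow_of_commute p P _ (Subgroup.pow_mem _ hk _) e
      rw [← pow_mul, mul_comm, ← hn, pow_orderOf_eq_one]
    have hcop : IsCoprime ((p ^ e : ℕ) : ℤ) (m : ℤ) := by
      rw [Nat.isCoprime_iff_coprime]
      exact Nat.Coprime.pow_left e ((Nat.Prime.coprime_iff_not_dvd hp).mpr hpm)
    obtain ⟨a, b, hab⟩ := hcop
    refine ⟨(k ^ m) ^ b, Subgroup.zpow_mem _ hv b, (k ^ (p ^ e)) ^ a, Subgroup.zpow_mem _ hu a, ?_⟩
    have h1 : k = k ^ (b * (m : ℤ) + a * ((p ^ e : ℕ) : ℤ)) := by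
      rw [add_comm, hab, zpow_one]
    rw [zpow_add, mul_comm b, mul_comm a, zpow_mul, zpow_mul, zpow_natCast, zpow_natCast] at h1
    exact h1
  refine ⟨?_, ?_⟩
  · -- the bijection P × Z → C(P)
    let f : ↥(P : Subgroup G) × ↥(Subgroup.center G) → ↥(Subgroup.centralizer ((P : Subgroup G) : Set G)) :=
      fun q => ⟨(q.1 : G) * (q.2 : G), Subgroup.mul_mem _ (hPC q.1.2) (hZC q.2.2)⟩
    have hf : Function.Bijective f := by
      constructor
      · rintro ⟨⟨a, ha⟩, ⟨z, hz⟩⟩ ⟨⟨a', ha'⟩, ⟨z', hz'⟩⟩ h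
        have h1 : a * z = a' * z' := congrArg (fun t : ↥(Subgroup.centralizer ((P : Subgroup G) : Set G)) => (t : G)) h
        have h2 : a'⁻¹ * a = z' * z⁻¹ := by
          calc a'⁻¹ * a = a'⁻¹ * (a * z) * z⁻¹ := by group
            _ = a'⁻¹ * (a' * z') * z⁻¹ := by rw [h1]
            _ = z' * z⁻¹ := by group
        have h3 : a'⁻¹ * a = 1 := by
          apply hPZ _ (Subgroup.mul_mem _ (Subgroup.inv_mem _ ha') ha)
          rw [h2]
          exact Subgroup.mul_mem _ hz' (Subgroup.inv_mem _ hz)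
        have h4 : a = a' := by
          have := inv_mul_eq_one.mp h3
          exact this.symm
        have h5 : z = z' := by
          rw [h4] at h1
          exact mul_left_cancel h1
        subst h4; subst h5; rfl
      · rintro ⟨k, hk⟩
        obtain ⟨a, ha, z, hz, rfl⟩ := hdec k hk
        exact ⟨((⟨a, ha⟩ : ↥(P : Subgroup G)), (⟨z, hz⟩ : ↥(Subgroup.center G))), rfl⟩
    rw [← Nat.card_congr (Equiv.ofBijective f hf), Nat.card_prod, hP]
  · intro k
    constructor
    · rintro ⟨hk, hpk⟩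
      exact hK k hk hpk
    · intro hk
      exact ⟨hZC hk, hZ k hk⟩

end Cfsg.Agent.Lib.helper2.BG
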