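import Mathlib
import Cfsg.Agent.Lib.helper26.BGR7

/-! S4504 sub-piece R10 (`R_sup_center`, Frattini) of helper84's sub-split of `bg_reduce`;
spare/race copy by helper26 under a prefixed name.  Mathlib only. -/

set_option autoImplicit false

namespace Cfsg.Agent.Lib.helper2.BG

open Cfsg.Agent.Lib.helper26

universe u

/-- R10 (V6): `G = Γ Z(G)` (race copy, prefixed name; verbatim statement). -/
theorem h26_R_sup_center {G : Type u} [Group G] [Finite G] (p : ℕ) [Fact p.Prime] (P : Sylow p G)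
    (hP : Nat.card P = p) (x : G) (hx : x ∈ (P : Subgroup G)) (hx1 : x ≠ 1)
    (hconj : ∀ n : G, n * x * n⁻¹ ∈ (P : Subgroup G) →
      ∃ γ ∈ Subgroup.normalClosure ({x} : Set G), γ * x * γ⁻¹ = n * x * n⁻¹)
    (hK : ∀ k ∈ Subgroup.centralizer ((P : Subgroup G) : Set G), ¬ p ∣ orderOf k →
      k ∈ Subgroup.center G) :
    Subgroup.normalClosure ({x} : Set G) ⊔ Subgroup.center G = ⊤ := by
  have hp : p.Prime := Fact.out
  -- P = ⟨x⟩
  have hxp : x ^ p = 1 := by
    have h1 : (⟨x, hx⟩ : (P : Subgroup G)) ^ Nat.card (P : Subgroup G) = 1 := pow_card_eq_one'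
    rw [hP] at h1
    have h2 := congrArg (fun t : (P : Subgroup G) => (t : G)) h1
    simpa using h2
  have hord : orderOf x = p := by
    rcases (Nat.dvd_prime hp).mp (orderOf_dvd_of_pow_eq_one hxp) with h | h
    · exact absurd (orderOf_eq_one_iff.mp h) hx1
    · exact h
  have hPx : Subgroup.zpowers x = (P : Subgroup G) := by
    apply Subgroup.eq_of_le_of_card_ge
    · rw [Subgroup.zpowers_le]; exact hx
    · rw [Nat.card_zpowers, hord, hP]
  have hxΓ : x ∈ Subgroup.normalClosure ({x} : Set G) :=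
    Subgroup.subset_normalClosure (Set.mem_singleton x)
  have hPΓ : (P : Subgroup G) ≤ Subgroup.normalClosure ({x} : Set G) := by
    rw [← hPx, Subgroup.zpowers_le]; exact hxΓ
  -- Frattini
  have hfr : Subgroup.normalizer ((P : Subgroup G) : Set G) ⊔ Subgroup.normalClosure ({x} : Set G) = ⊤ := by
    have h := Sylow.normalizer_sup_eq_top (P.subtype hPΓ)
    rw [Sylow.coe_subtype, Subgroup.map_subgroupOf_eq_of_le hPΓ] at h
    exact h
  -- the normalizer of P lies in Γ Z
  have hN : Subgroup.normalizer ((P : Subgroup G) : Set G) ≤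
      Subgroup.normalClosure ({x} : Set G) ⊔ Subgroup.center G := by
    intro n hn
    have hnx : n * x * n⁻¹ ∈ (P : Subgroup G) := (Subgroup.mem_normalizer_iff.mp hn x).mp hx
    obtain ⟨γ, hγ, hγx⟩ := hconj n hnx
    -- c = γ⁻¹ n centralizes x, hence P
    have hcx : (γ⁻¹ * n) * x = x * (γ⁻¹ * n) := by
      have : γ⁻¹ * (n * x * n⁻¹) * γ = x := by rw [← hγx]; group
      calc (γ⁻¹ * n) * x = γ⁻¹ * (n * x * n⁻¹) * γ * (γ⁻¹ * n) := by group
        _ = x * (γ⁻¹ * n) := by rw [this]
    have hc : γ⁻¹ * n ∈ Subgroup.centralizer ((P : Subgroup G) : Set G) := by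
      rw [Subgroup.mem_centralizer_iff]
      intro y hy
      rw [← hPx] at hy
      obtain ⟨i, rfl⟩ := Subgroup.mem_zpowers_iff.mp hy
      have hcomm : Commute x (γ⁻¹ * n) := hcx.symm
      exact (hcomm.zpow_left i)
    obtain ⟨a, ha, z, hz, hcaz⟩ := helper26_bg_cent_dec p P hK _ hc
    have hn' : n = γ * a * z := by
      have : n = γ * (γ⁻¹ * n) := by group
      rw [this, hcaz, mul_assoc]
    rw [hn']
    exact Subgroup.mul_mem _ (Subgroup.mem_sup_left (Subgroup.mul_mem _ hγ (hPΓ ha)))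
      (Subgroup.mem_sup_right hz)
  rw [eq_top_iff, ← hfr]
  exact sup_le hN le_sup_left

end Cfsg.Agent.Lib.helper2.BG
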