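import Mathlib
import Cfsg.Agent.Lib.helper26.BGR7

/-! S4504 sub-pieces R12 (`R_quot_sylow`) and the general lemma behind R13 (helper84's sub-split of
`bg_reduce`), by helper26.  Mathlib only. -/

set_option autoImplicit false

namespace Cfsg.Agent.Lib.helper26

/-- no normal subgroup of order `p` : the centre has no element of order divisible by `p` -/
theorem helper26_bg_center_preg {G : Type*} [Group G] [Finite G] (p : ℕ) [Fact p.Prime]
    (hnn : ∀ H : Subgroup G, H.Normal → Nat.card H ≠ p) :
    ∀ z ∈ Subgroup.center G, ¬ p ∣ orderOf z := by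
  intro z hz hdvd
  have hp : p.Prime := Fact.out
  have h0 : orderOf z ≠ 0 := (orderOf_pos z).ne'
  have hw : orderOf (z ^ (orderOf z / p)) = p := orderOf_pow_orderOf_div h0 hdvd
  have hwZ : z ^ (orderOf z / p) ∈ Subgroup.center G := Subgroup.pow_mem _ hz _
  have hnorm : (Subgroup.zpowers (z ^ (orderOf z / p))).Normal := by
    refine ⟨fun a ha g => ?_⟩
    obtain ⟨i, rfl⟩ := Subgroup.mem_zpowers_iff.mp ha
    have hc : (z ^ (orderOf z / p)) ^ i ∈ Subgroup.center G := Subgroup.zpow_mem _ hwZ i
    have h1 := Subgroup.mem_center_iff.mp hc g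
    have : g * (z ^ (orderOf z / p)) ^ i * g⁻¹ = (z ^ (orderOf z / p)) ^ i := by
      rw [h1, mul_assoc, mul_inv_cancel, mul_one]
    rw [this]
    exact Subgroup.zpow_mem_zpowers _ i
  apply hnn _ hnorm
  rw [Nat.card_zpowers, hw]

open Cfsg.Agent.Lib.helper2.BG in
/-- the Sylow data of `G ⧸ Z(G)` for the image of `P` -/
theorem helper26_quot_center_sylow_map {G : Type*} [Group G] [Finite G] (p : ℕ) [Fact p.Prime]
    (P : Sylow p G) (hP : Nat.card P = p)
    (hK : ∀ k ∈ Subgroup.centralizer ((P : Subgroup G) : Set G), ¬ p ∣ orderOf k →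
      k ∈ Subgroup.center G)
    (hZ : ∀ z ∈ Subgroup.center G, ¬ p ∣ orderOf z)
    (e : ℕ) (he : (Subgroup.centralizer ((P : Subgroup G) : Set G)).relIndex
      (Subgroup.normalizer ((P : Subgroup G) : Set G)) = e)
    (n : ℕ) (hn : Nat.card (Sylow p G) = n) :
    Nat.card ((P.mapSurjective (QuotientGroup.mk'_surjective (Subgroup.center G)) :
        Sylow p (G ⧸ Subgroup.center G)) : Subgroup (G ⧸ Subgroup.center G)) = p ∧
      Subgroup.centralizer (((P.mapSurjective (QuotientGroup.mk'_surjective (Subgroup.center G)) :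
        Sylow p (G ⧸ Subgroup.center G)) : Subgroup (G ⧸ Subgroup.center G)) :
          Set (G ⧸ Subgroup.center G))
        = ((P.mapSurjective (QuotientGroup.mk'_surjective (Subgroup.center G)) :
        Sylow p (G ⧸ Subgroup.center G)) : Subgroup (G ⧸ Subgroup.center G)) ∧
      Nat.card (Subgroup.normalizer
        (((P.mapSurjective (QuotientGroup.mk'_surjective (Subgroup.center G)) :
        Sylow p (G ⧸ Subgroup.center G)) : Subgroup (G ⧸ Subgroup.center G)) :
          Set (G ⧸ Subgroup.center G))) = e * p ∧
      Nat.card (Sylow p (G ⧸ Subgroup.center G)) = n := by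
  classical
  have hp : p.Prime := Fact.out
  have hπ : Function.Surjective (QuotientGroup.mk' (Subgroup.center G)) :=
    QuotientGroup.mk'_surjective _
  have hker : (QuotientGroup.mk' (Subgroup.center G)).ker = Subgroup.center G :=
    QuotientGroup.ker_mk' _
  have hπ1 : ∀ z ∈ Subgroup.center G, QuotientGroup.mk' (Subgroup.center G) z = 1 := by
    intro z hz
    rw [← MonoidHom.mem_ker, hker]; exact hz
  have hZC : Subgroup.center G ≤ Subgroup.centralizer ((P : Subgroup G) : Set G) :=
    Subgroup.center_le_centralizer _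
  have hPcomm : ∀ a ∈ (P : Subgroup G), ∀ b ∈ (P : Subgroup G), a * b = b * a := by
    have hcyc : IsCyclic (P : Subgroup G) := isCyclic_of_prime_card hP
    intro a ha b hb
    have hc : IsMulCommutative (P : Subgroup G) := IsCyclic.isMulCommutative
    have := hc.is_comm.comm (⟨a, ha⟩ : (P : Subgroup G)) ⟨b, hb⟩
    have h2 := congrArg (fun t : (P : Subgroup G) => (t : G)) this
    simpa using h2
  have hPC : (P : Subgroup G) ≤ Subgroup.centralizer ((P : Subgroup G) : Set G) := by
    intro a ha
    rw [Subgroup.mem_centralizer_iff]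
    intro b hb
    exact hPcomm b hb a ha
  have hpow : ∀ y ∈ (P : Subgroup G), y ^ p = 1 := by
    intro y hy
    have h1 : (⟨y, hy⟩ : (P : Subgroup G)) ^ Nat.card (P : Subgroup G) = 1 := pow_card_eq_one'
    rw [hP] at h1
    have h2 := congrArg (fun t : (P : Subgroup G) => (t : G)) h1
    simpa using h2
  have hPZ : ∀ a : G, a ∈ (P : Subgroup G) → a ∈ Subgroup.center G → a = 1 := by
    intro a haP haZ
    by_contra ha1
    have hord : orderOf a ∣ p := orderOf_dvd_of_pow_eq_one (hpow a haP)
    rcases (Nat.dvd_prime hp).mp hord with h | h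
    · exact ha1 (orderOf_eq_one_iff.mp h)
    · exact hZ a haZ (h ▸ dvd_rfl)
  have hdec := helper26_bg_cent_dec p P hK
  have hcardC : Nat.card (Subgroup.centralizer ((P : Subgroup G) : Set G)) =
      p * Nat.card (Subgroup.center G) := by
    have := Fintype.ofFinite G
    exact (h26_card_centralizer p P hP hK hZ).1
  -- the image of P
  have hcoe : ((P.mapSurjective hπ : Sylow p (G ⧸ Subgroup.center G)) :
      Subgroup (G ⧸ Subgroup.center G)) = (P : Subgroup G).map (QuotientGroup.mk' (Subgroup.center G)) :=
    Sylow.coe_mapSurjective hπ P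
  -- the preimage of the image of P is C(P)
  have hcomap : ((P : Subgroup G).map (QuotientGroup.mk' (Subgroup.center G))).comap
      (QuotientGroup.mk' (Subgroup.center G)) = Subgroup.centralizer ((P : Subgroup G) : Set G) := by
    ext g
    rw [Subgroup.mem_comap, Subgroup.mem_map]
    constructor
    · rintro ⟨a, ha, hag⟩
      have h1 : a⁻¹ * g ∈ Subgroup.center G := by
        rw [← hker, MonoidHom.mem_ker, map_mul, map_inv, hag, inv_mul_cancel]
      have : g = a * (a⁻¹ * g) := by group
      rw [this]
      exact Subgroup.mul_mem _ (hPC ha) (hZC h1)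
    · intro hg
      obtain ⟨a, ha, z, hz, rfl⟩ := hdec g hg
      exact ⟨a, ha, by rw [map_mul, hπ1 z hz, mul_one]⟩
  -- the normalizer of C(P) is the normalizer of P
  have hnormC : Subgroup.normalizer ((Subgroup.centralizer ((P : Subgroup G) : Set G) : Subgroup G) : Set G)
      = Subgroup.normalizer ((P : Subgroup G) : Set G) := by
    have key : ∀ g : G, g ∈ Subgroup.normalizer
        ((Subgroup.centralizer ((P : Subgroup G) : Set G) : Subgroup G) : Set G) →
        ∀ y ∈ (P : Subgroup G), g * y * g⁻¹ ∈ (P : Subgroup G) := by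
      intro g hg y hy
      have h1 : g * y * g⁻¹ ∈ Subgroup.centralizer ((P : Subgroup G) : Set G) :=
        (Subgroup.mem_normalizer_iff.mp hg y).mp (hPC hy)
      apply helper26_bg_mem_sylow_of_commute p P _ h1 1
      rw [pow_one, conj_pow, hpow y hy, mul_one, mul_inv_cancel]
    apply le_antisymm
    · intro g hg
      rw [Subgroup.mem_normalizer_iff]
      intro y
      refine ⟨key g hg y, ?_⟩
      intro hy
      have := key g⁻¹ (Subgroup.inv_mem _ hg) _ hy
      have e1 : g⁻¹ * (g * y * g⁻¹) * g⁻¹⁻¹ = y := by group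
      rwa [e1] at this
    · intro g hg
      rw [Subgroup.mem_normalizer_iff]
      intro c
      have aux : ∀ g : G, g ∈ Subgroup.normalizer ((P : Subgroup G) : Set G) →
          ∀ c ∈ Subgroup.centralizer ((P : Subgroup G) : Set G),
            g * c * g⁻¹ ∈ Subgroup.centralizer ((P : Subgroup G) : Set G) := by
        intro g hg c hc
        rw [Subgroup.mem_centralizer_iff] at hc ⊢
        intro y hy
        have hy' : g⁻¹ * y * g ∈ (P : Subgroup G) := by
          have := (Subgroup.mem_normalizer_iff.mp (Subgroup.inv_mem _ hg) y).mp hy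
          simpa using this
        have h1 := hc _ hy'
        calc y * (g * c * g⁻¹) = g * ((g⁻¹ * y * g) * c) * g⁻¹ := by group
          _ = g * (c * (g⁻¹ * y * g)) * g⁻¹ := by rw [h1]
          _ = g * c * g⁻¹ * y := by group
      refine ⟨aux g hg c, ?_⟩
      intro hc
      have := aux g⁻¹ (Subgroup.inv_mem _ hg) _ hc
      have e1 : g⁻¹ * (g * c * g⁻¹) * g⁻¹⁻¹ = c := by group
      rwa [e1] at this
  -- the normalizer upstairs
  have hNcomap : (Subgroup.normalizer (((P.mapSurjective hπ : Sylow p (G ⧸ Subgroup.center G)) :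
      Subgroup (G ⧸ Subgroup.center G)) : Set (G ⧸ Subgroup.center G))).comap
      (QuotientGroup.mk' (Subgroup.center G)) = Subgroup.normalizer ((P : Subgroup G) : Set G) := by
    rw [Subgroup.comap_normalizer_eq_of_surjective _ hπ, hcoe, hcomap, hnormC]
  have hNidx : (Subgroup.normalizer (((P.mapSurjective hπ : Sylow p (G ⧸ Subgroup.center G)) :
      Subgroup (G ⧸ Subgroup.center G)) : Set (G ⧸ Subgroup.center G))).index =
      (Subgroup.normalizer ((P : Subgroup G) : Set G)).index := by
    rw [← hNcomap, Subgroup.index_comap_of_surjective _ hπ]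
  refine ⟨?_, ?_, ?_, ?_⟩
  · -- card
    have hinj : Function.Injective
        ((QuotientGroup.mk' (Subgroup.center G)).comp (P : Subgroup G).subtype) := by
      rw [injective_iff_map_eq_one]
      intro a ha
      have h1 : (a : G) ∈ (QuotientGroup.mk' (Subgroup.center G)).ker := ha
      rw [hker] at h1
      exact Subtype.ext (hPZ a a.2 h1)
    have hrange : ((QuotientGroup.mk' (Subgroup.center G)).comp (P : Subgroup G).subtype).range
        = (P : Subgroup G).map (QuotientGroup.mk' (Subgroup.center G)) := by
      rw [MonoidHom.range_comp, Subgroup.range_subtype]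
    show Nat.card ((P.mapSurjective hπ : Sylow p (G ⧸ Subgroup.center G)) :
      Subgroup (G ⧸ Subgroup.center G)) = p
    rw [hcoe, ← hrange]
    exact (Nat.card_congr (MonoidHom.ofInjective hinj).toEquiv).symm.trans hP
  · -- self-centralizing
    rw [hcoe]
    apply le_antisymm
    · intro q hq
      obtain ⟨g, rfl⟩ := hπ q
      have hg : g ∈ Subgroup.centralizer ((P : Subgroup G) : Set G) := by
        rw [Subgroup.mem_centralizer_iff]
        intro y hy
        have h1 := Subgroup.mem_centralizer_iff.mp hq _ (Subgroup.mem_map_of_mem _ hy)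
        rw [← map_mul, ← map_mul] at h1
        have hc : (g * y)⁻¹ * (y * g) ∈ Subgroup.center G := by
          rw [← hker, MonoidHom.mem_ker, map_mul, map_inv, h1, inv_mul_cancel]
        have hconj : g⁻¹ * y * g = y * ((g * y)⁻¹ * (y * g)) := by group
        have hcomm : Commute y ((g * y)⁻¹ * (y * g)) :=
          (Subgroup.mem_center_iff.mp hc y)
        have hcp : ((g * y)⁻¹ * (y * g)) ^ p = 1 := by
          have h2 : (g⁻¹ * y * g) ^ p = 1 := by
            have e2 : g⁻¹ * y * g = g⁻¹ * y * g⁻¹⁻¹ := by rw [inv_inv]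
            rw [e2, conj_pow, hpow y hy, mul_one, mul_inv_cancel]
          rw [hconj, hcomm.mul_pow, hpow y hy, one_mul] at h2
          exact h2
        have hc1 : (g * y)⁻¹ * (y * g) = 1 := by
          by_contra hne
          have hord : orderOf ((g * y)⁻¹ * (y * g)) ∣ p := orderOf_dvd_of_pow_eq_one hcp
          rcases (Nat.dvd_prime hp).mp hord with h | h
          · exact hne (orderOf_eq_one_iff.mp h)
          · exact hZ _ hc (h ▸ dvd_rfl)
        exact (inv_mul_eq_one.mp hc1).symm
      obtain ⟨a, ha, z, hz, rfl⟩ := hdec g hg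
      exact ⟨a, ha, by rw [map_mul, hπ1 z hz, mul_one]⟩
    · intro q hq
      obtain ⟨a, ha, rfl⟩ := hq
      rw [Subgroup.mem_centralizer_iff]
      rintro _ ⟨b, hb, rfl⟩
      rw [← map_mul, ← map_mul, hPcomm b hb a ha]
  · -- the order of the normalizer
    have h1 := Subgroup.card_mul_index (Subgroup.normalizer (((P.mapSurjective hπ :
      Sylow p (G ⧸ Subgroup.center G)) : Subgroup (G ⧸ Subgroup.center G)) :
      Set (G ⧸ Subgroup.center G)))
    rw [hNidx] at h1
    have h2 := Subgroup.card_eq_card_quotient_mul_card_subgroup (Subgroup.center G)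
    have h3 := Subgroup.index_mul_card (Subgroup.normalizer ((P : Subgroup G) : Set G))
    have hCN : Subgroup.centralizer ((P : Subgroup G) : Set G) ≤
        Subgroup.normalizer ((P : Subgroup G) : Set G) := Subgroup.centralizer_le_normalizer _
    have h4 := Subgroup.relIndex_mul_index hCN
    rw [he] at h4
    have h5 := Subgroup.index_mul_card (Subgroup.centralizer ((P : Subgroup G) : Set G))
    rw [hcardC] at h5
    have hidx0 : 0 < (Subgroup.normalizer ((P : Subgroup G) : Set G)).index :=
      Nat.pos_of_ne_zero (Subgroup.index_ne_zero_of_finite)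
    have hZ0 : 0 < Nat.card (Subgroup.center G) := Nat.card_pos
    -- |N̄| * idx * |Z| = |G| = idx * e * p * |Z|
    have h6 : Nat.card (Subgroup.normalizer (((P.mapSurjective hπ :
        Sylow p (G ⧸ Subgroup.center G)) : Subgroup (G ⧸ Subgroup.center G)) :
        Set (G ⧸ Subgroup.center G))) *
        ((Subgroup.normalizer ((P : Subgroup G) : Set G)).index * Nat.card (Subgroup.center G))
        = (e * p) * ((Subgroup.normalizer ((P : Subgroup G) : Set G)).index *
          Nat.card (Subgroup.center G)) := by
      calc _ = Nat.card (G ⧸ Subgroup.center G) * Nat.card (Subgroup.center G) := by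
            rw [← h1]; ring
        _ = Nat.card G := h2.symm
        _ = (Subgroup.centralizer ((P : Subgroup G) : Set G)).index *
              (p * Nat.card (Subgroup.center G)) := h5.symm
        _ = _ := by rw [← h4]; ring
    exact Nat.eq_of_mul_eq_mul_right (Nat.mul_pos hidx0 hZ0) h6
  · have h1 := Sylow.card_eq_index_normalizer (P.mapSurjective hπ)
    have h2 := Sylow.card_eq_index_normalizer P
    exact h1.trans (hNidx.trans (h2.symm.trans hn))


end Cfsg.Agent.Lib.helper26

namespace Cfsg.Agent.Lib.helper2.BG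

open Cfsg.Agent.Lib.helper26

universe u

/-- R12 (V7a): the image of `P` in `G / Z(G)` is a self-centralizing Sylow `p`-subgroup of
order `p`. -/
theorem R_quot_sylow {G : Type u} [Group G] [Finite G] (p : ℕ) [Fact p.Prime]
    (hnn : ∀ H : Subgroup G, H.Normal → Nat.card H ≠ p) (P : Sylow p G)
    (hP : Nat.card P = p)
    (hK : ∀ k ∈ Subgroup.centralizer ((P : Subgroup G) : Set G), ¬ p ∣ orderOf k →
      k ∈ Subgroup.center G) :
    ∃ Q : Sylow p (G ⧸ Subgroup.center G),
      (Q : Subgroup (G ⧸ Subgroup.center G)) =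
        (P : Subgroup G).map (QuotientGroup.mk' (Subgroup.center G)) ∧
      Nat.card Q = p ∧
      Subgroup.centralizer ((Q : Subgroup (G ⧸ Subgroup.center G)) :
        Set (G ⧸ Subgroup.center G)) = (Q : Subgroup (G ⧸ Subgroup.center G)) := by
  have hZ := helper26_bg_center_preg p hnn
  have h := helper26_quot_center_sylow_map p P hP hK hZ _ rfl _ rfl
  exact ⟨P.mapSurjective (QuotientGroup.mk'_surjective (Subgroup.center G)),
    Sylow.coe_mapSurjective _ P, h.1, h.2.1⟩

end Cfsg.Agent.Lib.helper2.BG
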