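import Mathlib
import Cfsg.Agent.Lib.helper26.BGR12

/-! S4504 sub-piece R13 (`R_quot_norm`) of helper84's sub-split of `bg_reduce`, by helper26. -/

set_option autoImplicit false

namespace Cfsg.Agent.Lib.helper2.BG

open Cfsg.Agent.Lib.helper26

universe u

/-- R13 (V7b): normalizer and number of Sylow subgroups in `G / Z(G)`. -/
theorem R_quot_norm {G : Type u} [Group G] [Finite G] (p : ℕ) [Fact p.Prime]
    (hnn : ∀ H : Subgroup G, H.Normal → Nat.card H ≠ p) (P : Sylow p G)
    (hP : Nat.card P = p)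
    (hK : ∀ k ∈ Subgroup.centralizer ((P : Subgroup G) : Set G), ¬ p ∣ orderOf k →
      k ∈ Subgroup.center G) (d : ℕ)
    (hd : (Subgroup.centralizer ((P : Subgroup G) : Set G)).relIndex
      (Subgroup.normalizer ((P : Subgroup G) : Set G)) = d)
    (hn : Nat.card (Sylow p G) = p + 1) (Q : Sylow p (G ⧸ Subgroup.center G))
    (hQ : (Q : Subgroup (G ⧸ Subgroup.center G)) =
      (P : Subgroup G).map (QuotientGroup.mk' (Subgroup.center G))) :
    Nat.card (Subgroup.normalizer ((Q : Subgroup (G ⧸ Subgroup.center G)) :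
        Set (G ⧸ Subgroup.center G))) = d * p ∧
      Nat.card (Sylow p (G ⧸ Subgroup.center G)) = p + 1 := by
  have hZ := helper26_bg_center_preg p hnn
  have h := helper26_quot_center_sylow_map p P hP hK hZ d hd (p + 1) hn
  have hQ' : Q = P.mapSurjective (QuotientGroup.mk'_surjective (Subgroup.center G)) := by
    apply Sylow.ext
    rw [hQ]
    exact (Sylow.coe_mapSurjective _ P).symm
  subst hQ'
  exact ⟨h.2.2.1, h.2.2.2⟩

end Cfsg.Agent.Lib.helper2.BG
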