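import Mathlib

set_option autoImplicit false

namespace Cfsg.Agent.Lib.helper26

section BlockLast

variable {F : Type*} [CommRing F] {m : ℕ}

/-- The block diagonal matrix `diag(A, a)` of size `m + 1`, with `a` in the last position. -/
def blk (A : Matrix (Fin m) (Fin m) F) (a : F) : Matrix (Fin (m + 1)) (Fin (m + 1)) F :=
  Matrix.of fun i j =>
    Fin.lastCases (motive := fun _ => F) (Fin.lastCases (motive := fun _ => F) a (fun _ => 0) j)
      (fun i' => Fin.lastCases (motive := fun _ => F) 0 (fun j' => A i' j') j) i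

@[simp] theorem blk_castSucc_castSucc (A : Matrix (Fin m) (Fin m) F) (a : F) (i j : Fin m) :
    blk A a (Fin.castSucc i) (Fin.castSucc j) = A i j := by
  simp [blk]

@[simp] theorem blk_castSucc_last (A : Matrix (Fin m) (Fin m) F) (a : F) (i : Fin m) :
    blk A a (Fin.castSucc i) (Fin.last m) = 0 := by
  simp [blk]

@[simp] theorem blk_last_castSucc (A : Matrix (Fin m) (Fin m) F) (a : F) (j : Fin m) :
    blk A a (Fin.last m) (Fin.castSucc j) = 0 := by
  simp [blk]

@[simp] theorem blk_last_last (A : Matrix (Fin m) (Fin m) F) (a : F) :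
    blk A a (Fin.last m) (Fin.last m) = a := by
  simp [blk]

theorem blk_mul (A B : Matrix (Fin m) (Fin m) F) (a b : F) :
    blk A a * blk B b = blk (A * B) (a * b) := by
  ext i j
  refine Fin.lastCases ?_ (fun i' => ?_) i <;> refine Fin.lastCases ?_ (fun j' => ?_) j <;>
    simp [Matrix.mul_apply, Fin.sum_univ_castSucc]

theorem blk_one : blk (1 : Matrix (Fin m) (Fin m) F) 1 = 1 := by
  ext i j
  refine Fin.lastCases ?_ (fun i' => ?_) i <;> refine Fin.lastCases ?_ (fun j' => ?_) j <;>
    simp [Matrix.one_apply, Fin.castSucc_inj, (Fin.castSucc_lt_last _).ne,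
      (Fin.castSucc_lt_last _).ne']

theorem blk_submatrix (A : Matrix (Fin m) (Fin m) F) (a : F) :
    (blk A a).submatrix Fin.castSucc Fin.castSucc = A := by
  ext i j
  simp

theorem det_blk (A : Matrix (Fin m) (Fin m) F) (a : F) : (blk A a).det = A.det * a := by
  rw [Matrix.det_succ_row _ (Fin.last m), Fin.sum_univ_castSucc]
  simp only [blk_last_castSucc, mul_zero, zero_mul, Finset.sum_const_zero, zero_add,
    blk_last_last, Fin.succAbove_last, blk_submatrix, Fin.val_last]
  rw [Even.neg_one_pow ⟨m, rfl⟩]
  ring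

theorem blk_inj {A B : Matrix (Fin m) (Fin m) F} {a b : F} (h : blk A a = blk B b) :
    A = B ∧ a = b := by
  constructor
  · ext i j
    have := congrFun (congrFun h (Fin.castSucc i)) (Fin.castSucc j)
    simpa using this
  · have := congrFun (congrFun h (Fin.last m)) (Fin.last m)
    simpa using this

theorem eq_blk_of_zero (g : Matrix (Fin (m + 1)) (Fin (m + 1)) F)
    (h1 : ∀ i : Fin m, g (Fin.castSucc i) (Fin.last m) = 0)
    (h2 : ∀ j : Fin m, g (Fin.last m) (Fin.castSucc j) = 0) :
    g = blk (g.submatrix Fin.castSucc Fin.castSucc) (g (Fin.last m) (Fin.last m)) := by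
  ext i j
  refine Fin.lastCases ?_ (fun i' => ?_) i <;> refine Fin.lastCases ?_ (fun j' => ?_) j <;>
    simp [h1, h2]

theorem blk_neg_one_one_eq_diagonal (F : Type*) [CommRing F] (m : ℕ) :
    blk (-1 : Matrix (Fin m) (Fin m) F) 1 =
      Matrix.diagonal (fun i : Fin (m + 1) => if (i : ℕ) + 1 = m + 1 then (1 : F) else -1) := by
  ext i j
  refine Fin.lastCases ?_ (fun i' => ?_) i <;> refine Fin.lastCases ?_ (fun j' => ?_) j
  · simp
  · simp [(Fin.castSucc_lt_last _).ne']
  · simp [(Fin.castSucc_lt_last _).ne]
  · have := i'.isLt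
    by_cases hij : i' = j'
    · subst hij
      simp [Matrix.one_apply]
      omega
    · simp [Matrix.one_apply, hij, Fin.castSucc_inj]

/-- A matrix commuting with `diag(-1, …, -1, 1)` is block diagonal (when `2` is cancellable). -/
theorem eq_blk_of_commute [IsDomain F] (h2 : (2 : F) ≠ 0)
    (g : Matrix (Fin (m + 1)) (Fin (m + 1)) F)
    (hg : g * blk (-1 : Matrix (Fin m) (Fin m) F) 1 = blk (-1 : Matrix (Fin m) (Fin m) F) 1 * g) :
    g = blk (g.submatrix Fin.castSucc Fin.castSucc) (g (Fin.last m) (Fin.last m)) := by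
  rw [blk_neg_one_one_eq_diagonal] at hg
  have key : ∀ x : F, x = -x → x = 0 := by
    intro x hx
    have : (2 : F) * x = 0 := by linear_combination hx
    rcases mul_eq_zero.mp this with h | h
    · exact absurd h h2
    · exact h
  apply eq_blk_of_zero
  · intro i
    have h := congrFun (congrFun hg (Fin.castSucc i)) (Fin.last m)
    rw [Matrix.mul_diagonal, Matrix.diagonal_mul] at h
    have hi := i.isLt
    have hne : ¬ ((Fin.castSucc i : Fin (m + 1)) : ℕ) + 1 = m + 1 := by
      simp; omega
    simp only [Fin.val_last, if_true, hne, if_false] at h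
    apply key
    linear_combination h
  · intro j
    have h := congrFun (congrFun hg (Fin.last m)) (Fin.castSucc j)
    rw [Matrix.mul_diagonal, Matrix.diagonal_mul] at h
    have hj := j.isLt
    have hne : ¬ ((Fin.castSucc j : Fin (m + 1)) : ℕ) + 1 = m + 1 := by
      simp; omega
    simp only [Fin.val_last, if_true, hne, if_false] at h
    apply key
    linear_combination -h

end BlockLast

end Cfsg.Agent.Lib.helper26
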