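import Mathlib
import Cfsg.Prelude.Def_Local
import Cfsg.Agent.Lib.helper26.BlockLast
import Cfsg.Agent.Lib.helper27.Radical
import Cfsg.Agent.Lib.helper27.Basic
import Cfsg.Agent.Lib.helper40.PComponent3

set_option autoImplicit false

namespace Cfsg.Agent.Lib.helper26

/-- A normal quasisimple subgroup containing an involution gives a component of `C / O(C)`. -/
theorem hasComponent_quot_oddCore {C : Type*} [Group C] [Finite C] (L : Subgroup C)
    (hLn : L.Normal) (hL : Cfsg.IsQuasisimple L) (x : C) (hxL : x ∈ L) (hx : orderOf x = 2) :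
    Cfsg.HasComponent (C ⧸ Cfsg.oddCore C) := by
  refine ⟨L.map (QuotientGroup.mk' (Cfsg.oddCore C)),
    (hLn.map _ (QuotientGroup.mk'_surjective _)).isSubnormal, ?_⟩
  have hxO : x ∉ Cfsg.oddCore C := by
    intro hxO
    have hcop := Cfsg.Agent.Lib.helper27.pPrimeCore_coprime (G := C) 2
    have hdvd : orderOf x ∣ Nat.card (Cfsg.oddCore C) :=
      Subgroup.orderOf_dvd_natCard (Cfsg.oddCore C) hxO
    rw [hx] at hdvd
    have := Nat.Coprime.eq_one_of_dvd hcop.symm hdvd
    omega
  have : Nontrivial (L.map (QuotientGroup.mk' (Cfsg.oddCore C))) := by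
    refine ⟨⟨⟨QuotientGroup.mk' (Cfsg.oddCore C) x, Subgroup.mem_map_of_mem _ hxL⟩, 1, ?_⟩⟩
    intro h
    have h1 : QuotientGroup.mk' (Cfsg.oddCore C) x = 1 := congrArg Subtype.val h
    rw [QuotientGroup.mk'_apply, QuotientGroup.eq_one_iff] at h1
    exact hxO h1
  exact Cfsg.Agent.Lib.helper40.isQuasisimple_of_surjective_of_nontrivial
    ((QuotientGroup.mk' (Cfsg.oddCore C)).subgroupMap L)
    ((QuotientGroup.mk' (Cfsg.oddCore C)).subgroupMap_surjective L) hL

theorem two_ne_zero_of_odd_card {F : Type*} [Field F] [Fintype F] (hF : Odd (Fintype.card F)) :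
    (2 : F) ≠ 0 := by
  apply Ring.two_ne_zero
  intro h
  have := FiniteField.even_card_of_char_two h
  rcases hF with ⟨r, hr⟩
  omega

section BlockGL

variable (F : Type*) [CommRing F] (m : ℕ)

/-- The monoid homomorphism `A ↦ diag(A, 1)`. -/
def blkHom : Matrix (Fin m) (Fin m) F →* Matrix (Fin (m + 1)) (Fin (m + 1)) F where
  toFun A := blk A 1
  map_one' := blk_one
  map_mul' A B := by rw [blk_mul, mul_one]

/-- The embedding `SL_m → GL_{m+1}`, `A ↦ diag(A, 1)`. -/
def slToGLSucc : Matrix.SpecialLinearGroup (Fin m) F →* Matrix.GeneralLinearGroup (Fin (m + 1)) F :=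
  (Units.map (blkHom F m)).comp Matrix.SpecialLinearGroup.toGL

theorem slToGLSucc_val (A : Matrix.SpecialLinearGroup (Fin m) F) :
    ((slToGLSucc F m A : Matrix.GeneralLinearGroup (Fin (m + 1)) F) :
      Matrix (Fin (m + 1)) (Fin (m + 1)) F) = blk (A : Matrix (Fin m) (Fin m) F) 1 := rfl

theorem slToGLSucc_injective : Function.Injective (slToGLSucc F m) := by
  intro A B h
  have h1 := congrArg (fun g : Matrix.GeneralLinearGroup (Fin (m + 1)) F =>
    (g : Matrix (Fin (m + 1)) (Fin (m + 1)) F)) h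
  simp only [slToGLSucc_val] at h1
  exact Subtype.ext (blk_inj h1).1

theorem blk_neg_one_mul_self : blk (-1 : Matrix (Fin m) (Fin m) F) 1 * blk (-1) 1 = 1 := by
  rw [blk_mul]
  simp [blk_one]

/-- The involution `diag(-1, …, -1, 1)` of `GL_{m+1}`. -/
def tGL : Matrix.GeneralLinearGroup (Fin (m + 1)) F :=
  ⟨blk (-1) 1, blk (-1) 1, blk_neg_one_mul_self F m, blk_neg_one_mul_self F m⟩

theorem tGL_val : ((tGL F m : Matrix.GeneralLinearGroup (Fin (m + 1)) F) :
    Matrix (Fin (m + 1)) (Fin (m + 1)) F) = blk (-1) 1 := rfl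

end BlockGL

section BlockGLField

variable {F : Type*} [Field F] {m : ℕ}

theorem orderOf_tGL (h2 : (2 : F) ≠ 0) (hm : 0 < m) : orderOf (tGL F m) = 2 := by
  have : Fact (Nat.Prime 2) := ⟨Nat.prime_two⟩
  apply orderOf_eq_prime
  · apply Units.ext
    rw [sq, Units.val_mul, tGL_val, blk_neg_one_mul_self]
    rfl
  · intro h
    have h1 := congrArg (fun g : Matrix.GeneralLinearGroup (Fin (m + 1)) F =>
      (g : Matrix (Fin (m + 1)) (Fin (m + 1)) F) (Fin.castSucc ⟨0, hm⟩) (Fin.castSucc ⟨0, hm⟩)) h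
    simp only [tGL_val, blk_castSucc_castSucc, Units.val_one, Matrix.neg_apply, Matrix.one_apply_eq] at h1
    apply h2
    linear_combination -h1

theorem mem_centralizer_tGL_iff (g : Matrix.GeneralLinearGroup (Fin (m + 1)) F) :
    g ∈ Subgroup.centralizer ({tGL F m} : Set (Matrix.GeneralLinearGroup (Fin (m + 1)) F)) ↔
      (g : Matrix (Fin (m + 1)) (Fin (m + 1)) F) * blk (-1) 1 =
        blk (-1) 1 * (g : Matrix (Fin (m + 1)) (Fin (m + 1)) F) := by
  rw [Subgroup.mem_centralizer_iff]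
  constructor
  · intro h
    have h1 := h (tGL F m) rfl
    have h2 := congrArg (fun g : Matrix.GeneralLinearGroup (Fin (m + 1)) F =>
      (g : Matrix (Fin (m + 1)) (Fin (m + 1)) F)) h1
    simp only [Units.val_mul, tGL_val] at h2
    exact h2.symm
  · intro h x hx
    rw [Set.mem_singleton_iff] at hx
    subst hx
    apply Units.ext
    rw [Units.val_mul, Units.val_mul, tGL_val]
    exact h.symm

theorem tGL_not_mem_center (h2 : (2 : F) ≠ 0) (hm : 0 < m) :
    tGL F m ∉ Subgroup.center (Matrix.GeneralLinearGroup (Fin (m + 1)) F) := by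
  intro hc
  rw [Subgroup.mem_center_iff] at hc
  have hne : (Fin.castSucc ⟨0, hm⟩ : Fin (m + 1)) ≠ Fin.last m := (Fin.castSucc_lt_last _).ne
  set T : Matrix.SpecialLinearGroup (Fin (m + 1)) F :=
    ⟨Matrix.transvection (Fin.castSucc ⟨0, hm⟩) (Fin.last m) 1,
      Matrix.det_transvection_of_ne _ _ hne 1⟩ with hT
  have h1 := hc (Matrix.SpecialLinearGroup.toGL T)
  have h3 := congrArg (fun g : Matrix.GeneralLinearGroup (Fin (m + 1)) F =>
      (g : Matrix (Fin (m + 1)) (Fin (m + 1)) F)) h1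
  simp only [Units.val_mul, tGL_val, Matrix.SpecialLinearGroup.coe_GL_coe_matrix] at h3
  have h4 := eq_blk_of_commute h2 _ h3
  have h5 := congrFun (congrFun h4 (Fin.castSucc ⟨0, hm⟩)) (Fin.last m)
  rw [blk_castSucc_last] at h5
  have h6 : (Matrix.transvection (Fin.castSucc ⟨0, hm⟩) (Fin.last m) (1 : F))
      (Fin.castSucc ⟨0, hm⟩) (Fin.last m) = 1 := by
    rw [Matrix.transvection, Matrix.add_apply, Matrix.one_apply_ne hne,
      Matrix.single_apply_same, zero_add]
  rw [hT] at h5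
  exact one_ne_zero (h6.symm.trans h5)

end BlockGLField

section GLComp

variable {F : Type*} [Field F] {m : ℕ}

theorem slToGLSucc_mem_centralizer (A : Matrix.SpecialLinearGroup (Fin m) F) :
    slToGLSucc F m A ∈
      Subgroup.centralizer ({tGL F m} : Set (Matrix.GeneralLinearGroup (Fin (m + 1)) F)) := by
  rw [mem_centralizer_tGL_iff, slToGLSucc_val, blk_mul, blk_mul]
  simp

/-- The embedding of `SL_m` into the centralizer of `diag(-1, …, -1, 1)` in `GL_{m+1}`. -/
def slToCent (F : Type*) [Field F] (m : ℕ) : Matrix.SpecialLinearGroup (Fin m) F →*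
    ↥(Subgroup.centralizer ({tGL F m} : Set (Matrix.GeneralLinearGroup (Fin (m + 1)) F))) :=
  (slToGLSucc F m).codRestrict _ slToGLSucc_mem_centralizer

theorem slToCent_injective : Function.Injective (slToCent F m) := by
  intro A B h
  apply slToGLSucc_injective F m
  exact congrArg Subtype.val h

theorem slToCent_range_normal (h2 : (2 : F) ≠ 0) : (slToCent F m).range.Normal := by
  constructor
  rintro _ ⟨A, rfl⟩ c
  have hc := (mem_centralizer_tGL_iff c.1).mp c.2
  have hc' := (mem_centralizer_tGL_iff (c⁻¹).1).mp (c⁻¹).2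
  have e1 := eq_blk_of_commute h2 _ hc
  have e2 := eq_blk_of_commute h2 _ hc'
  have hmul : ((c.1 : Matrix.GeneralLinearGroup (Fin (m + 1)) F) :
      Matrix (Fin (m + 1)) (Fin (m + 1)) F) *
      (((c⁻¹).1 : Matrix.GeneralLinearGroup (Fin (m + 1)) F) :
      Matrix (Fin (m + 1)) (Fin (m + 1)) F) = 1 := by
    rw [← Units.val_mul, ← Subgroup.coe_mul, mul_inv_cancel]
    rfl
  generalize ((c.1 : Matrix.GeneralLinearGroup (Fin (m + 1)) F) :
      Matrix (Fin (m + 1)) (Fin (m + 1)) F).submatrix Fin.castSucc Fin.castSucc = P at e1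
  generalize ((c.1 : Matrix.GeneralLinearGroup (Fin (m + 1)) F) :
      Matrix (Fin (m + 1)) (Fin (m + 1)) F) (Fin.last m) (Fin.last m) = a at e1
  generalize (((c⁻¹).1 : Matrix.GeneralLinearGroup (Fin (m + 1)) F) :
      Matrix (Fin (m + 1)) (Fin (m + 1)) F).submatrix Fin.castSucc Fin.castSucc = P' at e2
  generalize (((c⁻¹).1 : Matrix.GeneralLinearGroup (Fin (m + 1)) F) :
      Matrix (Fin (m + 1)) (Fin (m + 1)) F) (Fin.last m) (Fin.last m) = a' at e2
  have hmul' := hmul
  rw [e1, e2, blk_mul, ← blk_one] at hmul'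
  obtain ⟨hPP, haa⟩ := blk_inj hmul'
  have hdet : (P * (A : Matrix (Fin m) (Fin m) F) * P').det = 1 := by
    rw [Matrix.det_mul, Matrix.det_mul, A.2, mul_one, ← Matrix.det_mul, hPP, Matrix.det_one]
  refine ⟨⟨P * (A : Matrix (Fin m) (Fin m) F) * P', hdet⟩, ?_⟩
  apply Subtype.ext
  apply Units.ext
  show blk (P * (A : Matrix (Fin m) (Fin m) F) * P') 1 =
    ((c.1 : Matrix.GeneralLinearGroup (Fin (m + 1)) F) :
      Matrix (Fin (m + 1)) (Fin (m + 1)) F) * blk (A : Matrix (Fin m) (Fin m) F) 1 *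
      (((c⁻¹).1 : Matrix.GeneralLinearGroup (Fin (m + 1)) F) :
      Matrix (Fin (m + 1)) (Fin (m + 1)) F)
  rw [e1, e2, blk_mul, blk_mul, mul_one, haa]

/-- The involution `diag(-1, -1, 1, …, 1)` of `SL_{k+2}`. -/
def dSL (F : Type*) [Field F] (k : ℕ) : Matrix.SpecialLinearGroup (Fin (k + 2)) F :=
  ⟨Matrix.diagonal (fun i : Fin (k + 2) => if (i : ℕ) < 2 then (-1 : F) else 1), by
    rw [Matrix.det_diagonal, Fin.prod_univ_succ, Fin.prod_univ_succ]
    simp⟩

theorem orderOf_dSL (h2 : (2 : F) ≠ 0) (k : ℕ) : orderOf (dSL F k) = 2 := by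
  have : Fact (Nat.Prime 2) := ⟨Nat.prime_two⟩
  apply orderOf_eq_prime
  · apply Subtype.ext
    rw [sq]
    show Matrix.diagonal _ * Matrix.diagonal _ = 1
    rw [Matrix.diagonal_mul_diagonal, ← Matrix.diagonal_one]
    congr 1
    funext i
    split_ifs <;> simp
  · intro h
    have h1 := congrArg (fun g : Matrix.SpecialLinearGroup (Fin (k + 2)) F =>
      (g : Matrix (Fin (k + 2)) (Fin (k + 2)) F) 0 0) h
    simp [dSL] at h1
    apply h2
    linear_combination -h1

/-- `GL_{k+3}(F)`, `|F|` odd, has a non-central involution `t` with `C(t)/O(C(t))` having a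
component, provided `SL_{k+2}(F)` is quasisimple. -/
theorem gl_hasComponent {F : Type*} [Field F] [Fintype F] [DecidableEq F]
    (hF : Odd (Fintype.card F)) (k : ℕ)
    (hq : Cfsg.IsQuasisimple (Matrix.SpecialLinearGroup (Fin (k + 2)) F)) :
    ∃ t : Matrix.GeneralLinearGroup (Fin (k + 2 + 1)) F, orderOf t = 2 ∧
      t ∉ Subgroup.center (Matrix.GeneralLinearGroup (Fin (k + 2 + 1)) F) ∧
      Cfsg.HasComponent
        (↥(Subgroup.centralizer ({t} : Set (Matrix.GeneralLinearGroup (Fin (k + 2 + 1)) F))) ⧸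
          Cfsg.oddCore
            ↥(Subgroup.centralizer ({t} : Set (Matrix.GeneralLinearGroup (Fin (k + 2 + 1)) F)))) := by
  have h2 := two_ne_zero_of_odd_card hF
  refine ⟨tGL F (k + 2), orderOf_tGL h2 (by omega), tGL_not_mem_center h2 (by omega), ?_⟩
  refine hasComponent_quot_oddCore (slToCent F (k + 2)).range (slToCent_range_normal h2)
    (Cfsg.Agent.Lib.helper27.isQuasisimple_of_mulEquiv (MonoidHom.ofInjective slToCent_injective) hq)
    (slToCent F (k + 2) (dSL F k)) ⟨_, rfl⟩ ?_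
  rw [orderOf_injective _ slToCent_injective, orderOf_dSL h2]

end GLComp

end Cfsg.Agent.Lib.helper26
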