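import Mathlib
import Cfsg.Prelude.Def_Local
import Cfsg.Agent.Lib.helper26.BlockLast
import Cfsg.Agent.Lib.helper26.BlockGL
import Cfsg.Agent.Lib.helper27.Basic

set_option autoImplicit false

namespace Cfsg.Agent.Lib.helper26

section BlockMat

variable {F : Type*} [CommRing F] {m : ℕ}

theorem blk_mul_apply_last (A : Matrix (Fin m) (Fin m) F) (a : F)
    (g : Matrix (Fin (m + 1)) (Fin (m + 1)) F) (j : Fin (m + 1)) :
    (blk A a * g) (Fin.last m) j = a * g (Fin.last m) j := by
  simp [Matrix.mul_apply, Fin.sum_univ_castSucc]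

theorem mul_blk_apply_last (A : Matrix (Fin m) (Fin m) F) (a : F)
    (g : Matrix (Fin (m + 1)) (Fin (m + 1)) F) (i : Fin (m + 1)) :
    (g * blk A a) i (Fin.last m) = g i (Fin.last m) * a := by
  simp [Matrix.mul_apply, Fin.sum_univ_castSucc]

theorem smul_blk_mul_apply_castSucc (l μ : F)
    (g : Matrix (Fin (m + 1)) (Fin (m + 1)) F) (i : Fin m) (j : Fin (m + 1)) :
    (blk (l • (1 : Matrix (Fin m) (Fin m) F)) μ * g) (Fin.castSucc i) j =
      l * g (Fin.castSucc i) j := by
  simp [Matrix.mul_apply, Fin.sum_univ_castSucc, Matrix.one_apply]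

theorem mul_smul_blk_apply_castSucc (l μ : F)
    (g : Matrix (Fin (m + 1)) (Fin (m + 1)) F) (i : Fin (m + 1)) (j : Fin m) :
    (g * blk (l • (1 : Matrix (Fin m) (Fin m) F)) μ) i (Fin.castSucc j) =
      g i (Fin.castSucc j) * l := by
  simp [Matrix.mul_apply, Fin.sum_univ_castSucc, Matrix.one_apply]

theorem commute_blk_smul (P : Matrix (Fin m) (Fin m) F) (a l μ : F) :
    blk P a * blk (l • (1 : Matrix (Fin m) (Fin m) F)) μ =
      blk (l • (1 : Matrix (Fin m) (Fin m) F)) μ * blk P a := by
  rw [blk_mul, blk_mul, Matrix.mul_smul, Matrix.smul_mul, mul_one, one_mul, mul_comm]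

/-- Conjugating `diag(A, 1)` by a block diagonal matrix. -/
theorem conj_blk {P P' A : Matrix (Fin m) (Fin m) F} {a a' : F}
    (h : blk P a * blk P' a' = 1) :
    blk P a * blk A 1 * blk P' a' = blk (P * A * P') 1 ∧ (P * A * P').det = A.det := by
  rw [blk_mul, ← blk_one] at h
  obtain ⟨hPP, haa⟩ := blk_inj h
  constructor
  · rw [blk_mul, blk_mul, mul_one, haa]
  · rw [Matrix.det_mul, Matrix.det_mul, mul_comm (P.det), mul_assoc, ← Matrix.det_mul, hPP,
      Matrix.det_one, mul_one]

end BlockMat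

section BlockKL

variable {F : Type*} [Field F] {m : ℕ}

/-- Key lemma: if `z = diag(l, …, l, μ)` with `l ≠ μ` is conjugated by the invertible `g` to a
matrix `diag(l', …, l', μ')`, then `g` is block diagonal. -/
theorem offdiag_zero_of_conj (hm : 2 ≤ m) (g h : Matrix (Fin (m + 1)) (Fin (m + 1)) F)
    (hgh : g * h = 1) (l μ l' μ' : F) (hne : l ≠ μ)
    (heq : blk (l • (1 : Matrix (Fin m) (Fin m) F)) μ * g =
      g * blk (l' • (1 : Matrix (Fin m) (Fin m) F)) μ') :
    (∀ i : Fin m, g (Fin.castSucc i) (Fin.last m) = 0) ∧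
      (∀ j : Fin m, g (Fin.last m) (Fin.castSucc j) = 0) := by
  have E1 : ∀ i j : Fin m, l * g (Fin.castSucc i) (Fin.castSucc j) =
      g (Fin.castSucc i) (Fin.castSucc j) * l' := by
    intro i j
    have := congrFun (congrFun heq (Fin.castSucc i)) (Fin.castSucc j)
    rwa [smul_blk_mul_apply_castSucc, mul_smul_blk_apply_castSucc] at this
  have E2 : ∀ i : Fin m, l * g (Fin.castSucc i) (Fin.last m) =
      g (Fin.castSucc i) (Fin.last m) * μ' := by
    intro i
    have := congrFun (congrFun heq (Fin.castSucc i)) (Fin.last m)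
    rwa [smul_blk_mul_apply_castSucc, mul_blk_apply_last] at this
  have E3 : ∀ j : Fin m, μ * g (Fin.last m) (Fin.castSucc j) =
      g (Fin.last m) (Fin.castSucc j) * l' := by
    intro j
    have := congrFun (congrFun heq (Fin.last m)) (Fin.castSucc j)
    rwa [blk_mul_apply_last, mul_smul_blk_apply_castSucc] at this
  have E4 : μ * g (Fin.last m) (Fin.last m) = g (Fin.last m) (Fin.last m) * μ' := by
    have := congrFun (congrFun heq (Fin.last m)) (Fin.last m)
    rwa [blk_mul_apply_last, mul_blk_apply_last] at this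
  by_cases hl : l = l'
  · subst hl
    have hrow : ∀ j : Fin m, g (Fin.last m) (Fin.castSucc j) = 0 := by
      intro j
      have h1 : (μ - l) * g (Fin.last m) (Fin.castSucc j) = 0 := by linear_combination E3 j
      rcases mul_eq_zero.mp h1 with h | h
      · exact absurd (sub_eq_zero.mp h).symm hne
      · exact h
    have hll : g (Fin.last m) (Fin.last m) * h (Fin.last m) (Fin.last m) = 1 := by
      have := congrFun (congrFun hgh (Fin.last m)) (Fin.last m)
      rw [Matrix.mul_apply, Fin.sum_univ_castSucc] at this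
      simpa [hrow] using this
    have hg0 : g (Fin.last m) (Fin.last m) ≠ 0 := by
      intro h0
      rw [h0, zero_mul] at hll
      exact zero_ne_one hll
    have hμ : μ = μ' := by
      have h1 : (μ - μ') * g (Fin.last m) (Fin.last m) = 0 := by linear_combination E4
      rcases mul_eq_zero.mp h1 with h | h
      · exact sub_eq_zero.mp h
      · exact absurd h hg0
    refine ⟨fun i => ?_, hrow⟩
    have h1 : (l - μ) * g (Fin.castSucc i) (Fin.last m) = 0 := by
      rw [hμ]
      linear_combination E2 i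
    rcases mul_eq_zero.mp h1 with h | h
    · exact absurd (sub_eq_zero.mp h) hne
    · exact h
  · exfalso
    have hblock : ∀ i j : Fin m, g (Fin.castSucc i) (Fin.castSucc j) = 0 := by
      intro i j
      have h1 : (l - l') * g (Fin.castSucc i) (Fin.castSucc j) = 0 := by linear_combination E1 i j
      rcases mul_eq_zero.mp h1 with h | h
      · exact absurd (sub_eq_zero.mp h) hl
      · exact h
    have key : ∀ i i' : Fin m, g (Fin.castSucc i) (Fin.last m) * h (Fin.last m) (Fin.castSucc i') =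
        (1 : Matrix (Fin (m + 1)) (Fin (m + 1)) F) (Fin.castSucc i) (Fin.castSucc i') := by
      intro i i'
      have := congrFun (congrFun hgh (Fin.castSucc i)) (Fin.castSucc i')
      rw [Matrix.mul_apply, Fin.sum_univ_castSucc] at this
      simpa [hblock] using this
    have k00 := key ⟨0, by omega⟩ ⟨0, by omega⟩
    have k01 := key ⟨0, by omega⟩ ⟨1, by omega⟩
    have k11 := key ⟨1, by omega⟩ ⟨1, by omega⟩
    rw [Matrix.one_apply_eq] at k00 k11
    rw [Matrix.one_apply_ne (by simp [Fin.ext_iff])] at k01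
    have hg0 : g (Fin.castSucc ⟨0, by omega⟩) (Fin.last m) ≠ 0 := by
      intro h0
      rw [h0, zero_mul] at k00
      exact zero_ne_one k00
    rcases mul_eq_zero.mp k01 with h' | h'
    · exact hg0 h'
    · rw [h', mul_zero] at k11
      exact zero_ne_one k11

end BlockKL

section BlockSLHom

variable (F : Type*) [CommRing F] (m : ℕ)

/-- The embedding `SL_m → SL_{m+1}`, `A ↦ diag(A, 1)`. -/
def slSucc : Matrix.SpecialLinearGroup (Fin m) F →* Matrix.SpecialLinearGroup (Fin (m + 1)) F where
  toFun A := ⟨blk (A : Matrix (Fin m) (Fin m) F) 1, by rw [det_blk, A.2, mul_one]⟩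
  map_one' := Subtype.ext blk_one
  map_mul' A B := Subtype.ext (by
    show blk ((A * B : Matrix.SpecialLinearGroup (Fin m) F) : Matrix (Fin m) (Fin m) F) 1 =
      blk (A : Matrix (Fin m) (Fin m) F) 1 * blk (B : Matrix (Fin m) (Fin m) F) 1
    rw [Matrix.SpecialLinearGroup.coe_mul, blk_mul, mul_one])

theorem slSucc_val (A : Matrix.SpecialLinearGroup (Fin m) F) :
    ((slSucc F m A : Matrix.SpecialLinearGroup (Fin (m + 1)) F) :
      Matrix (Fin (m + 1)) (Fin (m + 1)) F) = blk (A : Matrix (Fin m) (Fin m) F) 1 := rfl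

theorem slSucc_injective : Function.Injective (slSucc F m) := by
  intro A B h
  have h1 := congrArg (fun g : Matrix.SpecialLinearGroup (Fin (m + 1)) F =>
    (g : Matrix (Fin (m + 1)) (Fin (m + 1)) F)) h
  simp only [slSucc_val] at h1
  exact Subtype.ext (blk_inj h1).1

end BlockSLHom

section BlockSLCent

variable {F : Type*} [Field F] {m : ℕ}

theorem mem_centralizer_singleton_SL_iff (t g : Matrix.SpecialLinearGroup (Fin (m + 1)) F)
    (ht : (t : Matrix (Fin (m + 1)) (Fin (m + 1)) F) = blk (-1) 1) :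
    g ∈ Subgroup.centralizer ({t} : Set (Matrix.SpecialLinearGroup (Fin (m + 1)) F)) ↔
      (g : Matrix (Fin (m + 1)) (Fin (m + 1)) F) * blk (-1) 1 =
        blk (-1) 1 * (g : Matrix (Fin (m + 1)) (Fin (m + 1)) F) := by
  rw [Subgroup.mem_centralizer_iff]
  constructor
  · intro h
    have h1 := h t rfl
    have h2 := congrArg (fun g : Matrix.SpecialLinearGroup (Fin (m + 1)) F =>
      (g : Matrix (Fin (m + 1)) (Fin (m + 1)) F)) h1
    simp only [Matrix.SpecialLinearGroup.coe_mul, ht] at h2
    exact h2.symm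
  · intro h x hx
    rw [Set.mem_singleton_iff] at hx
    subst hx
    apply Subtype.ext
    rw [Matrix.SpecialLinearGroup.coe_mul, Matrix.SpecialLinearGroup.coe_mul, ht]
    exact h.symm

theorem exists_blk_of_mem_centralizer (h2 : (2 : F) ≠ 0)
    (t g : Matrix.SpecialLinearGroup (Fin (m + 1)) F)
    (ht : (t : Matrix (Fin (m + 1)) (Fin (m + 1)) F) = blk (-1) 1)
    (hg : g ∈ Subgroup.centralizer ({t} : Set (Matrix.SpecialLinearGroup (Fin (m + 1)) F))) :
    ∃ (P : Matrix (Fin m) (Fin m) F) (a : F),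
      (g : Matrix (Fin (m + 1)) (Fin (m + 1)) F) = blk P a :=
  ⟨_, _, eq_blk_of_commute h2 _ ((mem_centralizer_singleton_SL_iff t g ht).mp hg)⟩

theorem mem_centralizer_of_eq_blk (t g : Matrix.SpecialLinearGroup (Fin (m + 1)) F)
    (ht : (t : Matrix (Fin (m + 1)) (Fin (m + 1)) F) = blk (-1) 1)
    (P : Matrix (Fin m) (Fin m) F) (a : F)
    (hg : (g : Matrix (Fin (m + 1)) (Fin (m + 1)) F) = blk P a) :
    g ∈ Subgroup.centralizer ({t} : Set (Matrix.SpecialLinearGroup (Fin (m + 1)) F)) := by
  rw [mem_centralizer_singleton_SL_iff t g ht, hg, blk_mul, blk_mul]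
  simp

theorem conj_slSucc_mem (h2 : (2 : F) ≠ 0) (t c : Matrix.SpecialLinearGroup (Fin (m + 1)) F)
    (ht : (t : Matrix (Fin (m + 1)) (Fin (m + 1)) F) = blk (-1) 1)
    (hc : c ∈ Subgroup.centralizer ({t} : Set (Matrix.SpecialLinearGroup (Fin (m + 1)) F)))
    (A : Matrix.SpecialLinearGroup (Fin m) F) :
    c * slSucc F m A * c⁻¹ ∈ (slSucc F m).range := by
  obtain ⟨P, a, e1⟩ := exists_blk_of_mem_centralizer h2 t c ht hc
  obtain ⟨P', a', e2⟩ := exists_blk_of_mem_centralizer h2 t c⁻¹ ht (inv_mem hc)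
  have hmul : blk P a * blk P' a' = 1 := by
    rw [← e1, ← e2, ← Matrix.SpecialLinearGroup.coe_mul, mul_inv_cancel,
      Matrix.SpecialLinearGroup.coe_one]
  obtain ⟨h3, h4⟩ := conj_blk (A := (A : Matrix (Fin m) (Fin m) F)) hmul
  refine ⟨(⟨P * (A : Matrix (Fin m) (Fin m) F) * P', by rw [h4, A.2]⟩ :
    Matrix.SpecialLinearGroup (Fin m) F), ?_⟩
  apply Subtype.ext
  show blk (P * (A : Matrix (Fin m) (Fin m) F) * P') 1 =
    ((c * slSucc F m A * c⁻¹ : Matrix.SpecialLinearGroup (Fin (m + 1)) F) :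
      Matrix (Fin (m + 1)) (Fin (m + 1)) F)
  rw [Matrix.SpecialLinearGroup.coe_mul, Matrix.SpecialLinearGroup.coe_mul,
    slSucc_val, e1, e2, h3]

/-- The last diagonal entry, as a homomorphism on the centralizer of `diag(-1, …, -1, 1)`. -/
def lastEntryHom (h2 : (2 : F) ≠ 0) (t : Matrix.SpecialLinearGroup (Fin (m + 1)) F)
    (ht : (t : Matrix (Fin (m + 1)) (Fin (m + 1)) F) = blk (-1) 1) :
    ↥(Subgroup.centralizer ({t} : Set (Matrix.SpecialLinearGroup (Fin (m + 1)) F))) →* F where
  toFun c := (c.1 : Matrix (Fin (m + 1)) (Fin (m + 1)) F) (Fin.last m) (Fin.last m)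
  map_one' := by
    show ((1 : Matrix.SpecialLinearGroup (Fin (m + 1)) F) :
      Matrix (Fin (m + 1)) (Fin (m + 1)) F) (Fin.last m) (Fin.last m) = 1
    rw [Matrix.SpecialLinearGroup.coe_one, Matrix.one_apply_eq]
  map_mul' c d := by
    obtain ⟨P, a, e1⟩ := exists_blk_of_mem_centralizer h2 t c.1 ht c.2
    show ((c.1 * d.1 : Matrix.SpecialLinearGroup (Fin (m + 1)) F) :
      Matrix (Fin (m + 1)) (Fin (m + 1)) F) (Fin.last m) (Fin.last m) = _
    rw [Matrix.SpecialLinearGroup.coe_mul, e1, blk_mul_apply_last, blk_last_last]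

theorem lastEntryHom_apply (h2 : (2 : F) ≠ 0) (t : Matrix.SpecialLinearGroup (Fin (m + 1)) F)
    (ht : (t : Matrix (Fin (m + 1)) (Fin (m + 1)) F) = blk (-1) 1)
    (c : ↥(Subgroup.centralizer ({t} : Set (Matrix.SpecialLinearGroup (Fin (m + 1)) F)))) :
    lastEntryHom h2 t ht c =
      (c.1 : Matrix (Fin (m + 1)) (Fin (m + 1)) F) (Fin.last m) (Fin.last m) := rfl

/-- The layer of the centralizer of `t = diag(-1, …, -1, 1)` in `SL_{m+1}(F)` is the block
`SL_m(F)`, provided `SL_m(F)` is quasisimple. -/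
theorem layer_centralizer_eq_range (h2 : (2 : F) ≠ 0)
    (hq : Cfsg.IsQuasisimple (Matrix.SpecialLinearGroup (Fin m) F))
    (t : Matrix.SpecialLinearGroup (Fin (m + 1)) F)
    (ht : (t : Matrix (Fin (m + 1)) (Fin (m + 1)) F) = blk (-1) 1) :
    (Cfsg.layer ↥(Subgroup.centralizer ({t} : Set (Matrix.SpecialLinearGroup (Fin (m + 1)) F)))).map
      (Subgroup.centralizer ({t} : Set (Matrix.SpecialLinearGroup (Fin (m + 1)) F))).subtype =
      (slSucc F m).range := by
  have hιC : ∀ A, slSucc F m A ∈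
      Subgroup.centralizer ({t} : Set (Matrix.SpecialLinearGroup (Fin (m + 1)) F)) :=
    fun A => mem_centralizer_of_eq_blk t _ ht _ _ (slSucc_val F m A)
  have hinj : Function.Injective ((slSucc F m).codRestrict _ hιC) :=
    fun A B h => slSucc_injective F m (congrArg Subtype.val h)
  have hnormal : ((slSucc F m).codRestrict _ hιC).range.Normal := by
    constructor
    rintro _ ⟨A, rfl⟩ c
    obtain ⟨B, hB⟩ := conj_slSucc_mem h2 t c.1 ht c.2 A
    exact ⟨B, Subtype.ext hB⟩
  have hcomp : Cfsg.IsComponent ((slSucc F m).codRestrict _ hιC).range :=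
    ⟨hnormal.isSubnormal,
      Cfsg.Agent.Lib.helper27.isQuasisimple_of_mulEquiv (MonoidHom.ofInjective hinj) hq⟩
  have hlayer : Cfsg.layer
      ↥(Subgroup.centralizer ({t} : Set (Matrix.SpecialLinearGroup (Fin (m + 1)) F))) =
      ((slSucc F m).codRestrict _ hιC).range := by
    apply le_antisymm
    · apply sSup_le
      intro K hK k hk
      have hperf : commutator ↥K = ⊤ := hK.2.1.commutator_eq_top
      have hker : (⟨k, hk⟩ : ↥K) ∈ ((lastEntryHom h2 t ht).toHomUnits.comp K.subtype).ker :=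
        Abelianization.commutator_subset_ker _ (by rw [hperf]; trivial)
      have h1 : (k.1 : Matrix (Fin (m + 1)) (Fin (m + 1)) F) (Fin.last m) (Fin.last m) = 1 := by
        have := congrArg Units.val (MonoidHom.mem_ker.mp hker)
        simpa [lastEntryHom_apply] using this
      obtain ⟨P, a, e1⟩ := exists_blk_of_mem_centralizer h2 t k.1 ht k.2
      have ha : a = 1 := by
        rw [e1, blk_last_last] at h1
        exact h1
      subst ha
      have hdet : P.det = 1 := by
        have := k.1.2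
        rw [e1, det_blk, mul_one] at this
        exact this
      exact ⟨(⟨P, hdet⟩ : Matrix.SpecialLinearGroup (Fin m) F),
        Subtype.ext (Subtype.ext e1.symm)⟩
    · exact le_sSup hcomp
  rw [hlayer, MonoidHom.map_range]
  rfl

end BlockSLCent

section BlockSLStd

theorem normalizer_le_normalizer_centralizer' {G : Type*} [Group G] (L : Subgroup G) :
    Subgroup.normalizer (L : Set G) ≤
      Subgroup.normalizer (Subgroup.centralizer (L : Set G) : Set G) := by
  intro g hg
  rw [Subgroup.mem_normalizer_iff] at hg ⊢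
  intro z
  constructor
  · intro hz
    rw [Subgroup.mem_centralizer_iff]
    intro l hl
    have hl' : g⁻¹ * l * g ∈ L := by
      rw [hg (g⁻¹ * l * g)]
      have hl'' : l ∈ L := hl
      have e : g * (g⁻¹ * l * g) * g⁻¹ = l := by group
      rw [e]
      exact hl''
    have := hz (g⁻¹ * l * g) hl'
    calc l * (g * z * g⁻¹) = g * ((g⁻¹ * l * g) * z) * g⁻¹ := by group
      _ = g * (z * (g⁻¹ * l * g)) * g⁻¹ := by rw [this]
      _ = g * z * g⁻¹ * l := by group
  · intro hz
    rw [Subgroup.mem_centralizer_iff]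
    intro l hl
    have hl' : g * l * g⁻¹ ∈ L := (hg l).mp hl
    have := hz (g * l * g⁻¹) hl'
    have h3 : g * (l * z) * g⁻¹ = g * (z * l) * g⁻¹ := by
      calc g * (l * z) * g⁻¹ = (g * l * g⁻¹) * (g * z * g⁻¹) := by group
        _ = (g * z * g⁻¹) * (g * l * g⁻¹) := this
        _ = g * (z * l) * g⁻¹ := by group
    exact mul_left_cancel (mul_right_cancel h3)

variable {F : Type*} [Field F] {m : ℕ}

/-- `-1 ∈ SL_m` for even `m`. -/
def negOneSL (F : Type*) [Field F] (m : ℕ) (hm : Even m) : Matrix.SpecialLinearGroup (Fin m) F :=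
  ⟨-1, by rw [Matrix.det_neg, Matrix.det_one, Fintype.card_fin, hm.neg_one_pow, mul_one]⟩

theorem slSucc_negOneSL_val (hm : Even m) :
    ((slSucc F m (negOneSL F m hm) : Matrix.SpecialLinearGroup (Fin (m + 1)) F) :
      Matrix (Fin (m + 1)) (Fin (m + 1)) F) = blk (-1) 1 := rfl

theorem exists_blk_smul_of_mem_centralizer_range (h2 : (2 : F) ≠ 0) (hm : Even m)
    (z : Matrix.SpecialLinearGroup (Fin (m + 1)) F)
    (hz : z ∈ Subgroup.centralizer
      ((slSucc F m).range : Set (Matrix.SpecialLinearGroup (Fin (m + 1)) F))) :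
    ∃ l μ : F, (z : Matrix (Fin (m + 1)) (Fin (m + 1)) F) =
      blk (l • (1 : Matrix (Fin m) (Fin m) F)) μ := by
  have hzt : z ∈ Subgroup.centralizer
      ({slSucc F m (negOneSL F m hm)} : Set (Matrix.SpecialLinearGroup (Fin (m + 1)) F)) := by
    rw [Subgroup.mem_centralizer_iff]
    intro x hx
    rw [Set.mem_singleton_iff] at hx
    subst hx
    exact hz _ ⟨_, rfl⟩
  obtain ⟨P, a, e1⟩ := exists_blk_of_mem_centralizer h2 _ z (slSucc_negOneSL_val hm) hzt
  have hcomm : ∀ T : Matrix.TransvectionStruct (Fin m) F, Commute T.toMatrix P := by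
    intro T
    have h1 := hz (slSucc F m (⟨T.toMatrix, T.det⟩ : Matrix.SpecialLinearGroup (Fin m) F))
      ⟨_, rfl⟩
    have h3 := congrArg (fun g : Matrix.SpecialLinearGroup (Fin (m + 1)) F =>
      (g : Matrix (Fin (m + 1)) (Fin (m + 1)) F)) h1
    simp only [Matrix.SpecialLinearGroup.coe_mul, e1] at h3
    rw [slSucc_val F m (⟨T.toMatrix, T.det⟩ : Matrix.SpecialLinearGroup (Fin m) F), blk_mul,
      blk_mul] at h3
    exact (blk_inj h3).1
  obtain ⟨l, hl⟩ := Matrix.mem_range_scalar_of_commute_transvectionStruct hcomm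
  refine ⟨l, a, ?_⟩
  rw [e1, ← hl, Matrix.scalar_apply, Matrix.smul_one_eq_diagonal]

theorem mem_centralizer_range_of_eq_blk_smul (z : Matrix.SpecialLinearGroup (Fin (m + 1)) F)
    (l μ : F)
    (hz : (z : Matrix (Fin (m + 1)) (Fin (m + 1)) F) = blk (l • (1 : Matrix (Fin m) (Fin m) F)) μ) :
    z ∈ Subgroup.centralizer
      ((slSucc F m).range : Set (Matrix.SpecialLinearGroup (Fin (m + 1)) F)) := by
  rw [Subgroup.mem_centralizer_iff]
  rintro _ ⟨A, rfl⟩
  apply Subtype.ext
  rw [Matrix.SpecialLinearGroup.coe_mul, Matrix.SpecialLinearGroup.coe_mul, slSucc_val, hz]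
  exact commute_blk_smul _ _ _ _

/-- Block diagonal elements commute with the centralizer of the block `SL_m`. -/
theorem commute_of_mem_centralizers (h2 : (2 : F) ≠ 0) (hm : Even m)
    (c z : Matrix.SpecialLinearGroup (Fin (m + 1)) F)
    (hc : c ∈ Subgroup.centralizer
      ({slSucc F m (negOneSL F m hm)} : Set (Matrix.SpecialLinearGroup (Fin (m + 1)) F)))
    (hz : z ∈ Subgroup.centralizer
      ((slSucc F m).range : Set (Matrix.SpecialLinearGroup (Fin (m + 1)) F))) :
    c * z = z * c := by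
  obtain ⟨P, a, e1⟩ := exists_blk_of_mem_centralizer h2 _ c (slSucc_negOneSL_val hm) hc
  obtain ⟨l, μ, e2⟩ := exists_blk_smul_of_mem_centralizer_range h2 hm z hz
  apply Subtype.ext
  rw [Matrix.SpecialLinearGroup.coe_mul, Matrix.SpecialLinearGroup.coe_mul, e1, e2]
  exact commute_blk_smul _ _ _ _

theorem mem_centralizer_of_conj (h2 : (2 : F) ≠ 0) (hm : Even m) (hm2 : 2 ≤ m)
    (g z z' : Matrix.SpecialLinearGroup (Fin (m + 1)) F)
    (hz' : z' ∈ Subgroup.centralizer
      ((slSucc F m).range : Set (Matrix.SpecialLinearGroup (Fin (m + 1)) F)))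
    (l μ : F)
    (hzv : (z : Matrix (Fin (m + 1)) (Fin (m + 1)) F) =
      blk (l • (1 : Matrix (Fin m) (Fin m) F)) μ)
    (hne : l ≠ μ) (hconj : z * g = g * z') :
    g ∈ Subgroup.centralizer
      ({slSucc F m (negOneSL F m hm)} : Set (Matrix.SpecialLinearGroup (Fin (m + 1)) F)) := by
  obtain ⟨l', μ', e2⟩ := exists_blk_smul_of_mem_centralizer_range h2 hm z' hz'
  have hgh : (g : Matrix (Fin (m + 1)) (Fin (m + 1)) F) *
      ((g⁻¹ : Matrix.SpecialLinearGroup (Fin (m + 1)) F) :
        Matrix (Fin (m + 1)) (Fin (m + 1)) F) = 1 := by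
    rw [← Matrix.SpecialLinearGroup.coe_mul, mul_inv_cancel, Matrix.SpecialLinearGroup.coe_one]
  have heq : blk (l • (1 : Matrix (Fin m) (Fin m) F)) μ *
      (g : Matrix (Fin (m + 1)) (Fin (m + 1)) F) =
      (g : Matrix (Fin (m + 1)) (Fin (m + 1)) F) *
        blk (l' • (1 : Matrix (Fin m) (Fin m) F)) μ' := by
    rw [← hzv, ← e2, ← Matrix.SpecialLinearGroup.coe_mul, ← Matrix.SpecialLinearGroup.coe_mul,
      hconj]
  obtain ⟨h3, h4⟩ := offdiag_zero_of_conj hm2 _ _ hgh l μ l' μ' hne heq
  exact mem_centralizer_of_eq_blk _ g (slSucc_negOneSL_val hm) _ _ (eq_blk_of_zero _ h3 h4)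

end BlockSLStd

section BlockSLMain

/-- For `m ≥ 2` even and `|F|` odd, the block subgroup `SL_m(F)` of `SL_{m+1}(F)` is a standard
subgroup, provided `SL_m(F)` is quasisimple. -/
theorem isStandardSubgroup_slSucc_range {F : Type*} [Field F] [Fintype F] [DecidableEq F] {m : ℕ}
    (h2 : (2 : F) ≠ 0) (hm : Even m) (hm2 : 2 ≤ m)
    (hq : Cfsg.IsQuasisimple (Matrix.SpecialLinearGroup (Fin m) F)) :
    Cfsg.IsStandardSubgroup (slSucc F m).range := by
  have htv : ((slSucc F m (negOneSL F m hm) : Matrix.SpecialLinearGroup (Fin (m + 1)) F) :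
      Matrix (Fin (m + 1)) (Fin (m + 1)) F) = blk (-1) 1 := rfl
  have htv' : ((slSucc F m (negOneSL F m hm) : Matrix.SpecialLinearGroup (Fin (m + 1)) F) :
      Matrix (Fin (m + 1)) (Fin (m + 1)) F) = blk ((-1 : F) • (1 : Matrix (Fin m) (Fin m) F)) 1 := by
    rw [htv, neg_smul, one_smul]
  have hneg : (-1 : F) ≠ 1 := by
    intro h
    apply h2
    linear_combination -h
  have htZ : slSucc F m (negOneSL F m hm) ∈ Subgroup.centralizer
      ((slSucc F m).range : Set (Matrix.SpecialLinearGroup (Fin (m + 1)) F)) :=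
    mem_centralizer_range_of_eq_blk_smul _ (-1) 1 htv'
  have hqL : Cfsg.IsQuasisimple ↥(slSucc F m).range :=
    Cfsg.Agent.Lib.helper27.isQuasisimple_of_mulEquiv
      (MonoidHom.ofInjective (slSucc_injective F m)) hq
  have hCZ : ∀ c ∈ Subgroup.centralizer
      ({slSucc F m (negOneSL F m hm)} : Set (Matrix.SpecialLinearGroup (Fin (m + 1)) F)),
      c ∈ Subgroup.normalizer ((Subgroup.centralizer
        ((slSucc F m).range : Set (Matrix.SpecialLinearGroup (Fin (m + 1)) F)) :
          Subgroup (Matrix.SpecialLinearGroup (Fin (m + 1)) F)) :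
            Set (Matrix.SpecialLinearGroup (Fin (m + 1)) F)) := by
    intro c hc
    rw [Subgroup.mem_normalizer_iff]
    intro z
    constructor
    · intro hz
      have := commute_of_mem_centralizers h2 hm c z hc hz
      have e : c * z * c⁻¹ = z := by
        rw [this]
        group
      rw [e]
      exact hz
    · intro hz
      have := commute_of_mem_centralizers h2 hm c _ hc hz
      have e : c * z * c⁻¹ = z := by
        have h' : c * (c * z * c⁻¹) = c * z := by
          rw [this]
          group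
        exact mul_left_cancel h'
      rw [← e]
      exact hz
  have hCL : ∀ c ∈ Subgroup.centralizer
      ({slSucc F m (negOneSL F m hm)} : Set (Matrix.SpecialLinearGroup (Fin (m + 1)) F)),
      c ∈ Subgroup.normalizer
        ((slSucc F m).range : Set (Matrix.SpecialLinearGroup (Fin (m + 1)) F)) := by
    intro c hc
    rw [Subgroup.mem_normalizer_iff]
    intro x
    constructor
    · rintro ⟨A, rfl⟩
      exact conj_slSucc_mem h2 _ c htv hc A
    · intro hx
      obtain ⟨A, hA⟩ := hx
      have := conj_slSucc_mem h2 _ c⁻¹ htv (inv_mem hc) A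
      rw [hA] at this
      have e : c⁻¹ * (c * x * c⁻¹) * c⁻¹⁻¹ = x := by group
      rw [e] at this
      exact this
  refine ⟨hqL, ⟨?_, ?_⟩, ?_, ?_⟩
  · have hord : orderOf (slSucc F m (negOneSL F m hm)) = 2 := by
      have : Fact (Nat.Prime 2) := ⟨Nat.prime_two⟩
      apply orderOf_eq_prime
      · apply Subtype.ext
        rw [sq, Matrix.SpecialLinearGroup.coe_mul, htv, blk_neg_one_mul_self,
          Matrix.SpecialLinearGroup.coe_one]
      · intro h
        have h1 := congrArg (fun g : Matrix.SpecialLinearGroup (Fin (m + 1)) F =>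
          (g : Matrix (Fin (m + 1)) (Fin (m + 1)) F) (Fin.castSucc ⟨0, by omega⟩)
            (Fin.castSucc ⟨0, by omega⟩)) h
        simp only [htv, blk_castSucc_castSucc, Matrix.SpecialLinearGroup.coe_one,
          Matrix.neg_apply, Matrix.one_apply_eq] at h1
        exact hneg h1
    have := Subgroup.orderOf_dvd_natCard _ htZ
    rw [hord] at this
    exact even_iff_two_dvd.mpr this
  · intro g hg
    by_contra hodd
    rw [Nat.not_odd_iff_even, even_iff_two_dvd] at hodd
    have : Fact (Nat.Prime 2) := ⟨Nat.prime_two⟩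
    obtain ⟨x, hx⟩ := exists_prime_orderOf_dvd_card' 2 hodd
    obtain ⟨hxZ, hxZ'⟩ := Subgroup.mem_inf.mp x.2
    obtain ⟨z', hz'Z, hz'⟩ := Subgroup.mem_map.mp hxZ'
    have hconj : x.1 * g = g * z' := by
      rw [← hz']
      simp [MulAut.conj_apply]
    have hxo : orderOf x.1 = 2 := by rw [Subgroup.orderOf_coe, hx]
    obtain ⟨l, μ, e1⟩ := exists_blk_smul_of_mem_centralizer_range h2 hm x.1 hxZ
    by_cases hlμ : l = μ
    · subst hlμ
      have hsq : x.1 * x.1 = 1 := by
        rw [← sq, ← hxo]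
        exact pow_orderOf_eq_one _
      have hsq' := congrArg (fun g : Matrix.SpecialLinearGroup (Fin (m + 1)) F =>
          (g : Matrix (Fin (m + 1)) (Fin (m + 1)) F)) hsq
      simp only [Matrix.SpecialLinearGroup.coe_mul, e1, blk_mul,
        Matrix.SpecialLinearGroup.coe_one] at hsq'
      rw [← blk_one] at hsq'
      have hll : l * l = 1 := (blk_inj hsq').2
      have hl : l = 1 ∨ l = -1 := by
        have : (l - 1) * (l + 1) = 0 := by linear_combination hll
        rcases mul_eq_zero.mp this with h | h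
        · left
          exact sub_eq_zero.mp h
        · right
          exact eq_neg_of_add_eq_zero_left h
      rcases hl with rfl | rfl
      · have h1 : x.1 = 1 := by
          apply Subtype.ext
          rw [e1, one_smul, blk_one, Matrix.SpecialLinearGroup.coe_one]
        rw [h1, orderOf_one] at hxo
        omega
      · have hdet := x.1.2
        rw [e1, det_blk, Matrix.det_smul, Matrix.det_one, Fintype.card_fin,
          hm.neg_one_pow] at hdet
        apply h2
        linear_combination -hdet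
    · exact hg (hCZ g (mem_centralizer_of_conj h2 hm hm2 g x.1 z' hz'Z l μ e1 hlμ hconj))
  · intro g _ hbot
    rw [Subgroup.commutator_eq_bot_iff_le_centralizer] at hbot
    apply Cfsg.Agent.Lib.helper27.IsQuasisimple.not_isMulCommutative hqL
    have hgb : ∀ b ∈ (slSucc F m).range, g * b * g⁻¹ ∈ Subgroup.centralizer
        ((slSucc F m).range : Set (Matrix.SpecialLinearGroup (Fin (m + 1)) F)) := by
      intro b hb
      rw [Subgroup.mem_centralizer_iff]
      intro a ha
      have := (Subgroup.mem_centralizer_iff.mp (hbot ha)) (g * b * g⁻¹)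
        (Subgroup.mem_map.mpr ⟨b, hb, by simp [MulAut.conj_apply]⟩)
      exact this.symm
    refine ⟨⟨fun a b => ?_⟩⟩
    apply Subtype.ext
    have ha := hgb a.1 a.2
    have hb := hgb b.1 b.2
    obtain ⟨l, μ, e1⟩ := exists_blk_smul_of_mem_centralizer_range h2 hm _ ha
    obtain ⟨l', μ', e2⟩ := exists_blk_smul_of_mem_centralizer_range h2 hm _ hb
    have hcomm : (g * a.1 * g⁻¹) * (g * b.1 * g⁻¹) = (g * b.1 * g⁻¹) * (g * a.1 * g⁻¹) := by
      generalize g * a.1 * g⁻¹ = u at e1 ⊢
      generalize g * b.1 * g⁻¹ = v at e2 ⊢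
      apply Subtype.ext
      rw [Matrix.SpecialLinearGroup.coe_mul, Matrix.SpecialLinearGroup.coe_mul, e1, e2]
      exact commute_blk_smul _ _ _ _
    have h3 : g * (a.1 * b.1) * g⁻¹ = g * (b.1 * a.1) * g⁻¹ := by
      calc g * (a.1 * b.1) * g⁻¹ = (g * a.1 * g⁻¹) * (g * b.1 * g⁻¹) := by group
        _ = (g * b.1 * g⁻¹) * (g * a.1 * g⁻¹) := hcomm
        _ = g * (b.1 * a.1) * g⁻¹ := by group
    exact mul_left_cancel (mul_right_cancel h3)
  · apply le_antisymm
    · exact normalizer_le_normalizer_centralizer' _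
    · intro g hg
      apply hCL
      have hz' : g⁻¹ * slSucc F m (negOneSL F m hm) * g ∈ Subgroup.centralizer
          ((slSucc F m).range : Set (Matrix.SpecialLinearGroup (Fin (m + 1)) F)) := by
        rw [Subgroup.mem_normalizer_iff] at hg
        rw [hg (g⁻¹ * slSucc F m (negOneSL F m hm) * g)]
        have e : g * (g⁻¹ * slSucc F m (negOneSL F m hm) * g) * g⁻¹ =
            slSucc F m (negOneSL F m hm) := by group
        rw [e]
        exact htZ
      exact mem_centralizer_of_conj h2 hm hm2 g _ _ hz' (-1) 1 htv' hneg (by group)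

end BlockSLMain

end Cfsg.Agent.Lib.helper26
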