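import Cfsg.Agent.Lib.helper26.CIT

/-!
Structure of `H = N_G(T)` in the Brauer–Suzuki–Wall situation: for an involution `u ∉ H` and
`D = H ∩ uHu⁻¹`, `u` inverts `D`, `D` is a complement to `T` in `H` and `|D| = |T| - 1`.
-/

set_option autoImplicit false

namespace Cfsg.Agent.Lib.helper26

theorem card_ne_eq_pred {α : Type*} [Finite α] (a : α) :
    Nat.card {x : α // x ≠ a} = Nat.card α - 1 := by
  classical
  cases nonempty_fintype α
  rw [Nat.card_eq_fintype_card, Nat.card_eq_fintype_card,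
    Fintype.card_subtype_compl (fun x => x = a), Fintype.card_subtype_eq]

namespace CIT

variable {G : Type*} [Group G] [Finite G] (T : Sylow 2 G) (hnc : ¬ IsCyclic (T : Subgroup G))
  (hC : ∀ t : G, orderOf t = 2 → IsMulCommutative (Subgroup.centralizer ({t} : Set G)) ∧
      ∀ c ∈ Subgroup.centralizer ({t} : Set G), c ^ 2 = 1)
  (hnn : ¬ (T : Subgroup G).Normal)
  (u : G) (hu : orderOf u = 2) (huH : u ∉ Subgroup.normalizer ((T : Subgroup G) : Set G))

include hnc hC hnn hu huH

/-- `D ∩ T = 1`. -/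
theorem eq_one_of_mem_D_of_mem_T {e : G}
    (heD : e ∈ Subgroup.normalizer ((T : Subgroup G) : Set G) ⊓
      (Subgroup.normalizer ((T : Subgroup G) : Set G)).map (MulAut.conj u).toMonoidHom)
    (heT : e ∈ (T : Subgroup G)) : e = 1 := by
  have hH := isStronglyEmbedded_normalizer T hnc hC hnn
  have hodd := hH.2.2 u huH
  have h1 : orderOf (⟨e, heD⟩ : ↥(Subgroup.normalizer ((T : Subgroup G) : Set G) ⊓
      (Subgroup.normalizer ((T : Subgroup G) : Set G)).map (MulAut.conj u).toMonoidHom)) ∣ _ :=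
    orderOf_dvd_natCard _
  rw [Subgroup.orderOf_mk] at h1
  have h2 : orderOf e ∣ 2 := orderOf_dvd_of_pow_eq_one (sq_of_mem T hnc hC heT)
  have h3 : orderOf e = 1 := by
    rcases (Nat.dvd_prime Nat.prime_two).1 h2 with h | h
    · exact h
    · rw [h] at h1
      exact absurd (even_iff_two_dvd.2 h1) (Nat.not_even_iff_odd.2 hodd)
  exact orderOf_eq_one_iff.1 h3

/-- `D` acts freely by conjugation on the involutions of `T`. -/
theorem D_conj_injective {s d d' : G} (hs : orderOf s = 2) (hsT : s ∈ (T : Subgroup G))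
    (hd : d ∈ Subgroup.normalizer ((T : Subgroup G) : Set G) ⊓
      (Subgroup.normalizer ((T : Subgroup G) : Set G)).map (MulAut.conj u).toMonoidHom)
    (hd' : d' ∈ Subgroup.normalizer ((T : Subgroup G) : Set G) ⊓
      (Subgroup.normalizer ((T : Subgroup G) : Set G)).map (MulAut.conj u).toMonoidHom)
    (h : d * s * d⁻¹ = d' * s * d'⁻¹) : d = d' := by
  have h1 : d'⁻¹ * d ∈ (T : Subgroup G) := by
    apply mem_of_commute T hnc hC hs hsT
    calc d'⁻¹ * d * s = d'⁻¹ * (d * s * d⁻¹) * d := by group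
      _ = d'⁻¹ * (d' * s * d'⁻¹) * d := by rw [h]
      _ = s * (d'⁻¹ * d) := by group
  have h2 := eq_one_of_mem_D_of_mem_T T hnc hC hnn u hu huH
    (Subgroup.mul_mem _ (Subgroup.inv_mem _ hd') hd) h1
  calc d = d' * (d'⁻¹ * d) := by group
    _ = d' := by rw [h2, mul_one]

/-- Every involution of `T` is `D`-conjugate to a fixed involution `s` of `T`. -/
theorem exists_D_conj {s t : G} (hs : orderOf s = 2) (hsT : s ∈ (T : Subgroup G))
    (ht : orderOf t = 2) (htT : t ∈ (T : Subgroup G)) :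
    ∃ i : G, orderOf i = 2 ∧ (i * u ∈ Subgroup.normalizer ((T : Subgroup G) : Set G) ⊓
      (Subgroup.normalizer ((T : Subgroup G) : Set G)).map (MulAut.conj u).toMonoidHom) ∧
      (i * u) * s * (i * u)⁻¹ = t := by
  have hH := isStronglyEmbedded_normalizer T hnc hC hnn
  obtain ⟨i, hi, hiH, hit⟩ := SE.exists_involution_conj hH huH hs (le_normalizer T hsT) ht
    (le_normalizer T htT)
  refine ⟨i, hi, ⟨SE.mul_mem_of_inv_mul_mem hi hiH, ?_⟩, hit⟩
  show i * u ∈ (Subgroup.normalizer ((T : Subgroup G) : Set G)).map (MulAut.conj u).toMonoidHom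
  rw [SE.mem_map_conj_iff]
  have huu := mul_self_of_orderOf_two hu
  have : u⁻¹ * (i * u) * u = u⁻¹ * i := by
    calc u⁻¹ * (i * u) * u = u⁻¹ * i * (u * u) := by group
      _ = u⁻¹ * i := by rw [huu, mul_one]
  rw [this]; exact hiH

/-- Every element of `D` has the form `i * u` with `i` an involution. -/
theorem D_eq_involution_mul {d : G}
    (hd : d ∈ Subgroup.normalizer ((T : Subgroup G) : Set G) ⊓
      (Subgroup.normalizer ((T : Subgroup G) : Set G)).map (MulAut.conj u).toMonoidHom) :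
    ∃ i : G, orderOf i = 2 ∧ d = i * u := by
  obtain ⟨s, hsT, hs, -⟩ := exists_central_involution T hnc
  have hdN : d ∈ Subgroup.normalizer ((T : Subgroup G) : Set G) := hd.1
  have htT : d * s * d⁻¹ ∈ (T : Subgroup G) := (Subgroup.mem_normalizer_iff.1 hdN s).1 hsT
  have hto : orderOf (d * s * d⁻¹) = 2 := by rw [orderOf_conj_eq]; exact hs
  obtain ⟨i, hi, hiD, hit⟩ := exists_D_conj T hnc hC hnn u hu huH hs hsT hto htT
  exact ⟨i, hi, (D_conj_injective T hnc hC hnn u hu huH hs hsT hiD hd hit).symm⟩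

/-- `u` inverts every element of `D`. -/
theorem u_inverts_D {d : G}
    (hd : d ∈ Subgroup.normalizer ((T : Subgroup G) : Set G) ⊓
      (Subgroup.normalizer ((T : Subgroup G) : Set G)).map (MulAut.conj u).toMonoidHom) :
    u * d * u⁻¹ = d⁻¹ := by
  obtain ⟨i, hi, rfl⟩ := D_eq_involution_mul T hnc hC hnn u hu huH hd
  rw [mul_inv_rev, inv_eq_self_of_orderOf_two hi, inv_eq_self_of_orderOf_two hu]
  calc u * (i * u) * u = u * i * (u * u) := by group
    _ = u * i := by rw [mul_self_of_orderOf_two hu, mul_one]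

/-- `H = D T`. -/
theorem exists_D_mul_T {h : G} (hh : h ∈ Subgroup.normalizer ((T : Subgroup G) : Set G)) :
    ∃ d ∈ Subgroup.normalizer ((T : Subgroup G) : Set G) ⊓
      (Subgroup.normalizer ((T : Subgroup G) : Set G)).map (MulAut.conj u).toMonoidHom,
      ∃ t ∈ (T : Subgroup G), d * t = h := by
  obtain ⟨s, hsT, hs, -⟩ := exists_central_involution T hnc
  have htT : h * s * h⁻¹ ∈ (T : Subgroup G) := (Subgroup.mem_normalizer_iff.1 hh s).1 hsT
  have hto : orderOf (h * s * h⁻¹) = 2 := by rw [orderOf_conj_eq]; exact hs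
  obtain ⟨i, hi, hiD, hit⟩ := exists_D_conj T hnc hC hnn u hu huH hs hsT hto htT
  refine ⟨i * u, hiD, (i * u)⁻¹ * h, ?_, by group⟩
  apply mem_of_commute T hnc hC hs hsT
  calc (i * u)⁻¹ * h * s = (i * u)⁻¹ * (h * s * h⁻¹) * h := by group
    _ = (i * u)⁻¹ * ((i * u) * s * (i * u)⁻¹) * h := by rw [hit]
    _ = s * ((i * u)⁻¹ * h) := by group

/-- `D` is a complement to `T` in `H = N_G(T)`. -/
theorem isComplement'_D_T :
    Subgroup.IsComplement'
      ((Subgroup.normalizer ((T : Subgroup G) : Set G) ⊓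
        (Subgroup.normalizer ((T : Subgroup G) : Set G)).map (MulAut.conj u).toMonoidHom).subgroupOf
          (Subgroup.normalizer ((T : Subgroup G) : Set G)))
      ((T : Subgroup G).subgroupOf (Subgroup.normalizer ((T : Subgroup G) : Set G))) := by
  apply Subgroup.isComplement'_of_disjoint_and_mul_eq_univ
  · rw [Subgroup.disjoint_def]
    intro x hx1 hx2
    apply Subtype.ext
    exact eq_one_of_mem_D_of_mem_T T hnc hC hnn u hu huH (Subgroup.mem_subgroupOf.1 hx1)
      (Subgroup.mem_subgroupOf.1 hx2)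
  · rw [Set.eq_univ_iff_forall]
    intro h
    obtain ⟨d, hd, t, ht, hdt⟩ := exists_D_mul_T T hnc hC hnn u hu huH h.2
    refine Set.mem_mul.2 ⟨⟨d, hd.1⟩, Subgroup.mem_subgroupOf.2 hd, ⟨t, le_normalizer T ht⟩,
      Subgroup.mem_subgroupOf.2 ht, ?_⟩
    apply Subtype.ext
    exact hdt

/-- `|D| = |T| - 1`. -/
theorem card_D :
    Nat.card ↥(Subgroup.normalizer ((T : Subgroup G) : Set G) ⊓
      (Subgroup.normalizer ((T : Subgroup G) : Set G)).map (MulAut.conj u).toMonoidHom) =
      Nat.card (T : Subgroup G) - 1 := by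
  obtain ⟨s, hsT, hs, -⟩ := exists_central_involution T hnc
  rw [← card_ne_eq_pred (1 : (T : Subgroup G))]
  let φ : ↥(Subgroup.normalizer ((T : Subgroup G) : Set G) ⊓
      (Subgroup.normalizer ((T : Subgroup G) : Set G)).map (MulAut.conj u).toMonoidHom) →
      {x : (T : Subgroup G) // x ≠ 1} := fun d =>
    ⟨⟨d.1 * s * d.1⁻¹, (Subgroup.mem_normalizer_iff.1 d.2.1 s).1 hsT⟩, by
      intro h
      have h' : d.1 * s * d.1⁻¹ = 1 := congrArg Subtype.val h
      have : orderOf (d.1 * s * d.1⁻¹) = 2 := by rw [orderOf_conj_eq]; exact hs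
      rw [h'] at this
      simp at this⟩
  apply Nat.card_congr
  apply Equiv.ofBijective φ
  constructor
  · intro d d' h
    apply Subtype.ext
    have h' : d.1 * s * d.1⁻¹ = d'.1 * s * d'.1⁻¹ := congrArg (fun x => x.1.1) h
    exact D_conj_injective T hnc hC hnn u hu huH hs hsT d.2 d'.2 h'
  · rintro ⟨⟨t, htT⟩, ht1⟩
    have hto : orderOf t = 2 := orderOf_of_mem T hnc hC htT (fun h => ht1 (Subtype.ext h))
    obtain ⟨i, hi, hiD, hit⟩ := exists_D_conj T hnc hC hnn u hu huH hs hsT hto htT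
    refine ⟨⟨i * u, hiD⟩, ?_⟩
    apply Subtype.ext
    apply Subtype.ext
    exact hit

/-- `|N_G(T)| = |T| (|T| - 1)`. -/
theorem card_normalizer :
    Nat.card ↥(Subgroup.normalizer ((T : Subgroup G) : Set G)) =
      Nat.card (T : Subgroup G) * (Nat.card (T : Subgroup G) - 1) := by
  have h := (isComplement'_D_T T hnc hC hnn u hu huH).card_mul_card
  rw [← h, mul_comm]
  congr 1
  · exact Nat.card_congr (Subgroup.subgroupOfEquivOfLe (le_normalizer T)).toEquiv
  · rw [← card_D T hnc hC hnn u hu huH]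
    exact Nat.card_congr (Subgroup.subgroupOfEquivOfLe inf_le_left).toEquiv

end CIT

end Cfsg.Agent.Lib.helper26
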