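import Cfsg.Agent.Lib.helper26.CIT2
import Cfsg.Agent.Lib.helper26.OddAut

/-!
Brauer–Suzuki–Wall situation, continued: `N_G(D) = D ⟨u⟩` and the fixed points of `D` on `G / H`.
-/

set_option autoImplicit false

namespace Cfsg.Agent.Lib.helper26

namespace CIT

variable {G : Type*} [Group G]

/-- `D = H ∩ uHu⁻¹` for `H = N_G(T)`. -/
abbrev Dsub (T : Sylow 2 G) (u : G) : Subgroup G :=
  Subgroup.normalizer ((T : Subgroup G) : Set G) ⊓
    (Subgroup.normalizer ((T : Subgroup G) : Set G)).map (MulAut.conj u).toMonoidHom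

variable [Finite G] (T : Sylow 2 G) (hnc : ¬ IsCyclic (T : Subgroup G))
  (hC : ∀ t : G, orderOf t = 2 → IsMulCommutative (Subgroup.centralizer ({t} : Set G)) ∧
      ∀ c ∈ Subgroup.centralizer ({t} : Set G), c ^ 2 = 1)

include hnc in
omit [Finite G] in
theorem four_le_card [Finite G] : 4 ≤ Nat.card (T : Subgroup G) := by
  have : Fact (Nat.Prime 2) := ⟨Nat.prime_two⟩
  obtain ⟨k, hk⟩ := IsPGroup.iff_card.1 T.isPGroup'
  rcases k with _ | _ | k
  · exfalso
    apply hnc
    have : Subsingleton (T : Subgroup G) := by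
      rw [← Finite.card_le_one_iff_subsingleton, hk]
      simp
    exact isCyclic_of_subsingleton
  · exfalso
    apply hnc
    exact isCyclic_of_prime_card (p := 2) (by rw [hk]; rfl)
  · rw [hk]
    have : (2 : ℕ) ^ (k + 1 + 1) = 4 * 2 ^ k := by ring
    rw [this]
    have : 0 < 2 ^ k := by positivity
    omega

include hnc hC in
/-- The involutions of `H = N_G(T)` are the nontrivial elements of `T`. -/
theorem card_involutions_normalizer :
    Nat.card {t : G // orderOf t = 2 ∧ t ∈ Subgroup.normalizer ((T : Subgroup G) : Set G)} =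
      Nat.card (T : Subgroup G) - 1 := by
  rw [← card_ne_eq_pred (1 : (T : Subgroup G))]
  apply Nat.card_congr
  exact
    { toFun := fun t => ⟨⟨t.1, mem_of_mem_normalizer T hnc hC t.2.2 t.2.1⟩, fun h =>
        (ne_one_of_orderOf_two t.2.1) (congrArg Subtype.val h)⟩
      invFun := fun x => ⟨x.1.1, orderOf_of_mem T hnc hC x.1.2 (fun h => x.2 (Subtype.ext h)),
        le_normalizer T x.1.2⟩
      left_inv := fun t => rfl
      right_inv := fun x => rfl }

variable (hnn : ¬ (T : Subgroup G).Normal)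
  (u : G) (hu : orderOf u = 2) (huH : u ∉ Subgroup.normalizer ((T : Subgroup G) : Set G))

include hnc hC hnn hu huH

theorem exists_ne_one_mem_D : ∃ d ∈ Dsub T u, d ≠ 1 := by
  by_contra hcon
  push Not at hcon
  have hbot : Dsub T u = ⊥ := by
    rw [Subgroup.eq_bot_iff_forall]
    exact hcon
  have h1 := card_D T hnc hC hnn u hu huH
  have h2 : Nat.card ↥(Dsub T u) = 1 := by rw [hbot]; exact Subgroup.card_bot
  have h3 := four_le_card T hnc
  have h4 : Nat.card ↥(Dsub T u) = Nat.card (T : Subgroup G) - 1 := h1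
  omega

theorem D_odd {d : G} (hd : d ∈ Dsub T u) (hdd : d * d = 1) : d = 1 := by
  have hH := isStronglyEmbedded_normalizer T hnc hC hnn
  have hodd := hH.2.2 u huH
  have h1 : orderOf (⟨d, hd⟩ : ↥(Dsub T u)) ∣ Nat.card ↥(Dsub T u) := orderOf_dvd_natCard _
  rw [Subgroup.orderOf_mk] at h1
  have h2 : orderOf d ∣ 2 := orderOf_dvd_of_pow_eq_one (by rw [pow_two]; exact hdd)
  rcases (Nat.dvd_prime Nat.prime_two).1 h2 with h | h
  · exact orderOf_eq_one_iff.1 h
  · rw [h] at h1
    exact absurd (even_iff_two_dvd.2 h1) (Nat.not_even_iff_odd.2 hodd)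

/-- If `D` fixes the coset `iH` of an involution `i ∉ H`, then `D = H ∩ iHi⁻¹`. -/
theorem D_eq_of_le {i : G} (hi : orderOf i = 2)
    (hiH : i ∉ Subgroup.normalizer ((T : Subgroup G) : Set G))
    (hle : ∀ d ∈ Dsub T u, i⁻¹ * d * i ∈ Subgroup.normalizer ((T : Subgroup G) : Set G)) :
    Dsub T u = Dsub T i := by
  apply Subgroup.eq_of_le_of_card_ge
  · intro d hd
    exact Subgroup.mem_inf.2 ⟨hd.1, (SE.mem_map_conj_iff _ i d).2 (hle d hd)⟩
  · have h1 := card_D T hnc hC hnn u hu huH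
    have h2 := card_D T hnc hC hnn i hi hiH
    have h1' : Nat.card ↥(Dsub T u) = Nat.card (T : Subgroup G) - 1 := h1
    have h2' : Nat.card ↥(Dsub T i) = Nat.card (T : Subgroup G) - 1 := h2
    rw [h1', h2']

theorem u_mem_normalizer_D : u ∈ Subgroup.normalizer ((Dsub T u : Subgroup G) : Set G) := by
  apply mem_normalizer_of_forall_conj_mem
  intro d hd
  rw [u_inverts_D T hnc hC hnn u hu huH hd]
  exact inv_mem hd

/-- `N_H(D) = D`. -/
theorem mem_D_of_mem_normalizer {h : G}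
    (hh : h ∈ Subgroup.normalizer ((T : Subgroup G) : Set G))
    (hN : h ∈ Subgroup.normalizer ((Dsub T u : Subgroup G) : Set G)) : h ∈ Dsub T u := by
  obtain ⟨d, hd, t, ht, hdt⟩ := exists_D_mul_T T hnc hC hnn u hu huH hh
  have htN : t ∈ Subgroup.normalizer ((Dsub T u : Subgroup G) : Set G) := by
    have e : t = d⁻¹ * h := by rw [← hdt]; group
    rw [e]
    exact mul_mem (inv_mem (Subgroup.le_normalizer hd)) hN
  have ht1 : t = 1 := by
    by_contra hne
    have hto : orderOf t = 2 := orderOf_of_mem T hnc hC ht hne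
    obtain ⟨d', hd', hd'1⟩ := exists_ne_one_mem_D T hnc hC hnn u hu huH
    have hc1 : t * d' * t⁻¹ * d'⁻¹ ∈ Dsub T u :=
      mul_mem ((Subgroup.mem_normalizer_iff.1 htN d').1 hd') (inv_mem hd')
    have hc2 : t * d' * t⁻¹ * d'⁻¹ ∈ (T : Subgroup G) := by
      have e : t * d' * t⁻¹ * d'⁻¹ = t * (d' * t⁻¹ * d'⁻¹) := by group
      rw [e]
      exact mul_mem ht ((Subgroup.mem_normalizer_iff.1 hd'.1 _).1 (inv_mem ht))
    have hc3 := eq_one_of_mem_D_of_mem_T T hnc hC hnn u hu huH hc1 hc2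
    have hcomm : d' * t = t * d' := by
      have e : t * d' = (t * d' * t⁻¹ * d'⁻¹) * (d' * t) := by group
      rw [e, hc3, one_mul]
    have hd'T : d' ∈ (T : Subgroup G) := mem_of_commute T hnc hC hto ht hcomm
    exact hd'1 (eq_one_of_mem_D_of_mem_T T hnc hC hnn u hu huH hd' hd'T)
  rw [← hdt, ht1, mul_one]
  exact hd

/-- If `D` fixes the coset `gH ≠ H`, then every involution `i` of `gH` is outside `H` and
`D = H ∩ iHi⁻¹`. -/
theorem D_eq_of_coset {g i : G}
    (hgD : ∀ d ∈ Dsub T u, g⁻¹ * d * g ∈ Subgroup.normalizer ((T : Subgroup G) : Set G))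
    (hg : g ∉ Subgroup.normalizer ((T : Subgroup G) : Set G)) (hi : orderOf i = 2)
    (hiH : g⁻¹ * i ∈ Subgroup.normalizer ((T : Subgroup G) : Set G)) :
    i ∉ Subgroup.normalizer ((T : Subgroup G) : Set G) ∧ Dsub T u = Dsub T i := by
  have hi' : i ∉ Subgroup.normalizer ((T : Subgroup G) : Set G) := by
    intro hiN
    apply hg
    have e : g = i * (g⁻¹ * i)⁻¹ := by group
    rw [e]
    exact mul_mem hiN (inv_mem hiH)
  refine ⟨hi', D_eq_of_le T hnc hC hnn u hu huH hi hi' ?_⟩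
  intro d hd
  have e : i⁻¹ * d * i = (g⁻¹ * i)⁻¹ * (g⁻¹ * d * g) * (g⁻¹ * i) := by group
  rw [e]
  exact mul_mem (mul_mem (inv_mem hiH) (hgD d hd)) hiH

/-- An involution `i ∉ H` with `D = H ∩ iHi⁻¹` normalizes (indeed inverts) `D`. -/
theorem mem_normalizer_D_of_eq {i : G} (hi : orderOf i = 2)
    (hiH : i ∉ Subgroup.normalizer ((T : Subgroup G) : Set G)) (hD : Dsub T u = Dsub T i) :
    i ∈ Subgroup.normalizer ((Dsub T u : Subgroup G) : Set G) := by
  rw [hD]
  exact u_mem_normalizer_D T hnc hC hnn i hi hiH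

theorem exists_involution_coset (g : G) :
    ∃ i : G, orderOf i = 2 ∧ g⁻¹ * i ∈ Subgroup.normalizer ((T : Subgroup G) : Set G) := by
  have hH := isStronglyEmbedded_normalizer T hnc hC hnn
  have h1 := SE.card_coset_eq hH g
  rw [card_involutions_normalizer T hnc hC] at h1
  have h3 := four_le_card T hnc
  have hpos : 0 < Nat.card {i : G // orderOf i = 2 ∧
      g⁻¹ * i ∈ Subgroup.normalizer ((T : Subgroup G) : Set G)} := by omega
  obtain ⟨i⟩ := (Nat.card_pos_iff.1 hpos).1
  exact ⟨i.1, i.2.1, i.2.2⟩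

/-- Elements of `N_G(D)` outside `H` are involutions. -/
theorem involution_of_mem_normalizer_D {g : G}
    (hgN : g ∈ Subgroup.normalizer ((Dsub T u : Subgroup G) : Set G))
    (hg : g ∉ Subgroup.normalizer ((T : Subgroup G) : Set G)) :
    orderOf g = 2 ∧ Dsub T u = Dsub T g := by
  have hH := isStronglyEmbedded_normalizer T hnc hC hnn
  have hgD : ∀ d ∈ Dsub T u, g⁻¹ * d * g ∈ Subgroup.normalizer ((T : Subgroup G) : Set G) := by
    intro d hd
    have h1 := (Subgroup.mem_normalizer_iff.1 (inv_mem hgN) d).1 hd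
    rw [inv_inv] at h1
    exact h1.1
  have hmem : ∀ i : {i : G // orderOf i = 2 ∧
      g⁻¹ * i ∈ Subgroup.normalizer ((T : Subgroup G) : Set G)}, g⁻¹ * i.1 ∈ Dsub T u := by
    intro i
    obtain ⟨hi', hD⟩ := D_eq_of_coset T hnc hC hnn u hu huH hgD hg i.2.1 i.2.2
    apply mem_D_of_mem_normalizer T hnc hC hnn u hu huH i.2.2
    exact mul_mem (inv_mem hgN) (mem_normalizer_D_of_eq T hnc hC hnn u hu huH i.2.1 hi' hD)
  let ψ : {i : G // orderOf i = 2 ∧
      g⁻¹ * i ∈ Subgroup.normalizer ((T : Subgroup G) : Set G)} → ↥(Dsub T u) :=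
    fun i => ⟨g⁻¹ * i.1, hmem i⟩
  have hinj : Function.Injective ψ := by
    intro i i' h
    apply Subtype.ext
    have h' : g⁻¹ * i.1 = g⁻¹ * i'.1 := congrArg Subtype.val h
    exact mul_left_cancel h'
  have hcard : Nat.card {i : G // orderOf i = 2 ∧
      g⁻¹ * i ∈ Subgroup.normalizer ((T : Subgroup G) : Set G)} = Nat.card ↥(Dsub T u) := by
    rw [SE.card_coset_eq hH g, card_involutions_normalizer T hnc hC]
    exact (card_D T hnc hC hnn u hu huH).symm
  have hbij : Function.Bijective ψ := by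
    rw [Nat.bijective_iff_injective_and_card]
    exact ⟨hinj, hcard⟩
  obtain ⟨i, hi⟩ := hbij.2 1
  have h1 : g⁻¹ * i.1 = 1 := congrArg Subtype.val hi
  have h2 : i.1 = g := by
    have e : i.1 = g * (g⁻¹ * i.1) := by group
    rw [e, h1, mul_one]
  obtain ⟨-, hD⟩ := D_eq_of_coset T hnc hC hnn u hu huH hgD hg i.2.1 i.2.2
  rw [h2] at hD
  exact ⟨h2 ▸ i.2.1, hD⟩

/-- If the involution `i ∉ H` satisfies `D = H ∩ iHi⁻¹`, then `u i ∈ H`. -/
theorem mul_mem_of_D_eq {i : G} (hi : orderOf i = 2)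
    (hiH : i ∉ Subgroup.normalizer ((T : Subgroup G) : Set G)) (hD : Dsub T u = Dsub T i) :
    u * i ∈ Subgroup.normalizer ((T : Subgroup G) : Set G) := by
  by_contra hui
  have huN := u_mem_normalizer_D T hnc hC hnn u hu huH
  have hiN := mem_normalizer_D_of_eq T hnc hC hnn u hu huH hi hiH hD
  obtain ⟨hui2, hD2⟩ := involution_of_mem_normalizer_D T hnc hC hnn u hu huH (mul_mem huN hiN) hui
  obtain ⟨d, hd, hd1⟩ := exists_ne_one_mem_D T hnc hC hnn u hu huH
  apply hd1
  apply D_odd T hnc hC hnn u hu huH hd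
  have e1 : u * d * u⁻¹ = d⁻¹ := u_inverts_D T hnc hC hnn u hu huH hd
  have hd2 : d ∈ Dsub T i := by rw [← hD]; exact hd
  have hd3 : d ∈ Dsub T (u * i) := by rw [← hD2]; exact hd
  have e2 : i * d * i⁻¹ = d⁻¹ := u_inverts_D T hnc hC hnn i hi hiH hd2
  have e3 : (u * i) * d * (u * i)⁻¹ = d⁻¹ :=
    u_inverts_D T hnc hC hnn (u * i) hui2 hui hd3
  have e4 : (u * i) * d * (u * i)⁻¹ = d := by
    calc (u * i) * d * (u * i)⁻¹ = u * (i * d * i⁻¹) * u⁻¹ := by group
      _ = (u * d * u⁻¹)⁻¹ := by rw [e2]; group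
      _ = d := by rw [e1, inv_inv]
  rw [e4] at e3
  calc d * d = d * d⁻¹ := by rw [← e3]
    _ = 1 := mul_inv_cancel d

/-- `N_G(D) = D ⟨u⟩`. -/
theorem normalizer_D :
    Subgroup.normalizer ((Dsub T u : Subgroup G) : Set G) = Dsub T u ⊔ Subgroup.zpowers u := by
  have huN := u_mem_normalizer_D T hnc hC hnn u hu huH
  apply le_antisymm
  · intro g hgN
    by_cases hg : g ∈ Subgroup.normalizer ((T : Subgroup G) : Set G)
    · exact Subgroup.mem_sup_left (mem_D_of_mem_normalizer T hnc hC hnn u hu huH hg hgN)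
    · obtain ⟨hg2, hD⟩ := involution_of_mem_normalizer_D T hnc hC hnn u hu huH hgN hg
      have h1 := mul_mem_of_D_eq T hnc hC hnn u hu huH hg2 hg hD
      have h2 := mem_D_of_mem_normalizer T hnc hC hnn u hu huH h1 (mul_mem huN hgN)
      have e' : g = u⁻¹ * (u * g) := by group
      rw [e']
      rw [sup_comm]
      exact Subgroup.mul_mem_sup (inv_mem (Subgroup.mem_zpowers u)) h2
  · apply sup_le Subgroup.le_normalizer
    rw [Subgroup.zpowers_le]
    exact huN

/-- The cosets fixed by `D` are `H` and `uH`. -/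
theorem fixed_iff (g : G) :
    (∀ d ∈ Dsub T u, g⁻¹ * d * g ∈ Subgroup.normalizer ((T : Subgroup G) : Set G)) ↔
      (g ∈ Subgroup.normalizer ((T : Subgroup G) : Set G) ∨
        g⁻¹ * u ∈ Subgroup.normalizer ((T : Subgroup G) : Set G)) := by
  constructor
  · intro hgD
    by_cases hg : g ∈ Subgroup.normalizer ((T : Subgroup G) : Set G)
    · exact Or.inl hg
    · right
      obtain ⟨i, hi, hiH⟩ := exists_involution_coset T hnc hC hnn u hu huH g
      obtain ⟨hi', hD⟩ := D_eq_of_coset T hnc hC hnn u hu huH hgD hg hi hiH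
      have h1 := mul_mem_of_D_eq T hnc hC hnn u hu huH hi hi' hD
      have e : g⁻¹ * u = (g⁻¹ * i) * (u * i)⁻¹ := by
        rw [mul_inv_rev, inv_eq_self_of_orderOf_two hi, inv_eq_self_of_orderOf_two hu]
        have hii : i * i = 1 := mul_self_of_orderOf_two hi
        calc g⁻¹ * u = g⁻¹ * (i * i) * u := by rw [hii, mul_one]
          _ = g⁻¹ * i * (i * u) := by group
      rw [e]
      exact mul_mem hiH (inv_mem h1)
  · rintro (hg | hg)
    · intro d hd
      exact mul_mem (mul_mem (inv_mem hg) hd.1) hg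
    · intro d hd
      have h1 : u⁻¹ * d * u ∈ Subgroup.normalizer ((T : Subgroup G) : Set G) :=
        (SE.mem_map_conj_iff _ u d).1 hd.2
      have e : g⁻¹ * d * g = (g⁻¹ * u) * (u⁻¹ * d * u) * (g⁻¹ * u)⁻¹ := by group
      rw [e]
      exact mul_mem (mul_mem hg h1) (inv_mem hg)

end CIT

end Cfsg.Agent.Lib.helper26
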