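import Mathlib.GroupTheory.SpecificGroups.Dihedral
import Mathlib.GroupTheory.SpecificGroups.KleinFour
import Mathlib.GroupTheory.Complement
import Cfsg.Agent.Lib.helper26.OddAut

/-!
Dihedral (Sylow) 2-subgroups: odd-order elements normalizing a subgroup which is not a four-group
centralize it.
-/

set_option autoImplicit false

namespace Cfsg.Agent.Lib.helper26

/-- "Dihedral-like": `S` has a cyclic subgroup `C` such that all elements of `S` outside `C` are
involutions and the product of two elements of `S` outside `C` lies in `C`. -/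
structure DihedralLike {G : Type*} [Group G] (S C : Subgroup G) : Prop where
  le : C ≤ S
  cyc : IsCyclic C
  sq : ∀ x ∈ S, x ∉ C → x * x = 1
  mul : ∀ x ∈ S, ∀ y ∈ S, x ∉ C → y ∉ C → x * y ∈ C

/-- A subgroup isomorphic to a dihedral group is dihedral-like (with `C` the rotations). -/
theorem exists_dihedralLike {G : Type*} [Group G] (S : Subgroup G) (m : ℕ)
    (e : S ≃* DihedralGroup m) : ∃ C : Subgroup G, DihedralLike S C := by
  set c₀ : S := e.symm (DihedralGroup.r 1) with hc₀
  have key : ∀ x : S, (x : G) ∈ Subgroup.zpowers (c₀ : G) ↔ ∃ i, e x = DihedralGroup.r i := by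
    intro x
    constructor
    · rintro ⟨k, hk⟩
      have hx : x = c₀ ^ k := by
        apply Subtype.ext
        rw [Subgroup.coe_zpow]
        exact hk.symm
      refine ⟨(k : ZMod m), ?_⟩
      rw [hx, map_zpow, hc₀, MulEquiv.apply_symm_apply, DihedralGroup.r_one_zpow]
    · rintro ⟨i, hi⟩
      refine ⟨(ZMod.cast i : ℤ), ?_⟩
      have hx : x = c₀ ^ (ZMod.cast i : ℤ) := by
        apply e.injective
        rw [map_zpow, hc₀, MulEquiv.apply_symm_apply, DihedralGroup.r_one_zpow, hi,
          ZMod.intCast_zmod_cast]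
      show (c₀ : G) ^ (ZMod.cast i : ℤ) = x
      rw [← Subgroup.coe_zpow, ← hx]
  refine ⟨Subgroup.zpowers (c₀ : G), ?_, ?_, ?_, ?_⟩
  · rw [Subgroup.zpowers_le]
    exact c₀.2
  · infer_instance
  · intro x hx hxC
    rcases h : e ⟨x, hx⟩ with i | i
    · exact absurd ((key ⟨x, hx⟩).2 ⟨i, h⟩) hxC
    · have h1 : e (⟨x, hx⟩ * ⟨x, hx⟩) = 1 := by
        rw [map_mul, h, DihedralGroup.sr_mul_self]
      have h2 : (⟨x, hx⟩ * ⟨x, hx⟩ : S) = 1 := e.injective (by rw [h1, map_one])
      exact congrArg Subtype.val h2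
  · intro x hx y hy hxC hyC
    rcases h : e ⟨x, hx⟩ with i | i
    · exact absurd ((key ⟨x, hx⟩).2 ⟨i, h⟩) hxC
    · rcases h' : e ⟨y, hy⟩ with j | j
      · exact absurd ((key ⟨y, hy⟩).2 ⟨j, h'⟩) hyC
      · have h1 : e (⟨x, hx⟩ * ⟨y, hy⟩) = DihedralGroup.r (j - i) := by
          rw [map_mul, h, h', DihedralGroup.sr_mul_sr]
        exact (key (⟨x, hx⟩ * ⟨y, hy⟩)).2 ⟨_, h1⟩

/-- In a group with dihedral-like Sylow 2-subgroup `S` in which `N(U) = C(U) (S ∩ N(U))` for all
four-subgroups `U ≤ S`, every element of odd order normalizing a subgroup `Q ≤ S` centralizes it. -/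
theorem DihedralLike.mem_centralizer {G : Type*} [Group G] [Finite G] {S C : Subgroup G}
    (h : DihedralLike S C) (hS : IsPGroup 2 S)
    (hU : ∀ U : Subgroup G, U ≤ S → IsKleinFour U →
      Subgroup.normalizer (U : Set G) =
        Subgroup.centralizer (U : Set G) ⊔ (S ⊓ Subgroup.normalizer (U : Set G)))
    (Q : Subgroup G) (hQS : Q ≤ S) (g : G) (hg : g ∈ Subgroup.normalizer (Q : Set G))
    (hodd : (orderOf g).Coprime 2) : g ∈ Subgroup.centralizer (Q : Set G) := by
  classical
  have : Fact (Nat.Prime 2) := ⟨Nat.prime_two⟩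
  have := h.cyc
  set Q₀ := Q ⊓ C with hQ₀
  have hQ₀C : Q₀ ≤ C := inf_le_right
  have hQ₀Q : Q₀ ≤ Q := inf_le_left
  have hcyc₀ : IsCyclic Q₀ := Subgroup.isCyclic_of_le hQ₀C
  have hQp : IsPGroup 2 Q := hS.to_le hQS
  have hQ₀p : IsPGroup 2 Q₀ := hQp.to_le hQ₀Q
  have hconj : ∀ x ∈ Q, g * x * g⁻¹ ∈ Q := fun x hx => (Subgroup.mem_normalizer_iff.1 hg x).1 hx
  -- if `g` normalizes `Q₀` we are done
  have step : g ∈ Subgroup.normalizer (Q₀ : Set G) → g ∈ Subgroup.centralizer (Q : Set G) := by
    intro hgQ₀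
    have hcent := mem_centralizer_of_normalizer_cyclic_two Q₀ hQ₀p g hgQ₀ hodd
    refine mem_centralizer_of_stabilizes Q Q₀ hQp hQ₀Q g hcent ?_ hodd
    intro s hs
    by_cases hsC : s ∈ C
    · have hsQ₀ : s ∈ Q₀ := ⟨hs, hsC⟩
      have h1 : g * s * g⁻¹ * s⁻¹ = 1 := by
        have := (Subgroup.mem_centralizer_iff.1 hcent) s hsQ₀
        rw [← this]
        group
      rw [h1]
      exact one_mem _
    · have h1 : g * s * g⁻¹ ∉ C := by
        intro hc
        have h3 : g * s * g⁻¹ ∈ Q₀ := ⟨hconj s hs, hc⟩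
        have h2 := (Subgroup.mem_normalizer_iff.1 hgQ₀ s).2 h3
        exact hsC h2.2
      have h2 : s⁻¹ ∉ C := fun hc => hsC (C.inv_mem_iff.1 hc)
      exact Subgroup.mem_inf.2 ⟨mul_mem (hconj s hs) (inv_mem hs),
        h.mul _ (hQS (hconj s hs)) _ (hQS (inv_mem hs)) h1 h2⟩
  obtain ⟨c, hc⟩ := IsCyclic.exists_generator (α := Q₀)
  have hgen : ∀ y ∈ Q₀, ∃ k : ℤ, y = (c : G) ^ k := by
    intro y hy
    obtain ⟨k, hk⟩ := Subgroup.mem_zpowers_iff.1 (hc ⟨y, hy⟩)
    exact ⟨k, by rw [← Subgroup.coe_zpow, hk]⟩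
  by_cases hexp : ∀ x ∈ Q₀, x * x = 1
  · by_cases hc1 : c = 1
    · apply step
      have hbot : Q₀ = ⊥ := by
        rw [Subgroup.eq_bot_iff_forall]
        intro x hx
        obtain ⟨k, hk⟩ := hgen x hx
        rw [hk, hc1, Subgroup.coe_one, one_zpow]
      rw [hbot]
      apply mem_normalizer_of_forall_conj_mem
      intro x hx
      rw [Subgroup.mem_bot] at hx ⊢
      rw [hx]
      group
    · by_cases hQC : Q ≤ C
      · apply step
        have h1 : Q₀ = Q := inf_eq_left.2 hQC
        rw [h1]
        exact hg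
      · obtain ⟨s, hsQ, hsC⟩ := SetLike.not_le_iff_exists.1 hQC
        have hsq : ∀ x ∈ Q, x * x = 1 := by
          intro x hx
          by_cases hxC : x ∈ C
          · exact hexp x ⟨hx, hxC⟩
          · exact h.sq x (hQS hx) hxC
        have hK : IsKleinFour Q := by
          have hordc : orderOf c = 2 := by
            apply orderOf_eq_prime
            · apply Subtype.ext
              rw [Subgroup.coe_pow, pow_two]
              exact hexp c c.2
            · exact hc1
          have hcard₀ : Nat.card Q₀ = 2 := by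
            rw [← hordc]
            exact (orderOf_eq_card_of_forall_mem_zpowers hc).symm
          have hidx : (Q₀.subgroupOf Q).index = 2 := by
            rw [Subgroup.index_eq_two_iff_exists_notMem_and]
            refine ⟨⟨s, hsQ⟩, ?_, ?_⟩
            · rw [Subgroup.mem_subgroupOf]
              exact fun hh => hsC hh.2
            · intro b
              by_cases hbC : (b : G) ∈ C
              · right
                rw [Subgroup.mem_subgroupOf]
                exact ⟨b.2, hbC⟩
              · left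
                rw [Subgroup.mem_subgroupOf]
                exact ⟨mul_mem b.2 hsQ, h.mul _ (hQS b.2) _ (hQS hsQ) hbC hsC⟩
          have hcardQ : Nat.card Q = 4 := by
            have h1 := Subgroup.card_mul_index (Q₀.subgroupOf Q)
            rw [hidx, Nat.card_congr (Subgroup.subgroupOfEquivOfLe hQ₀Q).toEquiv, hcard₀] at h1
            omega
          have hnt : Nontrivial Q := by
            refine ⟨⟨⟨s, hsQ⟩, 1, ?_⟩⟩
            intro hs1
            apply hsC
            have : s = 1 := congrArg Subtype.val hs1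
            rw [this]
            exact one_mem _
          refine ⟨hcardQ, ?_⟩
          rw [Monoid.exponent_eq_prime_iff Nat.prime_two]
          intro x hx
          apply orderOf_eq_prime
          · apply Subtype.ext
            rw [Subgroup.coe_pow, pow_two]
            exact hsq x x.2
          · exact hx
        exact mem_centralizer_of_normalizer_eq_sup Q S hS (hU Q hQS hK) g hg hodd
  · push Not at hexp
    obtain ⟨x, hx, hxx⟩ := hexp
    apply step
    apply mem_normalizer_of_forall_conj_mem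
    have hcc : (c : G) * c ≠ 1 := by
      intro hcc
      apply hxx
      obtain ⟨k, hk⟩ := hgen x hx
      rw [hk, ← zpow_add, ← two_mul, zpow_mul, zpow_two, hcc, one_zpow]
    have hgc : g * c * g⁻¹ ∈ Q₀ := by
      refine ⟨hconj c (hQ₀Q c.2), ?_⟩
      by_contra hnC
      have h1 := h.sq _ (hQS (hconj c (hQ₀Q c.2))) hnC
      apply hcc
      have h3 : g * ((c : G) * c) * g⁻¹ = 1 := by
        rw [← h1]
        group
      have h4 := congrArg (fun y => g⁻¹ * y * g) h3
      simpa [mul_assoc] using h4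
    intro y hy
    obtain ⟨k, hk⟩ := hgen y hy
    rw [hk, ← conj_zpow]
    exact zpow_mem hgc k

/-- If `K` is a normal complement to `S`, then `N(U) = C(U) (S ∩ N(U))` for every `U ≤ S`. -/
theorem normalizer_eq_centralizer_sup_of_complement {G : Type*} [Group G] (K S : Subgroup G)
    [hK : K.Normal] (h : K.IsComplement' S) (U : Subgroup G) (hUS : U ≤ S) :
    Subgroup.normalizer (U : Set G) =
      Subgroup.centralizer (U : Set G) ⊔ (S ⊓ Subgroup.normalizer (U : Set G)) := by
  apply le_antisymm
  · intro g hg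
    have hgtop : g ∈ K ⊔ S := by
      rw [h.sup_eq_top]
      trivial
    obtain ⟨k, hk, s, hs, rfl⟩ := Subgroup.mem_sup_of_normal_left.1 hgtop
    have hdisj : K ⊓ S = ⊥ := disjoint_iff.1 h.disjoint
    have hkc : k ∈ Subgroup.centralizer (U : Set G) := by
      rw [Subgroup.mem_centralizer_iff]
      intro w hw
      -- v := g⁻¹ w g ∈ U
      have hv : (k * s)⁻¹ * w * (k * s) ∈ U := by
        have := (Subgroup.mem_normalizer_iff.1 (inv_mem hg) w).1 hw
        simpa using this
      have h1 : k⁻¹ * w * k ∈ S := by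
        have h2 : s * ((k * s)⁻¹ * w * (k * s)) * s⁻¹ ∈ S := mul_mem (mul_mem hs (hUS hv)) (inv_mem hs)
        have h3 : s * ((k * s)⁻¹ * w * (k * s)) * s⁻¹ = k⁻¹ * w * k := by group
        rwa [h3] at h2
      have h4 : w⁻¹ * (k⁻¹ * w * k) ∈ K ⊓ S := by
        refine Subgroup.mem_inf.2 ⟨?_, mul_mem (inv_mem (hUS hw)) h1⟩
        have h5 : w⁻¹ * (k⁻¹ * w * k) = (w⁻¹ * k⁻¹ * w⁻¹⁻¹) * k := by group
        rw [h5]
        exact mul_mem (hK.conj_mem _ (K.inv_mem hk) _) hk
      rw [hdisj, Subgroup.mem_bot] at h4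
      have h6 : k⁻¹ * w * k = w := by
        have := congrArg (w * ·) h4
        simpa using this
      calc w * k = k * (k⁻¹ * w * k) := by group
        _ = k * w := by rw [h6]
    have hsN : s ∈ Subgroup.normalizer (U : Set G) := by
      have h1 : s = k⁻¹ * (k * s) := by group
      rw [h1]
      exact mul_mem (Subgroup.centralizer_le_normalizer _ (inv_mem hkc)) hg
    exact Subgroup.mul_mem_sup hkc ⟨hs, hsN⟩
  · exact sup_le (Subgroup.centralizer_le_normalizer _) inf_le_right

end Cfsg.Agent.Lib.helper26
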