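import Cfsg.Agent.Lib.helper26.SecRank2
import Cfsg.Agent.Lib.helper26.DihedralSylow
import Cfsg.Agent.Lib.helper26.QDIn

/-!
Facts on dihedral and quasi-dihedral subgroups `D` of a finite group: the centre has order at most
2 (for order at least 6), and there is a cyclic subgroup `C` with `|D| ≤ 2 |C|`.
-/

set_option autoImplicit false

namespace Cfsg.Agent.Lib.helper26

open Cfsg.Agent.Lib.helper25

variable {G : Type*} [Group G]

theorem card_le_two_of_forall_eq {α : Type*} [Finite α] (o : α)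
    (h : ∀ a b : α, a ≠ o → b ≠ o → a = b) : Nat.card α ≤ 2 := by
  classical
  let f : α → Bool := fun a => decide (a = o)
  have hf : Function.Injective f := by
    intro a b hab
    by_cases ha : a = o <;> by_cases hb : b = o
    · rw [ha, hb]
    · simp [f, ha, hb] at hab
    · simp [f, ha, hb] at hab
    · exact h a b ha hb
  have := Nat.card_le_card_of_injective f hf
  rwa [Nat.card_eq_fintype_card (α := Bool), Fintype.card_bool] at this

theorem zmod_eq_of_add_self (m : ℕ) [NeZero m] (i j : ZMod m) (hi : i + i = 0) (hj : j + j = 0)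
    (hi0 : i ≠ 0) (hj0 : j ≠ 0) : i = j := by
  have key : ∀ k : ZMod m, k + k = 0 → k ≠ 0 → 2 * k.val = m := by
    intro k hk hk0
    have h1 : (k.val + k.val) % m = 0 := by
      rw [← ZMod.val_add, hk, ZMod.val_zero]
    have h2 : k.val < m := ZMod.val_lt k
    have h3 : k.val ≠ 0 := fun h => hk0 ((ZMod.val_eq_zero k).mp h)
    obtain ⟨c, hc⟩ := Nat.dvd_of_mod_eq_zero h1
    have hc1 : c = 1 := by
      rcases c with _ | _ | c
      · omega
      · rfl
      · have : m * (c + 1 + 1) ≥ m * 2 := Nat.mul_le_mul_left _ (by omega)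
        omega
    rw [hc1] at hc
    omega
  have h1 := key i hi hi0
  have h2 := key j hj hj0
  exact ZMod.val_injective m (by omega)

theorem dih_center_card_le [Finite G] (D : Subgroup G) (m : ℕ) (hm : 3 ≤ m)
    (e : D ≃* DihedralGroup m) :
    Nat.card (D ⊓ Subgroup.centralizer (D : Set G) : Subgroup G) ≤ 2 := by
  have : NeZero m := ⟨by omega⟩
  have key : ∀ z : (D ⊓ Subgroup.centralizer (D : Set G) : Subgroup G),
      ∃ i : ZMod m, e ⟨z.1, (Subgroup.mem_inf.mp z.2).1⟩ = DihedralGroup.r i ∧ i + i = 0 := by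
    intro z
    have hz := Subgroup.mem_inf.mp z.2
    have hcomm : ∀ x : DihedralGroup m, x * e ⟨z.1, hz.1⟩ = e ⟨z.1, hz.1⟩ * x := by
      intro x
      have h1 := Subgroup.mem_centralizer_iff.mp hz.2 (e.symm x : G) (e.symm x).2
      have h2 : e.symm x * ⟨z.1, hz.1⟩ = ⟨z.1, hz.1⟩ * e.symm x := Subtype.ext h1
      have h3 := congrArg e h2
      simpa using h3
    rcases h : e ⟨z.1, hz.1⟩ with i | i
    · refine ⟨i, rfl, ?_⟩
      have h1 := hcomm (DihedralGroup.sr 0)
      rw [h, DihedralGroup.sr_mul_r, DihedralGroup.r_mul_sr] at h1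
      have h2 : (0 : ZMod m) + i = 0 - i := by
        injection h1
      linear_combination h2
    · exfalso
      have h1 := hcomm (DihedralGroup.r 1)
      rw [h, DihedralGroup.r_mul_sr, DihedralGroup.sr_mul_r] at h1
      have h2 : i - 1 = i + 1 := by
        injection h1
      have h3 : ((2 : ℕ) : ZMod m) = 0 := by
        push_cast
        linear_combination -h2
      have h4 := (ZMod.natCast_eq_zero_iff 2 m).mp h3
      have := Nat.le_of_dvd (by norm_num) h4
      omega
  apply card_le_two_of_forall_eq (1 : (D ⊓ Subgroup.centralizer (D : Set G) : Subgroup G))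
  intro a b ha hb
  obtain ⟨i, hi, hii⟩ := key a
  obtain ⟨j, hj, hjj⟩ := key b
  have hi0 : i ≠ 0 := by
    rintro rfl
    apply ha
    have h1 : e ⟨a.1, (Subgroup.mem_inf.mp a.2).1⟩ = e 1 := by
      rw [hi, map_one]; rfl
    have h2 := e.injective h1
    exact Subtype.ext (congrArg (fun y : D => (y : G)) h2)
  have hj0 : j ≠ 0 := by
    rintro rfl
    apply hb
    have h1 : e ⟨b.1, (Subgroup.mem_inf.mp b.2).1⟩ = e 1 := by
      rw [hj, map_one]; rfl
    have h2 := e.injective h1
    exact Subtype.ext (congrArg (fun y : D => (y : G)) h2)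
  have hij := zmod_eq_of_add_self m i j hii hjj hi0 hj0
  have h1 : e ⟨a.1, (Subgroup.mem_inf.mp a.2).1⟩ = e ⟨b.1, (Subgroup.mem_inf.mp b.2).1⟩ := by
    rw [hi, hj, hij]
  have h2 := e.injective h1
  exact Subtype.ext (congrArg (fun y : D => (y : G)) h2)

theorem dih_exists_cyclic [Finite G] (D : Subgroup G) (m : ℕ) (e : D ≃* DihedralGroup m) :
    ∃ C : Subgroup G, C ≤ D ∧ IsCyclic C ∧ Nat.card D ≤ 2 * Nat.card C := by
  obtain ⟨C, hC⟩ := exists_dihedralLike D m e
  refine ⟨C, hC.le, hC.cyc, ?_⟩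
  have hle : Nat.card (D ⊓ C : Subgroup G) ≤ Nat.card C := Subgroup.card_le_of_le inf_le_right
  by_cases hDC : D ≤ C
  · have := Subgroup.card_le_of_le hDC
    omega
  · obtain ⟨x₀, hx₀D, hx₀C⟩ := SetLike.not_le_iff_exists.mp hDC
    have := card_le_two_mul_card_inf D C x₀ (fun u hu => by
      by_cases huC : u ∈ C
      · exact Or.inl huC
      · right
        have h1 : x₀⁻¹ = x₀ := inv_eq_of_mul_eq_one_left (hC.sq x₀ hx₀D hx₀C)
        rw [h1]
        exact hC.mul x₀ hx₀D u hu hx₀C huC)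
    omega

theorem dih2_sq (D : Subgroup G) (e : D ≃* DihedralGroup 2) : ∀ d ∈ D, d * d = 1 := by
  intro d hd
  have h1 : ∀ x : DihedralGroup 2, x * x = 1 := by decide
  have h2 : e (⟨d, hd⟩ * ⟨d, hd⟩) = e 1 := by
    rw [map_mul, h1, map_one]
  exact congrArg Subtype.val (e.injective h2)

theorem QDIn.X_one_pow {S : Subgroup G} {n : ℕ} {X : ZMod (2 ^ n) → G} {Y : G}
    (h : QDIn S n X Y) (k : ℕ) : X 1 ^ k = X (k : ZMod (2 ^ n)) := by
  induction k with
  | zero => rw [pow_zero, Nat.cast_zero, h.X_zero]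
  | succ k ih => rw [pow_succ, ih, h.X_mul, Nat.cast_succ]

theorem qd_exists_cyclic [Finite G] (D : Subgroup G) (hD : Cfsg.IsQuasiDihedral D) :
    ∃ C : Subgroup G, C ≤ D ∧ IsCyclic C ∧ Nat.card D ≤ 2 * Nat.card C := by
  obtain ⟨n, X, Y, h⟩ := exists_qdIn D hD
  have : NeZero (2 ^ n) := ⟨by positivity⟩
  refine ⟨Subgroup.zpowers (X 1), ?_, inferInstance, ?_⟩
  · rw [Subgroup.zpowers_le]
    exact h.X_mem 1
  · have hX : ∀ a, X a ∈ Subgroup.zpowers (X 1) := by
      intro a
      have := h.X_one_pow a.val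
      rw [ZMod.natCast_zmod_val] at this
      rw [← this]
      exact Subgroup.pow_mem _ (Subgroup.mem_zpowers _) _
    have hle : Nat.card (D ⊓ Subgroup.zpowers (X 1) : Subgroup G) ≤
        Nat.card (Subgroup.zpowers (X 1)) := Subgroup.card_le_of_le inf_le_right
    have := card_le_two_mul_card_inf D (Subgroup.zpowers (X 1)) Y (fun u hu => by
      obtain ⟨a, rfl | rfl⟩ := h.nf u hu
      · exact Or.inl (hX a)
      · right
        have e : Y⁻¹ * (X a * Y) = X (rr n * a) := by
          rw [h.Y_inv, ← mul_assoc, h.Y_mul_X, mul_assoc, h.Y_mul_Y, mul_one]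
        rw [e]
        exact hX _)
    omega

theorem qd_center_card_le [Finite G] (D : Subgroup G) (hD : Cfsg.IsQuasiDihedral D) :
    Nat.card (D ⊓ Subgroup.centralizer (D : Set G) : Subgroup G) ≤ 2 := by
  obtain ⟨n, X, Y, h⟩ := exists_qdIn D hD
  have hn := h.hn
  have key : ∀ z : (D ⊓ Subgroup.centralizer (D : Set G) : Subgroup G),
      z.1 = 1 ∨ z.1 = X (4 * tt n) := by
    intro z
    have hz := Subgroup.mem_inf.mp z.2
    have hc : ∀ a, z.1 * (X a * Y) = X a * Y * z.1 := fun a =>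
      (Subgroup.mem_centralizer_iff.mp hz.2 _ (h.XY_mem a)).symm
    have h0 := h.comm_XY hz.1 (hc 0)
    have h1 := h.comm_XY hz.1 (hc 1)
    rcases h0 with h0 | h0 | h0 | h0
    · exact Or.inl h0
    · exact Or.inr h0
    · exfalso
      rcases h1 with h1 | h1 | h1 | h1
      · exact h.XY_ne_one 0 (h0 ▸ h1)
      · exact h.XY_ne 0 _ (h0 ▸ h1)
      · have := h.XY_eq_iff.mp (h0.symm.trans h1)
        exact one_ne_two_mul' hn 0 (by rw [mul_zero]; exact this.symm)
      · rw [h.X_mul_assoc] at h1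
        have := h.XY_eq_iff.mp (h0.symm.trans h1)
        exact one_ne_two_mul' hn (-(2 * tt n)) (by linear_combination -this)
    · exfalso
      rw [h.X_mul_assoc] at h0
      rcases h1 with h1 | h1 | h1 | h1
      · exact h.XY_ne_one _ (h0 ▸ h1)
      · exact h.XY_ne _ _ (h0 ▸ h1)
      · have := h.XY_eq_iff.mp (h0.symm.trans h1)
        exact one_ne_two_mul' hn (2 * tt n) (by linear_combination -this)
      · rw [h.X_mul_assoc] at h1
        have := h.XY_eq_iff.mp (h0.symm.trans h1)
        exact one_ne_two_mul' hn 0 (by linear_combination -this)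
  apply card_le_two_of_forall_eq (1 : (D ⊓ Subgroup.centralizer (D : Set G) : Subgroup G))
  intro a b ha hb
  have ha' : a.1 = X (4 * tt n) := (key a).resolve_left (fun h1 => ha (Subtype.ext h1))
  have hb' : b.1 = X (4 * tt n) := (key b).resolve_left (fun h1 => hb (Subtype.ext h1))
  exact Subtype.ext (ha'.trans hb'.symm)

theorem card_of_internalDirectProduct [Finite G] {D B T : Subgroup G}
    (hprod : Cfsg.IsInternalDirectProduct D B T) : Nat.card T = Nat.card D * Nat.card B := by
  obtain ⟨hDT, hBT, hDB, hinf, hsup⟩ := hprod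
  apply le_antisymm
  · let φ : D × B → T := fun x => ⟨x.1.1 * x.2.1, T.mul_mem (hDT x.1.2) (hBT x.2.2)⟩
    have hφ : Function.Surjective φ := by
      rintro ⟨t, ht⟩
      rw [← hsup] at ht
      obtain ⟨d, hd, b, hb, rfl⟩ := exists_mul_of_mem_sup_of_comm hDB ht
      exact ⟨(⟨d, hd⟩, ⟨b, hb⟩), rfl⟩
    have h1 := Nat.card_le_card_of_surjective φ hφ
    rwa [Nat.card_prod] at h1
  · have := card_mul_card_le_of_le (H := D) (K := B) (L := T) hDT hBT
    rwa [hinf, Subgroup.card_bot, mul_one] at this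

theorem sq_of_internalDirectProduct {D B T : Subgroup G}
    (hprod : Cfsg.IsInternalDirectProduct D B T) (hD2 : ∀ d ∈ D, d * d = 1)
    (hB2 : ∀ b ∈ B, b * b = 1) : ∀ t ∈ T, t * t = 1 := by
  obtain ⟨hDT, hBT, hDB, hinf, hsup⟩ := hprod
  intro t ht
  rw [← hsup] at ht
  obtain ⟨d, hd, b, hb, rfl⟩ := exists_mul_of_mem_sup_of_comm hDB ht
  have h1 := hDB d hd b hb
  calc d * b * (d * b) = d * (b * d) * b := by group
    _ = d * (d * b) * b := by rw [h1]
    _ = (d * d) * (b * b) := by group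
    _ = 1 := by rw [hD2 d hd, hB2 b hb, mul_one]

end Cfsg.Agent.Lib.helper26
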