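import Cfsg.Agent.Lib.helper26.SecRank2
import Cfsg.Agent.Lib.helper3.PGroupNormal

/-!
Tools for the analysis of a 2-group `S` containing an elementary abelian subgroup `T` of order 16
and a four-group `B ≤ T` with `C_S(b) = T` for all `1 ≠ b ∈ B`: general lemmas.
-/

set_option autoImplicit false

namespace Cfsg.Agent.Lib.helper26

variable {G : Type*} [Group G]

theorem le_normalizer_of_forall_conj {Y H : Subgroup G}
    (h : ∀ y ∈ Y, ∀ x ∈ H, y * x * y⁻¹ ∈ H) : Y ≤ Subgroup.normalizer (H : Set G) := by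
  intro y hy
  rw [Subgroup.mem_normalizer_iff]
  intro x
  constructor
  · exact h y hy x
  · intro hx
    have := h y⁻¹ (Y.inv_mem hy) _ hx
    have e : y⁻¹ * (y * x * y⁻¹) * y⁻¹⁻¹ = x := by group
    rwa [e] at this

/-- the conjugate subgroup `s T s⁻¹` -/
abbrev cj (s : G) (T : Subgroup G) : Subgroup G := T.map (MulAut.conj s).toMonoidHom

theorem mem_cj {s : G} {T : Subgroup G} {x : G} : x ∈ cj s T ↔ ∃ t ∈ T, s * t * s⁻¹ = x := by
  rw [Subgroup.mem_map]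
  rfl

theorem conj_mem_cj {s : G} {T : Subgroup G} {t : G} (ht : t ∈ T) : s * t * s⁻¹ ∈ cj s T :=
  mem_cj.mpr ⟨t, ht, rfl⟩

theorem card_cj (s : G) (T : Subgroup G) : Nat.card (cj s T) = Nat.card T :=
  Subgroup.card_map_of_injective (MulAut.conj s).injective

theorem mem_normalizer_of_cj_le [Finite G] {s : G} {T : Subgroup G} (h : cj s T ≤ T) :
    s ∈ Subgroup.normalizer (T : Set G) := by
  have he : cj s T = T := Subgroup.eq_of_le_of_card_ge h (card_cj s T).ge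
  rw [Subgroup.mem_normalizer_iff]
  intro x
  constructor
  · intro hx
    exact h (conj_mem_cj hx)
  · intro hx
    rw [← he] at hx
    obtain ⟨t, ht, e⟩ := mem_cj.mp hx
    have : t = x := by
      have := congrArg (fun y => s⁻¹ * y * s) e
      simpa [mul_assoc] using this
    exact this ▸ ht

theorem cj_inv_mul_le {s u : G} {T : Subgroup G} (h : cj u T ≤ cj s T) : cj (s⁻¹ * u) T ≤ T := by
  intro x hx
  obtain ⟨t, ht, rfl⟩ := mem_cj.mp hx
  obtain ⟨t₁, ht₁, e⟩ := mem_cj.mp (h (conj_mem_cj (s := u) ht))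
  have : s⁻¹ * u * t * (s⁻¹ * u)⁻¹ = t₁ := by
    calc s⁻¹ * u * t * (s⁻¹ * u)⁻¹ = s⁻¹ * (u * t * u⁻¹) * s := by group
      _ = s⁻¹ * (s * t₁ * s⁻¹) * s := by rw [e]
      _ = t₁ := by group
  rw [this]
  exact ht₁

/-- Commutator counting: for `Q ≤ A` abelian and `g` mapping `Q` into `A` by conjugation,
`|Q| ≤ |C_Q(g)| · |L ∩ A|` whenever all `q⁻¹ g q g⁻¹` lie in `L`. -/
theorem card_le_card_cent_mul [Finite G] {A Q L : Subgroup G}
    (hA : ∀ a ∈ A, ∀ b ∈ A, a * b = b * a) (hQA : Q ≤ A) (g : G)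
    (hg : ∀ q ∈ Q, g * q * g⁻¹ ∈ A) (hL : ∀ q ∈ Q, q⁻¹ * g * q * g⁻¹ ∈ L) :
    Nat.card Q ≤ Nat.card (Q ⊓ Subgroup.centralizer ({g} : Set G) : Subgroup G) *
      Nat.card (L ⊓ A : Subgroup G) := by
  let κ : Q →* G := MonoidHom.mk' (fun q => (q : G)⁻¹ * g * q * g⁻¹) (by
    intro q q'
    have h1 : (q : G)⁻¹ * g * q * g⁻¹ ∈ A := by
      have := A.mul_mem (A.inv_mem (hQA q.2)) (hg q q.2)
      have e : (q : G)⁻¹ * (g * q * g⁻¹) = (q : G)⁻¹ * g * q * g⁻¹ := by group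
      rwa [e] at this
    have h2 := hA _ h1 _ (A.inv_mem (hQA q'.2))
    show ((q * q' : Q) : G)⁻¹ * g * ((q * q' : Q) : G) * g⁻¹ = _
    rw [Subgroup.coe_mul]
    calc ((q : G) * q')⁻¹ * g * ((q : G) * q') * g⁻¹
        = (q' : G)⁻¹ * ((q : G)⁻¹ * g * q * g⁻¹) * (g * q' * g⁻¹) := by group
      _ = ((q : G)⁻¹ * g * q * g⁻¹) * (q' : G)⁻¹ * (g * q' * g⁻¹) := by rw [h2]
      _ = (q : G)⁻¹ * g * q * g⁻¹ * ((q' : G)⁻¹ * g * q' * g⁻¹) := by group)
  have hκ : ∀ q : Q, κ q = (q : G)⁻¹ * g * q * g⁻¹ := fun q => rfl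
  have h1 := Subgroup.card_mul_index κ.ker
  rw [Subgroup.index_ker] at h1
  have h2 : Nat.card κ.range ≤ Nat.card (L ⊓ A : Subgroup G) := by
    apply Subgroup.card_le_of_le
    rintro _ ⟨q, rfl⟩
    rw [hκ]
    refine Subgroup.mem_inf.mpr ⟨hL q q.2, ?_⟩
    have := A.mul_mem (A.inv_mem (hQA q.2)) (hg q q.2)
    have e : (q : G)⁻¹ * (g * q * g⁻¹) = (q : G)⁻¹ * g * q * g⁻¹ := by group
    rwa [e] at this
  have h3 : Nat.card κ.ker ≤ Nat.card (Q ⊓ Subgroup.centralizer ({g} : Set G) : Subgroup G) := by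
    rw [← Subgroup.card_map_of_injective (Subgroup.subtype_injective Q)]
    apply Subgroup.card_le_of_le
    rintro _ ⟨q, hq, rfl⟩
    refine Subgroup.mem_inf.mpr ⟨q.2, ?_⟩
    rw [Subgroup.mem_centralizer_iff]
    intro x hx
    rw [Set.mem_singleton_iff] at hx
    subst hx
    have hq' : (q : G)⁻¹ * x * q * x⁻¹ = 1 := by
      have := MonoidHom.mem_ker.mp hq
      rwa [hκ] at this
    show x * (q : G) = q * x
    calc x * (q : G) = q * ((q : G)⁻¹ * x * q * x⁻¹) * x := by group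
      _ = q * x := by rw [hq', mul_one]
  calc Nat.card Q = Nat.card κ.ker * Nat.card κ.range := h1.symm
    _ ≤ _ := Nat.mul_le_mul h3 h2

/-- A central involution modulo `T`. -/
theorem exists_central_mod [Finite G] {Y T : Subgroup G} (hY : IsPGroup 2 Y) (hTY : T ≤ Y)
    (hYN : Y ≤ Subgroup.normalizer (T : Set G)) (hne : T ≠ Y) :
    ∃ n ∈ Y, n ∉ T ∧ n * n ∈ T ∧ ∀ y ∈ Y, n * y * n⁻¹ * y⁻¹ ∈ T := by
  have : Fact (Nat.Prime 2) := ⟨Nat.prime_two⟩
  have hnorm : (T.subgroupOf Y).Normal := (Subgroup.normal_subgroupOf_iff_le_normalizer hTY).mpr hYN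
  have hQ : IsPGroup 2 (Y ⧸ T.subgroupOf Y) := hY.to_quotient _
  have hnt : (⊤ : Subgroup (Y ⧸ T.subgroupOf Y)) ≠ ⊥ := by
    intro h
    apply hne
    apply le_antisymm hTY
    intro y hy
    have h1 : ((⟨y, hy⟩ : Y) : Y ⧸ T.subgroupOf Y) ∈ (⊤ : Subgroup (Y ⧸ T.subgroupOf Y)) := trivial
    rw [h, Subgroup.mem_bot, QuotientGroup.eq_one_iff] at h1
    exact Subgroup.mem_subgroupOf.mp h1
  obtain ⟨z, -, hzc, hz1, hz2⟩ :=
    Cfsg.Agent.Lib.helper3.exists_central_of_normal_ne_bot hQ ⊤ hnt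
  obtain ⟨n, rfl⟩ := QuotientGroup.mk_surjective z
  refine ⟨(n : G), n.2, ?_, ?_, ?_⟩
  · intro hn
    apply hz1
    rw [QuotientGroup.eq_one_iff]
    exact Subgroup.mem_subgroupOf.mpr hn
  · have : ((n * n : Y) : Y ⧸ T.subgroupOf Y) = 1 := by
      rw [QuotientGroup.mk_mul, ← pow_two]
      exact hz2
    rw [QuotientGroup.eq_one_iff] at this
    exact Subgroup.mem_subgroupOf.mp this
  · intro y hy
    have hc := Subgroup.mem_center_iff.mp hzc ((⟨y, hy⟩ : Y) : Y ⧸ T.subgroupOf Y)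
    have : ((n * ⟨y, hy⟩ * n⁻¹ * (⟨y, hy⟩ : Y)⁻¹ : Y) : Y ⧸ T.subgroupOf Y) = 1 := by
      rw [QuotientGroup.mk_mul, QuotientGroup.mk_mul, QuotientGroup.mk_mul, QuotientGroup.mk_inv,
        QuotientGroup.mk_inv, ← hc]
      group
    rw [QuotientGroup.eq_one_iff] at this
    exact Subgroup.mem_subgroupOf.mp this

/-- A nontrivial invariant subgroup of a 2-group contains a nontrivial central element. -/
theorem exists_central_of_invariant [Finite G] {Y W : Subgroup G} (hY : IsPGroup 2 Y)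
    (hWY : W ≤ Y) (hYN : Y ≤ Subgroup.normalizer (W : Set G)) (hne : W ≠ ⊥) :
    ∃ w ∈ W, w ≠ 1 ∧ ∀ y ∈ Y, y * w = w * y := by
  have : Fact (Nat.Prime 2) := ⟨Nat.prime_two⟩
  have hnorm : (W.subgroupOf Y).Normal := (Subgroup.normal_subgroupOf_iff_le_normalizer hWY).mpr hYN
  have hnb : W.subgroupOf Y ≠ ⊥ := by
    intro h
    apply hne
    rw [Subgroup.eq_bot_iff_forall]
    intro w hw
    have h1 : (⟨w, hWY hw⟩ : Y) ∈ W.subgroupOf Y := Subgroup.mem_subgroupOf.mpr hw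
    rw [h, Subgroup.mem_bot] at h1
    exact congrArg Subtype.val h1
  obtain ⟨z, hzW, hzc, hz1, -⟩ :=
    Cfsg.Agent.Lib.helper3.exists_central_of_normal_ne_bot hY (W.subgroupOf Y) hnb
  refine ⟨(z : G), Subgroup.mem_subgroupOf.mp hzW, ?_, ?_⟩
  · intro h
    exact hz1 (Subtype.ext h)
  · intro y hy
    have := Subgroup.mem_center_iff.mp hzc ⟨y, hy⟩
    exact congrArg Subtype.val this

end Cfsg.Agent.Lib.helper26
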