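import Cfsg.Agent.Lib.helper26.E16a

/-!
A 2-group `S` containing an elementary abelian subgroup `T` of order 16 and a four-group `B ≤ T`
with `C_S(b) = T` for all `1 ≠ b ∈ B`: the case where `T` is normal in `Y` (`T ≤ Y ≤ S`):
`|Y| ≤ 64` and `Rk4In Y`.
-/

set_option autoImplicit false

namespace Cfsg.Agent.Lib.helper26

variable {G : Type*} [Group G]

structure E16Cfg (S T B : Subgroup G) : Prop where
  hS : IsPGroup 2 S
  hTS : T ≤ S
  hT2 : ∀ t ∈ T, t * t = 1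
  hT16 : Nat.card T = 16
  hBT : B ≤ T
  hB4 : Nat.card B = 4
  hBc : ∀ b ∈ B, b ≠ 1 → ∀ g ∈ S, g * b = b * g → g ∈ T

namespace E16Cfg

variable {S T B : Subgroup G}

theorem comm (c : E16Cfg S T B) : ∀ a ∈ T, ∀ b ∈ T, a * b = b * a :=
  fun _ ha _ hb => comm_of_sq_eq_one c.hT2 ha hb

theorem inv_eq (c : E16Cfg S T B) {t : G} (ht : t ∈ T) : t⁻¹ = t :=
  inv_eq_of_mul_eq_one_left (c.hT2 t ht)

theorem fix (c : E16Cfg S T B) {g : G} (hgS : g ∈ S) (hgT : g ∉ T) :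
    ∀ b ∈ B, g * b = b * g → b = 1 := by
  intro b hb hc
  by_contra hb1
  exact hgT (c.hBc b hb hb1 g hgS hc)

theorem card_cent_le [Finite G] (c : E16Cfg S T B) {g : G} (hgS : g ∈ S) (hgT : g ∉ T) :
    Nat.card (T ⊓ Subgroup.centralizer ({g} : Set G) : Subgroup G) ≤ 4 := by
  have hpf := card_mul_card_le_of_le (H := T ⊓ Subgroup.centralizer ({g} : Set G)) (K := B)
    (L := T) inf_le_left c.hBT
  have hbot : (T ⊓ Subgroup.centralizer ({g} : Set G)) ⊓ B = ⊥ := by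
    rw [eq_bot_iff]
    intro b hb
    rw [Subgroup.mem_bot]
    have h1 := Subgroup.mem_inf.mp hb
    have h2 := Subgroup.mem_inf.mp h1.1
    exact c.fix hgS hgT b h1.2 (Subgroup.mem_centralizer_iff.mp h2.2 g (Set.mem_singleton g))
  rw [hbot, Subgroup.card_bot, c.hB4, c.hT16] at hpf
  omega

theorem conj (c : E16Cfg S T B) {s : G} (hs : s ∈ S) : E16Cfg S (cj s T) (cj s B) where
  hS := c.hS
  hTS := by
    intro x hx
    obtain ⟨t, ht, rfl⟩ := mem_cj.mp hx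
    exact S.mul_mem (S.mul_mem hs (c.hTS ht)) (S.inv_mem hs)
  hT2 := by
    intro x hx
    obtain ⟨t, ht, rfl⟩ := mem_cj.mp hx
    have : s * t * s⁻¹ * (s * t * s⁻¹) = s * (t * t) * s⁻¹ := by group
    rw [this, c.hT2 t ht, mul_one, mul_inv_cancel]
  hT16 := (card_cj s T).trans c.hT16
  hBT := Subgroup.map_mono c.hBT
  hB4 := (card_cj s B).trans c.hB4
  hBc := by
    intro x hx hx1 g hg hc
    obtain ⟨b, hb, rfl⟩ := mem_cj.mp hx
    have hb1 : b ≠ 1 := by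
      rintro rfl
      apply hx1
      group
    have h1 : (s⁻¹ * g * s) * b = b * (s⁻¹ * g * s) := by
      calc (s⁻¹ * g * s) * b = s⁻¹ * (g * (s * b * s⁻¹)) * s := by group
        _ = s⁻¹ * ((s * b * s⁻¹) * g) * s := by rw [hc]
        _ = b * (s⁻¹ * g * s) := by group
    have h2 := c.hBc b hb hb1 _ (S.mul_mem (S.mul_mem (S.inv_mem hs) hg) hs) h1
    have h3 : g = s * (s⁻¹ * g * s) * s⁻¹ := by group
    rw [h3]
    exact conj_mem_cj h2

/-- If `T ⊴ Y ≤ S` then `|Y| ≤ 64`. -/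
theorem card_le_64 [Finite G] (c : E16Cfg S T B) {Y : Subgroup G} (hTY : T ≤ Y) (hYS : Y ≤ S)
    (hYN : Y ≤ Subgroup.normalizer (T : Set G)) : Nat.card Y ≤ 64 := by
  by_cases hne : T = Y
  · rw [← hne, c.hT16]
    norm_num
  have hYp : IsPGroup 2 Y := c.hS.to_le hYS
  obtain ⟨n, hnY, hnT, hn2, hnc⟩ := exists_central_mod hYp hTY hYN hne
  have hnS : n ∈ S := hYS hnY
  have hnN : n ∈ Subgroup.normalizer (T : Set G) := hYN hnY
  have hconjT : ∀ y ∈ Y, ∀ t ∈ T, y * t * y⁻¹ ∈ T := fun y hy t ht =>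
    (Subgroup.mem_normalizer_iff.mp (hYN hy) t).mp ht
  set W : Subgroup G := T ⊓ Subgroup.centralizer ({n} : Set G) with hW
  have hW4 : Nat.card W ≤ 4 := c.card_cent_le hnS hnT
  have hWT : W ≤ T := inf_le_left
  have hmemW : ∀ x, x ∈ W ↔ x ∈ T ∧ n * x = x * n := by
    intro x
    rw [hW, Subgroup.mem_inf, Subgroup.mem_centralizer_iff]
    constructor
    · rintro ⟨h1, h2⟩
      exact ⟨h1, h2 n (Set.mem_singleton n)⟩
    · rintro ⟨h1, h2⟩
      refine ⟨h1, ?_⟩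
      intro h hh
      rw [Set.mem_singleton_iff] at hh
      subst hh
      exact h2
  have hfix := c.fix hnS hnT
  -- `t ↦ t * (n t n⁻¹)` maps `T` into `W`
  have hτW : ∀ t ∈ T, t * (n * t * n⁻¹) ∈ W := by
    intro t ht
    have hc := hconjT n hnY t ht
    rw [hmemW]
    refine ⟨T.mul_mem ht hc, ?_⟩
    have h1 : (n * n) * t = t * (n * n) := c.comm _ hn2 _ ht
    have h2 := c.comm t ht _ hc
    have h3 : n * n * t * n⁻¹ = t * n := by rw [h1]; group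
    calc n * (t * (n * t * n⁻¹)) = (n * t * n⁻¹) * (n * n * t * n⁻¹) := by group
      _ = (n * t * n⁻¹) * (t * n) := by rw [h3]
      _ = ((n * t * n⁻¹) * t) * n := by group
      _ = (t * (n * t * n⁻¹)) * n := by rw [h2]
  let θ : B → W := fun b => ⟨b.1 * (n * b.1 * n⁻¹), hτW b.1 (c.hBT b.2)⟩
  have hθ : Function.Injective θ := by
    intro a b hab
    have := congrArg (fun y : W => (y : G)) hab
    exact Subtype.ext (theta_injective B (fun b hb => c.hT2 b (c.hBT hb)) n hfix a.2 b.2 this)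
  have hθb : Function.Bijective θ := hθ.bijective_of_nat_card_le (by rw [c.hB4]; exact hW4)
  have hW4' : Nat.card W = 4 := by
    have := Nat.card_le_card_of_injective θ hθ
    rw [c.hB4] at this
    omega
  have hWne : W ≠ ⊥ := by
    intro h
    rw [h, Subgroup.card_bot] at hW4'
    omega
  have hWinv : ∀ y ∈ Y, ∀ w ∈ W, y * w * y⁻¹ ∈ W := by
    intro y hy w hw
    rw [hmemW] at hw ⊢
    have hc := hconjT y hy w hw.1
    refine ⟨hc, ?_⟩
    have ht := hnc y hy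
    have h1 := c.comm _ ht _ hc
    have h2 : n * w * n⁻¹ = w := by rw [hw.2]; group
    calc n * (y * w * y⁻¹)
        = (n * y * n⁻¹ * y⁻¹) * (y * (n * w * n⁻¹) * y⁻¹) * (n * y * n⁻¹ * y⁻¹)⁻¹ * n := by group
      _ = ((n * y * n⁻¹ * y⁻¹) * (y * w * y⁻¹)) * (n * y * n⁻¹ * y⁻¹)⁻¹ * n := by rw [h2]
      _ = ((y * w * y⁻¹) * (n * y * n⁻¹ * y⁻¹)) * (n * y * n⁻¹ * y⁻¹)⁻¹ * n := by rw [h1]
      _ = y * w * y⁻¹ * n := by group
  obtain ⟨w₀, hw₀W, hw₀1, hw₀c⟩ := exists_central_of_invariant hYp (hWT.trans hTY)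
    (le_normalizer_of_forall_conj hWinv) hWne
  obtain ⟨b₀, hb₀⟩ := hθb.2 ⟨w₀, hw₀W⟩
  have hb₀e : b₀.1 * (n * b₀.1 * n⁻¹) = w₀ := congrArg (fun y : W => (y : G)) hb₀
  have hb₀T : b₀.1 ∈ T := c.hBT b₀.2
  have hb₀1 : b₀.1 ≠ 1 := by
    intro h
    apply hw₀1
    rw [← hb₀e, h]
    group
  have hw₀T : w₀ ∈ T := hWT hw₀W
  have hw₀n : n * w₀ = w₀ * n := ((hmemW w₀).mp hw₀W).2
  -- `n b₀ n⁻¹ = b₀ w₀`
  have hnb : n * b₀.1 * n⁻¹ = b₀.1 * w₀ := by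
    rw [← hb₀e, ← mul_assoc, c.hT2 _ hb₀T, one_mul]
  have hkey : ∀ y ∈ Y, y * b₀.1 * y⁻¹ * b₀.1 ∈ W := by
    intro y hy
    have hc := hconjT y hy _ hb₀T
    rw [hmemW]
    refine ⟨T.mul_mem hc hb₀T, ?_⟩
    have ht := hnc y hy
    have hyw : y * w₀ * y⁻¹ = w₀ := by rw [hw₀c y hy]; group
    have hcw : y * (b₀.1 * w₀) * y⁻¹ ∈ T := hconjT y hy _ (T.mul_mem hb₀T hw₀T)
    have h1 := c.comm _ ht _ hcw
    -- `n (y b₀ y⁻¹) n⁻¹ = (y b₀ y⁻¹) w₀`
    have h2 : n * (y * b₀.1 * y⁻¹) * n⁻¹ = (y * b₀.1 * y⁻¹) * w₀ := by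
      calc n * (y * b₀.1 * y⁻¹) * n⁻¹
          = (n * y * n⁻¹ * y⁻¹) * (y * (n * b₀.1 * n⁻¹) * y⁻¹) * (n * y * n⁻¹ * y⁻¹)⁻¹ := by group
        _ = (n * y * n⁻¹ * y⁻¹) * (y * (b₀.1 * w₀) * y⁻¹) * (n * y * n⁻¹ * y⁻¹)⁻¹ := by rw [hnb]
        _ = (y * (b₀.1 * w₀) * y⁻¹) * (n * y * n⁻¹ * y⁻¹) * (n * y * n⁻¹ * y⁻¹)⁻¹ := by rw [h1]
        _ = (y * b₀.1 * y⁻¹) * (y * w₀ * y⁻¹) := by group
        _ = (y * b₀.1 * y⁻¹) * w₀ := by rw [hyw]
    have h3 := c.comm w₀ hw₀T _ hb₀T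
    have h4 := c.hT2 w₀ hw₀T
    calc n * (y * b₀.1 * y⁻¹ * b₀.1)
        = (n * (y * b₀.1 * y⁻¹) * n⁻¹) * (n * b₀.1 * n⁻¹) * n := by group
      _ = ((y * b₀.1 * y⁻¹) * w₀) * (b₀.1 * w₀) * n := by rw [h2, hnb]
      _ = (y * b₀.1 * y⁻¹) * (w₀ * b₀.1) * w₀ * n := by group
      _ = (y * b₀.1 * y⁻¹) * (b₀.1 * w₀) * w₀ * n := by rw [h3]
      _ = (y * b₀.1 * y⁻¹) * b₀.1 * (w₀ * w₀) * n := by group
      _ = y * b₀.1 * y⁻¹ * b₀.1 * n := by rw [h4, mul_one]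
  -- fibre counting
  let f : Y → W := fun y => ⟨y.1 * b₀.1 * y.1⁻¹ * b₀.1, hkey y.1 y.2⟩
  have hfib : ∀ a : Y, Nat.card {x : Y // f x = f a} ≤ 16 := by
    intro a
    have hmem : ∀ x : {x : Y // f x = f a}, (a : G)⁻¹ * (x.1 : G) ∈ T := by
      intro x
      have h1 : (x.1 : G) * b₀.1 * (x.1 : G)⁻¹ * b₀.1 = (a : G) * b₀.1 * (a : G)⁻¹ * b₀.1 :=
        congrArg (fun y : W => (y : G)) x.2
      have h2 : (x.1 : G) * b₀.1 * (x.1 : G)⁻¹ = (a : G) * b₀.1 * (a : G)⁻¹ := mul_right_cancel h1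
      apply c.hBc b₀.1 b₀.2 hb₀1 _ (S.mul_mem (S.inv_mem (hYS a.2)) (hYS x.1.2))
      calc (a : G)⁻¹ * (x.1 : G) * b₀.1
          = (a : G)⁻¹ * ((x.1 : G) * b₀.1 * (x.1 : G)⁻¹) * (x.1 : G) := by group
        _ = (a : G)⁻¹ * ((a : G) * b₀.1 * (a : G)⁻¹) * (x.1 : G) := by rw [h2]
        _ = b₀.1 * ((a : G)⁻¹ * (x.1 : G)) := by group
    let ι : {x : Y // f x = f a} → T := fun x => ⟨(a : G)⁻¹ * (x.1 : G), hmem x⟩
    have hι : Function.Injective ι := by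
      intro x x' hxx
      have h1 : (a : G)⁻¹ * (x.1 : G) = (a : G)⁻¹ * (x'.1 : G) := congrArg (fun y : T => (y : G)) hxx
      exact Subtype.ext (Subtype.ext (mul_left_cancel h1))
    have := Nat.card_le_card_of_injective ι hι
    rwa [c.hT16] at this
  have := card_le_mul_card_of_fibers f 16 hfib
  rw [hW4'] at this
  omega

/-- If `T ⊴ Y ≤ S` then every elementary abelian section of `Y` has order at most 16. -/
theorem rk4In_of_normal [Finite G] (c : E16Cfg S T B) {Y : Subgroup G} (hTY : T ≤ Y) (hYS : Y ≤ S)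
    (hYN : Y ≤ Subgroup.normalizer (T : Set G)) : Rk4In Y := by
  intro P M hPY hMP hsq hcomm
  have hMpos : 0 < Nat.card M := Nat.card_pos
  by_cases hPT : P ≤ T
  · have := Subgroup.card_le_of_le hPT
    rw [c.hT16] at this
    omega
  obtain ⟨g, hgP, hgT⟩ := SetLike.not_le_iff_exists.mp hPT
  have hY64 := c.card_le_64 hTY hYS hYN
  have h1 : Nat.card P ≤ 4 * Nat.card (P ⊓ T : Subgroup G) := by
    have := card_mul_card_le_of_le (H := P) (K := T) (L := Y) hPY hTY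
    rw [c.hT16] at this
    nlinarith
  have hgS : g ∈ S := hYS (hPY hgP)
  have h2 := card_le_card_cent_mul (A := T) (Q := P ⊓ T) (L := M) c.comm inf_le_right g
    (fun q hq => (Subgroup.mem_normalizer_iff.mp (hYN (hPY hgP)) q).mp hq.2)
    (fun q hq => by
      have := hcomm q⁻¹ (P.inv_mem hq.1) g hgP
      rwa [inv_inv] at this)
  have h3 : Nat.card (P ⊓ T ⊓ Subgroup.centralizer ({g} : Set G) : Subgroup G) ≤ 4 := by
    refine le_trans (Subgroup.card_le_of_le ?_) (c.card_cent_le hgS hgT)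
    exact inf_le_inf_right _ inf_le_right
  have h4 : Nat.card (M ⊓ T : Subgroup G) ≤ Nat.card M := Subgroup.card_le_of_le inf_le_left
  have h5 : Nat.card (P ⊓ T : Subgroup G) ≤ 4 * Nat.card M :=
    le_trans h2 (Nat.mul_le_mul h3 h4)
  omega

end E16Cfg

end Cfsg.Agent.Lib.helper26
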