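import Cfsg.Agent.Lib.helper26.E16b

/-!
A 2-group `S` containing an elementary abelian subgroup `T` of order 16 and a four-group `B ≤ T`
with `C_S(b) = T` for all `1 ≠ b ∈ B` has sectional rank at most 4 (`E16Cfg.rk4In`).
If `T` is not normal in `S`, then `N = N_S(T) = T T'` has order 64 (`T' = s T s⁻¹`) and
`|S : N| = 2`.
-/

set_option autoImplicit false

namespace Cfsg.Agent.Lib.helper26

variable {G : Type*} [Group G]

namespace E16Cfg

variable {S T B : Subgroup G}

theorem rk4In_of_not_normal [Finite G] (c : E16Cfg S T B)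
    (hn : ¬ S ≤ Subgroup.normalizer (T : Set G)) : Rk4In S := by
  have : Fact (Nat.Prime 2) := ⟨Nat.prime_two⟩
  set N : Subgroup G := Subgroup.normalizer (T : Set G) ⊓ S with hNdef
  have hTN : T ≤ N := le_inf Subgroup.le_normalizer c.hTS
  have hNS : N ≤ S := inf_le_right
  have hNn : N ≤ Subgroup.normalizer (T : Set G) := inf_le_left
  have hNne : N ≠ S := by
    intro h
    apply hn
    rw [← h]
    exact hNn
  obtain ⟨s, hsS, hsN, hsnot⟩ := exists_mem_normalizer_not_mem S c.hS N hNS hNne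
  set T' : Subgroup G := cj s T with hT'
  have c' : E16Cfg S T' (cj s B) := c.conj hsS
  have hconjN : ∀ r, r ∈ Subgroup.normalizer (N : Set G) → ∀ x ∈ N, r * x * r⁻¹ ∈ N :=
    fun r hr x hx => (Subgroup.mem_normalizer_iff.mp hr x).mp hx
  have hconjT : ∀ n ∈ N, ∀ t ∈ T, n * t * n⁻¹ ∈ T :=
    fun n hn' t ht => (Subgroup.mem_normalizer_iff.mp (hNn hn') t).mp ht
  have hT'N : T' ≤ N := by
    intro x hx
    obtain ⟨t, ht, rfl⟩ := mem_cj.mp hx
    exact hconjN s hsN t (hTN ht)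
  have hconjT' : ∀ n ∈ N, ∀ x ∈ T', n * x * n⁻¹ ∈ T' := by
    intro n hn' x hx
    obtain ⟨t, ht, rfl⟩ := mem_cj.mp hx
    have h1 : s⁻¹ * n * s ∈ N := by
      have := hconjN s⁻¹ (Subgroup.inv_mem _ hsN) n hn'
      rwa [inv_inv] at this
    have h2 := hconjT _ h1 t ht
    have e : n * (s * t * s⁻¹) * n⁻¹ = s * ((s⁻¹ * n * s) * t * (s⁻¹ * n * s)⁻¹) * s⁻¹ := by group
    rw [e]
    exact conj_mem_cj h2
  have hNn' : N ≤ Subgroup.normalizer (T' : Set G) := le_normalizer_of_forall_conj hconjT'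
  have hTT' : T' ≠ T := by
    intro h
    apply hsnot
    exact Subgroup.mem_inf.mpr ⟨mem_normalizer_of_cj_le (le_of_eq h), hsS⟩
  have hT'16 : Nat.card T' = 16 := c'.hT16
  -- facts on conjugates of `T` inside `S`
  have hle_eq : ∀ r : G, cj r T ≤ T → r ∈ S → r ∈ N := fun r h hr =>
    Subgroup.mem_inf.mpr ⟨mem_normalizer_of_cj_le h, hr⟩
  have habs : ∀ r ∈ S, ∀ b ∈ B, b ≠ 1 → b ∈ cj r T → cj r T ≤ T := by
    intro r hr b hb hb1 hbr x hx
    exact c.hBc b hb hb1 x ((c.conj hr).hTS hx) ((c.conj hr).comm x hx b hbr)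
  have habs' : ∀ r ∈ S, ∀ b ∈ cj s B, b ≠ 1 → b ∈ cj r T → cj r T ≤ T' := by
    intro r hr b hb hb1 hbr x hx
    exact c'.hBc b hb hb1 x ((c.conj hr).hTS hx) ((c.conj hr).comm x hx b hbr)
  set W : Subgroup G := T ⊓ T' with hW
  have hWT : W ≤ T := inf_le_left
  have hWT' : W ≤ T' := inf_le_right
  have hWB : W ⊓ B = ⊥ := by
    rw [eq_bot_iff]
    intro b hb
    rw [Subgroup.mem_bot]
    by_contra hb1
    have h1 := Subgroup.mem_inf.mp hb
    have h2 : T' ≤ T := habs s hsS b h1.2 hb1 (hWT' h1.1)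
    exact hTT' (Subgroup.eq_of_le_of_card_ge h2 (by rw [hT'16, c.hT16]))
  have hW4 : Nat.card W ≤ 4 := by
    have := card_mul_card_le_of_le (H := W) (K := B) (L := T) hWT c.hBT
    rw [hWB, Subgroup.card_bot, c.hB4, c.hT16] at this
    omega
  have hN64 : Nat.card N ≤ 64 := c.card_le_64 hTN hNS hNn
  have hpf1 : 16 * 16 ≤ Nat.card N * Nat.card W := by
    have := card_mul_card_le_of_le (H := T) (K := T') (L := N) hTN hT'N
    rwa [c.hT16, hT'16] at this
  have hW4' : Nat.card W = 4 := by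
    by_contra h
    have h3 : Nat.card W ≤ 3 := by omega
    have : Nat.card N * Nat.card W ≤ 64 * 3 := Nat.mul_le_mul hN64 h3
    omega
  have hN64' : Nat.card N = 64 := by
    rw [hW4'] at hpf1
    omega
  have hsup : T ⊔ T' = N := by
    apply Subgroup.eq_of_le_of_card_ge (sup_le hTN hT'N)
    have := card_mul_card_le_of_le (H := T) (K := T') (L := T ⊔ T') le_sup_left le_sup_right
    rw [c.hT16, hT'16, hW4'] at this
    omega
  have hdec : ∀ n ∈ N, ∃ t ∈ T, ∃ t' ∈ T', n = t * t' := by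
    intro n hn'
    rw [← hsup] at hn'
    exact exists_mul_of_mem_sup_of_normalizer (hT'N.trans hNn) hn'
  have hWcent : ∀ n ∈ N, ∀ w ∈ W, n * w = w * n := by
    intro n hn' w hw
    obtain ⟨t, ht, t', ht', rfl⟩ := hdec n hn'
    have h1 := c.comm t ht w (hWT hw)
    have h2 := c'.comm t' ht' w (hWT' hw)
    calc t * t' * w = t * (t' * w) := by group
      _ = t * (w * t') := by rw [h2]
      _ = (t * w) * t' := by group
      _ = w * t * t' := by rw [h1]
      _ = w * (t * t') := by group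
  have hCT : ∀ g ∈ N, g ∉ T → ∀ t ∈ T, g * t = t * g → t ∈ W := by
    intro g hg hgT t ht hc
    have hle : W ≤ T ⊓ Subgroup.centralizer ({g} : Set G) := by
      intro w hw
      refine Subgroup.mem_inf.mpr ⟨hWT hw, ?_⟩
      rw [Subgroup.mem_centralizer_iff]
      intro x hx
      rw [Set.mem_singleton_iff] at hx
      subst hx
      exact hWcent x hg w hw
    have he := Subgroup.eq_of_le_of_card_ge hle (by
      rw [hW4']
      exact c.card_cent_le (hNS hg) hgT)
    rw [he]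
    refine Subgroup.mem_inf.mpr ⟨ht, ?_⟩
    rw [Subgroup.mem_centralizer_iff]
    intro x hx
    rw [Set.mem_singleton_iff] at hx
    subst hx
    exact hc
  -- elements of `N` outside `T ∪ T'` have order 4
  have hsq4 : ∀ g ∈ N, g ∉ T → g ∉ T' → g * g ≠ 1 ∧ g * g ∈ W := by
    intro g hg hgT hgT'
    obtain ⟨t, ht, t', ht', rfl⟩ := hdec g hg
    have ht'T : t' ∉ T := fun h => hgT (T.mul_mem ht h)
    have htT' : t ∉ T' := fun h => hgT' (T'.mul_mem h ht')
    have e1 : t'⁻¹ = t' := c'.inv_eq ht'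
    have e2 : t⁻¹ = t := c.inv_eq ht
    constructor
    · intro h1
      apply htT'
      apply hWT'
      apply hCT t' (hT'N ht') ht'T t ht
      calc t' * t = t⁻¹ * (t * t' * (t * t')) * t'⁻¹ := by group
        _ = t⁻¹ * t'⁻¹ := by rw [h1, mul_one]
        _ = t * t' := by rw [e1, e2]
    · refine Subgroup.mem_inf.mpr ⟨?_, ?_⟩
      · have h1 := hconjT t' (hT'N ht') t ht
        have e : t * t' * (t * t') = t * (t' * t * t'⁻¹) := by
          rw [e1]; group
        rw [e]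
        exact T.mul_mem ht h1
      · have h1 := hconjT' t (hTN ht) t' ht'
        have e : t * t' * (t * t') = (t * t' * t⁻¹) * t' := by
          rw [e2]; group
        rw [e]
        exact T'.mul_mem h1 ht'
  have hE : ∀ E : Subgroup G, E ≤ N → (∀ e ∈ E, e * e = 1) → E ≤ T ∨ E ≤ T' := by
    intro E hEN hE2
    by_contra hcon
    rw [not_or] at hcon
    obtain ⟨e₁, he₁, he₁T⟩ := SetLike.not_le_iff_exists.mp hcon.1
    obtain ⟨e₂, he₂, he₂T'⟩ := SetLike.not_le_iff_exists.mp hcon.2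
    have h1 : e₁ ∈ T' := by
      by_contra h
      exact (hsq4 e₁ (hEN he₁) he₁T h).1 (hE2 e₁ he₁)
    have h2 : e₂ ∈ T := by
      by_contra h
      exact (hsq4 e₂ (hEN he₂) h he₂T').1 (hE2 e₂ he₂)
    have h3 : e₁ * e₂ ∉ T := fun h => he₁T (by
      have := T.mul_mem h (T.inv_mem h2)
      rwa [mul_inv_cancel_right] at this)
    have h4 : e₁ * e₂ ∉ T' := fun h => he₂T' (by
      have := T'.mul_mem (T'.inv_mem h1) h
      rwa [inv_mul_cancel_left] at this)
    exact (hsq4 _ (hEN (E.mul_mem he₁ he₂)) h3 h4).1 (hE2 _ (E.mul_mem he₁ he₂))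
  -- conjugates of `T` (and `T'`) under elements normalizing `N`
  have hconj : ∀ r ∈ S, r ∈ Subgroup.normalizer (N : Set G) → r ∈ N ∨ cj r T = T' := by
    intro r hr hrN
    have hle : cj r T ≤ N := by
      intro x hx
      obtain ⟨t, ht, rfl⟩ := mem_cj.mp hx
      exact hconjN r hrN t (hTN ht)
    rcases hE (cj r T) hle (c.conj hr).hT2 with h | h
    · exact Or.inl (hle_eq r h hr)
    · exact Or.inr (Subgroup.eq_of_le_of_card_ge h (by rw [hT'16, card_cj, c.hT16]))
  have hhalf : ∀ u ∈ S, u ∈ Subgroup.normalizer (N : Set G) → u ∈ N ∨ s⁻¹ * u ∈ N := by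
    intro u hu huN
    rcases hconj u hu huN with h | h
    · exact Or.inl h
    · right
      exact hle_eq _ (cj_inv_mul_le (le_of_eq h)) (S.mul_mem (S.inv_mem hsS) hu)
  -- `S` normalizes `N`
  have hS1 : S ≤ Subgroup.normalizer (N : Set G) := by
    by_contra hcon
    set S₁ : Subgroup G := Subgroup.normalizer (N : Set G) ⊓ S with hS₁
    have hS₁S : S₁ ≤ S := inf_le_right
    have hS₁ne : S₁ ≠ S := by
      intro h
      apply hcon
      rw [← h]
      exact inf_le_left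
    have hNS₁ : N ≤ S₁ := le_inf Subgroup.le_normalizer hNS
    have hsS₁ : s ∈ S₁ := Subgroup.mem_inf.mpr ⟨hsN, hsS⟩
    obtain ⟨r, hrS, hrN, hrnot⟩ := exists_mem_normalizer_not_mem S c.hS S₁ hS₁S hS₁ne
    have hrle : cj r T ≤ S₁ := by
      intro x hx
      obtain ⟨t, ht, rfl⟩ := mem_cj.mp hx
      exact (Subgroup.mem_normalizer_iff.mp hrN t).mp (hNS₁ (hTN ht))
    have hcr := c.conj hrS
    have h8 : 8 ≤ Nat.card (cj r T ⊓ N : Subgroup G) := by
      have := card_le_two_mul_card_inf (cj r T) N s (fun u hu => by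
        have := Subgroup.mem_inf.mp (hrle hu)
        exact hhalf u this.2 this.1)
      rw [card_cj, c.hT16] at this
      omega
    rcases hE (cj r T ⊓ N) inf_le_right (fun e he => hcr.hT2 e he.1) with h | h
    · -- meets `B`
      have hpf := card_mul_card_le_of_le (H := cj r T ⊓ N) (K := B) (L := T) h c.hBT
      rw [c.hB4, c.hT16] at hpf
      have h2 : 1 < Nat.card (cj r T ⊓ N ⊓ B : Subgroup G) := by nlinarith
      rw [Subgroup.one_lt_card_iff_ne_bot, Ne, Subgroup.eq_bot_iff_forall] at h2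
      push Not at h2
      obtain ⟨b, hb, hb1⟩ := h2
      have hb' := Subgroup.mem_inf.mp hb
      have := habs r hrS b hb'.2 hb1 (Subgroup.mem_inf.mp hb'.1).1
      exact hrnot (hNS₁ (hle_eq r this hrS))
    · have hpf := card_mul_card_le_of_le (H := cj r T ⊓ N) (K := cj s B) (L := T') h c'.hBT
      rw [c'.hB4, hT'16] at hpf
      have h2 : 1 < Nat.card (cj r T ⊓ N ⊓ cj s B : Subgroup G) := by nlinarith
      rw [Subgroup.one_lt_card_iff_ne_bot, Ne, Subgroup.eq_bot_iff_forall] at h2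
      push Not at h2
      obtain ⟨b, hb, hb1⟩ := h2
      have hb' := Subgroup.mem_inf.mp hb
      have := habs' r hrS b hb'.2 hb1 (Subgroup.mem_inf.mp hb'.1).1
      have h3 : s⁻¹ * r ∈ N := hle_eq _ (cj_inv_mul_le this) (S.mul_mem (S.inv_mem hsS) hrS)
      apply hrnot
      have e : r = s * (s⁻¹ * r) := by group
      rw [e]
      exact S₁.mul_mem hsS₁ (hNS₁ h3)
  have hall : ∀ r ∈ S, r ∉ N → cj r T = T' ∧ cj r T' = T := by
    intro r hr hrN
    have h1 : cj r T = T' := (hconj r hr (hS1 hr)).resolve_left hrN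
    refine ⟨h1, ?_⟩
    have hle : cj r T' ≤ N := by
      intro x hx
      obtain ⟨t, ht, rfl⟩ := mem_cj.mp hx
      exact hconjN r (hS1 hr) t (hT'N ht)
    rcases hE (cj r T') hle (c'.conj hr).hT2 with h | h
    · exact Subgroup.eq_of_le_of_card_ge h (by rw [card_cj r T', hT'16, c.hT16])
    · exfalso
      have h2 : cj r T' = T' := Subgroup.eq_of_le_of_card_ge h (card_cj r T').ge
      rw [← h1] at h2
      have h3 : cj r T = T := Subgroup.map_injective (MulAut.conj r).injective h2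
      exact hTT' (h1 ▸ h3)
  -- the final count
  intro P M hPS hMP hsq hcomm
  by_contra hlt
  push Not at hlt
  have hMpos : 0 < Nat.card M := Nat.card_pos
  set Q : Subgroup G := P ⊓ N with hQ
  set L : Subgroup G := Q ⊓ M with hL
  have hQ16 : Nat.card Q ≤ 16 * Nat.card L := by
    apply c.rk4In_of_normal hTN hNS hNn Q L inf_le_right inf_le_left
    · intro q hq
      exact Subgroup.mem_inf.mpr ⟨Q.mul_mem hq hq, hsq q hq.1⟩
    · intro p hp q hq
      exact Subgroup.mem_inf.mpr ⟨Q.mul_mem (Q.mul_mem (Q.mul_mem hp hq) (Q.inv_mem hp)) (Q.inv_mem hq),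
        hcomm p hp.1 q hq.1⟩
  have hP2 : Nat.card P ≤ 2 * Nat.card Q :=
    card_le_two_mul_card_inf P N s (fun u hu => hhalf u (hPS hu) (hS1 (hPS hu)))
  have hLM : Nat.card L ≤ Nat.card M := Subgroup.card_le_of_le inf_le_right
  have hPN : ¬ P ≤ N := by
    intro h
    have : Q = P := inf_eq_left.mpr h
    rw [this] at hQ16
    omega
  obtain ⟨r, hrP, hrN⟩ := SetLike.not_le_iff_exists.mp hPN
  obtain ⟨hrT, hrT'⟩ := hall r (hPS hrP) hrN
  have hrQ : ∀ q ∈ Q, r * q * r⁻¹ ∈ Q := fun q hq =>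
    Subgroup.mem_inf.mpr ⟨P.mul_mem (P.mul_mem hrP hq.1) (P.inv_mem hrP),
      hconjN r (hS1 (hPS hrP)) q hq.2⟩
  by_cases hQT : Q ≤ T
  · have h1 := Subgroup.card_le_of_le hQT
    have h2 := Subgroup.card_dvd_of_le hQT
    rw [c.hT16] at h1 h2
    have h3 : Nat.card Q = 16 := by
      obtain ⟨k, hk⟩ := h2
      have hk4 : k < 2 := by
        by_contra hk2
        have : Nat.card Q * 2 ≤ Nat.card Q * k := Nat.mul_le_mul_left _ (by omega)
        omega
      have hk0 : k ≠ 0 := by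
        rintro rfl
        omega
      have : k = 1 := by omega
      rw [this, mul_one] at hk
      exact hk.symm
    have h4 : Q = T := Subgroup.eq_of_le_of_card_ge hQT (by rw [h3, c.hT16])
    have h5 : T' ≤ T := by
      rw [← hrT]
      intro x hx
      obtain ⟨t, ht, rfl⟩ := mem_cj.mp hx
      rw [← h4] at ht ⊢
      exact hrQ t ht
    exact hTT' (Subgroup.eq_of_le_of_card_ge h5 (by rw [hT'16, c.hT16]))
  by_cases hQT' : Q ≤ T'
  · have h1 := Subgroup.card_le_of_le hQT'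
    have h2 := Subgroup.card_dvd_of_le hQT'
    rw [hT'16] at h1 h2
    have h3 : Nat.card Q = 16 := by
      obtain ⟨k, hk⟩ := h2
      have hk4 : k < 2 := by
        by_contra hk2
        have : Nat.card Q * 2 ≤ Nat.card Q * k := Nat.mul_le_mul_left _ (by omega)
        omega
      have hk0 : k ≠ 0 := by
        rintro rfl
        omega
      have : k = 1 := by omega
      rw [this, mul_one] at hk
      exact hk.symm
    have h4 : Q = T' := Subgroup.eq_of_le_of_card_ge hQT' (by rw [h3, hT'16])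
    have h5 : T ≤ T' := by
      rw [← hrT']
      intro x hx
      obtain ⟨t, ht, rfl⟩ := mem_cj.mp hx
      rw [← h4] at ht ⊢
      exact hrQ t ht
    exact hTT' (Subgroup.eq_of_le_of_card_ge h5 (by rw [hT'16, c.hT16])).symm
  -- an element of `Q` outside `T ∪ T'`
  obtain ⟨g, hgQ, hgT, hgT'⟩ : ∃ g ∈ Q, g ∉ T ∧ g ∉ T' := by
    obtain ⟨g₁, hg₁, hg₁T⟩ := SetLike.not_le_iff_exists.mp hQT
    obtain ⟨g₂, hg₂, hg₂T'⟩ := SetLike.not_le_iff_exists.mp hQT'
    by_cases h1 : g₁ ∈ T'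
    · by_cases h2 : g₂ ∈ T
      · refine ⟨g₁ * g₂, Q.mul_mem hg₁ hg₂, ?_, ?_⟩
        · intro h
          apply hg₁T
          have := T.mul_mem h (T.inv_mem h2)
          rwa [mul_inv_cancel_right] at this
        · intro h
          apply hg₂T'
          have := T'.mul_mem (T'.inv_mem h1) h
          rwa [inv_mul_cancel_left] at this
      · exact ⟨g₂, hg₂, h2, hg₂T'⟩
    · exact ⟨g₁, hg₁, hg₁T, h1⟩
  have hgN : g ∈ N := hgQ.2
  have hgP : g ∈ P := hgQ.1
  obtain ⟨hgg1, hggW⟩ := hsq4 g hgN hgT hgT'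
  have hggL : g * g ∈ L := Subgroup.mem_inf.mpr ⟨Q.mul_mem hgQ hgQ, hsq g hgP⟩
  have hL2 : 2 ≤ Nat.card L := by
    have : 1 < Nat.card L := by
      rw [Subgroup.one_lt_card_iff_ne_bot]
      intro h
      rw [h, Subgroup.mem_bot] at hggL
      exact hgg1 hggL
    omega
  have hQ4 : Nat.card Q ≤ 4 * Nat.card (Q ⊓ T : Subgroup G) := by
    have := card_mul_card_le_of_le (H := Q) (K := T) (L := N) inf_le_right hTN
    rw [c.hT16, hN64'] at this
    omega
  have hcm := card_le_card_cent_mul (A := T) (Q := Q ⊓ T) (L := L ⊓ W) c.comm inf_le_right g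
    (fun q hq => hconjT g hgN q hq.2)
    (fun q hq => by
      have hqQ : q ∈ Q := hq.1
      have hqT : q ∈ T := hq.2
      have hel : q⁻¹ * g * q * g⁻¹ ∈ Q :=
        Q.mul_mem (Q.mul_mem (Q.mul_mem (Q.inv_mem hqQ) hgQ) hqQ) (Q.inv_mem hgQ)
      have hM : q⁻¹ * g * q * g⁻¹ ∈ M := by
        have := hcomm q⁻¹ (P.inv_mem hqQ.1) g hgP
        rwa [inv_inv] at this
      refine Subgroup.mem_inf.mpr ⟨Subgroup.mem_inf.mpr ⟨hel, hM⟩, Subgroup.mem_inf.mpr ⟨?_, ?_⟩⟩
      · have h1 := hconjT g hgN q hqT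
        have e : q⁻¹ * g * q * g⁻¹ = q⁻¹ * (g * q * g⁻¹) := by group
        rw [e]
        exact T.mul_mem (T.inv_mem hqT) h1
      · obtain ⟨t₁, ht₁, t₁', ht₁', rfl⟩ := hdec g hgN
        have h1 : t₁' * q * t₁'⁻¹ ∈ T := hconjT t₁' (hT'N ht₁') q hqT
        have h2 := c.comm t₁ ht₁ _ h1
        have h3 : q⁻¹ * t₁' * q⁻¹⁻¹ ∈ T' := hconjT' q⁻¹ (hTN (T.inv_mem hqT)) t₁' ht₁'
        have e : q⁻¹ * (t₁ * t₁') * q * (t₁ * t₁')⁻¹ = (q⁻¹ * t₁' * q⁻¹⁻¹) * t₁'⁻¹ := by
          calc q⁻¹ * (t₁ * t₁') * q * (t₁ * t₁')⁻¹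
              = q⁻¹ * (t₁ * (t₁' * q * t₁'⁻¹)) * t₁⁻¹ := by group
            _ = q⁻¹ * ((t₁' * q * t₁'⁻¹) * t₁) * t₁⁻¹ := by rw [h2]
            _ = (q⁻¹ * t₁' * q⁻¹⁻¹) * t₁'⁻¹ := by group
        rw [e]
        exact T'.mul_mem h3 (T'.inv_mem ht₁'))
  have hc4 : Nat.card (Q ⊓ T ⊓ Subgroup.centralizer ({g} : Set G) : Subgroup G) ≤ 4 := by
    refine le_trans (Subgroup.card_le_of_le ?_) (c.card_cent_le (hNS hgN) hgT)
    exact inf_le_inf_right _ inf_le_right
  have hLW : Nat.card (L ⊓ W ⊓ T : Subgroup G) ≤ Nat.card (L ⊓ W : Subgroup G) :=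
    Subgroup.card_le_of_le inf_le_left
  have hQT4 : Nat.card (Q ⊓ T : Subgroup G) ≤ 4 * Nat.card (L ⊓ W : Subgroup G) :=
    le_trans hcm (Nat.mul_le_mul hc4 hLW)
  have hLWL : Nat.card (L ⊓ W : Subgroup G) ≤ Nat.card L := Subgroup.card_le_of_le inf_le_left
  have hLleW : L ≤ W := by
    have hd := Subgroup.card_dvd_of_le (inf_le_left : L ⊓ W ≤ L)
    have hpos : 0 < Nat.card (L ⊓ W : Subgroup G) := Nat.card_pos
    have heq : Nat.card (L ⊓ W : Subgroup G) = Nat.card L := by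
      obtain ⟨k, hk⟩ := hd
      have hk2 : k < 2 := by
        by_contra hk2
        have : Nat.card (L ⊓ W : Subgroup G) * 2 ≤ Nat.card (L ⊓ W : Subgroup G) * k :=
          Nat.mul_le_mul_left _ (by omega)
        omega
      have hk0 : k ≠ 0 := by
        rintro rfl
        omega
      have : k = 1 := by omega
      rw [this, mul_one] at hk
      exact hk.symm
    have := Subgroup.eq_of_le_of_card_ge (inf_le_left : L ⊓ W ≤ L) heq.ge
    exact inf_eq_left.mp this
  have hQTW : Q ⊓ T ≤ W := by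
    intro t ht
    have htQ : t ∈ Q := ht.1
    have htT : t ∈ T := ht.2
    refine Subgroup.mem_inf.mpr ⟨htT, ?_⟩
    have h1 : r * t * r⁻¹ ∈ T' := by
      rw [← hrT]
      exact conj_mem_cj htT
    have h2 : t⁻¹ * r * t * r⁻¹ ∈ L := by
      refine Subgroup.mem_inf.mpr ⟨?_, ?_⟩
      · have := Q.mul_mem (Q.inv_mem htQ) (hrQ t htQ)
        have e : t⁻¹ * (r * t * r⁻¹) = t⁻¹ * r * t * r⁻¹ := by group
        rwa [e] at this
      · have := hcomm t⁻¹ (P.inv_mem htQ.1) r hrP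
        rwa [inv_inv] at this
    have h3 := hWT' (hLleW h2)
    have h4 := T'.mul_mem h1 (T'.inv_mem h3)
    have e : r * t * r⁻¹ * (t⁻¹ * r * t * r⁻¹)⁻¹ = t := by group
    rwa [e] at h4
  have hQTle : Nat.card (Q ⊓ T : Subgroup G) ≤ 4 := by
    have := Subgroup.card_le_of_le hQTW
    rwa [hW4'] at this
  omega

/-- Main theorem on self-centralizing `E₁₆` with a regular four-group. -/
theorem rk4In [Finite G] (c : E16Cfg S T B) : Rk4In S := by
  by_cases hn : S ≤ Subgroup.normalizer (T : Set G)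
  · exact c.rk4In_of_normal c.hTS le_rfl hn
  · exact c.rk4In_of_not_normal hn

end E16Cfg

end Cfsg.Agent.Lib.helper26
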