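import Mathlib
import Cfsg.Agent.Lib.helper42.FGDefs
import Cfsg.Agent.Lib.helper59.UniqueOrderP

/-!
S1915 piece LEMM (racing copy, helper26): the involutions of a 2-group with a self-centralizing
cyclic subgroup of index 2 and a central element of order 4 form a four-group.
-/

set_option autoImplicit false

namespace Cfsg.Agent.Lib.helper42.FG

variable {G : Type*} [Group G] [Finite G]

theorem helper26_q4 (B : Subgroup G) (hcyc : IsCyclic B) (b₀ : G) (hb₀ : b₀ ∈ B)
    (hb₀4 : orderOf b₀ = 4) (u : G) (hu : u ∈ B) (hu4 : u ^ 4 = 1) :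
    u = 1 ∨ u = b₀ ∨ u = b₀ ^ 2 ∨ u = b₀ ^ 3 := by
  classical
  have : Fintype ↥B := Fintype.ofFinite _
  have hle : (Finset.univ.filter (fun a : ↥B => a ^ 4 = 1)).card ≤ 4 :=
    IsCyclic.card_pow_eq_one_le (by norm_num)
  set c : ↥B := ⟨b₀, hb₀⟩ with hc
  have hc4 : orderOf c = 4 := by rw [hc, Subgroup.orderOf_mk]; exact hb₀4
  have hTcard : ((Finset.range 4).image (fun n => c ^ n)).card = 4 := by
    rw [Finset.card_image_of_injOn, Finset.card_range]
    intro a ha b hb hab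
    have ha' : a ∈ Set.Iio (orderOf c) := by rw [hc4]; simpa using ha
    have hb' : b ∈ Set.Iio (orderOf c) := by rw [hc4]; simpa using hb
    exact pow_injOn_Iio_orderOf ha' hb' hab
  have hTsub : (Finset.range 4).image (fun n => c ^ n) ⊆
      Finset.univ.filter (fun a : ↥B => a ^ 4 = 1) := by
    intro a ha
    obtain ⟨n, -, rfl⟩ := Finset.mem_image.mp ha
    simp only [Finset.mem_filter, Finset.mem_univ, true_and]
    rw [← pow_mul, mul_comm, pow_mul, ← hc4, pow_orderOf_eq_one, one_pow]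
  have hEq := Finset.eq_of_subset_of_card_le hTsub (by rw [hTcard]; exact hle)
  have hu' : (⟨u, hu⟩ : ↥B) ∈ (Finset.range 4).image (fun n => c ^ n) := by
    rw [hEq]
    simp only [Finset.mem_filter, Finset.mem_univ, true_and]
    exact Subtype.ext (by simpa using hu4)
  obtain ⟨n, hn, hnu⟩ := Finset.mem_image.mp hu'
  have hnu' : b₀ ^ n = u := by simpa [hc] using congrArg Subtype.val hnu
  rw [Finset.mem_range] at hn
  interval_cases n
  · left; simpa using hnu'.symm
  · right; left; simpa using hnu'.symm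
  · right; right; left; exact hnu'.symm
  · right; right; right; exact hnu'.symm

theorem helper26_inv (S₁ B : Subgroup G) (hBS : B ≤ S₁) (hcyc : IsCyclic B) (h2 : IsPGroup 2 S₁)
    (b₀ : G) (hb₀ : b₀ ∈ B) (hb₀4 : orderOf b₀ = 4) (hb₀c : ∀ y ∈ S₁, y * b₀ = b₀ * y)
    (s : G) (hs : s ∈ S₁) (x : G) (hx : x ∈ B) (hinv : s * x * s⁻¹ = x⁻¹) :
    x = 1 ∨ x = b₀ ^ 2 := by
  obtain ⟨k, hk⟩ : ∃ k, orderOf x = 2 ^ k := by
    have := (IsPGroup.iff_orderOf.mp h2) ⟨x, hBS hx⟩
    simpa [Subgroup.orderOf_mk] using this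
  have hb4 : b₀ ^ 4 = 1 := by rw [← hb₀4]; exact pow_orderOf_eq_one b₀
  have hb2 : b₀ ^ 2 ≠ 1 := fun h => by
    have := orderOf_dvd_of_pow_eq_one h; rw [hb₀4] at this; omega
  by_cases hk1 : k ≤ 1
  · have hx2 : x ^ 2 = 1 := by
      have : orderOf x ∣ 2 := by
        rw [hk]; exact (pow_dvd_pow 2 hk1).trans (by norm_num)
      exact orderOf_dvd_iff_pow_eq_one.mp this
    have hx4 : x ^ 4 = 1 := by rw [show 4 = 2 * 2 from rfl, pow_mul, hx2, one_pow]
    rcases helper26_q4 B hcyc b₀ hb₀ hb₀4 x hx hx4 with h | h | h | h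
    · exact Or.inl h
    · exfalso; rw [h] at hx2; exact hb2 hx2
    · exact Or.inr h
    · exfalso
      rw [h] at hx2
      apply hb2
      have h6 : (b₀ ^ 3) ^ 2 = b₀ ^ 4 * b₀ ^ 2 := by rw [← pow_mul, ← pow_add]
      rw [h6, hb4, one_mul] at hx2
      exact hx2
  · exfalso
    have hk2 : 2 ≤ k := by omega
    have hw4 : (x ^ (2 ^ (k - 2))) ^ 4 = 1 := by
      have he : 2 ^ (k - 2) * 4 = 2 ^ k := by
        have : k = (k - 2) + 2 := by omega
        conv_rhs => rw [this]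
        rw [pow_add]
        norm_num
      rw [← pow_mul, he, ← hk, pow_orderOf_eq_one]
    have hw2 : (x ^ (2 ^ (k - 2))) ^ 2 ≠ 1 := by
      intro h
      rw [← pow_mul] at h
      have hd := orderOf_dvd_of_pow_eq_one h
      rw [hk] at hd
      have he : 2 ^ (k - 2) * 2 = 2 ^ (k - 1) := by
        rw [← pow_succ]; congr 1; omega
      rw [he] at hd
      have hle := Nat.le_of_dvd (by positivity) hd
      have : k ≤ k - 1 := (Nat.pow_le_pow_iff_right (by norm_num)).mp hle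
      omega
    have hwB : x ^ (2 ^ (k - 2)) ∈ B := B.pow_mem hx _
    have hwinv : s * x ^ (2 ^ (k - 2)) * s⁻¹ = (x ^ (2 ^ (k - 2)))⁻¹ := by
      rw [← conj_pow, hinv, inv_pow]
    have hwc : s * x ^ (2 ^ (k - 2)) = x ^ (2 ^ (k - 2)) * s := by
      rcases helper26_q4 B hcyc b₀ hb₀ hb₀4 _ hwB hw4 with h | h | h | h
      · exfalso; apply hw2; rw [h, one_pow]
      · rw [h]; exact hb₀c s hs
      · exfalso; apply hw2; rw [h, ← pow_mul]; exact hb4
      · rw [h]; exact Commute.pow_right (hb₀c s hs) 3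
    have hww : x ^ (2 ^ (k - 2)) = (x ^ (2 ^ (k - 2)))⁻¹ := by
      rw [← hwinv, hwc, mul_inv_cancel_right]
    apply hw2
    rw [pow_two]
    nth_rewrite 2 [hww]
    exact mul_inv_cancel _

theorem helper26_modular_omega (S₁ B : Subgroup G) (hBS : B ≤ S₁) (hcyc : IsCyclic B)
    (h2 : IsPGroup 2 S₁)
    (hidx : B.relIndex S₁ = 2) (hself : ∀ y ∈ S₁, (∀ x ∈ B, y * x = x * y) → y ∈ B)
    (b₀ : G) (hb₀ : b₀ ∈ B) (hb₀4 : orderOf b₀ = 4) (hb₀c : ∀ y ∈ S₁, y * b₀ = b₀ * y) :
    ∃ X : Subgroup G, X ≤ S₁ ∧ (∀ x ∈ S₁, x ^ 2 = 1 → x ∈ X) ∧ El X ∧ Nat.card X = 4 := by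
  classical
  have hcommB : ∀ a ∈ B, ∀ c ∈ B, a * c = c * a :=
    Cfsg.Agent.Lib.helper59.comm_of_isCyclic_subgroup B hcyc
  have hmul : ∀ s ∈ S₁, ∀ t ∈ S₁, (s * t ∈ B ↔ (s ∈ B ↔ t ∈ B)) := by
    intro s hs t ht
    have := Subgroup.mul_mem_iff_of_index_two (H := B.subgroupOf S₁) hidx
      (a := ⟨s, hs⟩) (b := ⟨t, ht⟩)
    simpa [Subgroup.mem_subgroupOf] using this
  have hb4 : b₀ ^ 4 = 1 := by rw [← hb₀4]; exact pow_orderOf_eq_one b₀
  have hz1 : b₀ ^ 2 ≠ 1 := fun h => by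
    have := orderOf_dvd_of_pow_eq_one h; rw [hb₀4] at this; omega
  have hzz : b₀ ^ 2 * b₀ ^ 2 = 1 := by rw [← pow_add]; exact hb4
  have hzB : b₀ ^ 2 ∈ B := B.pow_mem hb₀ 2
  have hzc : ∀ s ∈ S₁, s * b₀ ^ 2 = b₀ ^ 2 * s := fun s hs => Commute.pow_right (hb₀c s hs) 2
  have hinvB : ∀ x ∈ B, x * x = 1 → x = 1 ∨ x = b₀ ^ 2 := by
    intro x hx hxx
    apply helper26_inv S₁ B hBS hcyc h2 b₀ hb₀ hb₀4 hb₀c 1 S₁.one_mem x hx
    rw [one_mul, inv_one, mul_one]
    exact eq_inv_of_mul_eq_one_left hxx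
  obtain ⟨y, hyS, hyB⟩ : ∃ y ∈ S₁, y ∉ B := by
    by_contra hcon
    push Not at hcon
    have h1 : S₁ ≤ B := fun s hs => hcon s hs
    have h2 : B.relIndex S₁ = 1 := Subgroup.relIndex_eq_one.mpr h1
    omega
  have hyinv : y⁻¹ ∈ S₁ := S₁.inv_mem hyS
  have hyinvB : y⁻¹ ∉ B := fun h => hyB (by simpa using B.inv_mem h)
  have hn : ∀ x ∈ B, y * x * y⁻¹ ∈ B := by
    intro x hx
    have h1 : y * x ∉ B := by
      rw [hmul y hyS x (hBS hx)]; tauto
    rw [hmul (y * x) (S₁.mul_mem hyS (hBS hx)) y⁻¹ hyinv]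
    tauto
  have hyy : y * y ∈ B := by rw [hmul y hyS y hyS]
  let φ : ↥B →* ↥B :=
    { toFun := fun x => ⟨(x : G) * (y * x * y⁻¹), B.mul_mem x.2 (hn x x.2)⟩
      map_one' := by ext; simp
      map_mul' := by
        intro a c
        ext
        simp only [Subgroup.coe_mul]
        have hc1 := hcommB (c : G) c.2 (y * a * y⁻¹) (hn a a.2)
        calc (a : G) * c * (y * (a * c) * y⁻¹)
            = a * (c * (y * a * y⁻¹)) * (y * c * y⁻¹) := by group
          _ = a * ((y * a * y⁻¹) * c) * (y * c * y⁻¹) := by rw [hc1]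
          _ = a * (y * a * y⁻¹) * (c * (y * c * y⁻¹)) := by group }
  have hφ : ∀ x : ↥B, ((φ x : ↥B) : G) = (x : G) * (y * x * y⁻¹) := fun x => rfl
  have hker : ∀ x : ↥B, φ x = 1 → (x : G) = 1 ∨ (x : G) = b₀ ^ 2 := by
    intro x hx
    have h1 : (x : G) * (y * x * y⁻¹) = 1 := by
      rw [← hφ, hx]; rfl
    apply helper26_inv S₁ B hBS hcyc h2 b₀ hb₀ hb₀4 hb₀c y hyS x x.2
    exact eq_inv_of_mul_eq_one_right h1
  have hkercard : Nat.card φ.ker ≤ 2 := by
    have hsub : (φ.ker : Set ↥B) ⊆ ({1, ⟨b₀ ^ 2, hzB⟩} : Set ↥B) := by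
      intro x hx
      rcases hker x (MonoidHom.mem_ker.mp hx) with h | h
      · left; exact Subtype.ext h
      · right; exact Subtype.ext h
    calc Nat.card φ.ker = Set.ncard (φ.ker : Set ↥B) := (Nat.card_coe_set_eq _)
      _ ≤ Set.ncard ({1, ⟨b₀ ^ 2, hzB⟩} : Set ↥B) := Set.ncard_le_ncard hsub (Set.toFinite _)
      _ ≤ 2 := (Set.ncard_insert_le _ _).trans (by simp)
  have hrange : φ.range ≤ (Subgroup.centralizer ({y} : Set G)).subgroupOf B := by
    rintro _ ⟨x, rfl⟩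
    rw [Subgroup.mem_subgroupOf, Subgroup.mem_centralizer_iff]
    intro g hg
    rw [Set.mem_singleton_iff.mp hg, hφ]
    have h1 := hcommB (y * y) hyy x x.2
    have h2 := hcommB (y * x * y⁻¹) (hn x x.2) x x.2
    calc y * ((x : G) * (y * x * y⁻¹))
        = (y * x * y⁻¹) * ((y * y) * x) * (y * y)⁻¹ * y := by group
      _ = (y * x * y⁻¹) * (x * (y * y)) * (y * y)⁻¹ * y := by rw [h1]
      _ = (y * x * y⁻¹) * x * y := by group
      _ = (x : G) * (y * x * y⁻¹) * y := by rw [h2]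
  have hF'ne : (Subgroup.centralizer ({y} : Set G)).subgroupOf B ≠ ⊤ := by
    intro h
    apply hyB
    apply hself y hyS
    intro x hx
    have h1 : (⟨x, hx⟩ : ↥B) ∈ (Subgroup.centralizer ({y} : Set G)).subgroupOf B := by
      rw [h]; trivial
    rw [Subgroup.mem_subgroupOf, Subgroup.mem_centralizer_iff] at h1
    exact h1 y rfl
  have hrangeF : φ.range = (Subgroup.centralizer ({y} : Set G)).subgroupOf B := by
    apply Subgroup.eq_of_le_of_card_ge hrange
    have h1 : Nat.card φ.ker * Nat.card φ.range = Nat.card ↥B := by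
      rw [← Subgroup.index_ker]; exact Subgroup.card_mul_index φ.ker
    have h2' := Subgroup.card_mul_index ((Subgroup.centralizer ({y} : Set G)).subgroupOf B)
    have h3 : ((Subgroup.centralizer ({y} : Set G)).subgroupOf B).index ≠ 1 :=
      fun h => hF'ne (Subgroup.index_eq_one.mp h)
    have h4 : ((Subgroup.centralizer ({y} : Set G)).subgroupOf B).index ≠ 0 :=
      Subgroup.index_ne_zero_of_finite
    have h7 : 2 * Nat.card ((Subgroup.centralizer ({y} : Set G)).subgroupOf B) ≤ Nat.card ↥B := by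
      rw [← h2', mul_comm]
      exact Nat.mul_le_mul_left _ (by omega)
    have h8 : Nat.card ↥B ≤ 2 * Nat.card φ.range := by
      rw [← h1]; exact Nat.mul_le_mul_right _ hkercard
    omega
  have hyyF : (⟨y * y, hyy⟩ : ↥B)⁻¹ ∈ (Subgroup.centralizer ({y} : Set G)).subgroupOf B := by
    apply Subgroup.inv_mem
    rw [Subgroup.mem_subgroupOf, Subgroup.mem_centralizer_iff]
    intro g hg
    rw [Set.mem_singleton_iff.mp hg]
    simp [mul_assoc]
  rw [← hrangeF] at hyyF
  obtain ⟨x, hx⟩ := hyyF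
  have hx' : (x : G) * (y * x * y⁻¹) = (y * y)⁻¹ := by
    rw [← hφ, hx]; rfl
  have htS : (x : G) * y ∈ S₁ := S₁.mul_mem (hBS x.2) hyS
  have htB : (x : G) * y ∉ B := by
    rw [hmul _ (hBS x.2) y hyS]
    simp [x.2, hyB]
  have htt : (x : G) * y * ((x : G) * y) = 1 := by
    calc (x : G) * y * ((x : G) * y) = (x : G) * (y * x * y⁻¹) * (y * y) := by group
      _ = 1 := by rw [hx']; group
  generalize (x : G) * y = t at htS htB htt
  have hout : ∀ s ∈ S₁, s ∉ B → s * s = 1 → s = t ∨ s = t * b₀ ^ 2 := by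
    intro s hs hsB hss
    have hq : s * t⁻¹ ∈ B := by
      rw [hmul s hs t⁻¹ (S₁.inv_mem htS)]
      constructor
      · intro h; exact absurd h hsB
      · intro h; exact absurd (by simpa using B.inv_mem h) htB
    have hsinv : s⁻¹ = s := inv_eq_of_mul_eq_one_left hss
    have htinv : t⁻¹ = t := inv_eq_of_mul_eq_one_left htt
    have hinv : t * (s * t⁻¹) * t⁻¹ = (s * t⁻¹)⁻¹ := by
      rw [mul_inv_rev, inv_inv, hsinv, htinv]
      calc t * (s * t) * t = t * s * (t * t) := by group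
        _ = t * s := by rw [htt, mul_one]
    rcases helper26_inv S₁ B hBS hcyc h2 b₀ hb₀ hb₀4 hb₀c t htS (s * t⁻¹) hq hinv with h | h
    · left; exact mul_inv_eq_one.mp h
    · right
      have h1 : s = b₀ ^ 2 * t := by rw [← h]; group
      rw [h1, hzc t htS]
  have hcommΩ : ∀ a ∈ S₁, a * a = 1 → ∀ c ∈ S₁, c * c = 1 → a * c = c * a := by
    intro a ha haa c hc hcc
    by_cases haB : a ∈ B
    · rcases hinvB a haB haa with h | h
      · rw [h]; simp
      · rw [h]; exact (hzc c hc).symm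
    · by_cases hcB : c ∈ B
      · rcases hinvB c hcB hcc with h | h
        · rw [h]; simp
        · rw [h]; exact hzc a ha
      · rcases hout a ha haB haa with h | h <;> rcases hout c hc hcB hcc with h' | h'
        · rw [h, h']
        · rw [h, h', mul_assoc, hzc t htS, ← mul_assoc]
        · rw [h, h', mul_assoc, hzc t htS, ← mul_assoc]
        · rw [h, h']
  refine ⟨{ carrier := {x | x ∈ S₁ ∧ x * x = 1}
            mul_mem' := ?_
            one_mem' := ⟨S₁.one_mem, one_mul 1⟩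
            inv_mem' := ?_ }, ?_, ?_, ?_, ?_⟩
  · rintro a c ⟨ha, haa⟩ ⟨hc, hcc⟩
    refine ⟨S₁.mul_mem ha hc, ?_⟩
    calc a * c * (a * c) = a * (c * a) * c := by group
      _ = a * (a * c) * c := by rw [hcommΩ c hc hcc a ha haa]
      _ = (a * a) * (c * c) := by group
      _ = 1 := by rw [haa, hcc, one_mul]
  · rintro a ⟨ha, haa⟩
    refine ⟨S₁.inv_mem ha, ?_⟩
    rw [← mul_inv_rev, haa, inv_one]
  · intro a ha; exact ha.1
  · intro a ha ha2; exact ⟨ha, by rw [← pow_two]; exact ha2⟩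
  · exact ⟨fun a ha c hc => hcommΩ a ha.1 ha.2 c hc.1 hc.2, fun e he => by rw [pow_two]; exact he.2⟩
  · have ht1 : t ≠ 1 := fun h => htB (by rw [h]; exact B.one_mem)
    have htz : t ≠ b₀ ^ 2 := fun h => htB (by rw [h]; exact hzB)
    have htzB : t * b₀ ^ 2 ∉ B := fun h => htB (by simpa using B.mul_mem h (B.inv_mem hzB))
    have hset : ({x | x ∈ S₁ ∧ x * x = 1} : Set G) =
        ((({1, b₀ ^ 2, t, t * b₀ ^ 2} : Finset G)) : Set G) := by
      ext a
      simp only [Set.mem_ofPred_eq, Finset.coe_insert, Finset.coe_singleton, Set.mem_insert_iff,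
        Set.mem_singleton_iff]
      constructor
      · rintro ⟨ha, haa⟩
        by_cases haB : a ∈ B
        · rcases hinvB a haB haa with h | h
          · exact Or.inl h
          · exact Or.inr (Or.inl h)
        · rcases hout a ha haB haa with h | h
          · exact Or.inr (Or.inr (Or.inl h))
          · exact Or.inr (Or.inr (Or.inr h))
      · rintro (rfl | rfl | rfl | rfl)
        · exact ⟨S₁.one_mem, one_mul 1⟩
        · exact ⟨hBS hzB, hzz⟩
        · exact ⟨htS, htt⟩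
        · refine ⟨S₁.mul_mem htS (hBS hzB), ?_⟩
          calc t * b₀ ^ 2 * (t * b₀ ^ 2) = t * (b₀ ^ 2 * t) * b₀ ^ 2 := by group
            _ = t * (t * b₀ ^ 2) * b₀ ^ 2 := by rw [hzc t htS]
            _ = (t * t) * (b₀ ^ 2 * b₀ ^ 2) := by group
            _ = 1 := by rw [htt, hzz, one_mul]
    have h1 : (1 : G) ∉ ({b₀ ^ 2, t, t * b₀ ^ 2} : Finset G) := by
      simp only [Finset.mem_insert, Finset.mem_singleton, not_or]
      exact ⟨fun h => hz1 h.symm, fun h => ht1 h.symm,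
        fun h => htzB (by rw [← h]; exact B.one_mem)⟩
    have h2 : b₀ ^ 2 ∉ ({t, t * b₀ ^ 2} : Finset G) := by
      simp only [Finset.mem_insert, Finset.mem_singleton, not_or]
      exact ⟨fun h => htz h.symm, fun h => htzB (by rw [← h]; exact hzB)⟩
    have h3 : t ∉ ({t * b₀ ^ 2} : Finset G) := by
      simp only [Finset.mem_singleton]
      intro h
      have h' : t * b₀ ^ 2 = t * 1 := by rw [mul_one]; exact h.symm
      exact hz1 (mul_left_cancel h')
    show Nat.card ↥({x | x ∈ S₁ ∧ x * x = 1} : Set G) = 4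
    rw [Nat.card_coe_set_eq, hset, Set.ncard_coe_finset, Finset.card_insert_of_notMem h1,
      Finset.card_insert_of_notMem h2, Finset.card_insert_of_notMem h3, Finset.card_singleton]

end Cfsg.Agent.Lib.helper42.FG
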