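import Mathlib
import Cfsg.Prelude.Def_FusionSystem
import Cfsg.Prelude.Def_CaseTheorems
import Cfsg.Agent.Lib.helper89.FusionSat
import Cfsg.Agent.Lib.helper88.Saturated
import Cfsg.Agent.Lib.helper60.S1238B3a

/-!
# S5213, piece F4 (`transport_four`), insurance copy by helper26

Transport of a 3-cycle automorphism of the four-group `{1, z, u, z u} ≤ R` to a fully normalized
conjugate `W`, then extension to `T = C_S(W) = C_S(v)` by receptivity.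
-/

set_option autoImplicit false

open Cfsg Cfsg.FusionSystem

namespace Cfsg.Agent.Lib.helper26.FS13

variable {Ω : Type*} [Group Ω] {S : Subgroup Ω}

/-- The elements of the subgroup generated by two commuting involutions. -/
theorem helper26_four_closure (z u : Ω) (hzz : z * z = 1) (huu : u * u = 1)
    (hzu : z * u = u * z) :
    ∀ w ∈ Subgroup.closure ({z, u} : Set Ω), w = 1 ∨ w = z ∨ w = u ∨ w = z * u := by
  have hz1 : ∀ a : Ω, z * (z * a) = a := fun a => by rw [← mul_assoc, hzz, one_mul]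
  have hu1 : ∀ a : Ω, u * (u * a) = a := fun a => by rw [← mul_assoc, huu, one_mul]
  have huz : ∀ a : Ω, u * (z * a) = z * (u * a) := fun a => by
    rw [← mul_assoc, ← hzu, mul_assoc]
  have hzi : z⁻¹ = z := inv_eq_of_mul_eq_one_right hzz
  have hui : u⁻¹ = u := inv_eq_of_mul_eq_one_right huu
  intro w hw
  induction hw using Subgroup.closure_induction with
  | mem x hx =>
    simp only [Set.mem_insert_iff, Set.mem_singleton_iff] at hx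
    rcases hx with h | h
    · exact Or.inr (Or.inl h)
    · exact Or.inr (Or.inr (Or.inl h))
  | one => exact Or.inl rfl
  | mul x y _ _ ihx ihy =>
    rcases ihx with h | h | h | h <;> rcases ihy with h' | h' | h' | h' <;> rw [h, h'] <;>
      simp [mul_assoc, hz1, huz, hzz, huu, hzu.symm]
  | inv x _ ih =>
    rcases ih with h | h | h | h <;> rw [h] <;> simp [hzi, hui, hzu.symm]

/-- PIECE F4 of S5213 (verbatim statement of `transport_four` in tools/S5213_Skel.lean.txt). -/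
theorem helper26_transport_four [Finite S] (hS : IsPGroup 2 S) (F : FusionSystem S)
    (hF : F.IsSaturated 2) (h2 : Cfsg.PRankLE 2 2 ↥S) (z : Ω) (hzS : z ∈ S)
    (hz : orderOf z = 2) (hzc : ∀ s ∈ S, s * z = z * s) (R : Subgroup Ω) (hRS : R ≤ S)
    (hzR : z ∈ R) (u : Ω) (huR : u ∈ R) (hu : orderOf u = 2) (huz : u ≠ z) (γ : MulAut R)
    (hγ : γ ∈ F.autGroup R) (hγz : ((γ ⟨z, hzR⟩ : R) : Ω) = u)
    (hγu : ((γ ⟨u, huR⟩ : R) : Ω) = z * u) :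
    ∃ (v : Ω) (T : Subgroup Ω), v ∈ S ∧ orderOf v = 2 ∧ v ≠ z ∧
      (∀ x : Ω, x ∈ T ↔ x ∈ S ∧ x * v = v * x) ∧
      ∃ (hzT : z ∈ T) (hvT : v ∈ T) (φ : MulAut T),
        ((φ ⟨z, hzT⟩ : T) : Ω) = v ∧ ((φ ⟨v, hvT⟩ : T) : Ω) = z * v := by
  classical
  have : Fact (Nat.Prime 2) := ⟨Nat.prime_two⟩
  have hzz : z * z = 1 := by rw [← pow_two, ← hz, pow_orderOf_eq_one]
  have huu : u * u = 1 := by rw [← pow_two, ← hu, pow_orderOf_eq_one]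
  have hz1 : z ≠ 1 := by
    intro h
    rw [h, orderOf_one] at hz
    omega
  have hu1 : u ≠ 1 := by
    intro h
    rw [h, orderOf_one] at hu
    omega
  have huS : u ∈ S := hRS huR
  have hzu : z * u = u * z := (hzc u huS).symm
  -- the four-group `W₀`
  obtain ⟨W₀, hW₀⟩ : ∃ W₀ : Subgroup Ω, W₀ = Subgroup.closure ({z, u} : Set Ω) := ⟨_, rfl⟩
  have hzW₀ : z ∈ W₀ := by rw [hW₀]; exact Subgroup.subset_closure (by simp)
  have huW₀ : u ∈ W₀ := by rw [hW₀]; exact Subgroup.subset_closure (by simp)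
  have hW₀R : W₀ ≤ R := by
    rw [hW₀, Subgroup.closure_le]
    intro x hx
    simp only [Set.mem_insert_iff, Set.mem_singleton_iff] at hx
    rcases hx with rfl | rfl
    · exact hzR
    · exact huR
  have hW₀S : W₀ ≤ S := hW₀R.trans hRS
  have hfour : ∀ w ∈ W₀, w = 1 ∨ w = z ∨ w = u ∨ w = z * u := by
    rw [hW₀]
    exact helper26_four_closure z u hzz huu hzu
  -- the restriction of `γ` to `W₀`
  have hγF : R.subtype.comp γ.toMonoidHom ∈ F.Hom R :=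
    (Cfsg.Agent.Lib.helper88.mem_autGroup_iff' F hRS γ).mp hγ
  have hγres : (R.subtype.comp γ.toMonoidHom).comp (Subgroup.inclusion hW₀R) ∈ F.Hom W₀ :=
    Cfsg.Agent.Lib.helper88.restrict_mem F hW₀R hγF
  have hγzu : ((γ ⟨z * u, R.mul_mem hzR huR⟩ : R) : Ω) = z := by
    have e1 : (⟨z * u, R.mul_mem hzR huR⟩ : R) = ⟨z, hzR⟩ * ⟨u, huR⟩ := rfl
    rw [e1, map_mul, Subgroup.coe_mul, hγz, hγu, ← mul_assoc, ← hzu, mul_assoc, huu, mul_one]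
  have hγW₀ : ∀ x : W₀,
      ((R.subtype.comp γ.toMonoidHom).comp (Subgroup.inclusion hW₀R)) x ∈ W₀ := by
    intro x
    show ((γ (Subgroup.inclusion hW₀R x) : R) : Ω) ∈ W₀
    rcases hfour x x.2 with h | h | h | h
    · have h1 : Subgroup.inclusion hW₀R x = 1 := Subtype.ext h
      rw [h1, map_one]
      exact W₀.one_mem
    · have h1 : Subgroup.inclusion hW₀R x = ⟨z, hzR⟩ := Subtype.ext h
      rw [h1, hγz]
      exact huW₀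
    · have h1 : Subgroup.inclusion hW₀R x = ⟨u, huR⟩ := Subtype.ext h
      rw [h1, hγu]
      exact W₀.mul_mem hzW₀ huW₀
    · have h1 : Subgroup.inclusion hW₀R x = ⟨z * u, R.mul_mem hzR huR⟩ := Subtype.ext h
      rw [h1, hγzu]
      exact hzW₀
  obtain ⟨γ₀, hγ₀⟩ := Cfsg.Agent.Lib.helper89.exists_aut_of_mem F hγres hγW₀
  have hγ₀mem : γ₀ ∈ F.autGroup W₀ := by
    rw [Cfsg.Agent.Lib.helper88.mem_autGroup_iff' F hW₀S]
    have h1 : W₀.subtype.comp γ₀.toMonoidHom =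
        (R.subtype.comp γ.toMonoidHom).comp (Subgroup.inclusion hW₀R) := by
      ext x
      exact hγ₀ x
    rw [h1]
    exact hγres
  have hγ₀z : γ₀ ⟨z, hzW₀⟩ = ⟨u, huW₀⟩ := Subtype.ext (by rw [hγ₀]; exact hγz)
  have hγ₀u : γ₀ ⟨u, huW₀⟩ = ⟨z * u, W₀.mul_mem hzW₀ huW₀⟩ :=
    Subtype.ext (by rw [hγ₀]; exact hγu)
  -- a fully normalized conjugate `W` of `W₀`
  obtain ⟨W, ⟨ψ, hψ, hψW⟩, hWfn⟩ := Cfsg.Agent.Lib.helper88.exists_fullyNormalized_conj F hW₀S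
  obtain ⟨e, he, -⟩ := Cfsg.Agent.Lib.helper88.exists_isoEquiv F hψ hψW
  have hWS : W ≤ S := hWfn.1
  -- `z ∈ W` (rank 2)
  have hzW : z ∈ W := by
    have haa : (⟨((e ⟨z, hzW₀⟩ : W) : Ω), hWS (e ⟨z, hzW₀⟩).2⟩ : ↥S) *
        ⟨((e ⟨z, hzW₀⟩ : W) : Ω), hWS (e ⟨z, hzW₀⟩).2⟩ = 1 := by
      apply Subtype.ext
      show ((e ⟨z, hzW₀⟩ : W) : Ω) * ((e ⟨z, hzW₀⟩ : W) : Ω) = 1
      rw [← Subgroup.coe_mul, ← map_mul]
      have h1 : (⟨z, hzW₀⟩ : W₀) * ⟨z, hzW₀⟩ = 1 := Subtype.ext hzz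
      rw [h1, map_one]
      rfl
    have hbb : (⟨((e ⟨u, huW₀⟩ : W) : Ω), hWS (e ⟨u, huW₀⟩).2⟩ : ↥S) *
        ⟨((e ⟨u, huW₀⟩ : W) : Ω), hWS (e ⟨u, huW₀⟩).2⟩ = 1 := by
      apply Subtype.ext
      show ((e ⟨u, huW₀⟩ : W) : Ω) * ((e ⟨u, huW₀⟩ : W) : Ω) = 1
      rw [← Subgroup.coe_mul, ← map_mul]
      have h1 : (⟨u, huW₀⟩ : W₀) * ⟨u, huW₀⟩ = 1 := Subtype.ext huu
      rw [h1, map_one]
      rfl
    have hcc : (⟨z, hzS⟩ : ↥S) * ⟨z, hzS⟩ = 1 := Subtype.ext hzz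
    have hab : (⟨((e ⟨z, hzW₀⟩ : W) : Ω), hWS (e ⟨z, hzW₀⟩).2⟩ : ↥S) *
        ⟨((e ⟨u, huW₀⟩ : W) : Ω), hWS (e ⟨u, huW₀⟩).2⟩ =
        ⟨((e ⟨u, huW₀⟩ : W) : Ω), hWS (e ⟨u, huW₀⟩).2⟩ *
        ⟨((e ⟨z, hzW₀⟩ : W) : Ω), hWS (e ⟨z, hzW₀⟩).2⟩ := by
      apply Subtype.ext
      show ((e ⟨z, hzW₀⟩ : W) : Ω) * ((e ⟨u, huW₀⟩ : W) : Ω) =
        ((e ⟨u, huW₀⟩ : W) : Ω) * ((e ⟨z, hzW₀⟩ : W) : Ω)
      rw [← Subgroup.coe_mul, ← Subgroup.coe_mul, ← map_mul, ← map_mul]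
      have h1 : (⟨z, hzW₀⟩ : W₀) * ⟨u, huW₀⟩ = ⟨u, huW₀⟩ * ⟨z, hzW₀⟩ := Subtype.ext hzu
      rw [h1]
    have hac : (⟨((e ⟨z, hzW₀⟩ : W) : Ω), hWS (e ⟨z, hzW₀⟩).2⟩ : ↥S) * ⟨z, hzS⟩ =
        ⟨z, hzS⟩ * ⟨((e ⟨z, hzW₀⟩ : W) : Ω), hWS (e ⟨z, hzW₀⟩).2⟩ :=
      Subtype.ext (hzc _ (hWS (e ⟨z, hzW₀⟩).2))
    have hbc : (⟨((e ⟨u, huW₀⟩ : W) : Ω), hWS (e ⟨u, huW₀⟩).2⟩ : ↥S) * ⟨z, hzS⟩ =
        ⟨z, hzS⟩ * ⟨((e ⟨u, huW₀⟩ : W) : Ω), hWS (e ⟨u, huW₀⟩).2⟩ :=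
      Subtype.ext (hzc _ (hWS (e ⟨u, huW₀⟩).2))
    have ha1 : (⟨((e ⟨z, hzW₀⟩ : W) : Ω), hWS (e ⟨z, hzW₀⟩).2⟩ : ↥S) ≠ 1 := by
      intro h
      have h0 : ((e ⟨z, hzW₀⟩ : W) : Ω) = 1 := congrArg (fun t : ↥S => (t : Ω)) h
      have h1 : e ⟨z, hzW₀⟩ = 1 := Subtype.ext h0
      have h2 : (⟨z, hzW₀⟩ : W₀) = 1 := by
        apply e.injective
        rw [h1, map_one]
      exact hz1 (congrArg Subtype.val h2)
    have hb1 : (⟨((e ⟨u, huW₀⟩ : W) : Ω), hWS (e ⟨u, huW₀⟩).2⟩ : ↥S) ≠ 1 := by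
      intro h
      have h0 : ((e ⟨u, huW₀⟩ : W) : Ω) = 1 := congrArg (fun t : ↥S => (t : Ω)) h
      have h1 : e ⟨u, huW₀⟩ = 1 := Subtype.ext h0
      have h2 : (⟨u, huW₀⟩ : W₀) = 1 := by
        apply e.injective
        rw [h1, map_one]
      exact hu1 (congrArg Subtype.val h2)
    have hne : (⟨((e ⟨z, hzW₀⟩ : W) : Ω), hWS (e ⟨z, hzW₀⟩).2⟩ : ↥S) ≠
        ⟨((e ⟨u, huW₀⟩ : W) : Ω), hWS (e ⟨u, huW₀⟩).2⟩ := by
      intro h
      have h0 : ((e ⟨z, hzW₀⟩ : W) : Ω) = ((e ⟨u, huW₀⟩ : W) : Ω) :=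
        congrArg (fun t : ↥S => (t : Ω)) h
      have h1 : e ⟨z, hzW₀⟩ = e ⟨u, huW₀⟩ := Subtype.ext h0
      have h2 := e.injective h1
      exact huz (congrArg Subtype.val h2).symm
    rcases Cfsg.Agent.Lib.helper60.S1238.rank_two_four h2 _ _ (⟨z, hzS⟩ : ↥S) haa hbb hcc hab hac
      hbc ha1 hb1 hne with h | h | h | h
    · exact absurd (congrArg (fun t : ↥S => (t : Ω)) h) hz1
    · have h' : z = ((e ⟨z, hzW₀⟩ : W) : Ω) := congrArg (fun t : ↥S => (t : Ω)) h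
      rw [h']
      exact (e ⟨z, hzW₀⟩).2
    · have h' : z = ((e ⟨u, huW₀⟩ : W) : Ω) := congrArg (fun t : ↥S => (t : Ω)) h
      rw [h']
      exact (e ⟨u, huW₀⟩).2
    · have h' : z = ((e ⟨z, hzW₀⟩ : W) : Ω) * ((e ⟨u, huW₀⟩ : W) : Ω) :=
        congrArg (fun t : ↥S => (t : Ω)) h
      rw [h']
      exact W.mul_mem (e ⟨z, hzW₀⟩).2 (e ⟨u, huW₀⟩).2
  -- normalize the isomorphism so that it fixes `z`
  obtain ⟨w₀, hew₀⟩ : ∃ w₀ : W₀, e w₀ = ⟨z, hzW⟩ := ⟨e.symm ⟨z, hzW⟩, e.apply_symm_apply _⟩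
  have hw₀1 : (w₀ : Ω) ≠ 1 := by
    intro h
    have h1 : w₀ = 1 := Subtype.ext h
    rw [h1, map_one] at hew₀
    exact hz1 (congrArg Subtype.val hew₀).symm
  obtain ⟨δ, hδ, hδz⟩ : ∃ δ : MulAut W₀, δ ∈ F.autGroup W₀ ∧ δ ⟨z, hzW₀⟩ = w₀ := by
    rcases hfour w₀ w₀.2 with h | h | h | h
    · exact absurd h hw₀1
    · exact ⟨1, Subgroup.one_mem _, Subtype.ext h.symm⟩
    · exact ⟨γ₀, hγ₀mem, by rw [hγ₀z]; exact Subtype.ext h.symm⟩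
    · refine ⟨γ₀ * γ₀, Subgroup.mul_mem _ hγ₀mem hγ₀mem, ?_⟩
      rw [MulAut.mul_apply, hγ₀z, hγ₀u]
      exact Subtype.ext h.symm
  obtain ⟨e', he'def⟩ : ∃ e' : W₀ ≃* W, e' = δ.trans e := ⟨_, rfl⟩
  have he'F : Cfsg.Agent.Lib.helper88.IsoEquiv F e' := by
    rw [he'def]
    exact ((Cfsg.Agent.Lib.helper88.mem_autGroup_iff F hW₀S δ).mp hδ).trans he
  have he'z : e' ⟨z, hzW₀⟩ = ⟨z, hzW⟩ := by
    rw [he'def]
    show e (δ ⟨z, hzW₀⟩) = _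
    rw [hδz]
    exact hew₀
  -- the involution `v`
  obtain ⟨v, hv⟩ : ∃ v : Ω, v = ((e' ⟨u, huW₀⟩ : W) : Ω) := ⟨_, rfl⟩
  have hvW : v ∈ W := by rw [hv]; exact (e' ⟨u, huW₀⟩).2
  have he'u : e' ⟨u, huW₀⟩ = ⟨v, hvW⟩ := Subtype.ext hv.symm
  have hvS : v ∈ S := hWS hvW
  have hvz : v ≠ z := by
    intro h
    have h1 : e' ⟨u, huW₀⟩ = e' ⟨z, hzW₀⟩ := by
      rw [he'z, he'u]
      exact Subtype.ext h
    have h2 := e'.injective h1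
    exact huz (congrArg Subtype.val h2)
  have hvv : v * v = 1 := by
    have h1 : (⟨u, huW₀⟩ : W₀) * ⟨u, huW₀⟩ = 1 := Subtype.ext huu
    have h2 := congrArg e' h1
    rw [map_mul, map_one, he'u] at h2
    exact congrArg Subtype.val h2
  have hv1 : v ≠ 1 := by
    intro h
    have h1 : e' ⟨u, huW₀⟩ = 1 := by
      rw [he'u]
      exact Subtype.ext h
    have h2 : (⟨u, huW₀⟩ : W₀) = 1 := by
      apply e'.injective
      rw [h1, map_one]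
    exact hu1 (congrArg Subtype.val h2)
  have hvo : orderOf v = 2 := orderOf_eq_prime (by rw [pow_two]; exact hvv) hv1
  -- the transported automorphism `γ'` of `W`
  obtain ⟨γ', hγ'def⟩ : ∃ γ' : MulAut W, γ' = MulAut.congr e' γ₀ := ⟨_, rfl⟩
  have hγ'mem : γ' ∈ F.autGroup W := by
    rw [hγ'def]
    exact Cfsg.Agent.Lib.helper88.IsoEquiv.congr_mem he'F hγ₀mem
  have hγ'app : ∀ x : W₀, γ' (e' x) = e' (γ₀ x) := by
    intro x
    rw [hγ'def]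
    show e' (γ₀ (e'.symm (e' x))) = _
    rw [MulEquiv.symm_apply_apply]
  have hγ'z : γ' ⟨z, hzW⟩ = ⟨v, hvW⟩ := by
    rw [← he'z, hγ'app, hγ₀z, he'u]
  have hγ'v : ((γ' ⟨v, hvW⟩ : W) : Ω) = z * v := by
    rw [← he'u, hγ'app, hγ₀u]
    have h3 : (⟨z * u, W₀.mul_mem hzW₀ huW₀⟩ : W₀) = ⟨z, hzW₀⟩ * ⟨u, huW₀⟩ := rfl
    rw [h3, map_mul, he'z, he'u]
    rfl
  -- elements commuting with `z` and `v` centralize `W`
  have hWelt : ∀ y ∈ W, ∀ x : Ω, x * z = z * x → x * v = v * x → x * y = y * x := by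
    intro y hy x hxz hxv
    obtain ⟨w, hw⟩ := e'.surjective ⟨y, hy⟩
    have hy' : y = ((e' w : W) : Ω) := by rw [hw]
    rcases hfour w w.2 with h | h | h | h
    · have h1 : w = 1 := Subtype.ext h
      rw [hy', h1, map_one]
      simp
    · have h1 : w = ⟨z, hzW₀⟩ := Subtype.ext h
      rw [hy', h1, he'z]
      exact hxz
    · have h1 : w = ⟨u, huW₀⟩ := Subtype.ext h
      rw [hy', h1, he'u]
      exact hxv
    · have h1 : w = ⟨z, hzW₀⟩ * ⟨u, huW₀⟩ := Subtype.ext h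
      rw [hy', h1, map_mul, he'z, he'u]
      show x * (z * v) = z * v * x
      rw [← mul_assoc, hxz, mul_assoc, hxv, mul_assoc]
  -- `T = C_S(W) = C_S(v)`
  obtain ⟨T, hT⟩ : ∃ T : Subgroup Ω, T = S ⊓ Subgroup.centralizer (W : Set Ω) := ⟨_, rfl⟩
  have hTiff : ∀ x : Ω, x ∈ T ↔ x ∈ S ∧ x * v = v * x := by
    intro x
    rw [hT, Subgroup.mem_inf, Subgroup.mem_centralizer_iff]
    constructor
    · rintro ⟨hxS, hx⟩
      exact ⟨hxS, (hx v hvW).symm⟩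
    · rintro ⟨hxS, hxv⟩
      exact ⟨hxS, fun y hy => (hWelt y hy x (hzc x hxS) hxv).symm⟩
  have hzT : z ∈ T := (hTiff z).mpr ⟨hzS, (hzc v hvS).symm⟩
  have hvT : v ∈ T := (hTiff v).mpr ⟨hvS, rfl⟩
  -- extension of `γ'` to `T`
  obtain ⟨-, hWrec⟩ :=
    Cfsg.Agent.Lib.helper88.fullyAutomized_receptive_of_fullyNormalized hS F hF hWfn
  have hχ : W.subtype.comp γ'.toMonoidHom ∈ F.Hom W :=
    (Cfsg.Agent.Lib.helper88.mem_autGroup_iff' F hWS γ').mp hγ'mem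
  have hχR : (W.subtype.comp γ'.toMonoidHom).range = W := by
    ext y
    constructor
    · rintro ⟨x, rfl⟩
      exact (γ' x).2
    · intro hy
      refine ⟨γ'⁻¹ ⟨y, hy⟩, ?_⟩
      show ((γ' (γ'⁻¹ ⟨y, hy⟩) : W) : Ω) = y
      rw [MulAut.apply_inv_self]
  have hN : ∀ g ∈ T, g ∈ S ∧ g ∈ Subgroup.normalizer (W : Set Ω) ∧
      ∃ h ∈ S, ∀ (x : W) (hx : g * (x : Ω) * g⁻¹ ∈ W),
        (W.subtype.comp γ'.toMonoidHom) ⟨g * x * g⁻¹, hx⟩ =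
          h * (W.subtype.comp γ'.toMonoidHom) x * h⁻¹ := by
    intro g hg
    rw [hT, Subgroup.mem_inf, Subgroup.mem_centralizer_iff] at hg
    obtain ⟨hgS, hgW⟩ := hg
    have hconj : ∀ y ∈ W, g * y * g⁻¹ = y := by
      intro y hy
      rw [← hgW y hy, mul_assoc, mul_inv_cancel, mul_one]
    refine ⟨hgS, ?_, 1, S.one_mem, ?_⟩
    · rw [Subgroup.mem_normalizer_iff]
      intro y
      constructor
      · intro hy
        rw [hconj y hy]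
        exact hy
      · intro hy
        have h1 := hconj _ hy
        have h2 : g * y * g⁻¹ = y := by
          calc g * y * g⁻¹ = g⁻¹ * (g * (g * y * g⁻¹) * g⁻¹) * g := by group
            _ = g⁻¹ * (g * y * g⁻¹) * g := by rw [h1]
            _ = y := by group
        rw [← h2]
        exact hy
    · intro x hx
      have h1 : (⟨g * (x : Ω) * g⁻¹, hx⟩ : W) = x := Subtype.ext (hconj x x.2)
      rw [h1]
      simp
  obtain ⟨ψT, hψT, hψTW⟩ :=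
    Cfsg.Agent.Lib.helper89.exists_extension F hWrec hχ hχR T hN
  have hψz : ψT ⟨z, hzT⟩ = v := by
    rw [hψTW z hzW hzT]
    show ((γ' ⟨z, hzW⟩ : W) : Ω) = v
    rw [hγ'z]
  have hψv : ψT ⟨v, hvT⟩ = z * v := by
    rw [hψTW v hvW hvT]
    exact hγ'v
  have hψTT : ∀ x : T, ψT x ∈ T := by
    intro x
    rw [hTiff]
    refine ⟨(F.le_of_mem hψT).2 x, ?_⟩
    have h1 : x * (⟨z, hzT⟩ : T) = ⟨z, hzT⟩ * x :=
      Subtype.ext (hzc x ((hTiff x).mp x.2).1)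
    have h2 := congrArg ψT h1
    rw [map_mul, map_mul, hψz] at h2
    exact h2
  obtain ⟨φ, hφ⟩ := Cfsg.Agent.Lib.helper89.exists_aut_of_mem F hψT hψTT
  exact ⟨v, T, hvS, hvo, hvz, hTiff, hzT, hvT, φ, by rw [hφ]; exact hψz, by rw [hφ]; exact hψv⟩

/-- PIECE F4 under the skeleton's name (namespace `Cfsg.Agent.Lib.helper26.FS13`). -/
theorem transport_four [Finite S] (hS : IsPGroup 2 S) (F : FusionSystem S)
    (hF : F.IsSaturated 2) (h2 : Cfsg.PRankLE 2 2 ↥S) (z : Ω) (hzS : z ∈ S)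
    (hz : orderOf z = 2) (hzc : ∀ s ∈ S, s * z = z * s) (R : Subgroup Ω) (hRS : R ≤ S)
    (hzR : z ∈ R) (u : Ω) (huR : u ∈ R) (hu : orderOf u = 2) (huz : u ≠ z) (γ : MulAut R)
    (hγ : γ ∈ F.autGroup R) (hγz : ((γ ⟨z, hzR⟩ : R) : Ω) = u)
    (hγu : ((γ ⟨u, huR⟩ : R) : Ω) = z * u) :
    ∃ (v : Ω) (T : Subgroup Ω), v ∈ S ∧ orderOf v = 2 ∧ v ≠ z ∧
      (∀ x : Ω, x ∈ T ↔ x ∈ S ∧ x * v = v * x) ∧
      ∃ (hzT : z ∈ T) (hvT : v ∈ T) (φ : MulAut T),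
        ((φ ⟨z, hzT⟩ : T) : Ω) = v ∧ ((φ ⟨v, hvT⟩ : T) : Ω) = z * v :=
  helper26_transport_four hS F hF h2 z hzS hz hzc R hRS hzR u huR hu huz γ hγ hγz hγu

end Cfsg.Agent.Lib.helper26.FS13
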