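import Mathlib
import Cfsg.Prelude.Def_LieTypeChar
import Cfsg.Agent.Lib.helper44.LODefs
import Cfsg.Agent.Lib.helper6.LOARITH
import Cfsg.Agent.Lib.helper41.TwOrderD4

/-!
# S2363 piece TD4 (racer copy by helper26, prefixed name)

`|3D4(q)| = q^12 (q^2-1)(q^6-1)(q^8+q^4+1)` satisfies the two order bounds.
-/

set_option autoImplicit false

namespace Cfsg.Agent.Lib.helper44.LO

open Cfsg

theorem helper26_td4_ineq (q : ℕ) (hq : 2 ≤ q) :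
    (q ^ 2 - 1) * (q ^ 6 - 1) * (q ^ 8 + q ^ 4 + 1) < 1 * q ^ 16 := by
  obtain ⟨y, hy⟩ : ∃ y, q ^ 2 = y + 1 :=
    ⟨q ^ 2 - 1, by have : 1 ≤ q ^ 2 := Nat.one_le_pow _ _ (by omega); omega⟩
  have h6 : q ^ 6 = (y + 1) ^ 3 := by rw [← hy]; ring
  have h8 : q ^ 8 = (y + 1) ^ 4 := by rw [← hy]; ring
  have h4 : q ^ 4 = (y + 1) ^ 2 := by rw [← hy]; ring
  have h16 : q ^ 16 = (y + 1) ^ 8 := by rw [← hy]; ring
  rw [hy, h6, h8, h4, h16, one_mul, Nat.add_sub_cancel]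
  have hA : y * ((y + 1) ^ 4 + (y + 1) ^ 2 + 1) < (y + 1) ^ 5 := by
    have h : y * ((y + 1) ^ 4 + (y + 1) ^ 2 + 1) +
        (y ^ 4 + 3 * y ^ 3 + 4 * y ^ 2 + 2 * y + 1) = (y + 1) ^ 5 := by ring
    calc y * ((y + 1) ^ 4 + (y + 1) ^ 2 + 1)
        < y * ((y + 1) ^ 4 + (y + 1) ^ 2 + 1) +
          (y ^ 4 + 3 * y ^ 3 + 4 * y ^ 2 + 2 * y + 1) := Nat.lt_add_of_pos_right (by positivity)
      _ = (y + 1) ^ 5 := h
  have hB : (y + 1) ^ 3 - 1 < (y + 1) ^ 3 := Nat.sub_lt (by positivity) one_pos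
  calc y * ((y + 1) ^ 3 - 1) * ((y + 1) ^ 4 + (y + 1) ^ 2 + 1)
      = (y * ((y + 1) ^ 4 + (y + 1) ^ 2 + 1)) * ((y + 1) ^ 3 - 1) := by
        rw [mul_assoc, mul_comm ((y + 1) ^ 3 - 1), ← mul_assoc]
    _ < (y + 1) ^ 5 * (y + 1) ^ 3 := Nat.mul_lt_mul'' hA hB
    _ = (y + 1) ^ 8 := by ring

theorem helper26_not_dvd_pow_sub_one {p q : ℕ} (hp : p.Prime) (hpq : p ∣ q) (hq : 1 ≤ q) (k : ℕ)
    (hk : k ≠ 0) : ¬ p ∣ q ^ k - 1 := by
  intro h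
  have h1 : p ∣ q ^ k := dvd_pow hpq hk
  have h2 : p ∣ q ^ k - (q ^ k - 1) := Nat.dvd_sub h1 h
  have h3 : q ^ k - (q ^ k - 1) = 1 := by
    have : 1 ≤ q ^ k := Nat.one_le_pow _ _ hq
    omega
  rw [h3] at h2
  exact hp.one_lt.ne' (Nat.dvd_one.mp h2)

theorem helper26_lo_td4 {K : Type} [Field K] [Fintype K] (p : ℕ) (hp : p.Prime) [CharP K p] (q : ℕ) (hq : IsPrimePow q)
    (hK : Fintype.card K = q ^ 3) : LOGood p (Nat.card ↥(Cfsg.Lie.twistedD4 K q)) := by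
  obtain ⟨n, hpn, hcard⟩ := FiniteField.card K p
  have hq3 : q ^ 3 = p ^ (n : ℕ) := by rw [← hK, hcard]
  have hqd : q ∣ p ^ (n : ℕ) := by rw [← hq3]; exact dvd_pow_self q (by norm_num)
  obtain ⟨j, -, rfl⟩ := (Nat.dvd_prime_pow hp).1 hqd
  have hq2 : 2 ≤ p ^ j := hq.two_le
  have hj : 1 ≤ j := by
    rcases Nat.eq_zero_or_pos j with h | h
    · subst h; simp at hq2
    · exact h
  have hpq : p ∣ p ^ j := dvd_pow_self p (by omega)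
  have hcardG := Cfsg.Agent.Lib.helper41.card_twistedD4 hq hK
  refine lo_good hp j hj 1 _ 12
    (((p ^ j) ^ 2 - 1) * ((p ^ j) ^ 6 - 1) * ((p ^ j) ^ 8 + (p ^ j) ^ 4 + 1)) 16 ?_ ?_ ?_ ?_
    (by norm_num) (by norm_num)
  · rw [hcardG, one_mul, mul_assoc, mul_assoc, mul_assoc]
  · exact fun h => hp.one_lt.ne' (Nat.dvd_one.mp h)
  · intro h
    rcases (Nat.Prime.dvd_mul hp).1 h with h | h
    · rcases (Nat.Prime.dvd_mul hp).1 h with h | h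
      · exact helper26_not_dvd_pow_sub_one hp hpq (by omega) 2 (by norm_num) h
      · exact helper26_not_dvd_pow_sub_one hp hpq (by omega) 6 (by norm_num) h
    · have h1 : p ∣ (p ^ j) ^ 8 + (p ^ j) ^ 4 :=
        dvd_add (dvd_pow hpq (by norm_num)) (dvd_pow hpq (by norm_num))
      exact hp.one_lt.ne' (Nat.dvd_one.mp ((Nat.dvd_add_right h1).1 h))
  · exact helper26_td4_ineq (p ^ j) hq2

end Cfsg.Agent.Lib.helper44.LO
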