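import Mathlib
import Cfsg.Agent.Lib.helper55.P2Defs
import Cfsg.Agent.Lib.helper27.BGKPrime
import Cfsg.Agent.Lib.helper60.BGCentU
import Cfsg.Agent.Lib.helper87.BG1425Main
import Cfsg.Agent.Lib.helper12.FrobFixB
import Cfsg.Agent.Lib.helper69.BGKappaA
import Cfsg.Agent.Lib.helper65.Fitting
import Cfsg.Agent.Lib.helper8.BGTen4
import Cfsg.Agent.S1420
import Cfsg.Agent.S1425
import Cfsg.Agent.S1417
import Cfsg.Agent.S1350

/-!
# S1435, piece P5 (`rank3`, "Lemma T")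

For a sigma-decomposition `(M, K, U)` with `K` of prime order `p` and `U ≠ 1` (the context `Basic`), a
prime `s ∈ σ(M)` and a subgroup `W` of order `s`: the centralizer of `W` has `s`-rank at least `3`.
Proof: `W^g ≤ M_σ` (S1425); `T = O_s(M_σ)`, `Z₁ = Ω₁(Z(T))` is normalized by `M` and centralizes `W^g`;
the Frobenius group `U₀ K` (`U₀ = Ω₁(O_r(U))`) acts on `Z₁` with `C_{Z₁}(U₀) = 1`, so
`|Z₁| = |C_{Z₁}(K)|^p ≥ s^3`.
-/

set_option autoImplicit false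

namespace Cfsg.Agent.Lib.helper55.P2

open Cfsg Subgroup
open scoped commutatorElement

variable {G : Type*} [Group G]

/-- `C_{M_σ}(U₀) = 1` for `U₀ = Ω₁(O_r(U))`. -/
theorem helper26_p5_cent [Finite G] (hG : IsMinSimpleOddOrder G) {M K U : Subgroup G}
    (hM : IsCoatom M) (hKU : IsSigmaDecomposition M K U) (r : ℕ) (hr : r.Prime)
    (hrσ : r ∉ sigma M) (hrκ : r ∉ kappa M) (U₀ : Subgroup G)
    (hU₀ : ∀ u : G, u ∈ U₀ ↔ u ∈ U ∧ u ^ r = 1) (hrU₀ : r ∣ Nat.card U₀) :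
    sigmaCore M ⊓ centralizer (U₀ : Set G) = ⊥ := by
  have : Fact r.Prime := ⟨hr⟩
  by_contra hne
  have hU₀U : U₀ ≤ U := fun u hu => ((hU₀ u).mp hu).1
  have hτ2 : r ∈ tau2 M :=
    Cfsg.Agent.Lib.helper60.BGCentU.mem_tau2_of_dvd hG M hM K U hKU U₀ hU₀U hne r hr hrU₀
  obtain ⟨-, -, hr2, hr1⟩ := id hτ2
  obtain ⟨B, hBM, hBe, hBc⟩ := Cfsg.Agent.Lib.helper8.bg_exists_elemAb_sq M r hr2 hr1
  have h17 := (Cfsg.Agent.S1417.result hG M hM r hτ2 B ⟨hBM, hBe, hBc⟩).2.2.2.1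
  have hBp : IsPGroup r B := IsPGroup.of_card hBc
  have hUh := Cfsg.Agent.Lib.helper69.bgk_decomp_hall (Cfsg.Agent.S1350.result hG M hM).1 hKU
  obtain ⟨g, hgM, hg⟩ := Cfsg.Agent.Lib.helper69.bgk_conj_into_hall hUh (p := r)
    ⟨hr, hrκ, hrσ⟩ hBM hBp
  have hMσn : ∀ m ∈ M, ∀ y ∈ sigmaCore M, m * y * m⁻¹ ∈ sigmaCore M :=
    Subgroup.le_normalizer_iff.mp (Cfsg.Agent.Lib.helper13.le_normalizer_sigmaCore M)
  apply hne
  rw [eq_bot_iff]
  intro y hy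
  rw [Subgroup.mem_bot]
  obtain ⟨hyσ, hyc⟩ := Subgroup.mem_inf.mp hy
  have hmem : g⁻¹ * y * g ∈ sigmaCore M ⊓ centralizer (B : Set G) := by
    refine Subgroup.mem_inf.mpr ⟨?_, ?_⟩
    · have h1 := hMσn g⁻¹ (M.inv_mem hgM) y hyσ
      rwa [inv_inv] at h1
    · rw [Subgroup.mem_centralizer_iff]
      intro b hb
      have hbA : g * b * g⁻¹ ∈ U₀ := by
        rw [hU₀]
        exact ⟨hg b hb, by rw [conj_pow, hBe.2 b hb, mul_one, mul_inv_cancel]⟩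
      have hc := Subgroup.mem_centralizer_iff.mp hyc _ hbA
      calc b * (g⁻¹ * y * g) = g⁻¹ * ((g * b * g⁻¹) * y) * g := by group
        _ = g⁻¹ * (y * (g * b * g⁻¹)) * g := by rw [hc]
        _ = g⁻¹ * y * g * b := by group
  rw [h17, Subgroup.mem_bot] at hmem
  have h2 : y = g * (g⁻¹ * y * g) * g⁻¹ := by group
  rw [h2, hmem]; group

/-- (P5) Lemma T. -/
theorem helper26_rank3 [Finite G] (hG : IsMinSimpleOddOrder G) {M K U Ms : Subgroup G}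
    (b : Basic M K U Ms) (s : ℕ) (hs : s.Prime) (hsσ : s ∈ sigma M) (W : Subgroup G)
    (hW : Nat.card W = s) (H : Subgroup G) (hWH : centralizer (W : Set G) ≤ H)
    (hrk : PRankLE s 2 H) : False := by
  have : Fact s.Prime := ⟨hs⟩
  obtain ⟨hodd, -⟩ := id hG
  have hM := b.hM
  have hKU := b.hKU
  have hKp := b.kprime
  have hMσn : ∀ m ∈ M, ∀ y ∈ sigmaCore M, m * y * m⁻¹ ∈ sigmaCore M :=
    Subgroup.le_normalizer_iff.mp (Cfsg.Agent.Lib.helper13.le_normalizer_sigmaCore M)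
  have hW1 : W ≠ ⊥ := by
    intro h
    rw [h, Subgroup.card_bot] at hW
    exact hs.one_lt.ne hW
  have hWprimes : ∀ p : ℕ, p.Prime → p ∣ Nat.card W → p ∈ sigma M := by
    intro p hp hpd
    rw [hW] at hpd
    rw [(Nat.prime_dvd_prime_iff_eq hp hs).mp hpd]
    exact hsσ
  obtain ⟨g, hg⟩ := Cfsg.Agent.S1425.result hG M hM W hW1 hWprimes
  have hWp : IsPGroup s W := IsPGroup.of_card (n := 1) (by rw [hW, pow_one])
  -- the Sylow `s`-subgroup `T` of `M_σ`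
  have hnil := b.nil
  obtain ⟨P⟩ : Nonempty (Sylow s (sigmaCore M)) := inferInstance
  have hPn : (P : Subgroup (sigmaCore M)).Normal :=
    Sylow.normal_of_normalizerCondition Group.normalizerCondition_of_isNilpotent P
  obtain ⟨T, hT⟩ : ∃ T : Subgroup G, T = (P : Subgroup (sigmaCore M)).map (sigmaCore M).subtype :=
    ⟨_, rfl⟩
  have hTσ : T ≤ sigmaCore M := by rw [hT]; exact map_subtype_le _
  have hTp : IsPGroup s T := by rw [hT]; exact P.isPGroup'.map _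
  have hTmax : ∀ Q : Subgroup G, IsPGroup s Q → Q ≤ sigmaCore M → Q ≤ T := by
    intro Q hQp hQσ
    have hQ' : IsPGroup s (Q.subgroupOf (sigmaCore M)) := hQp.comap_subtype
    obtain ⟨P', hP'⟩ := hQ'.exists_le_sylow
    obtain ⟨x, hx⟩ := MulAction.exists_smul_eq (sigmaCore M) P P'
    have hPP' : P' = P := by
      rw [← hx]
      exact Sylow.smul_eq_of_normal
    intro q hq
    rw [hT]
    refine ⟨⟨q, hQσ hq⟩, ?_, rfl⟩
    rw [← hPP']
    exact hP' (mem_subgroupOf.mpr hq)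
  have hMT : ∀ m ∈ M, ∀ t ∈ T, m * t * m⁻¹ ∈ T := by
    intro m hm t ht
    have h1 : T.map (MulAut.conj m).toMonoidHom ≤ T := by
      apply hTmax _ (hTp.map _)
      rintro _ ⟨t', ht', rfl⟩
      exact hMσn m hm t' (hTσ ht')
    exact h1 ⟨t, ht, rfl⟩
  have hWT : W.map (MulAut.conj g).toMonoidHom ≤ T := hTmax _ (hWp.map _) hg
  have hT1 : T ≠ ⊥ := by
    obtain ⟨⟨w, hw⟩, hw1⟩ := Subgroup.ne_bot_iff_exists_ne_one.mp hW1
    have hw1' : w ≠ 1 := fun h0 => hw1 (Subtype.ext h0)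
    intro h0
    have h1 : g * w * g⁻¹ ∈ T := hWT ⟨w, hw, rfl⟩
    rw [h0, Subgroup.mem_bot] at h1
    apply hw1'
    have h2 : w = g⁻¹ * (g * w * g⁻¹) * g := by group
    rw [h2, h1]; group
  -- `Z(T)` and `Z₁ = Ω₁(Z(T))`
  obtain ⟨ZT, hZT⟩ : ∃ ZT : Subgroup G, ZT = T ⊓ centralizer (T : Set G) := ⟨_, rfl⟩
  have hZTmem : ∀ z : G, z ∈ ZT ↔ z ∈ T ∧ ∀ t ∈ T, t * z = z * t := by
    intro z
    rw [hZT, mem_inf, mem_centralizer_iff]
    exact Iff.rfl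
  have hZTc : IsMulCommutative ZT :=
    ⟨⟨fun x y => Subtype.ext (((hZTmem y.1).mp y.2).2 x.1 ((hZTmem x.1).mp x.2).1)⟩⟩
  have hZTT : ZT ≤ T := fun z hz => ((hZTmem z).mp hz).1
  have hZT1 : ZT ≠ ⊥ := by
    have hnt : Nontrivial T := (Subgroup.nontrivial_iff_ne_bot T).mpr hT1
    have hcn : Nontrivial (Subgroup.center T) := IsPGroup.center_nontrivial hTp
    obtain ⟨z, hz1⟩ := exists_ne (1 : Subgroup.center T)
    intro h0
    have hmem : ((z : T) : G) ∈ ZT := by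
      rw [hZTmem]
      refine ⟨(z : T).2, ?_⟩
      intro t ht
      have h1 := Subgroup.mem_center_iff.mp z.2 ⟨t, ht⟩
      exact congrArg Subtype.val h1
    rw [h0, Subgroup.mem_bot] at hmem
    exact hz1 (Subtype.ext (Subtype.ext hmem))
  have hsZT : s ∣ Nat.card ZT := by
    obtain ⟨n, hn⟩ := IsPGroup.iff_card.mp (hTp.to_le hZTT)
    rw [hn]
    rcases Nat.eq_zero_or_pos n with h0 | h0
    · exfalso
      rw [h0, pow_zero] at hn
      exact hZT1 (Subgroup.card_eq_one.mp hn)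
    · exact dvd_pow_self s h0.ne'
  obtain ⟨Z₁, hZ₁⟩ : ∃ Z₁ : Subgroup G, Z₁ = Cfsg.Agent.Lib.helper27.BGKP.omegaSub ZT hZTc s :=
    ⟨_, rfl⟩
  have hZ₁mem : ∀ u : G, u ∈ Z₁ ↔ u ∈ ZT ∧ u ^ s = 1 := fun u => by rw [hZ₁]; exact Iff.rfl
  have hZ₁ZT : Z₁ ≤ ZT := fun a ha => ((hZ₁mem a).mp ha).1
  have hZ₁1 : Z₁ ≠ ⊥ := by
    obtain ⟨u, hu⟩ := exists_prime_orderOf_dvd_card' s hsZT
    intro h0
    have hmem : (u : G) ∈ Z₁ := by
      rw [hZ₁mem]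
      refine ⟨u.2, ?_⟩
      have h1 := pow_orderOf_eq_one u
      rw [hu] at h1
      have h2 := congrArg Subtype.val h1
      rwa [Subgroup.coe_pow] at h2
    rw [h0, Subgroup.mem_bot] at hmem
    have h3 : u = 1 := Subtype.ext hmem
    rw [h3, orderOf_one] at hu
    exact hs.one_lt.ne hu
  have hZ₁p : IsPGroup s Z₁ := hTp.to_le (hZ₁ZT.trans hZTT)
  have hZ₁c : ∀ x ∈ Z₁, ∀ y ∈ Z₁, x * y = y * x := by
    intro x hx y hy
    exact ((hZTmem y).mp (hZ₁ZT hy)).2 x (hZTT (hZ₁ZT hx))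
  have hMZ₁ : ∀ m ∈ M, ∀ u ∈ Z₁, m * u * m⁻¹ ∈ Z₁ := by
    intro m hm u hu
    obtain ⟨huZ, hus⟩ := (hZ₁mem u).mp hu
    obtain ⟨huT, huc⟩ := (hZTmem u).mp huZ
    rw [hZ₁mem, hZTmem]
    refine ⟨⟨hMT m hm u huT, ?_⟩, ?_⟩
    · intro t ht
      have h1 : m⁻¹ * t * m ∈ T := by
        have h2 := hMT m⁻¹ (M.inv_mem hm) t ht
        rwa [inv_inv] at h2
      have h3 := huc _ h1
      calc t * (m * u * m⁻¹) = m * ((m⁻¹ * t * m) * u) * m⁻¹ := by group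
        _ = m * (u * (m⁻¹ * t * m)) * m⁻¹ := by rw [h3]
        _ = m * u * m⁻¹ * t := by group
    · rw [conj_pow, hus, mul_one, mul_inv_cancel]
  -- `|Z₁| ≤ s²`
  have hZ₁le : Nat.card Z₁ ≤ s ^ 2 := by
    have hle : Z₁.map (MulAut.conj g⁻¹).toMonoidHom ≤ H := by
      refine le_trans ?_ hWH
      rintro _ ⟨u, hu, rfl⟩
      rw [mem_centralizer_iff]
      intro w hw
      have h1 : g * w * g⁻¹ ∈ T := hWT ⟨w, hw, rfl⟩
      have h2 := ((hZTmem u).mp (hZ₁ZT hu)).2 _ h1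
      show w * (g⁻¹ * u * g⁻¹⁻¹) = g⁻¹ * u * g⁻¹⁻¹ * w
      calc w * (g⁻¹ * u * g⁻¹⁻¹) = g⁻¹ * ((g * w * g⁻¹) * u) * g := by group
        _ = g⁻¹ * (u * (g * w * g⁻¹)) * g := by rw [h2]
        _ = g⁻¹ * u * g⁻¹⁻¹ * w := by group
    have hc1 : IsMulCommutative ((Z₁.map (MulAut.conj g⁻¹).toMonoidHom).subgroupOf H) := by
      refine ⟨⟨fun x y => ?_⟩⟩
      apply Subtype.ext
      apply Subtype.ext
      obtain ⟨u, hu, hux⟩ := mem_subgroupOf.mp x.2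
      obtain ⟨v, hv, hvy⟩ := mem_subgroupOf.mp y.2
      show ((x : H) : G) * ((y : H) : G) = ((y : H) : G) * ((x : H) : G)
      rw [← hux, ← hvy]
      show g⁻¹ * u * g⁻¹⁻¹ * (g⁻¹ * v * g⁻¹⁻¹) = g⁻¹ * v * g⁻¹⁻¹ * (g⁻¹ * u * g⁻¹⁻¹)
      have h1 := hZ₁c u hu v hv
      calc g⁻¹ * u * g⁻¹⁻¹ * (g⁻¹ * v * g⁻¹⁻¹) = g⁻¹ * (u * v) * g := by group
        _ = g⁻¹ * (v * u) * g := by rw [h1]
        _ = g⁻¹ * v * g⁻¹⁻¹ * (g⁻¹ * u * g⁻¹⁻¹) := by group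
    have he1 : ∀ a ∈ (Z₁.map (MulAut.conj g⁻¹).toMonoidHom).subgroupOf H, a ^ s = 1 := by
      intro a ha
      apply Subtype.ext
      rw [Subgroup.coe_pow]
      obtain ⟨u, hu, hua⟩ := mem_subgroupOf.mp ha
      rw [← hua]
      show (g⁻¹ * u * g⁻¹⁻¹) ^ s = 1
      rw [conj_pow, ((hZ₁mem u).mp hu).2, mul_one, mul_inv_cancel]
    have h1 := hrk _ hc1 he1
    have h2 : Nat.card ((Z₁.map (MulAut.conj g⁻¹).toMonoidHom).subgroupOf H) = Nat.card Z₁ := by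
      rw [Nat.card_congr (Subgroup.subgroupOfEquivOfLe hle).toEquiv]
      exact Subgroup.card_map_of_injective (MulAut.conj g⁻¹).injective
    rw [h2] at h1
    exact h1
  -- the subgroup `U₀`
  have hUc : IsMulCommutative U := ⟨⟨fun x y => Subtype.ext (b.uab x x.2 y y.2)⟩⟩
  have hUcard : Nat.card U ≠ 1 := fun h => b.u1 (Subgroup.card_eq_one.mp h)
  obtain ⟨r, hr, hrU⟩ := Nat.exists_prime_and_dvd hUcard
  have : Fact r.Prime := ⟨hr⟩
  obtain ⟨hrσ, hrκ⟩ := b.uprime r hr hrU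
  obtain ⟨U₀, hU₀⟩ : ∃ U₀ : Subgroup G, U₀ = Cfsg.Agent.Lib.helper27.BGKP.omegaSub U hUc r :=
    ⟨_, rfl⟩
  have hU₀mem : ∀ u : G, u ∈ U₀ ↔ u ∈ U ∧ u ^ r = 1 := fun u => by rw [hU₀]; exact Iff.rfl
  have hU₀U : U₀ ≤ U := fun a ha => ((hU₀mem a).mp ha).1
  have hU₀1 : U₀ ≠ ⊥ := by
    obtain ⟨u, hu⟩ := exists_prime_orderOf_dvd_card' r hrU
    intro h0
    have hmem : (u : G) ∈ U₀ := by
      rw [hU₀mem]
      refine ⟨u.2, ?_⟩
      have h1 := pow_orderOf_eq_one u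
      rw [hu] at h1
      have h2 := congrArg Subtype.val h1
      rwa [Subgroup.coe_pow] at h2
    rw [h0, Subgroup.mem_bot] at hmem
    have h3 : u = 1 := Subtype.ext hmem
    rw [h3, orderOf_one] at hu
    exact hr.one_lt.ne hu
  have hU₀p : IsPGroup r U₀ := by
    intro a
    refine ⟨1, Subtype.ext ?_⟩
    rw [pow_one, Subgroup.coe_pow]
    exact ((hU₀mem a).mp a.2).2
  obtain ⟨j, hj⟩ := IsPGroup.iff_card.mp hU₀p
  have hrU₀ : r ∣ Nat.card U₀ := by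
    rw [hj]
    rcases Nat.eq_zero_or_pos j with h0 | h0
    · exfalso
      rw [h0, pow_zero] at hj
      exact hU₀1 (Subgroup.card_eq_one.mp hj)
    · exact dvd_pow_self r h0.ne'
  have hKU₀ : K ≤ normalizer (U₀ : Set G) := by
    apply Subgroup.le_normalizer_iff.mpr
    intro k hk a ha
    rw [hU₀mem] at ha ⊢
    refine ⟨Subgroup.le_normalizer_iff.mp hKU.normal k hk a ha.1, ?_⟩
    rw [conj_pow, ha.2, mul_one, mul_inv_cancel]
  have hfpf : ∀ e ∈ K, e ≠ 1 → ∀ u ∈ U₀, e * u = u * e → u = 1 := by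
    intro e he he1 u hu hc
    have h1 : u ∈ U ⊓ centralizer ({e} : Set G) := by
      refine mem_inf.mpr ⟨hU₀U hu, ?_⟩
      rw [mem_centralizer_iff]
      intro y hy
      rw [Set.mem_singleton_iff] at hy
      rw [hy]; exact hc
    rw [b.ureg e he he1, mem_bot] at h1
    exact h1
  have hCU₀ : sigmaCore M ⊓ centralizer (U₀ : Set G) = ⊥ :=
    helper26_p5_cent hG hM hKU r hr hrσ hrκ U₀ hU₀mem hrU₀
  -- the fixed point formula
  have hK1 : K ≠ ⊥ := by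
    intro h
    rw [h, Subgroup.card_bot] at hKp
    exact Nat.not_prime_one hKp
  have hUM : U ≤ M := hKU.compl.1
  have hKM : K ≤ M := hKU.hall.1
  have hpκ : Nat.card K ∈ kappa M := hKU.hall.2.1 _ hKp dvd_rfl
  have hpσ : Nat.card K ∉ sigma M := hpκ.2.2.1
  have hsolv : Group.IsSolvable Z₁ :=
    Group.isSolvable_of_comm (fun x y => Subtype.ext (hZ₁c x x.2 y y.2))
  obtain ⟨n, hn⟩ := IsPGroup.iff_card.mp hZ₁p
  have hcop : Nat.Coprime (Nat.card Z₁) (Nat.card ↥(U₀ ⊔ K)) := by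
    by_contra hc
    obtain ⟨q, hq, hq1, hq2⟩ := Nat.Prime.not_coprime_iff_dvd.mp hc
    rw [hn] at hq1
    have hqs := (Nat.prime_dvd_prime_iff_eq hq hs).mp (hq.dvd_of_dvd_pow hq1)
    have h1 : Nat.card ↥(U₀ ⊔ K) ∣ Nat.card U₀ * Nat.card K := by
      have h0 := Cfsg.Agent.Lib.helper65.card_sup_dvd_mul hKU₀
      rwa [sup_comm, mul_comm] at h0
    rcases (Nat.Prime.dvd_mul hq).mp (hq2.trans h1) with h2 | h2
    · rw [hj] at h2
      have h3 := (Nat.prime_dvd_prime_iff_eq hq hr).mp (hq.dvd_of_dvd_pow h2)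
      exact hrσ (h3 ▸ hqs ▸ hsσ)
    · have h3 := (Nat.prime_dvd_prime_iff_eq hq hKp).mp h2
      exact hpσ (h3 ▸ hqs ▸ hsσ)
  have hff := Cfsg.Agent.Lib.helper12.ff_formula U₀ K Z₁ hK1
    (fun e he u hu => Subgroup.le_normalizer_iff.mp hKU₀ e he u hu) hfpf
    (fun x hx h hh => hMZ₁ x ((sup_le (hU₀U.trans hUM) hKM) hx) h hh) hsolv hcop
  have hZσ : Z₁ ≤ sigmaCore M := (hZ₁ZT.trans hZTT).trans hTσ
  have h1 : Z₁ ⊓ centralizer (U₀ : Set G) = ⊥ := by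
    rw [eq_bot_iff, ← hCU₀]
    exact inf_le_inf_right _ hZσ
  have h2 : Z₁ ⊓ centralizer ((U₀ ⊔ K : Subgroup G) : Set G) = ⊥ := by
    rw [eq_bot_iff, ← h1]
    exact inf_le_inf_left _ (centralizer_le (le_sup_left : U₀ ≤ U₀ ⊔ K))
  rw [h1, h2, Subgroup.card_bot, one_pow, one_mul, mul_one] at hff
  obtain ⟨m, hm⟩ := IsPGroup.iff_card.mp
    (hZ₁p.to_le (inf_le_left : Z₁ ⊓ centralizer (K : Set G) ≤ Z₁))
  rw [hn, hm, ← pow_mul] at hff
  have hnm : n = m * Nat.card K := Nat.pow_right_injective hs.two_le hff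
  have hn1 : n ≠ 0 := by
    intro h0
    rw [h0, pow_zero] at hn
    exact hZ₁1 (Subgroup.card_eq_one.mp hn)
  have hn2 : n ≤ 2 := by
    rw [hn] at hZ₁le
    exact (Nat.pow_le_pow_iff_right hs.one_lt).mp hZ₁le
  have hp3 : 3 ≤ Nat.card K := by
    have h2 : Nat.card K ≠ 2 := by
      intro h0
      have h3 : Nat.card K ∣ Nat.card G := Subgroup.card_subgroup_dvd_card K
      rw [h0] at h3
      exact (Nat.not_even_iff_odd.mpr hodd) (even_iff_two_dvd.mpr h3)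
    have h4 := hKp.two_le
    omega
  rcases Nat.eq_zero_or_pos m with h0 | h0
  · rw [h0, zero_mul] at hnm
    exact hn1 hnm
  · have h5 : 1 * Nat.card K ≤ m * Nat.card K := Nat.mul_le_mul_right _ h0
    omega

end Cfsg.Agent.Lib.helper55.P2
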