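import Mathlib
import Cfsg.Agent.Lib.helper68.HallPet
import Cfsg.Agent.Lib.helper68.RegularP
import Cfsg.Agent.Lib.helper74.RegularP
import Cfsg.Agent.Lib.helper65.PearlPow

/-!
# S5238, block G, steps (5) + (6): the power map shifts depth by exactly `p - 1`  (helper26)

`gam G i` is the `i`-th term of the lower central series (`gam G 1 = ⊤`), `com a b = a⁻¹ b⁻¹ a b`.
Given an element `x` of order dividing `p` acting uniserially, surjectivity of `g ↦ com x g`
from `gam G w` onto `gam G (w + 1)`, and `F3` (`m ∈ gam G i`, `i ≥ 2` implies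
`m ^ p ∈ gam G (i + p - 1)`), every `m` of depth exactly `i` (`2 ≤ i ≤ n - p`) has `m ^ p` of
depth exactly `i + p - 1`.  Base case: helper65's `pearl_pow`; step: Hall-Petrescu in
`closure {m, com m x}` (helper68).
-/

set_option autoImplicit false

namespace Cfsg.Agent.Lib.helper26

open Subgroup Cfsg.Agent.Lib.helper68 Cfsg.Agent.Lib.helper65.PearlPow
open scoped commutatorElement

variable {G : Type*} [Group G]

theorem helper26_f4_arith (p i : ℕ) (hp : 2 ≤ p) (hi : 2 ≤ i) : i + p ≤ p * i := by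
  have h1 := Nat.mul_le_mul_left p hi
  have h2 := Nat.mul_le_mul_right i hp
  omega

theorem helper26_mem_gam_one (x : G) : x ∈ gam G 1 := by
  show x ∈ (⊤ : Subgroup G).lowerCentralSeries 0
  rw [Subgroup.lowerCentralSeries_zero]
  exact Subgroup.mem_top x

/-- The lower central series of `closure {m, c}` for `m ∈ γ_i`, `c ∈ γ_{i+1}`. -/
theorem helper26_lcs_closure_pair_le {i : ℕ} {m c : G} (hm : m ∈ gam G i)
    (hc : c ∈ gam G (i + 1)) :
    ∀ j : ℕ, (Subgroup.closure ({m, c} : Set G)).lowerCentralSeries (j + 1) ≤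
      gam G ((j + 2) * i + 1) := by
  have hS : Subgroup.closure ({m, c} : Set G) ≤ gam G i := by
    rw [Subgroup.closure_le]
    intro y hy
    rcases hy with rfl | rfl
    · exact hm
    · exact gam_antitone (Nat.le_succ i) hc
  intro j
  induction j with
  | zero =>
    rw [Subgroup.lowerCentralSeries_succ, Subgroup.lowerCentralSeries_zero]
    apply Cfsg.Agent.Lib.helper74.commutator_closure_le
    · intro k _ e he
      exact (inferInstance : (gam G ((0 + 2) * i + 1)).Normal).conj_mem e he k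
    · intro s hs t ht
      have hmc : ⁅m, c⁆ ∈ gam G ((0 + 2) * i + 1) := by
        have h := gam_comm_le (H := G) i (i + 1) (Subgroup.commutator_mem_commutator hm hc)
        have e : i + (i + 1) = (0 + 2) * i + 1 := by ring
        rwa [e] at h
      rcases hs with rfl | rfl <;> rcases ht with rfl | rfl
      · rw [commutatorElement_self]; exact Subgroup.one_mem _
      · exact hmc
      · rw [← commutatorElement_inv]; exact Subgroup.inv_mem _ hmc
      · rw [commutatorElement_self]; exact Subgroup.one_mem _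
  | succ j ih =>
    rw [Subgroup.lowerCentralSeries_succ]
    refine le_trans (Subgroup.commutator_mono ih hS) ?_
    refine le_trans (gam_comm_le _ _) ?_
    apply gam_antitone
    exact le_of_eq (by ring)

/-- `(m c)^p ≡ m^p c^p` modulo `γ_{i+p+1}` for `m ∈ γ_i`, `c ∈ γ_{i+1}`, `i ≥ 2`, given `F3`. -/
theorem helper26_pow_mul_congr (p : ℕ) [hp : Fact p.Prime] (n : ℕ) (hnil : gam G n = ⊥)
    (hF3 : ∀ i, 2 ≤ i → ∀ m ∈ gam G i, m ^ p ∈ gam G (i + p - 1))
    {i : ℕ} (hi : 2 ≤ i) {m c : G} (hm : m ∈ gam G i) (hc : c ∈ gam G (i + 1)) :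
    ∃ z ∈ gam G (i + p + 1), (m * c) ^ p = m ^ p * c ^ p * z := by
  obtain ⟨S, hS⟩ : ∃ S : Subgroup G, S = Subgroup.closure ({m, c} : Set G) := ⟨_, rfl⟩
  have hmS : m ∈ S := hS ▸ Subgroup.subset_closure (by simp)
  have hcS : c ∈ S := hS ▸ Subgroup.subset_closure (by simp)
  have hp2 : 2 ≤ p := hp.out.two_le
  have hnil' : (⊤ : Subgroup G).lowerCentralSeries (n - 1) = ⊥ := hnil
  have hcS' := lcs_top_subtype_eq_bot S (n - 1) hnil'
  have hM : ∀ k, 2 ≤ k → k ≤ n - 1 → ∀ a' ∈ gam S k,
      a' ^ (p.choose k) ∈ (gam G (i + p + 1)).comap S.subtype := by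
    intro k hk2 _ a' ha'
    rw [Subgroup.mem_comap, map_pow]
    show (a' : G) ^ (p.choose k) ∈ gam G (i + p + 1)
    have h1 : (a' : G) ∈ S.lowerCentralSeries (k - 1) := by
      have h2 := Subgroup.top_subtype_lowerCentralSeries S (k - 1)
      rw [← h2]
      exact Subgroup.mem_map_of_mem S.subtype ha'
    have h3 : (a' : G) ∈ gam G (k * i + 1) := by
      obtain ⟨j, rfl⟩ : ∃ j, k = j + 2 := ⟨k - 2, by omega⟩
      have h4 := helper26_lcs_closure_pair_le hm hc j
      rw [← hS] at h4
      have e : j + 2 - 1 = j + 1 := by omega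
      rw [e] at h1
      exact h4 h1
    rcases lt_trichotomy k p with hkp | hkp | hkp
    · obtain ⟨j, hj⟩ := hp.out.dvd_choose_self (by omega) hkp
      have h4 : ((a' : G) ^ j) ∈ gam G (2 * i + 1) :=
        Subgroup.pow_mem _ (gam_antitone (by have := Nat.mul_le_mul_right i hk2; omega) h3) _
      have h5 := hF3 (2 * i + 1) (by omega) _ h4
      rw [hj, mul_comm, pow_mul]
      exact gam_antitone (by omega) h5
    · rw [hkp, Nat.choose_self, pow_one]
      rw [hkp] at h3
      exact gam_antitone (by have := helper26_f4_arith p i hp2 hi; omega) h3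
    · rw [Nat.choose_eq_zero_of_lt hkp, pow_zero]
      exact Subgroup.one_mem _
  obtain ⟨z, hz, heq⟩ := hall_petrescu_mem (n - 1) hcS' _ p hM (⟨m, hmS⟩ : S) ⟨c, hcS⟩
  refine ⟨(z : G), hz, ?_⟩
  have h := congrArg Subtype.val heq
  simpa using h

/-- **F4** (steps (5) + (6) of block G of S5238). -/
theorem helper26_pearl_f4 (p : ℕ) [hp : Fact p.Prime] (n : ℕ) (x : G) (hx : x ^ p = 1)
    (hnil : gam G n = ⊥)
    (huni : ∀ i, 2 ≤ i → i + 2 ≤ n → ∀ m ∈ gam G i, m ∉ gam G (i + 1) →
      com m x ∉ gam G (i + 2))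
    (honto : ∀ w, 1 ≤ w → ∀ m ∈ gam G (w + 1), ∃ g ∈ gam G w, m = com x g)
    (hF3 : ∀ i, 2 ≤ i → ∀ m ∈ gam G i, m ^ p ∈ gam G (i + p - 1)) :
    ∀ i, 2 ≤ i → i + p ≤ n → ∀ m ∈ gam G i, m ∉ gam G (i + 1) →
      m ^ p ∈ gam G (i + p - 1) ∧ m ^ p ∉ gam G (i + p) := by
  have hp2 : 2 ≤ p := hp.out.two_le
  have key : ∀ d i, 2 ≤ i → i + p + d = n → ∀ m ∈ gam G i, m ∉ gam G (i + 1) →
      m ^ p ∉ gam G (i + p) := by
    intro d
    induction d with
    | zero =>
      intro i hi hin m hm hm'
      have hw : 1 ≤ i - 1 := by omega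
      obtain ⟨g, hg, rfl⟩ := honto (i - 1) hw m
        (by rwa [Nat.sub_add_cancel (by omega : 1 ≤ i)])
      have hnil2 : gam G (i - 1 + 1 + p) = ⊥ := by
        have e : i - 1 + 1 + p = n := by omega
        rw [e]; exact hnil
      have hexp : ∀ y ∈ gam G (i - 1 + 2), y ^ p = 1 := by
        intro y hy
        have h1 := hF3 (i - 1 + 2) (by omega) y hy
        have h2 : gam G (i - 1 + 2 + p - 1) ≤ gam G n := gam_antitone (by omega)
        rw [hnil] at h2
        exact Subgroup.mem_bot.1 (h2 h1)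
      have hpp := pearl_pow p hp.out (i - 1) hw x g hx hg hnil2 hexp
      have hy : ∀ k, k ≤ p - 1 → yk x (com x g) k ∈ gam G (i + k) ∧
          yk x (com x g) k ∉ gam G (i + k + 1) := by
        intro k
        induction k with
        | zero => intro _; exact ⟨hm, hm'⟩
        | succ k ih =>
          intro hk
          obtain ⟨h1, h2⟩ := ih (by omega)
          refine ⟨?_, ?_⟩
          · have h := com_mem h1 (helper26_mem_gam_one x)
            exact h
          · exact huni (i + k) (by omega) (by omega) _ h1 h2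
      intro hcon
      have h1 : (com x g) ^ p = 1 := by
        have e : gam G (i + p) = ⊥ := by
          rw [show i + p = n by omega]; exact hnil
        rw [e] at hcon
        exact Subgroup.mem_bot.1 hcon
      rw [h1, one_mul] at hpp
      have h2 := (hy (p - 1) le_rfl).2
      rw [hpp] at h2
      exact h2 (Subgroup.one_mem _)
    | succ d ih =>
      intro i hi hin m hm hm' hcon
      have hc1 : com m x ∈ gam G (i + 1) := com_mem hm (helper26_mem_gam_one x)
      have hc2 : com m x ∉ gam G (i + 1 + 1) := huni i hi (by omega) m hm hm'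
      have hIH := ih (i + 1) (by omega) (by omega) (com m x) hc1 hc2
      obtain ⟨z, hz, heq⟩ := helper26_pow_mul_congr p n hnil hF3 hi hm hc1
      have hmc : m * com m x = x⁻¹ * m * x := by unfold com; group
      have h1 : (x⁻¹ * m * x) ^ p = x⁻¹ * m ^ p * x := by
        have h := conj_pow (a := x⁻¹) (b := m) (i := p)
        rwa [inv_inv] at h
      have h2 : com (m ^ p) x ∈ gam G (i + p + 1) := com_mem hcon (helper26_mem_gam_one x)
      have h3 : (com m x) ^ p = com (m ^ p) x * z⁻¹ := by
        have e : com (m ^ p) x = (m ^ p)⁻¹ * (x⁻¹ * m ^ p * x) := by unfold com; group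
        rw [e, ← h1, ← hmc, heq]; group
      apply hIH
      rw [h3]
      have e : i + 1 + p = i + p + 1 := by omega
      rw [e]
      exact Subgroup.mul_mem _ h2 (Subgroup.inv_mem _ hz)
  intro i hi hin m hm hm'
  exact ⟨hF3 i hi m hm, key (n - (i + p)) i hi (by omega) m hm hm'⟩

end Cfsg.Agent.Lib.helper26
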