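import Mathlib

/-!
# S5977U piece ISOSQ (racer copy by helper26, prefixed name)

Two diagonal normal forms `<1,..,1,c>` and `<1,..,1,c'>` with `c = s^2 c'` are isometric.
-/

set_option autoImplicit false

namespace Cfsg.Agent.Lib.helper2

open Matrix

theorem helper26_qfu_iso_of_sq {E : Type*} [Field E] {m : ℕ}
    (Q Q' : (Fin (m + 1) → E) → E) (P P' : GL (Fin (m + 1)) E) (c c' s : E) (hc : c ≠ 0)
    (hcs : c = s ^ 2 * c')
    (hP : ∀ x : Fin (m + 1) → E, Q ((P : Matrix (Fin (m + 1)) (Fin (m + 1)) E) *ᵥ x) =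
      ∑ j, (if j = Fin.last m then c else 1) * x j ^ 2)
    (hP' : ∀ x : Fin (m + 1) → E, Q' ((P' : Matrix (Fin (m + 1)) (Fin (m + 1)) E) *ᵥ x) =
      ∑ j, (if j = Fin.last m then c' else 1) * x j ^ 2) :
    ∃ T : GL (Fin (m + 1)) E, ∀ x : Fin (m + 1) → E,
      Q' ((T : Matrix (Fin (m + 1)) (Fin (m + 1)) E) *ᵥ x) = Q x := by
  have hs : s ≠ 0 := by
    rintro rfl
    apply hc
    rw [hcs]
    simp
  let f : Fin (m + 1) → E := fun j => if j = Fin.last m then s else 1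
  have hf : ∀ j, f j ≠ 0 := by
    intro j
    simp only [f]
    split_ifs
    · exact hs
    · exact one_ne_zero
  let S : GL (Fin (m + 1)) E :=
    ⟨Matrix.diagonal f, Matrix.diagonal (fun j => (f j)⁻¹), by
      rw [Matrix.diagonal_mul_diagonal]
      have : (fun i => f i * (f i)⁻¹) = fun _ => (1 : E) := by
        funext i; exact mul_inv_cancel₀ (hf i)
      rw [this]; exact Matrix.diagonal_one, by
      rw [Matrix.diagonal_mul_diagonal]
      have : (fun i => (f i)⁻¹ * f i) = fun _ => (1 : E) := by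
        funext i; exact inv_mul_cancel₀ (hf i)
      rw [this]; exact Matrix.diagonal_one⟩
  refine ⟨P' * S * P⁻¹, fun x => ?_⟩
  have hx : x = (P : Matrix (Fin (m + 1)) (Fin (m + 1)) E) *ᵥ
      (((P⁻¹ : GL (Fin (m + 1)) E) : Matrix (Fin (m + 1)) (Fin (m + 1)) E) *ᵥ x) := by
    rw [Matrix.mulVec_mulVec, ← Units.val_mul, mul_inv_cancel, Units.val_one, Matrix.one_mulVec]
  have h1 : ((P' * S * P⁻¹ : GL (Fin (m + 1)) E) : Matrix (Fin (m + 1)) (Fin (m + 1)) E) *ᵥ x =
      (P' : Matrix (Fin (m + 1)) (Fin (m + 1)) E) *ᵥ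
        ((Matrix.diagonal f) *ᵥ
          (((P⁻¹ : GL (Fin (m + 1)) E) : Matrix (Fin (m + 1)) (Fin (m + 1)) E) *ᵥ x)) := by
    rw [Units.val_mul, Units.val_mul, ← Matrix.mulVec_mulVec, ← Matrix.mulVec_mulVec]
  rw [h1, hP', congrArg Q hx, hP]
  apply Finset.sum_congr rfl
  intro j _
  rw [Matrix.mulVec_diagonal]
  simp only [f]
  split_ifs with h
  · rw [hcs]; ring
  · ring

end Cfsg.Agent.Lib.helper2
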