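import Mathlib
import Cfsg.Prelude.Def_Solvable
import Cfsg.Agent.Lib.helper38.RO1

set_option autoImplicit false
open Pointwise

namespace Cfsg.Agent.Lib.helper38.RO

/-- Class-two power formula, first step. -/
theorem h26_class2_aux {Γ : Type*} [Group Γ] (e f d : Γ) (hd : f * e = d * e * f)
    (hdf : d * f = f * d) : ∀ k : ℕ, f ^ k * e = d ^ k * e * f ^ k := by
  intro k
  induction k with
  | zero => simp
  | succ k ih =>
    have hc : Commute d f := hdf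
    have hck : f ^ k * d = d * f ^ k := (hc.pow_right k).eq.symm
    calc f ^ (k + 1) * e = f ^ k * (f * e) := by rw [pow_succ]; group
      _ = f ^ k * (d * e * f) := by rw [hd]
      _ = (f ^ k * d) * e * f := by group
      _ = (d * f ^ k) * e * f := by rw [hck]
      _ = d * (f ^ k * e) * f := by group
      _ = d * (d ^ k * e * f ^ k) * f := by rw [ih]
      _ = d ^ (k + 1) * e * f ^ (k + 1) := by rw [pow_succ' d k, pow_succ f k]; group

/-- Class-two power formula. -/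
theorem h26_class2_pow {Γ : Type*} [Group Γ] (e f d : Γ) (hd : f * e = d * e * f)
    (hde : d * e = e * d) (hdf : d * f = f * d) :
    ∀ n : ℕ, (e * f) ^ n = d ^ (n.choose 2) * e ^ n * f ^ n := by
  intro n
  induction n with
  | zero => simp
  | succ n ih =>
    have hc : Commute d e := hde
    have hcn : e ^ n * d ^ n = d ^ n * e ^ n := ((hc.pow_pow n n).eq).symm
    have hch : (n + 1).choose 2 = n.choose 2 + n := by
      rw [Nat.choose_succ_succ', Nat.choose_one_right, add_comm]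
    calc (e * f) ^ (n + 1) = (e * f) ^ n * (e * f) := pow_succ _ _
      _ = d ^ (n.choose 2) * e ^ n * f ^ n * (e * f) := by rw [ih]
      _ = d ^ (n.choose 2) * e ^ n * (f ^ n * e) * f := by group
      _ = d ^ (n.choose 2) * e ^ n * (d ^ n * e * f ^ n) * f := by
          rw [h26_class2_aux e f d hd hdf n]
      _ = d ^ (n.choose 2) * (e ^ n * d ^ n) * e * f ^ n * f := by group
      _ = d ^ (n.choose 2) * (d ^ n * e ^ n) * e * f ^ n * f := by rw [hcn]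
      _ = d ^ ((n + 1).choose 2) * e ^ (n + 1) * f ^ (n + 1) := by
          rw [hch, pow_add, pow_succ e n, pow_succ f n]; group

theorem struct_A (p : ℕ) [Fact p.Prime] (hp : p ≠ 2) {Γ : Type*} [Group Γ] [Finite Γ]
    (N Q : Subgroup Γ) (hQN : Q ≤ N) (hnorm : ∀ n ∈ N, ∀ q ∈ Q, n * q * n⁻¹ ∈ Q)
    (hQ : IsPGroup p ↥Q) (hQ1 : Q ≠ ⊥)
    (hno : ∀ B : Subgroup Γ, B ≤ Q → (∀ n ∈ N, ∀ b ∈ B, n * b * n⁻¹ ∈ B) →
      (∀ a ∈ B, ∀ b ∈ B, a * b = b * a) → (∀ b ∈ B, b ^ p = 1) → Nat.card ↥B ≤ p) :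
    ∃ Z E : Subgroup Γ, StructData p Q Z E ∧ (∀ n ∈ N, ∀ z ∈ Z, n * z * n⁻¹ ∈ Z) := by
  classical
  have hpp := (Fact.out : p.Prime)
  -- conjugating back
  have hnorm' : ∀ n ∈ N, ∀ q ∈ Q, n⁻¹ * q * n ∈ Q := by
    intro n hn q hq
    have := hnorm n⁻¹ (N.inv_mem hn) q hq
    rwa [inv_inv] at this
  let Z : Subgroup Γ :=
    { carrier := {z | z ∈ Q ∧ z ^ p = 1 ∧ ∀ q ∈ Q, z * q = q * z}
      mul_mem' := by
        rintro a b ⟨haQ, hap, hac⟩ ⟨hbQ, hbp, hbc⟩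
        refine ⟨Q.mul_mem haQ hbQ, ?_, ?_⟩
        · have hab : Commute a b := hac b hbQ
          rw [hab.mul_pow, hap, hbp, one_mul]
        · intro q hq
          rw [mul_assoc, hbc q hq, ← mul_assoc, hac q hq, mul_assoc]
      one_mem' := ⟨Q.one_mem, one_pow _, fun q _ => by rw [one_mul, mul_one]⟩
      inv_mem' := by
        rintro a ⟨haQ, hap, hac⟩
        refine ⟨Q.inv_mem haQ, by rw [inv_pow, hap, inv_one], ?_⟩
        intro q hq
        have := hac q hq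
        calc a⁻¹ * q = a⁻¹ * (q * a) * a⁻¹ := by group
          _ = a⁻¹ * (a * q) * a⁻¹ := by rw [this]
          _ = q * a⁻¹ := by group }
  have hZmem : ∀ z, z ∈ Z ↔ z ∈ Q ∧ z ^ p = 1 ∧ ∀ q ∈ Q, z * q = q * z := fun z => Iff.rfl
  have hZQ : Z ≤ Q := fun z hz => ((hZmem z).1 hz).1
  have hZinv : ∀ n ∈ N, ∀ z ∈ Z, n * z * n⁻¹ ∈ Z := by
    intro n hn z hz
    obtain ⟨hzQ, hzp, hzc⟩ := (hZmem z).1 hz
    refine (hZmem _).2 ⟨hnorm n hn z hzQ, by rw [conj_pow, hzp]; group, ?_⟩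
    intro q hq
    have h1 := hzc _ (hnorm' n hn q hq)
    calc n * z * n⁻¹ * q = n * (z * (n⁻¹ * q * n)) * n⁻¹ := by group
      _ = n * ((n⁻¹ * q * n) * z) * n⁻¹ := by rw [h1]
      _ = q * (n * z * n⁻¹) := by group
  have hZcomm : ∀ a ∈ Z, ∀ b ∈ Z, a * b = b * a := by
    intro a ha b hb
    exact ((hZmem a).1 ha).2.2 b (hZQ hb)
  have hZle : Nat.card Z ≤ p :=
    hno Z hZQ hZinv hZcomm (fun b hb => ((hZmem b).1 hb).2.1)
  -- Z is nontrivial
  have hZne : Z ≠ ⊥ := by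
    have : Nontrivial ↥Q := (Subgroup.nontrivial_iff_ne_bot Q).2 hQ1
    have : Nontrivial (Subgroup.center ↥Q) := hQ.center_nontrivial
    obtain ⟨c, hc⟩ := exists_ne (1 : Subgroup.center ↥Q)
    have hc1 : ((c : ↥Q) : Γ) ≠ 1 := by
      intro hh
      apply hc
      apply Subtype.ext
      apply Subtype.ext
      exact hh
    have hcQ : ((c : ↥Q) : Γ) ∈ Q := (c : ↥Q).2
    have hcc : ∀ q ∈ Q, ((c : ↥Q) : Γ) * q = q * ((c : ↥Q) : Γ) := by
      intro q hq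
      have := (Subgroup.mem_center_iff.1 c.2) ⟨q, hq⟩
      exact (congrArg Subtype.val this).symm
    generalize ((c : ↥Q) : Γ) = c0 at hc1 hcQ hcc
    have hex : ∃ k : ℕ, c0 ^ p ^ k = 1 := by
      obtain ⟨k, hk⟩ := hQ ⟨c0, hcQ⟩
      exact ⟨k, by simpa using congrArg Subtype.val hk⟩
    have hk0 : Nat.find hex ≠ 0 := by
      intro h0
      have := Nat.find_spec hex
      rw [h0, pow_zero, pow_one] at this
      exact hc1 this
    obtain ⟨k, hk⟩ := Nat.exists_eq_succ_of_ne_zero hk0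
    have hkmin : ¬ c0 ^ p ^ k = 1 := Nat.find_min hex (by omega)
    have hkspec : c0 ^ p ^ (k + 1) = 1 := by
      have := Nat.find_spec hex
      rwa [hk] at this
    intro hbot
    have hmem : c0 ^ p ^ k ∈ Z := by
      refine (hZmem _).2 ⟨Q.pow_mem hcQ _, ?_, ?_⟩
      · rw [← pow_mul, ← pow_succ]; exact hkspec
      · intro q hq
        have hcm : Commute c0 q := hcc q hq
        exact (hcm.pow_left _).eq
    rw [hbot, Subgroup.mem_bot] at hmem
    exact hkmin hmem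
  have hZcard : Nat.card Z = p := by
    have hpZ : IsPGroup p Z := hQ.to_le hZQ
    obtain ⟨a, ha⟩ := IsPGroup.iff_card.1 hpZ
    have h1 : 1 < Nat.card Z := (Subgroup.one_lt_card_iff_ne_bot Z).2 hZne
    have ha0 : a ≠ 0 := by
      intro h0
      rw [ha, h0, pow_zero] at h1
      exact lt_irrefl _ h1
    have hge : p ≤ Nat.card Z := by
      rw [ha]
      calc p = p ^ 1 := (pow_one p).symm
        _ ≤ p ^ a := Nat.pow_le_pow_right hpp.pos (Nat.one_le_iff_ne_zero.2 ha0)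
    exact le_antisymm hZle hge
  let E : Subgroup Γ :=
    { carrier := {e | e ∈ Q ∧ e ^ p = 1 ∧ ∀ q ∈ Q, e * q * e⁻¹ * q⁻¹ ∈ Z}
      mul_mem' := by
        rintro e f ⟨heQ, hep, hec⟩ ⟨hfQ, hfp, hfc⟩
        refine ⟨Q.mul_mem heQ hfQ, ?_, ?_⟩
        · have hdZ : f * e * f⁻¹ * e⁻¹ ∈ Z := hfc e heQ
          obtain ⟨-, hdp, hdc⟩ := (hZmem _).1 hdZ
          have hd : f * e = (f * e * f⁻¹ * e⁻¹) * e * f := by group
          have hform := h26_class2_pow e f (f * e * f⁻¹ * e⁻¹) hd (hdc e heQ) (hdc f hfQ) p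
          rw [hform, hep, hfp, mul_one, mul_one]
          have h2p : 2 < p := lt_of_le_of_ne hpp.two_le (Ne.symm hp)
          obtain ⟨m, hm⟩ := hpp.dvd_choose_self (by norm_num : (2 : ℕ) ≠ 0) h2p
          rw [hm, pow_mul, hdp, one_pow]
        · intro q hq
          have hzf : f * q * f⁻¹ * q⁻¹ ∈ Z := hfc q hq
          have hze : e * q * e⁻¹ * q⁻¹ ∈ Z := hec q hq
          have hcomm : (f * q * f⁻¹ * q⁻¹) * e = e * (f * q * f⁻¹ * q⁻¹) :=
            ((hZmem _).1 hzf).2.2 e heQ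
          have : (e * f) * q * (e * f)⁻¹ * q⁻¹
              = (f * q * f⁻¹ * q⁻¹) * (e * q * e⁻¹ * q⁻¹) := by
            calc (e * f) * q * (e * f)⁻¹ * q⁻¹
                = e * (f * q * f⁻¹ * q⁻¹) * (q * e⁻¹ * q⁻¹) := by group
              _ = (f * q * f⁻¹ * q⁻¹) * e * (q * e⁻¹ * q⁻¹) := by rw [← hcomm]
              _ = (f * q * f⁻¹ * q⁻¹) * (e * q * e⁻¹ * q⁻¹) := by group
          rw [this]
          exact Z.mul_mem hzf hze
      one_mem' := by
        refine ⟨Q.one_mem, one_pow _, fun q _ => ?_⟩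
        have : (1 : Γ) * q * 1⁻¹ * q⁻¹ = 1 := by group
        rw [this]
        exact Z.one_mem
      inv_mem' := by
        rintro e ⟨heQ, hep, hec⟩
        refine ⟨Q.inv_mem heQ, by rw [inv_pow, hep, inv_one], ?_⟩
        intro q hq
        have hz : e * q * e⁻¹ * q⁻¹ ∈ Z := hec q hq
        have hzi : (e * q * e⁻¹ * q⁻¹)⁻¹ ∈ Z := Z.inv_mem hz
        have hc : (e * q * e⁻¹ * q⁻¹)⁻¹ * e = e * (e * q * e⁻¹ * q⁻¹)⁻¹ :=
          ((hZmem _).1 hzi).2.2 e heQ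
        have : e⁻¹ * q * e⁻¹⁻¹ * q⁻¹ = (e * q * e⁻¹ * q⁻¹)⁻¹ := by
          calc e⁻¹ * q * e⁻¹⁻¹ * q⁻¹ = e⁻¹ * ((e * q * e⁻¹ * q⁻¹)⁻¹ * e) := by group
            _ = e⁻¹ * (e * (e * q * e⁻¹ * q⁻¹)⁻¹) := by rw [hc]
            _ = (e * q * e⁻¹ * q⁻¹)⁻¹ := by group
        rw [this]
        exact hzi }
  have hEmem : ∀ e, e ∈ E ↔ e ∈ Q ∧ e ^ p = 1 ∧ ∀ q ∈ Q, e * q * e⁻¹ * q⁻¹ ∈ Z :=
    fun e => Iff.rfl
  have hEQ : E ≤ Q := fun e he => ((hEmem e).1 he).1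
  have hZE : Z ≤ E := by
    intro z hz
    obtain ⟨hzQ, hzp, hzc⟩ := (hZmem z).1 hz
    refine (hEmem z).2 ⟨hzQ, hzp, ?_⟩
    intro q hq
    have : z * q * z⁻¹ * q⁻¹ = 1 := by
      rw [hzc q hq]; group
    rw [this]
    exact Z.one_mem
  have hEinv : ∀ n ∈ N, ∀ e ∈ E, n * e * n⁻¹ ∈ E := by
    intro n hn e he
    obtain ⟨heQ, hep, hec⟩ := (hEmem e).1 he
    refine (hEmem _).2 ⟨hnorm n hn e heQ, by rw [conj_pow, hep]; group, ?_⟩
    intro q hq
    have h1 := hec _ (hnorm' n hn q hq)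
    have h2 := hZinv n hn _ h1
    have : n * e * n⁻¹ * q * (n * e * n⁻¹)⁻¹ * q⁻¹
        = n * (e * (n⁻¹ * q * n) * e⁻¹ * (n⁻¹ * q * n)⁻¹) * n⁻¹ := by group
    rw [this]
    exact h2
  -- the centre of E
  let ZE : Subgroup Γ := E ⊓ Subgroup.centralizer (E : Set Γ)
  have hZEmem : ∀ e, e ∈ ZE ↔ e ∈ E ∧ ∀ f ∈ E, f * e = e * f := by
    intro e
    simp only [ZE, Subgroup.mem_inf, Subgroup.mem_centralizer_iff, SetLike.mem_coe]
  have hZEle : Nat.card ZE ≤ p := by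
    apply hno ZE
    · exact fun e he => hEQ ((hZEmem e).1 he).1
    · intro n hn b hb
      obtain ⟨hbE, hbc⟩ := (hZEmem b).1 hb
      refine (hZEmem _).2 ⟨hEinv n hn b hbE, ?_⟩
      intro f hf
      have hf' : n⁻¹ * f * n ∈ E := by
        have := hEinv n⁻¹ (N.inv_mem hn) f hf
        rwa [inv_inv] at this
      have h1 := hbc _ hf'
      calc f * (n * b * n⁻¹) = n * ((n⁻¹ * f * n) * b) * n⁻¹ := by group
        _ = n * (b * (n⁻¹ * f * n)) * n⁻¹ := by rw [h1]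
        _ = n * b * n⁻¹ * f := by group
    · intro a ha b hb
      exact ((hZEmem b).1 hb).2 a ((hZEmem a).1 ha).1
    · intro b hb
      exact ((hEmem b).1 ((hZEmem b).1 hb).1).2.1
  have hZZE : Z ≤ ZE := by
    intro z hz
    refine (hZEmem z).2 ⟨hZE hz, ?_⟩
    intro f hf
    exact (((hZmem z).1 hz).2.2 f (hEQ hf)).symm
  have hZEeq : Z = ZE := by
    apply Subgroup.eq_of_le_of_card_ge hZZE
    rw [hZcard]
    exact hZEle
  refine ⟨Z, E, ?_, hZinv⟩
  exact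
    { hZE := hZE
      hEQ := hEQ
      hZcard := hZcard
      hZcent := fun z hz q hq => ((hZmem z).1 hz).2.2 q hq
      hZmax := fun z hzQ hzp hzc => (hZmem z).2 ⟨hzQ, hzp, hzc⟩
      hEp := fun e he => ((hEmem e).1 he).2.1
      hEcomm := fun e he q hq => ((hEmem e).1 he).2.2 q hq
      hEmax := fun w hwQ hwp hwc => (hEmem w).2 ⟨hwQ, hwp, hwc⟩
      hEcenter := by
        intro e he hec
        rw [hZEeq]
        exact (hZEmem e).2 ⟨he, fun f hf => (hec f hf).symm⟩ }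

end Cfsg.Agent.Lib.helper38.RO
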