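import Mathlib
import Cfsg.Prelude.Def_Solvable
import Cfsg.Agent.Lib.helper38.RO1

set_option autoImplicit false
open Pointwise

namespace Cfsg.Agent.Lib.helper38.RO

theorem h26_card_filter_mem {Γ : Type*} [Group Γ] [Fintype Γ] (S : Subgroup Γ)
    [DecidablePred (· ∈ S)] :
    (Finset.univ.filter (· ∈ S)).card = Nat.card S := by
  rw [Nat.card_eq_fintype_card, Fintype.card_subtype]

theorem struct_B (p : ℕ) [Fact p.Prime] {Γ : Type*} [Group Γ] [Finite Γ]
    (Q Z E : Subgroup Γ) (hQ : IsPGroup p ↥Q) (h : StructData p Q Z E) :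
    ∀ q ∈ Q, ∃ e ∈ E, ∀ f ∈ E, (e⁻¹ * q) * f = f * (e⁻¹ * q) := by
  classical
  have hp := (Fact.out : p.Prime)
  let _ : Fintype Γ := Fintype.ofFinite Γ
  let CQ : Subgroup Γ → Subgroup Γ := fun H => Q ⊓ Subgroup.centralizer (H : Set Γ)
  have hCQ : ∀ (H : Subgroup Γ) (c : Γ), c ∈ CQ H ↔ c ∈ Q ∧ ∀ y ∈ H, y * c = c * y := by
    intro H c
    simp only [CQ, Subgroup.mem_inf, Subgroup.mem_centralizer_iff, SetLike.mem_coe]
  -- step 1
  have step1 : ∀ (H : Subgroup Γ) (x : Γ), x ∈ E →
      Nat.card (CQ H) ≤ Nat.card (CQ (H ⊔ Subgroup.zpowers x)) * p := by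
    intro H x hx
    rw [← h26_card_filter_mem (CQ H), ← h26_card_filter_mem (CQ (H ⊔ Subgroup.zpowers x))]
    generalize hs : Finset.univ.filter (· ∈ CQ H) = s
    generalize ht : Finset.univ.filter (· ∈ CQ (H ⊔ Subgroup.zpowers x)) = t
    have hsmem : ∀ c, c ∈ s ↔ c ∈ CQ H := by
      intro c; rw [← hs]; simp
    have htmem : ∀ c, c ∈ t ↔ c ∈ CQ (H ⊔ Subgroup.zpowers x) := by
      intro c; rw [← ht]; simp
    let ψ : Γ → Γ := fun c => x * c * x⁻¹ * c⁻¹
    have himg : (s.image ψ).card ≤ p := by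
      rw [← h.hZcard, ← h26_card_filter_mem Z]
      apply Finset.card_le_card
      intro a ha
      obtain ⟨c, hc, rfl⟩ := Finset.mem_image.1 ha
      rw [Finset.mem_filter]
      exact ⟨Finset.mem_univ _, h.hEcomm x hx c (((hCQ H c).1 ((hsmem c).1 hc)).1)⟩
    have hfib : ∀ a ∈ s.image ψ, (s.filter fun c => ψ c = a).card ≤ t.card := by
      intro a ha
      obtain ⟨c0, hc0, rfl⟩ := Finset.mem_image.1 ha
      have hc0' := (hCQ H c0).1 ((hsmem c0).1 hc0)
      apply Finset.card_le_card_of_injOn (fun c => c0⁻¹ * c)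
      · intro c hc
        have hc1 := Finset.mem_filter.1 (Finset.mem_coe.1 hc)
        have hc' := (hCQ H c).1 ((hsmem c).1 hc1.1)
        have hψ : x * c * x⁻¹ * c⁻¹ = x * c0 * x⁻¹ * c0⁻¹ := hc1.2
        rw [Finset.mem_coe, htmem, hCQ]
        refine ⟨Q.mul_mem (Q.inv_mem hc0'.1) hc'.1, ?_⟩
        have e1 : c0⁻¹ * c * x⁻¹ = x⁻¹ * (c0⁻¹ * c) := by
          calc c0⁻¹ * c * x⁻¹ = c0⁻¹ * (x⁻¹ * (x * c * x⁻¹ * c⁻¹)) * c := by group
            _ = c0⁻¹ * (x⁻¹ * (x * c0 * x⁻¹ * c0⁻¹)) * c := by rw [hψ]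
            _ = x⁻¹ * (c0⁻¹ * c) := by group
        have e2 : c0⁻¹ * c * x = x * (c0⁻¹ * c) := by
          calc c0⁻¹ * c * x = x * (x⁻¹ * (c0⁻¹ * c)) * x := by group
            _ = x * (c0⁻¹ * c * x⁻¹) * x := by rw [e1]
            _ = x * (c0⁻¹ * c) := by group
        have hle : H ⊔ Subgroup.zpowers x ≤ Subgroup.centralizer ({c0⁻¹ * c} : Set Γ) := by
          apply sup_le
          · intro y hy
            rw [Subgroup.mem_centralizer_iff]
            intro g hg
            rw [Set.mem_singleton_iff] at hg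
            subst hg
            have h1 := hc0'.2 y hy
            have h2 := hc'.2 y hy
            calc c0⁻¹ * c * y = c0⁻¹ * (y * c) := by rw [h2]; group
              _ = c0⁻¹ * (y * c0) * c0⁻¹ * c := by group
              _ = c0⁻¹ * (c0 * y) * c0⁻¹ * c := by rw [h1]
              _ = y * (c0⁻¹ * c) := by group
          · rw [Subgroup.zpowers_le, Subgroup.mem_centralizer_iff]
            intro g hg
            rw [Set.mem_singleton_iff] at hg
            subst hg
            exact e2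
        intro y hy
        have := hle hy
        rw [Subgroup.mem_centralizer_iff] at this
        exact (this _ rfl).symm
      · intro c _ c' _ heq
        exact mul_left_cancel heq
    calc s.card ≤ t.card * (s.image ψ).card := Finset.card_le_mul_card_image s t.card hfib
      _ ≤ t.card * p := Nat.mul_le_mul_left _ himg
  -- step 2
  have step2 : ∀ (H : Subgroup Γ) (x : Γ), H ≤ E → x ∈ E → x ∉ H →
      p * Nat.card H ≤ Nat.card (H ⊔ Subgroup.zpowers x : Subgroup Γ) := by
    intro H x hHE hx hxH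
    have hH'E : H ⊔ Subgroup.zpowers x ≤ E := sup_le hHE (by rwa [Subgroup.zpowers_le])
    have hpH : IsPGroup p H := hQ.to_le (hHE.trans h.hEQ)
    have hpH' : IsPGroup p (H ⊔ Subgroup.zpowers x : Subgroup Γ) := hQ.to_le (hH'E.trans h.hEQ)
    obtain ⟨a, ha⟩ := IsPGroup.iff_card.1 hpH
    obtain ⟨b, hb⟩ := IsPGroup.iff_card.1 hpH'
    have hlt : Nat.card H < Nat.card (H ⊔ Subgroup.zpowers x : Subgroup Γ) := by
      by_contra hcon
      push Not at hcon
      have := Subgroup.eq_of_le_of_card_ge (le_sup_left : H ≤ H ⊔ Subgroup.zpowers x) hcon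
      apply hxH
      rw [this]
      exact (le_sup_right : Subgroup.zpowers x ≤ H ⊔ Subgroup.zpowers x)
        (Subgroup.mem_zpowers x)
    rw [ha, hb] at hlt ⊢
    have hab : a < b := (Nat.pow_lt_pow_iff_right hp.one_lt).1 hlt
    calc p * p ^ a = p ^ (a + 1) := by rw [pow_succ, mul_comm]
      _ ≤ p ^ b := Nat.pow_le_pow_right hp.pos hab
  -- chain
  have chain : ∀ n : ℕ, ∀ H : Subgroup Γ, H ≤ E → Nat.card E - Nat.card H ≤ n →
      Nat.card Q * p ≤ Nat.card (CQ H) * Nat.card H →
      Nat.card Q * p ≤ Nat.card (CQ E) * Nat.card E := by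
    intro n
    induction n with
    | zero =>
      intro H hHE hn hcl
      have hge : Nat.card E ≤ Nat.card H := by omega
      have : H = E := Subgroup.eq_of_le_of_card_ge hHE hge
      rw [this] at hcl
      exact hcl
    | succ n ih =>
      intro H hHE hn hcl
      by_cases hEH : E ≤ H
      · have : H = E := le_antisymm hHE hEH
        rw [this] at hcl
        exact hcl
      · obtain ⟨x, hxE, hxH⟩ := SetLike.not_le_iff_exists.1 hEH
        have hH'E : H ⊔ Subgroup.zpowers x ≤ E := sup_le hHE (by rwa [Subgroup.zpowers_le])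
        have s1 := step1 H x hxE
        have s2 := step2 H x hHE hxE hxH
        have hposH : 0 < Nat.card H := Nat.card_pos
        have hpos : 0 < p := hp.pos
        apply ih (H ⊔ Subgroup.zpowers x) hH'E
        · have : Nat.card H < Nat.card (H ⊔ Subgroup.zpowers x : Subgroup Γ) := by
            calc Nat.card H < p * Nat.card H := by
                  have := hp.one_lt
                  nlinarith
              _ ≤ _ := s2
          omega
        · calc Nat.card Q * p ≤ Nat.card (CQ H) * Nat.card H := hcl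
            _ ≤ (Nat.card (CQ (H ⊔ Subgroup.zpowers x)) * p) * Nat.card H :=
                Nat.mul_le_mul_right _ s1
            _ = Nat.card (CQ (H ⊔ Subgroup.zpowers x)) * (p * Nat.card H) := by ring
            _ ≤ Nat.card (CQ (H ⊔ Subgroup.zpowers x)) *
                  Nat.card (H ⊔ Subgroup.zpowers x : Subgroup Γ) := Nat.mul_le_mul_left _ s2
  have base : Nat.card Q * p ≤ Nat.card (CQ Z) * Nat.card Z := by
    have hCZ : CQ Z = Q := by
      apply le_antisymm inf_le_left
      intro q hq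
      rw [hCQ]
      exact ⟨hq, fun y hy => h.hZcent y hy q hq⟩
    rw [hCZ, h.hZcard]
  have final := chain _ Z h.hZE le_rfl base
  -- surjectivity of the product map
  intro q hq
  let s : Finset (Γ × Γ) :=
    (Finset.univ.filter (· ∈ E)) ×ˢ (Finset.univ.filter (· ∈ CQ E))
  have hsmem : ∀ x : Γ × Γ, x ∈ s ↔ x.1 ∈ E ∧ x.2 ∈ CQ E := by
    intro x; simp [s]
  let μ : Γ × Γ → Γ := fun x => x.1 * x.2
  have hsub : s.image μ ⊆ Finset.univ.filter (· ∈ Q) := by
    intro a ha
    obtain ⟨x, hx, rfl⟩ := Finset.mem_image.1 ha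
    have hx' := (hsmem x).1 hx
    rw [Finset.mem_filter]
    exact ⟨Finset.mem_univ _, Q.mul_mem (h.hEQ hx'.1) ((hCQ E x.2).1 hx'.2).1⟩
  have hfib : ∀ a ∈ s.image μ, (s.filter fun x => μ x = a).card ≤ p := by
    intro a ha
    obtain ⟨x0, hx0, rfl⟩ := Finset.mem_image.1 ha
    have hx0' := (hsmem x0).1 hx0
    have hk0 := (hCQ E x0.2).1 hx0'.2
    rw [← h.hZcard, ← h26_card_filter_mem Z]
    apply Finset.card_le_card_of_injOn (fun x => x0.1⁻¹ * x.1)
    · intro x hx
      have hx1 := Finset.mem_filter.1 (Finset.mem_coe.1 hx)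
      have hx' := (hsmem x).1 hx1.1
      have hk := (hCQ E x.2).1 hx'.2
      have hμ : x.1 * x.2 = x0.1 * x0.2 := hx1.2
      rw [Finset.mem_coe, Finset.mem_filter]
      refine ⟨Finset.mem_univ _, ?_⟩
      have hE : x0.1⁻¹ * x.1 ∈ E := E.mul_mem (E.inv_mem hx0'.1) hx'.1
      apply h.hEcenter _ hE
      intro f hf
      have e1 : x0.1⁻¹ * x.1 = x0.2 * x.2⁻¹ := by
        calc x0.1⁻¹ * x.1 = x0.1⁻¹ * (x.1 * x.2) * x.2⁻¹ := by group
          _ = x0.1⁻¹ * (x0.1 * x0.2) * x.2⁻¹ := by rw [hμ]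
          _ = x0.2 * x.2⁻¹ := by group
      rw [e1]
      have h1 := hk0.2 f hf
      have h2 := hk.2 f hf
      calc x0.2 * x.2⁻¹ * f = x0.2 * (x.2⁻¹ * (f * x.2) * x.2⁻¹) := by group
        _ = x0.2 * (x.2⁻¹ * (x.2 * f) * x.2⁻¹) := by rw [h2]
        _ = x0.2 * f * x.2⁻¹ := by group
        _ = f * x0.2 * x.2⁻¹ := by rw [h1]
        _ = f * (x0.2 * x.2⁻¹) := by group
    · intro x hx x' hx' heq
      have hx1 := Finset.mem_filter.1 (Finset.mem_coe.1 hx)
      have hx1' := Finset.mem_filter.1 (Finset.mem_coe.1 hx')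
      have hμ : x.1 * x.2 = x0.1 * x0.2 := hx1.2
      have hμ' : x'.1 * x'.2 = x0.1 * x0.2 := hx1'.2
      have e1 : x.1 = x'.1 := mul_left_cancel heq
      have e2 : x.2 = x'.2 := by
        have : x.1 * x.2 = x.1 * x'.2 := by rw [hμ, e1, hμ']
        exact mul_left_cancel this
      exact Prod.ext e1 e2
  have hcard : s.card ≤ p * (s.image μ).card := Finset.card_le_mul_card_image s p hfib
  have hs : s.card = Nat.card E * Nat.card (CQ E) := by
    simp only [s]
    rw [Finset.card_product, h26_card_filter_mem, h26_card_filter_mem]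
  have hge : (Finset.univ.filter (· ∈ Q)).card ≤ (s.image μ).card := by
    rw [h26_card_filter_mem Q]
    have : Nat.card Q * p ≤ p * (s.image μ).card := by
      calc Nat.card Q * p ≤ Nat.card (CQ E) * Nat.card E := final
        _ = s.card := by rw [hs, mul_comm]
        _ ≤ _ := hcard
    rw [mul_comm] at this
    exact Nat.le_of_mul_le_mul_left this hp.pos
  have heq := Finset.eq_of_subset_of_card_le hsub hge
  have hqm : q ∈ s.image μ := by
    rw [heq, Finset.mem_filter]
    exact ⟨Finset.mem_univ _, hq⟩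
  obtain ⟨x, hx, rfl⟩ := Finset.mem_image.1 hqm
  have hx' := (hsmem x).1 hx
  have hk := (hCQ E x.2).1 hx'.2
  refine ⟨x.1, hx'.1, ?_⟩
  intro f hf
  have h2 := hk.2 f hf
  show (x.1⁻¹ * (x.1 * x.2)) * f = f * (x.1⁻¹ * (x.1 * x.2))
  rw [inv_mul_cancel_left]
  exact h2.symm

end Cfsg.Agent.Lib.helper38.RO
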