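import Mathlib
import Cfsg.Agent.Lib.helper26.Fix2d

/-!
Nonabelian groups of order 64 with a fixed-point-free automorphism `ρ` of order 3 (helper26),
part 6: if all involutions are central (Suzuki type), the group is determined up to isomorphism
(normal form `β q * α p * γ r` with an explicit multiplication law); otherwise there are two
non-commuting involutions.
-/

set_option autoImplicit false

namespace Cfsg.Agent.Lib.helper26

namespace S64

open Fpf3 Heis4 Fix2

variable {T : Type*} [Group T] [Finite T] {ρ : MulAut T}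

/-- from one noncentral involution to two non-commuting involutions -/
theorem invol_pair_of_invol (H : Hyp64 ρ) {u : T} (hu2 : u * u = 1)
    (huZ : u ∉ Subgroup.center T) : ∃ u v : T, u * u = 1 ∧ v * v = 1 ∧ cm u v ≠ 1 := by
  obtain ⟨w, hw⟩ : ∃ w, w ∉ A ρ u := by
    by_contra hcon
    push Not at hcon
    have htop : A ρ u = ⊤ := (Subgroup.eq_top_iff' _).mpr hcon
    have h16 := card_A H huZ
    rw [htop, Subgroup.card_top, H.card] at h16
    omega
  have hz1 : cm u w ≠ 1 := fun h1 => hw (mem_A_of_cm H huZ h1)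
  have hz1Z : cm u w ∈ Subgroup.center T := cm_mem_center H u w
  have hwwZ := sq_mem_center H w
  have hρu2 : ρ u * ρ u = 1 := by rw [← map_mul, hu2, map_one]
  obtain ⟨ua, hua, hua2, hcmua⟩ : ∃ ua ∈ A ρ u, ua * ua = 1 ∧ cm ua w = w * w := by
    rcases center_cases H hz1Z hz1 hwwZ with h | h | h | h
    · exact ⟨1, one_mem _, by simp, by rw [cm_one_left, h]⟩
    · exact ⟨u, self_mem_A u, hu2, h.symm⟩
    · refine ⟨ρ (ρ u), A_inv H.hyp u _ (rho_mem_A u), by rw [← map_mul, hρu2, map_one], ?_⟩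
      rw [cm_rho_left H, cm_rho_left H, H.hyp.cube, h]
    · exact ⟨ρ u, rho_mem_A u, hρu2, by rw [cm_rho_left H, h]⟩
  refine ⟨u, w * ua, hu2, ?_, ?_⟩
  · rw [mul_sq H, hua2, mul_one, cm_symm H ua w, hcmua, center_sq H hwwZ]
  · rw [cm_mul_right H]
    have h1 : cm u ua = 1 := (cm_eq_one_iff _ _).mpr (A_comm H.hyp u u (self_mem_A u) ua hua)
    rw [h1, mul_one]
    exact hz1

omit [Finite T] in
theorem pw_mul (y : T) (i i' : ZMod 2) :
    pw y i * pw y i' = pw y (i + i') * pw (y * y) (i * i') := by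
  rcases zmod2_cases i with rfl | rfl <;> rcases zmod2_cases i' with rfl | rfl
  · simp [pw_zero]
  · simp [pw_zero, pw_one]
  · simp [pw_zero, pw_one]
  · have h : (1 : ZMod 2) + 1 = 0 := by decide
    rw [h, pw_zero, pw_one, mul_one, pw_one, one_mul]

theorem pw_cm (x y : T) (i k : ZMod 2) : cm (pw x i) (pw y k) = pw (cm x y) (i * k) := by
  rcases zmod2_cases i with rfl | rfl <;> rcases zmod2_cases k with rfl | rfl
  · simp [pw_zero, cm_one_left]
  · simp [pw_zero, cm_one_left]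
  · simp [pw_zero, cm_one_right]
  · simp [pw_one]

omit [Finite T] in
theorem pw_mul_distrib (x y : T) (i : ZMod 2) : pw (x * y) i = pw x i * pw y i := by
  rcases zmod2_cases i with rfl | rfl
  · simp [pw_zero]
  · simp [pw_one]

omit [Finite T] in
theorem ps_mul' {σ : MulAut T} {y : T} (hc : y * σ y = σ y * y)
    (hZ : y * y ∈ Subgroup.center T) (p p' : F4) :
    ps σ y p * ps σ y p' = ps σ y (p + p') *
      (pw (y * y) (p.re * p'.re) * pw (σ (y * y)) (p.im * p'.im)) := by
  unfold ps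
  rw [QuadraticAlgebra.re_add, QuadraticAlgebra.im_add]
  have h1 := pw_comm hc p'.re p.im
  have hcen := Subgroup.mem_center_iff.mp (pw_mem hZ (p.re * p'.re))
  calc pw y p.re * pw (σ y) p.im * (pw y p'.re * pw (σ y) p'.im)
      = pw y p.re * (pw (σ y) p.im * pw y p'.re) * pw (σ y) p'.im := by group
    _ = pw y p.re * (pw y p'.re * pw (σ y) p.im) * pw (σ y) p'.im := by rw [h1]
    _ = (pw y p.re * pw y p'.re) * (pw (σ y) p.im * pw (σ y) p'.im) := by group
    _ = (pw y (p.re + p'.re) * pw (y * y) (p.re * p'.re)) *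
        (pw (σ y) (p.im + p'.im) * pw (σ y * σ y) (p.im * p'.im)) := by rw [pw_mul, pw_mul]
    _ = pw y (p.re + p'.re) * (pw (y * y) (p.re * p'.re) * pw (σ y) (p.im + p'.im)) *
        pw (σ (y * y)) (p.im * p'.im) := by rw [map_mul]; group
    _ = pw y (p.re + p'.re) * (pw (σ y) (p.im + p'.im) * pw (y * y) (p.re * p'.re)) *
        pw (σ (y * y)) (p.im * p'.im) := by rw [hcen]
    _ = _ := by group

theorem cm_ps (H : Hyp64 ρ) (a b : T) (p q : F4) :
    cm (ps ρ a p) (ps ρ b q) = pw (cm a b) (p.re * q.re) * pw (cm a (ρ b)) (p.re * q.im) *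
      (pw (cm (ρ a) b) (p.im * q.re) * pw (cm (ρ a) (ρ b)) (p.im * q.im)) := by
  unfold ps
  rw [cm_mul_left H, cm_mul_right H, cm_mul_right H, pw_cm, pw_cm, pw_cm, pw_cm]

/-- cocycle of the `α`-coordinate -/
def k1 (p p' : F4) : F4 := ⟨p.re * p'.re, p.im * p'.im⟩

/-- cocycle of the `β`-coordinate -/
def k2 (q q' : F4) : F4 := ⟨q.im * q'.im, q.re * q'.re + q.im * q'.im⟩

/-- the commutator pairing in coordinates -/
def lam (p q : F4) : F4 :=
  ⟨p.re * q.re + p.re * q.im + p.im * q.re, p.re * q.im + p.im * q.re + p.im * q.im⟩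

/-- the multiplication law in coordinates `(q, p, r)` -/
def sm (u v : F4 × F4 × F4) : F4 × F4 × F4 :=
  (u.1 + v.1, u.2.1 + v.2.1, k2 u.1 v.1 + k1 u.2.1 v.2.1 + lam u.2.1 v.1 + (u.2.2 + v.2.2))

theorem F4_eq_of_add : ∀ p p' : F4, p + p' = 0 → p = p' := by decide

/-- normalised generators of a Suzuki-type group of order 64 -/
theorem exists_normal (H : Hyp64 ρ) (hinv : ∀ g : T, g * g = 1 → g ∈ Subgroup.center T) :
    ∃ a b z : T, z ∈ Subgroup.center T ∧ z ≠ 1 ∧ a * a = z ∧ b * b = ρ z ∧ cm a b = z := by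
  obtain ⟨a, haZ⟩ : ∃ a : T, a ∉ Subgroup.center T := by
    by_contra hcon
    push Not at hcon
    apply H.na
    intro x y
    exact (Subgroup.mem_center_iff.mp (hcon x) y).symm
  have hzZ : a * a ∈ Subgroup.center T := sq_mem_center H a
  have hz1 : a * a ≠ 1 := fun h => haZ (hinv a h)
  obtain ⟨w, hw⟩ : ∃ w, w ∉ A ρ a := by
    by_contra hcon
    push Not at hcon
    have htop : A ρ a = ⊤ := (Subgroup.eq_top_iff' _).mpr hcon
    have h16 := card_A H haZ
    rw [htop, Subgroup.card_top, H.card] at h16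
    omega
  have hc1 : cm a w ≠ 1 := fun h1 => hw (mem_A_of_cm H haZ h1)
  have hcZ : cm a w ∈ Subgroup.center T := cm_mem_center H a w
  obtain ⟨b1, hb1⟩ : ∃ b1 : T, cm a b1 = a * a := by
    rcases center_cases H hzZ hz1 hcZ with h | h | h | h
    · exact absurd h hc1
    · exact ⟨w, h⟩
    · exact ⟨ρ w, by rw [cm_rho_right H, h, H.hyp.cube]⟩
    · exact ⟨ρ (ρ w), by rw [cm_rho_right H, cm_rho_right H, h, H.hyp.cube, H.hyp.cube]⟩
  have hb1Z : b1 * b1 ∈ Subgroup.center T := sq_mem_center H b1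
  have hb1nZ : b1 ∉ Subgroup.center T := fun h => hz1 (by rw [← hb1]; exact cm_center_right h a)
  rcases center_cases H hzZ hz1 hb1Z with h | h | h | h
  · exact absurd (hinv b1 h) hb1nZ
  · exfalso
    have hu : (ρ a * b1) * (ρ a * b1) = 1 := by
      rw [mul_sq H, ← map_mul, h, cm_rho_left H, hb1]
      have hc := Subgroup.mem_center_iff.mp hzZ (ρ (a * a))
      rw [hc]; exact prod3 H.hyp (a * a)
    have huZ := hinv _ hu
    have e1 : cm a (ρ a * b1) = 1 := cm_center_right huZ a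
    rw [cm_mul_right H, (cm_eq_one_iff _ _).mpr (comm_rho H.hyp a), one_mul, hb1] at e1
    exact hz1 e1
  · exact ⟨a, b1, a * a, hzZ, hz1, rfl, h, hb1⟩
  · refine ⟨a, ρ a * b1, a * a, hzZ, hz1, rfl, ?_, ?_⟩
    · rw [mul_sq H, ← map_mul, h, cm_rho_left H, hb1, mul_assoc,
        center_sq H (rho_mem_center ρ (rho_mem_center ρ hzZ)), mul_one]
    · rw [cm_mul_right H, (cm_eq_one_iff _ _).mpr (comm_rho H.hyp a), one_mul, hb1]

omit [Finite T] in
theorem nf_mul {X Y X' Y' X'' Y'' c c' d1 d2 d3 : T}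
    (hc : c ∈ Subgroup.center T) (hd2 : d2 ∈ Subgroup.center T) (hd3 : d3 ∈ Subgroup.center T)
    (h1 : Y * Y' = Y'' * d1) (h2 : X * X' = X'' * d2) (h3 : Y * X' = X' * Y * d3) :
    X * Y * c * (X' * Y' * c') = X'' * Y'' * (d2 * d1 * d3 * (c * c')) := by
  have ec := Subgroup.mem_center_iff.mp hc
  have ed2 := Subgroup.mem_center_iff.mp hd2
  have ed3 := Subgroup.mem_center_iff.mp hd3
  calc X * Y * c * (X' * Y' * c')
      = X * Y * (c * (X' * Y')) * c' := by group
    _ = X * Y * ((X' * Y') * c) * c' := by rw [← ec (X' * Y')]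
    _ = X * (Y * X') * Y' * (c * c') := by group
    _ = X * (X' * Y * d3) * Y' * (c * c') := by rw [h3]
    _ = (X * X') * (Y * (d3 * Y')) * (c * c') := by group
    _ = (X * X') * (Y * (Y' * d3)) * (c * c') := by rw [← ed3 Y']
    _ = (X * X') * (Y * Y') * d3 * (c * c') := by group
    _ = (X'' * d2) * (Y'' * d1) * d3 * (c * c') := by rw [h1, h2]
    _ = X'' * (d2 * Y'') * d1 * d3 * (c * c') := by group
    _ = X'' * (Y'' * d2) * d1 * d3 * (c * c') := by rw [← ed2 Y'']
    _ = X'' * Y'' * (d2 * d1 * d3 * (c * c')) := by group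

omit [Finite T] in
theorem rearr6 (Z1 Z2 R2 Z3 R3 R4 : T) (h : R2 * Z3 = Z3 * R2) :
    Z1 * (Z2 * R2) * (Z3 * R3 * R4) = Z1 * Z2 * Z3 * (R2 * R3 * R4) := by
  calc Z1 * (Z2 * R2) * (Z3 * R3 * R4) = Z1 * Z2 * (R2 * Z3) * R3 * R4 := by group
    _ = Z1 * Z2 * (Z3 * R2) * R3 * R4 := by rw [h]
    _ = Z1 * Z2 * Z3 * (R2 * R3 * R4) := by group

/-- coordinates on a Suzuki-type group of order 64 -/
theorem exists_coords (H : Hyp64 ρ) (hinv : ∀ g : T, g * g = 1 → g ∈ Subgroup.center T) :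
    ∃ N : F4 × F4 × F4 → T, Function.Bijective N ∧ ∀ u v, N u * N v = N (sm u v) := by
  obtain ⟨a, b, z, hzZ, hz1, haa, hbb, hab⟩ := exists_normal H hinv
  have hzz : z * z = 1 := center_sq H hzZ
  have hρzZ : ρ z ∈ Subgroup.center T := rho_mem_center ρ hzZ
  have hρzz : ρ z * ρ z = 1 := center_sq H hρzZ
  have hzc : z * ρ z = ρ z * z := comm_rho H.hyp z
  have hρρz : ρ (ρ z) = z * ρ z := center_rho2 H hzZ
  have hγadd : ∀ r r', ps ρ z (r + r') = ps ρ z r * ps ρ z r' := ps_add hzz hzc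
  have hγZ : ∀ r, ps ρ z r ∈ Subgroup.center T := fun r => ps_mem hzZ hρzZ r
  have haZ : a ∉ Subgroup.center T := by
    intro h; apply hz1; rw [← hab]; exact cm_center_left h b
  have hbA : b ∉ A ρ a := by
    intro h; apply hz1; rw [← hab]
    exact (cm_eq_one_iff _ _).mpr (A_comm H.hyp a a (self_mem_A a) b h)
  have hD1 : ∀ p p', ps ρ a p * ps ρ a p' = ps ρ a (p + p') * ps ρ z (k1 p p') := by
    intro p p'
    rw [ps_mul' (comm_rho H.hyp a) (by rw [haa]; exact hzZ), haa]
    rfl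
  have hD2 : ∀ q q', ps ρ b q * ps ρ b q' = ps ρ b (q + q') * ps ρ z (k2 q q') := by
    intro q q'
    rw [ps_mul' (comm_rho H.hyp b) (by rw [hbb]; exact hρzZ), hbb, hρρz]
    congr 1
    show pw (ρ z) (q.re * q'.re) * pw (z * ρ z) (q.im * q'.im) =
      pw z (q.im * q'.im) * pw (ρ z) (q.re * q'.re + q.im * q'.im)
    rw [pw_mul_distrib, pw_add hρzz]
    calc pw (ρ z) (q.re * q'.re) * (pw z (q.im * q'.im) * pw (ρ z) (q.im * q'.im))
        = (pw (ρ z) (q.re * q'.re) * pw z (q.im * q'.im)) * pw (ρ z) (q.im * q'.im) := by group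
      _ = (pw z (q.im * q'.im) * pw (ρ z) (q.re * q'.re)) * pw (ρ z) (q.im * q'.im) := by
          rw [pw_comm hzc.symm]
      _ = _ := by group
  have hD3 : ∀ p q, ps ρ a p * ps ρ b q = ps ρ b q * ps ρ a p * ps ρ z (lam p q) := by
    intro p q
    have hcm : cm (ps ρ a p) (ps ρ b q) = ps ρ z (lam p q) := by
      rw [cm_ps H, cm_rho_right H a b, cm_rho_left H a b, ← map_cm ρ a b, hab, hρρz]
      show _ = pw z (p.re * q.re + p.re * q.im + p.im * q.re) *
        pw (ρ z) (p.re * q.im + p.im * q.re + p.im * q.im)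
      rw [pw_mul_distrib, pw_mul_distrib, pw_add hzz, pw_add hzz, pw_add hρzz, pw_add hρzz]
      exact rearr6 _ _ _ _ _ _ (pw_comm hzc.symm (p.re * q.im) (p.im * q.re))
    have hc := Subgroup.mem_center_iff.mp (cm_mem_center H (ps ρ a p) (ps ρ b q))
    calc ps ρ a p * ps ρ b q = cm (ps ρ a p) (ps ρ b q) * (ps ρ b q * ps ρ a p) := by
          unfold cm; group
      _ = ps ρ b q * ps ρ a p * cm (ps ρ a p) (ps ρ b q) := (hc _).symm
      _ = _ := by rw [hcm]
  refine ⟨fun u => ps ρ b u.1 * ps ρ a u.2.1 * ps ρ z u.2.2, ?_, ?_⟩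
  · rw [Nat.bijective_iff_injective_and_card]
    refine ⟨?_, ?_⟩
    · rintro ⟨q, p, r⟩ ⟨q', p', r'⟩ huv
      have huv' : ps ρ b q * ps ρ a p * ps ρ z r = ps ρ b q' * ps ρ a p' * ps ρ z r' := huv
      have hαA : ∀ p, ps ρ a p ∈ A ρ a := fun p => ps_mem (self_mem_A a) (rho_mem_A a) p
      have hγA : ∀ r, ps ρ z r ∈ A ρ a := fun r => center_le_A a (hγZ r)
      -- q = q'
      have hq : q' + q = 0 := by
        apply ps_mem_imp H.hyp (A ρ a) (A_inv H.hyp a) hbA
        have e1 : (ps ρ b q')⁻¹ * ps ρ b q =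
            ps ρ a p' * ps ρ z r' * (ps ρ z r)⁻¹ * (ps ρ a p)⁻¹ := by
          have : ps ρ b q = ps ρ b q' * ps ρ a p' * ps ρ z r' * (ps ρ z r)⁻¹ * (ps ρ a p)⁻¹ := by
            rw [← huv']; group
          rw [this]; group
        have m1 : (ps ρ b q')⁻¹ * ps ρ b q ∈ A ρ a := by
          rw [e1]
          exact mul_mem (mul_mem (mul_mem (hαA _) (hγA _)) (inv_mem (hγA _))) (inv_mem (hαA _))
        have m2 : ps ρ b q' * ps ρ b q' ∈ A ρ a := by
          rw [hD2, F4_add_self, ps_zero, one_mul]; exact hγA _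
        have m3 : ps ρ b q' * ps ρ b q ∈ A ρ a := by
          have : ps ρ b q' * ps ρ b q = (ps ρ b q' * ps ρ b q') * ((ps ρ b q')⁻¹ * ps ρ b q) := by
            group
          rw [this]; exact mul_mem m2 m1
        have e2 : ps ρ b (q' + q) = ps ρ b q' * ps ρ b q * (ps ρ z (k2 q' q))⁻¹ := by
          rw [hD2]; group
        rw [e2]; exact mul_mem m3 (inv_mem (hγA _))
      have hq' : q' = q := F4_eq_of_add _ _ hq
      subst hq'
      have huv2 : ps ρ a p * ps ρ z r = ps ρ a p' * ps ρ z r' := by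
        have : ps ρ b q' * (ps ρ a p * ps ρ z r) = ps ρ b q' * (ps ρ a p' * ps ρ z r') := by
          rw [← mul_assoc, ← mul_assoc]; exact huv'
        exact mul_left_cancel this
      have hp : p' + p = 0 := by
        apply ps_mem_imp H.hyp (Subgroup.center T) center_inv haZ
        have e1 : (ps ρ a p')⁻¹ * ps ρ a p = ps ρ z r' * (ps ρ z r)⁻¹ := by
          have : ps ρ a p = ps ρ a p' * ps ρ z r' * (ps ρ z r)⁻¹ := by
            rw [← huv2]; group
          rw [this]; group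
        have m1 : (ps ρ a p')⁻¹ * ps ρ a p ∈ Subgroup.center T := by
          rw [e1]; exact mul_mem (hγZ _) (inv_mem (hγZ _))
        have m2 : ps ρ a p' * ps ρ a p' ∈ Subgroup.center T := by
          rw [hD1, F4_add_self, ps_zero, one_mul]; exact hγZ _
        have m3 : ps ρ a p' * ps ρ a p ∈ Subgroup.center T := by
          have : ps ρ a p' * ps ρ a p = (ps ρ a p' * ps ρ a p') * ((ps ρ a p')⁻¹ * ps ρ a p) := by
            group
          rw [this]; exact mul_mem m2 m1
        have e2 : ps ρ a (p' + p) = ps ρ a p' * ps ρ a p * (ps ρ z (k1 p' p))⁻¹ := by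
          rw [hD1]; group
        rw [e2]; exact mul_mem m3 (inv_mem (hγZ _))
      have hp' : p' = p := F4_eq_of_add _ _ hp
      subst hp'
      have huv3 : ps ρ z r = ps ρ z r' := mul_left_cancel huv2
      have hr : r' + r = 0 := by
        have hr' : ps ρ z (r' + r) ∈ (⊥ : Subgroup T) := by
          rw [Subgroup.mem_bot, hγadd, huv3, ← hγadd, F4_add_self, ps_zero]
        refine ps_mem_imp H.hyp ⊥ ?_ ?_ hr'
        · intro y hy
          rw [Subgroup.mem_bot] at hy ⊢
          rw [hy, map_one]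
        · rw [Subgroup.mem_bot]; exact hz1
      have hr' : r' = r := F4_eq_of_add _ _ hr
      subst hr'
      rfl
    · rw [H.card, Nat.card_prod, Nat.card_prod, Nat.card_eq_fintype_card, card_F4]
  · rintro ⟨q, p, r⟩ ⟨q', p', r'⟩
    show ps ρ b q * ps ρ a p * ps ρ z r * (ps ρ b q' * ps ρ a p' * ps ρ z r') =
      ps ρ b (q + q') * ps ρ a (p + p') *
        ps ρ z (k2 q q' + k1 p p' + lam p q' + (r + r'))
    rw [hγadd, hγadd, hγadd, hγadd]
    exact nf_mul (hγZ r) (hγZ _) (hγZ _) (hD1 p p') (hD2 q q') (hD3 p q')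

/-- two groups with bijective coordinates and the same multiplication law are isomorphic -/
theorem equiv_of_coords {M M' : Type*} [Group M] [Group M'] {X : Type*} (m : X → X → X)
    (N : X → M) (N' : X → M') (hN : Function.Bijective N) (hN' : Function.Bijective N')
    (hm : ∀ u v, N u * N v = N (m u v)) (hm' : ∀ u v, N' u * N' v = N' (m u v)) :
    Nonempty (M ≃* M') := by
  have he : ∀ w, (Equiv.ofBijective N hN).symm (N w) = w :=
    fun w => (Equiv.ofBijective N hN).symm_apply_apply w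
  refine ⟨MulEquiv.mk' ((Equiv.ofBijective N hN).symm.trans (Equiv.ofBijective N' hN')) ?_⟩
  intro x y
  obtain ⟨u, rfl⟩ := hN.2 x
  obtain ⟨v, rfl⟩ := hN.2 y
  show N' ((Equiv.ofBijective N hN).symm (N u * N v)) =
    N' ((Equiv.ofBijective N hN).symm (N u)) * N' ((Equiv.ofBijective N hN).symm (N v))
  rw [hm, hm', he, he, he]

/-- Suzuki-type groups of order 64 are unique up to isomorphism -/
theorem suz_unique {T' : Type*} [Group T'] [Finite T'] {ρ' : MulAut T'} (H : Hyp64 ρ)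
    (hinv : ∀ g : T, g * g = 1 → g ∈ Subgroup.center T) (H' : Hyp64 ρ')
    (hinv' : ∀ g : T', g * g = 1 → g ∈ Subgroup.center T') : Nonempty (T ≃* T') := by
  obtain ⟨N, hN, hm⟩ := exists_coords H hinv
  obtain ⟨N', hN', hm'⟩ := exists_coords H' hinv'
  exact equiv_of_coords sm N N' hN hN' hm hm'

end S64

end Cfsg.Agent.Lib.helper26
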