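import Mathlib
import Cfsg.Agent.Lib.helper26.Suz64a
import Cfsg.Agent.Lib.helper26.Fix2e
import Cfsg.Agent.Lib.helper58.SU3Diag

/-!
Nonabelian groups of order 64 with a fixed-point-free automorphism `ρ` of order 3 (helper26),
part 7: such a group is a Sylow 2-subgroup of `PSL_3(4)` or of `PSU_3(4)`; and the reduction of
a configuration `(T, V, t, ρ)` inside a finite group to automorphisms of `T`.
-/

set_option autoImplicit false

namespace Cfsg.Agent.Lib.helper26

namespace S64

open Fpf3 Heis4 Fix2 Cfsg.Agent.Lib.helper58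

/-- a group with unitary coordinates over the field with 16 elements is of Suzuki type -/
theorem ucoord_suz {F : Type*} [Field F] [Fintype F] {G : Type*} [Group G] [Finite G]
    (hF : Fintype.card F = 4 ^ 2) (h2 : (2 : F) = 0) (c : UCoord G F 4) :
    ∃ σ : MulAut G, Hyp64 σ ∧ ∀ g : G, g * g = 1 → g ∈ Subgroup.center G := by
  classical
  haveI : Fact (Nat.Prime 3) := ⟨Nat.prime_three⟩
  have hcardU : Fintype.card Fˣ = 15 := by rw [Fintype.card_units, hF]; norm_num
  obtain ⟨μ, hμ⟩ := exists_prime_orderOf_dvd_card 3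
    (by rw [hcardU]; norm_num : 3 ∣ Fintype.card Fˣ)
  have hμ3 : μ ^ 3 = 1 := by rw [← hμ]; exact pow_orderOf_eq_one μ
  have hμ1 : μ ≠ 1 := by
    intro h; rw [h, orderOf_one] at hμ; omega
  have hμF3 : (μ : F) ^ 3 = 1 := by
    have h := congrArg Units.val hμ3
    rw [Units.val_pow_eq_pow_val, Units.val_one] at h
    exact h
  have hμF1 : (μ : F) ≠ 1 := fun h => hμ1 (Units.ext h)
  have hσ3 : c.diagAut hF μ ^ 3 = 1 := by rw [← map_pow, hμ3, map_one]
  refine ⟨c.diagAut hF μ, ⟨⟨?_, ?_⟩, ?_, ?_⟩, ?_⟩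
  · intro g
    have := congrArg (fun f : MulAut G => f g) hσ3
    simpa [pow_succ, MulAut.mul_apply] using this
  · intro g hg
    rw [c.eq_one_iff]
    have h1 := c.fst_diagAut hF μ g
    have h2' := c.snd_diagAut hF μ g
    rw [hg] at h1 h2'
    constructor
    · have : ((μ : F) - 1) * c.fst g = 0 := by linear_combination -h1
      rcases mul_eq_zero.mp this with h | h
      · exact absurd (sub_eq_zero.mp h) hμF1
      · exact h
    · have hμ5 : (μ : F) * (μ : F) ^ 4 = (μ : F) ^ 2 := by
        calc (μ : F) * (μ : F) ^ 4 = (μ : F) ^ 3 * (μ : F) ^ 2 := by ring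
          _ = (μ : F) ^ 2 := by rw [hμF3, one_mul]
      rw [hμ5] at h2'
      have hμ2 : (μ : F) ^ 2 ≠ 1 := by
        intro h
        apply hμF1
        have h3 := hμF3
        rw [pow_succ, h, one_mul] at h3
        exact h3
      have : ((μ : F) ^ 2 - 1) * c.snd g = 0 := by linear_combination -h2'
      rcases mul_eq_zero.mp this with h | h
      · exact absurd (sub_eq_zero.mp h) hμ2
      · exact h
  · rw [c.card_eq hF h2]; norm_num
  · intro hcomm
    have hc4 := c.card_center hF h2
    have htop : Subgroup.center G = ⊤ := by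
      rw [Subgroup.eq_top_iff']
      intro g
      rw [Subgroup.mem_center_iff]; intro x; exact hcomm x g
    rw [htop, Subgroup.card_top, c.card_eq hF h2] at hc4
    norm_num at hc4
  · intro g hg
    rw [← c.sq_eq_one_iff_mem_center hF h2, pow_two]; exact hg

variable {T : Type*} [Group T] [Finite T] {ρ : MulAut T}

/-- dichotomy for nonabelian groups of order 64 with a fixed-point-free automorphism of order 3 -/
theorem hyp64_cases (H : Hyp64 ρ) :
    Nonempty (T ≃* Heis) ∨ (∀ g : T, g * g = 1 → g ∈ Subgroup.center T) := by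
  by_cases hinv : ∀ g : T, g * g = 1 → g ∈ Subgroup.center T
  · exact Or.inr hinv
  · left
    push Not at hinv
    obtain ⟨u, hu2, huZ⟩ := hinv
    obtain ⟨u', v, hu', hv, huv⟩ := invol_pair_of_invol H hu2 huZ
    exact exists_heis_equiv H hu' hv huv

omit [Finite T] in
/-- the Heisenberg group over `F4` is a Sylow 2-subgroup of `PSL_3(4)`, whichever one -/
theorem heis_sylow_PSL (e : T ≃* Heis) :
    ∃ (F : Type) (_ : Field F) (_ : Fintype F), Fintype.card F = 4 ∧
      ∀ P : Sylow 2 (Matrix.ProjectiveSpecialLinearGroup (Fin 3) F),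
        Nonempty (T ≃* ↥(P : Subgroup (Matrix.ProjectiveSpecialLinearGroup (Fin 3) F))) := by
  refine ⟨F4, inferInstance, inferInstance, card_F4, fun P => ?_⟩
  haveI : Fact (Nat.Prime 2) := ⟨Nat.prime_two⟩
  haveI : Finite (Matrix.ProjectiveSpecialLinearGroup (Fin 3) F4) :=
    Nat.finite_of_card_ne_zero (by rw [Heis.card_PSL34]; norm_num)
  obtain ⟨S, ⟨e2⟩⟩ := Heis.exists_sylow
  exact ⟨e.trans (e2.trans (Sylow.equiv S P))⟩

/-- a Suzuki-type group of order 64 is a Sylow 2-subgroup of `PSU_3(4)`, whichever one -/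
theorem suz_sylow_PSU (H : Hyp64 ρ) (hinv : ∀ g : T, g * g = 1 → g ∈ Subgroup.center T) :
    ∃ (F : Type) (_ : Field F) (_ : Fintype F), Fintype.card F = 16 ∧
      ∀ P : Sylow 2 (Cfsg.PSU 3 F 4), Nonempty (T ≃* ↥(P : Subgroup (Cfsg.PSU 3 F 4))) := by
  letI : Fintype (GaloisField 2 4) := Fintype.ofFinite _
  have hcard : Fintype.card (GaloisField 2 4) = 16 := by
    rw [← Nat.card_eq_fintype_card, GaloisField.card 2 4 (by norm_num)]; norm_num
  refine ⟨GaloisField 2 4, inferInstance, inferInstance, hcard, fun P => ?_⟩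
  have hF : Fintype.card (GaloisField 2 4) = 4 ^ 2 := by rw [hcard]; norm_num
  have h2 : (2 : GaloisField 2 4) = 0 := two_eq_zero_of_even hF (by decide)
  obtain ⟨c⟩ := exists_ucoord_of_sylow_PSU hF h2 P
  haveI : Finite ↥(P : Subgroup (Cfsg.PSU 3 (GaloisField 2 4) 4)) :=
    Nat.finite_of_card_ne_zero (by rw [c.card_eq hF h2]; norm_num)
  obtain ⟨σ, Hσ, hinvσ⟩ := ucoord_suz hF h2 c
  exact suz_unique H hinv Hσ hinvσ

end S64

namespace Fix2

open Fpf3

/-- in a nontrivial invariant subgroup of a finite 2-group, an involutory automorphism has a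
nontrivial fixed point -/
theorem exists_fixed_ne_one {T : Type*} [Group T] [Finite T] (hp : IsPGroup 2 T) (τ : MulAut T)
    (hτ : ∀ x, τ (τ x) = x) (K : Subgroup T) (hK : ∀ y ∈ K, τ y ∈ K) {w : T} (hw : w ∈ K)
    (hw1 : w ≠ 1) : ∃ c ∈ K, c ≠ 1 ∧ τ c = c := by
  classical
  haveI : Fact (Nat.Prime 2) := ⟨Nat.prime_two⟩
  haveI : Fintype K := Fintype.ofFinite K
  let f : Function.End K := fun y => ⟨τ y, hK y y.2⟩
  have hf : f ^ 2 ^ 1 = 1 := by
    funext y
    apply Subtype.ext
    simp only [pow_one, pow_succ, pow_zero, one_mul]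
    show τ (τ (y : T)) = y
    exact hτ y
  have hmod := Equiv.Perm.card_fixedPoints_modEq (p := 2) (n := 1) hf
  obtain ⟨k, hk⟩ := IsPGroup.iff_card.mp (hp.to_subgroup K)
  have hk0 : k ≠ 0 := by
    rintro rfl
    rw [pow_zero] at hk
    rw [Subgroup.card_eq_one.mp hk, Subgroup.mem_bot] at hw
    exact hw1 hw
  have heven : Fintype.card K % 2 = 0 := by
    rw [← Nat.card_eq_fintype_card, hk]
    obtain ⟨j, rfl⟩ := Nat.exists_eq_succ_of_ne_zero hk0
    rw [pow_succ]; omega
  have hmod' : Fintype.card (Function.fixedPoints f) % 2 = 0 := by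
    have : Fintype.card K % 2 = Fintype.card (Function.fixedPoints f) % 2 := hmod
    omega
  have h1fix : (1 : K) ∈ Function.fixedPoints f := by
    apply Subtype.ext
    show τ ((1 : K) : T) = ((1 : K) : T)
    simp
  have hpos : 0 < Fintype.card (Function.fixedPoints f) := Fintype.card_pos_iff.mpr ⟨⟨1, h1fix⟩⟩
  have hlt : 1 < Fintype.card (Function.fixedPoints f) := by omega
  obtain ⟨a, b, hab⟩ := Fintype.one_lt_card_iff.mp hlt
  have hfix : ∀ y : Function.fixedPoints f, τ ((y : K) : T) = ((y : K) : T) :=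
    fun y => congrArg Subtype.val y.2
  by_cases ha : ((a : K) : T) = 1
  · refine ⟨((b : K) : T), (b : K).2, ?_, hfix b⟩
    intro hb
    apply hab
    apply Subtype.ext
    apply Subtype.ext
    rw [ha, hb]
  · exact ⟨((a : K) : T), (a : K).2, ha, hfix a⟩

variable {G : Type*} [Group G]

/-- conjugation by a normalizing element as an automorphism of the subgroup -/
def conjAut (T : Subgroup G) (g : G) (hg : g ∈ Subgroup.normalizer (T : Set G)) : MulAut ↥T where
  toFun x := ⟨g * x * g⁻¹, (Subgroup.mem_normalizer_iff.mp hg x).mp x.2⟩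
  invFun x := ⟨g⁻¹ * x * g, by
    apply (Subgroup.mem_normalizer_iff.mp hg (g⁻¹ * x * g)).mpr
    have e : g * (g⁻¹ * (x : G) * g) * g⁻¹ = x := by group
    rw [e]; exact x.2⟩
  left_inv x := by
    apply Subtype.ext
    show g⁻¹ * (g * (x : G) * g⁻¹) * g = x
    group
  right_inv x := by
    apply Subtype.ext
    show g * (g⁻¹ * (x : G) * g) * g⁻¹ = x
    group
  map_mul' x y := by
    apply Subtype.ext
    show g * ((x : G) * (y : G)) * g⁻¹ = g * (x : G) * g⁻¹ * (g * (y : G) * g⁻¹)
    group

theorem conjAut_coe (T : Subgroup G) (g : G) (hg : g ∈ Subgroup.normalizer (T : Set G))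
    (x : ↥T) : ((conjAut T g hg x : ↥T) : G) = g * x * g⁻¹ := rfl

/-- the four elements of a four-group -/
theorem four_cases [Finite G] (V : Subgroup G) (hV : Nat.card V = 4) (hexp : ∀ v ∈ V, v ^ 2 = 1)
    {c v : G} (hc : c ∈ V) (hv : v ∈ V) (hc1 : c ≠ 1) (hv1 : v ≠ 1) (hvc : v ≠ c) {y : G}
    (hy : y ∈ V) : y = 1 ∨ y = c ∨ y = v ∨ y = c * v := by
  classical
  by_contra hcon
  push Not at hcon
  obtain ⟨h1, h2, h3, h4⟩ := hcon
  have hsub : ((({1, c, v, c * v, y} : Finset G)) : Set G) ⊆ (V : Set G) := by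
    intro x hx
    simp only [Finset.coe_insert, Finset.coe_singleton, Set.mem_insert_iff,
      Set.mem_singleton_iff] at hx
    rcases hx with rfl | rfl | rfl | rfl | rfl
    · exact one_mem _
    · exact hc
    · exact hv
    · exact mul_mem hc hv
    · exact hy
  have hle := Set.ncard_le_ncard hsub (Set.toFinite _)
  rw [Set.ncard_coe_finset] at hle
  have hV4 : (V : Set G).ncard = 4 := by
    rw [← hV]; rfl
  have hcv1 : c * v ≠ 1 := by
    intro h
    apply hvc
    have hcc : c * c = 1 := by rw [← pow_two]; exact hexp c hc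
    calc v = (c * c) * v := by rw [hcc, one_mul]
      _ = c * (c * v) := by group
      _ = c := by rw [h, mul_one]
  have e1 : (1 : G) ∉ ({c, v, c * v, y} : Finset G) := by
    simp only [Finset.mem_insert, Finset.mem_singleton, not_or]
    exact ⟨hc1.symm, hv1.symm, hcv1.symm, h1.symm⟩
  have e2 : c ∉ ({v, c * v, y} : Finset G) := by
    simp only [Finset.mem_insert, Finset.mem_singleton, not_or]
    refine ⟨hvc.symm, ?_, h2.symm⟩
    intro h
    apply hv1
    have : c * 1 = c * v := by rw [mul_one]; exact h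
    exact (mul_left_cancel this).symm
  have e3 : v ∉ ({c * v, y} : Finset G) := by
    simp only [Finset.mem_insert, Finset.mem_singleton, not_or]
    refine ⟨?_, h3.symm⟩
    intro h
    apply hc1
    have : 1 * v = c * v := by rw [one_mul]; exact h
    exact (mul_right_cancel this).symm
  have e4 : c * v ∉ ({y} : Finset G) := by
    simp only [Finset.mem_singleton]
    exact h4.symm
  rw [Finset.card_insert_of_notMem e1, Finset.card_insert_of_notMem e2,
    Finset.card_insert_of_notMem e3, Finset.card_insert_of_notMem e4, Finset.card_singleton,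
    hV4] at hle
  omega

end Fix2

end Cfsg.Agent.Lib.helper26
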