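import Mathlib
import Cfsg.Agent.Lib.helper26.Suz64b
import Cfsg.Agent.Lib.helper37.S1238Defs
import Cfsg.Agent.Lib.helper37.S1238E2a

/-!
# S1238, piece E2b (`hyp64_no_swap`)

In a nonabelian group `T` of order 64 with a fixed-point-free automorphism of order 3 in which every
involution is central, no automorphism `σ` whose square is inner moves a central involution.

Proof: `Z = Z(T) = {x | x² = 1}` has order 4 and `T/Z` is elementary abelian.  `σ` swaps `v` and `σ v`,
so `c₀ = v σ v` is the only `σ`-fixed involution.  `ψ x = x σ(x) Z` is a homomorphism `T → T/Z` whose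
image lies in the image of its kernel `F`; counting gives `|F/Z| ≥ 4`.  Every `x ∈ F ∖ Z` has
`x² = c₀`, so two elements `a, b ∈ F` independent modulo `Z` satisfy `a² = b² = (ab)² = c₀ ≠ 1`,
against `hyp64_no_quat`.
-/

set_option autoImplicit false

namespace Cfsg.Agent.Lib.helper26.S1238

open Cfsg Cfsg.Agent.Lib.helper26 Cfsg.Agent.Lib.helper37.S1238

/-- PIECE E2b. No automorphism with inner square moves a central involution of a `Hyp64` group. -/
theorem hyp64_no_swap {T : Type*} [Group T] [Finite T] {ρ : MulAut T} (H : S64.Hyp64 ρ)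
    (hinv : ∀ g : T, g * g = 1 → g ∈ Subgroup.center T)
    (σ : MulAut T) (a : T) (hσ : ∀ x : T, σ (σ x) = a * x * a⁻¹)
    (v : T) (hv : v * v = 1) (hσv : σ v ≠ v) : False := by
  classical
  have hvZ : v ∈ Subgroup.center T := hinv v hv
  have hσvZ : σ v ∈ Subgroup.center T := Fpf3.rho_mem_center σ hvZ
  have hv1 : v ≠ 1 := by
    intro h
    apply hσv
    rw [h, map_one]
  have hσv1 : σ v ≠ 1 := by
    intro h
    apply hv1
    have h1 : σ v = σ 1 := by rw [h, map_one]
    exact σ.injective h1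
  have hσσv : σ (σ v) = v := by
    rw [hσ, Subgroup.mem_center_iff.mp hvZ a, mul_assoc, mul_inv_cancel, mul_one]
  have hexp : ∀ w ∈ Subgroup.center T, w ^ 2 = 1 := fun w hw => by
    rw [pow_two]
    exact S64.center_sq H hw
  have hZ4 : Nat.card (Subgroup.center T) = 4 := S64.card_center H
  -- the `σ`-fixed central elements
  have hfix : ∀ w ∈ Subgroup.center T, σ w = w → w = 1 ∨ w = v * σ v := by
    intro w hw hσw
    rcases Fix2.four_cases (Subgroup.center T) hZ4 hexp hvZ hσvZ hv1 hσv1 hσv hw with h | h | h | h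
    · exact Or.inl h
    · exfalso
      rw [h] at hσw
      exact hσv hσw
    · exfalso
      rw [h, hσσv] at hσw
      exact hσv hσw.symm
    · exact Or.inr h
  have hsq : ∀ x : T, x * x ∈ Subgroup.center T := fun x => S64.sq_mem_center H x
  -- the quotient `T ⧸ Z`
  obtain ⟨π, hπdef⟩ : ∃ π : T →* T ⧸ Subgroup.center T, π = QuotientGroup.mk' (Subgroup.center T) :=
    ⟨_, rfl⟩
  have hπ1 : ∀ x : T, π x = 1 ↔ x ∈ Subgroup.center T := by
    intro x
    rw [hπdef]
    exact QuotientGroup.eq_one_iff x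
  have hπsurj : Function.Surjective π := by
    rw [hπdef]
    exact QuotientGroup.mk'_surjective _
  have hQsq : ∀ q : T ⧸ Subgroup.center T, q * q = 1 := by
    intro q
    obtain ⟨x, rfl⟩ := hπsurj q
    rw [← map_mul, hπ1]
    exact hsq x
  have hQinv : ∀ q : T ⧸ Subgroup.center T, q⁻¹ = q := fun q =>
    inv_eq_of_mul_eq_one_right (hQsq q)
  have hQcomm : ∀ p q : T ⧸ Subgroup.center T, p * q = q * p := by
    intro p q
    calc p * q = (p * q)⁻¹ := (hQinv _).symm
      _ = q⁻¹ * p⁻¹ := mul_inv_rev p q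
      _ = q * p := by rw [hQinv q, hQinv p]
  -- the homomorphism `ψ x = π (x σ x)`
  obtain ⟨ψ, hψ⟩ : ∃ ψ : T →* T ⧸ Subgroup.center T, ∀ x : T, ψ x = π x * π (σ x) := by
    refine ⟨MonoidHom.mk' (fun x => π x * π (σ x)) ?_, fun x => rfl⟩
    intro x y
    show π (x * y) * π (σ (x * y)) = π x * π (σ x) * (π y * π (σ y))
    rw [map_mul σ, map_mul π, map_mul π]
    calc π x * π y * (π (σ x) * π (σ y)) = π x * (π y * π (σ x)) * π (σ y) := by group
      _ = π x * (π (σ x) * π y) * π (σ y) := by rw [hQcomm (π y) (π (σ x))]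
      _ = π x * π (σ x) * (π y * π (σ y)) := by group
  have hFmem : ∀ x : T, x ∈ ψ.ker ↔ x * σ x ∈ Subgroup.center T := by
    intro x
    rw [MonoidHom.mem_ker, hψ, ← map_mul, hπ1]
  -- `σ` fixes the squares of the elements of `F = ker ψ`
  have hFfix : ∀ x ∈ ψ.ker, σ (x * x) = x * x := by
    intro x hx
    obtain ⟨w, hwdef⟩ : ∃ w : T, w = x * σ x := ⟨_, rfl⟩
    have hw : w ∈ Subgroup.center T := by
      rw [hwdef]
      exact (hFmem x).mp hx
    have h1 : σ x = x⁻¹ * w := by
      rw [hwdef]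
      group
    have hwc : ∀ g : T, g * w = w * g := Subgroup.mem_center_iff.mp hw
    have hww : w * w = 1 := S64.center_sq H hw
    rw [map_mul, h1]
    calc x⁻¹ * w * (x⁻¹ * w) = x⁻¹ * (w * x⁻¹) * w := by group
      _ = x⁻¹ * (x⁻¹ * w) * w := by rw [hwc x⁻¹]
      _ = (x * x)⁻¹ * (w * w) := by group
      _ = (x * x)⁻¹ := by rw [hww, mul_one]
      _ = x * x := S64.center_inv_eq H (hsq x)
  -- `x σ x ∈ F` for every `x`
  have hφF : ∀ x : T, x * σ x ∈ ψ.ker := by
    intro x
    rw [MonoidHom.mem_ker, hψ]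
    have e1 : π (σ (x * σ x)) = π (σ x) * (π a * π x * (π a)⁻¹) := by
      rw [map_mul σ, hσ, map_mul π, map_mul π, map_mul π, map_inv]
    rw [e1, map_mul π]
    calc π x * π (σ x) * (π (σ x) * (π a * π x * (π a)⁻¹))
        = π x * (π (σ x) * π (σ x)) * (π a * π x * (π a)⁻¹) := by group
      _ = π x * (π a * π x * (π a)⁻¹) := by rw [hQsq, mul_one]
      _ = π x * (π x * π a * (π a)⁻¹) := by rw [hQcomm (π a) (π x)]
      _ = π x * π x := by group
      _ = 1 := hQsq _
  -- counting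
  obtain ⟨θ, hθ⟩ : ∃ θ : ψ.ker →* T ⧸ Subgroup.center T, ∀ f : ψ.ker, θ f = π (f : T) :=
    ⟨π.comp ψ.ker.subtype, fun f => rfl⟩
  have hrange : ψ.range ≤ θ.range := by
    rintro _ ⟨x, rfl⟩
    refine ⟨⟨x * σ x, hφF x⟩, ?_⟩
    rw [hθ, hψ, map_mul]
  have hcard1 : Nat.card ψ.ker * Nat.card ψ.range = Nat.card T := by
    rw [← Subgroup.index_ker ψ]
    exact Subgroup.card_mul_index ψ.ker
  have hcard2 : Nat.card θ.ker * Nat.card θ.range = Nat.card ψ.ker := by
    rw [← Subgroup.index_ker θ]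
    exact Subgroup.card_mul_index θ.ker
  have hker : Nat.card θ.ker ≤ 4 := by
    rw [← hZ4]
    have hmem : ∀ k : θ.ker, (((k : ψ.ker) : T)) ∈ Subgroup.center T := by
      intro k
      have h1 : θ (k : ψ.ker) = 1 := MonoidHom.mem_ker.mp k.2
      rw [hθ, hπ1] at h1
      exact h1
    apply Nat.card_le_card_of_injective
      (fun k : θ.ker => (⟨((k : ψ.ker) : T), hmem k⟩ : Subgroup.center T))
    intro k k' hkk
    have h1 := congrArg Subtype.val hkk
    exact Subtype.ext (Subtype.ext h1)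
  have hrle : Nat.card ψ.range ≤ Nat.card θ.range := Subgroup.card_le_of_le hrange
  have hT : Nat.card T = 64 := H.card
  have h3 : 2 < Nat.card θ.range := by
    by_contra hle
    push Not at hle
    have h4 : Nat.card ψ.ker ≤ 8 := by
      rw [← hcard2]
      have h5 := Nat.mul_le_mul hker hle
      omega
    have h6 : Nat.card T ≤ 16 := by
      rw [← hcard1]
      have h7 := Nat.mul_le_mul h4 (hrle.trans hle)
      omega
    omega
  -- two elements of `F` independent modulo `Z`
  have : Fintype θ.range := Fintype.ofFinite _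
  rw [Nat.card_eq_fintype_card] at h3
  obtain ⟨p, q, r, hpq, hpr, hqr⟩ := Fintype.two_lt_card_iff.mp h3
  obtain ⟨qa, qb, hqa1, hqb1, hqaqb⟩ : ∃ qa qb : θ.range, qa ≠ 1 ∧ qb ≠ 1 ∧ qa ≠ qb := by
    by_cases hp : p = 1
    · exact ⟨q, r, fun h => hpq (hp.trans h.symm), fun h => hpr (hp.trans h.symm), hqr⟩
    · by_cases hq : q = 1
      · exact ⟨p, r, hp, fun h => hqr (hq.trans h.symm), hpr⟩
      · exact ⟨p, q, hp, hq, hpq⟩
  obtain ⟨fa, hfa⟩ := qa.2
  obtain ⟨fb, hfb⟩ := qb.2
  have haF : (fa : T) ∈ ψ.ker := fa.2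
  have hbF : (fb : T) ∈ ψ.ker := fb.2
  have hπa : π (fa : T) = (qa : T ⧸ Subgroup.center T) := by rw [← hθ]; exact hfa
  have hπb : π (fb : T) = (qb : T ⧸ Subgroup.center T) := by rw [← hθ]; exact hfb
  have haZ : (fa : T) ∉ Subgroup.center T := by
    intro h
    apply hqa1
    apply Subtype.ext
    rw [← hπa]
    exact (hπ1 _).mpr h
  have hbZ : (fb : T) ∉ Subgroup.center T := by
    intro h
    apply hqb1
    apply Subtype.ext
    rw [← hπb]
    exact (hπ1 _).mpr h
  have habZ : (fa : T) * (fb : T) ∉ Subgroup.center T := by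
    intro h
    have h1 : π ((fa : T) * (fb : T)) = 1 := (hπ1 _).mpr h
    rw [map_mul, hπa, hπb] at h1
    apply hqaqb
    apply Subtype.ext
    calc (qa : T ⧸ Subgroup.center T) = (qb : T ⧸ Subgroup.center T)⁻¹ := eq_inv_of_mul_eq_one_left h1
      _ = qb := hQinv _
  have hsqc : ∀ x ∈ ψ.ker, x ∉ Subgroup.center T → x * x = v * σ v := by
    intro x hx hxZ
    rcases hfix (x * x) (hsq x) (hFfix x hx) with h | h
    · exact absurd (hinv x h) hxZ
    · exact h
  have ha2 := hsqc _ haF haZ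
  have hb2 := hsqc _ hbF hbZ
  have hab2 := hsqc _ (ψ.ker.mul_mem haF hbF) habZ
  have hne : (fa : T) * (fa : T) ≠ 1 := fun h => haZ (hinv _ h)
  exact hyp64_no_quat H hinv (fa : T) (fb : T) (by rw [hb2, ha2]) (by rw [hab2, ha2]) hne

end Cfsg.Agent.Lib.helper26.S1238
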