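import Mathlib
import Cfsg.Statements.S1238
import Cfsg.Agent.Lib.helper26.Suz64b
import Cfsg.Agent.Lib.helper26.Fix2c
import Cfsg.Agent.Lib.helper37.S1238Defs
import Cfsg.Agent.Lib.helper26.S1238E2b

/-!
# S1238, piece E2c (`cfg_not_hyp64`)

In the configuration `Cfg S T z u y s` of a group of 2-rank 2, `T` is not a `Hyp64` group: conjugation
by `s` is an automorphism of `T` with inner square (`s² ∈ T`) moving the central involution `u`, and
every involution of `T` lies in `{z, u, z u} ⊆ Z(T)` (rank 2); so `hyp64_no_swap` applies.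
-/

set_option autoImplicit false

namespace Cfsg.Agent.Lib.helper26.S1238

open Cfsg Cfsg.Agent.Lib.helper26 Cfsg.Agent.Lib.helper37.S1238

/-- In `Cfg` with 2-rank 2, an element of `T` of square `1` is one of `1, z, u, z u`. -/
theorem helper26_four_of_rank {G : Type*} [Group G] [Finite G] (h2 : Cfsg.PRankLE 2 2 G)
    {S T : Subgroup G} {z u y s : G} (h : Cfg S T z u y s) {g : G} (hgT : g ∈ T)
    (hgg : g * g = 1) : g = 1 ∨ g = z ∨ g = u ∨ g = z * u := by
  classical
  by_contra hcon
  push Not at hcon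
  obtain ⟨h1, h2', h3, h4⟩ := hcon
  have hgz : g * z = z * g := h.zc g (h.TS hgT)
  have hgu : g * u = u * g := h.uc g hgT
  have hgen : ∀ a ∈ ({z, u, g} : Set G), ∀ b ∈ ({z, u, g} : Set G), a * b = b * a := by
    intro a ha b hb
    simp only [Set.mem_insert_iff, Set.mem_singleton_iff] at ha hb
    rcases ha with rfl | rfl | rfl <;> rcases hb with rfl | rfl | rfl
    · rfl
    · exact h.zu_comm
    · exact hgz.symm
    · exact h.zu_comm.symm
    · rfl
    · exact hgu.symm
    · exact hgz
    · exact hgu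
    · rfl
  have hAc := Fix2.closure_comm hgen
  have hAcomm : IsMulCommutative (Subgroup.closure ({z, u, g} : Set G)) :=
    ⟨⟨fun a b => Subtype.ext (hAc a a.2 b b.2)⟩⟩
  have hAexp : ∀ a ∈ Subgroup.closure ({z, u, g} : Set G), a ^ 2 = 1 := by
    intro a ha
    have key : a ∈ Subgroup.closure ({z, u, g} : Set G) ∧ a ^ 2 = 1 := by
      induction ha using Subgroup.closure_induction with
      | mem x hx =>
        refine ⟨Subgroup.subset_closure hx, ?_⟩
        simp only [Set.mem_insert_iff, Set.mem_singleton_iff] at hx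
        rcases hx with rfl | rfl | rfl
        · rw [pow_two]; exact h.zz
        · rw [pow_two]; exact h.uu
        · rw [pow_two]; exact hgg
      | one => exact ⟨Subgroup.one_mem _, one_pow _⟩
      | mul x y _ _ ihx ihy =>
        have hc : Commute x y := hAc x ihx.1 y ihy.1
        exact ⟨Subgroup.mul_mem _ ihx.1 ihy.1, by rw [hc.mul_pow, ihx.2, ihy.2, one_mul]⟩
      | inv x _ ih => exact ⟨Subgroup.inv_mem _ ih.1, by rw [inv_pow, ih.2, inv_one]⟩
    exact key.2
  have hcard := h2 _ hAcomm hAexp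
  have hzA : z ∈ Subgroup.closure ({z, u, g} : Set G) := Subgroup.subset_closure (by simp)
  have huA : u ∈ Subgroup.closure ({z, u, g} : Set G) := Subgroup.subset_closure (by simp)
  have hgA : g ∈ Subgroup.closure ({z, u, g} : Set G) := Subgroup.subset_closure (by simp)
  have hsub : ((({1, z, u, z * u, g} : Finset G)) : Set G) ⊆
      ((Subgroup.closure ({z, u, g} : Set G) : Subgroup G) : Set G) := by
    intro x hx
    simp only [Finset.coe_insert, Finset.coe_singleton, Set.mem_insert_iff,
      Set.mem_singleton_iff] at hx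
    rcases hx with rfl | rfl | rfl | rfl | rfl
    · exact one_mem _
    · exact hzA
    · exact huA
    · exact mul_mem hzA huA
    · exact hgA
  have hle := Set.ncard_le_ncard hsub (Set.toFinite _)
  rw [Set.ncard_coe_finset] at hle
  have hV4 : ((Subgroup.closure ({z, u, g} : Set G) : Subgroup G) : Set G).ncard ≤ 4 := by
    have h5 : ((Subgroup.closure ({z, u, g} : Set G) : Subgroup G) : Set G).ncard =
        Nat.card (Subgroup.closure ({z, u, g} : Set G)) := rfl
    rw [h5]
    exact hcard
  have hzu1 : z * u ≠ 1 := by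
    intro h0
    apply h.uz
    calc u = (z * z) * u := by rw [h.zz, one_mul]
      _ = z * (z * u) := by group
      _ = z := by rw [h0, mul_one]
  have e1 : (1 : G) ∉ ({z, u, z * u, g} : Finset G) := by
    simp only [Finset.mem_insert, Finset.mem_singleton, not_or]
    exact ⟨h.z1.symm, h.u1.symm, hzu1.symm, fun h0 => h1 h0.symm⟩
  have e2 : z ∉ ({u, z * u, g} : Finset G) := by
    simp only [Finset.mem_insert, Finset.mem_singleton, not_or]
    refine ⟨fun h0 => h.uz h0.symm, ?_, fun h0 => h2' h0.symm⟩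
    intro h0
    apply h.u1
    have h5 : z * 1 = z * u := by rw [mul_one]; exact h0
    exact (mul_left_cancel h5).symm
  have e3 : u ∉ ({z * u, g} : Finset G) := by
    simp only [Finset.mem_insert, Finset.mem_singleton, not_or]
    refine ⟨?_, fun h0 => h3 h0.symm⟩
    intro h0
    apply h.z1
    have h5 : 1 * u = z * u := by rw [one_mul]; exact h0
    exact (mul_right_cancel h5).symm
  have e4 : z * u ∉ ({g} : Finset G) := by
    simp only [Finset.mem_singleton]
    exact fun h0 => h4 h0.symm
  rw [Finset.card_insert_of_notMem e1, Finset.card_insert_of_notMem e2,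
    Finset.card_insert_of_notMem e3, Finset.card_insert_of_notMem e4, Finset.card_singleton] at hle
  omega

/-- PIECE E2c. In `Cfg`, `T` is not a `Hyp64` group. Uses E2b with `σ` = conjugation by `s`. -/
theorem cfg_not_hyp64 {G : Type*} [Group G] [Finite G] (h2 : Cfsg.PRankLE 2 2 G) (S : Sylow 2 G)
    (T : Subgroup G) (z u y s : G) (h : Cfg (S : Subgroup G) T z u y s)
    (ρ : MulAut ↥T) (H : S64.Hyp64 ρ) : False := by
  have hzu_s : s⁻¹ * u * s = z * u := by
    calc s⁻¹ * u * s = s⁻¹ * (s * (z * u) * s⁻¹) * s := by rw [h.szu]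
      _ = z * u := by group
  have hcomm : ∀ t ∈ T, t * (z * u) = (z * u) * t := by
    intro t ht
    rw [← mul_assoc, h.zc t (h.TS ht), mul_assoc, h.uc t ht, ← mul_assoc]
  have hnorm1 : ∀ t ∈ T, s * t * s⁻¹ ∈ T := by
    intro t ht
    apply h.cent _ (mul_mem (mul_mem h.sS (h.TS ht)) (inv_mem h.sS))
    calc s * t * s⁻¹ * u = s * (t * (s⁻¹ * u * s)) * s⁻¹ := by group
      _ = s * (t * (z * u)) * s⁻¹ := by rw [hzu_s]
      _ = s * ((z * u) * t) * s⁻¹ := by rw [hcomm t ht]
      _ = s * ((s⁻¹ * u * s) * t) * s⁻¹ := by rw [hzu_s]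
      _ = u * (s * t * s⁻¹) := by group
  have hnorm2 : ∀ t ∈ T, s⁻¹ * t * s ∈ T := by
    intro t ht
    apply h.cent _ (mul_mem (mul_mem (inv_mem h.sS) (h.TS ht)) h.sS)
    calc s⁻¹ * t * s * u = s⁻¹ * (t * (s * u * s⁻¹)) * s := by group
      _ = s⁻¹ * (t * (z * u)) * s := by rw [h.su]
      _ = s⁻¹ * ((z * u) * t) * s := by rw [hcomm t ht]
      _ = s⁻¹ * ((s * u * s⁻¹) * t) * s := by rw [h.su]
      _ = u * (s⁻¹ * t * s) := by group
  have hsN : s ∈ Subgroup.normalizer (T : Set G) := by
    rw [Subgroup.mem_normalizer_iff]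
    intro t
    constructor
    · exact hnorm1 t
    · intro ht
      have h5 := hnorm2 _ ht
      have e : s⁻¹ * (s * t * s⁻¹) * s = t := by group
      rwa [e] at h5
  obtain ⟨σ, hσdef⟩ : ∃ σ : MulAut ↥T, ∀ x : ↥T, ((σ x : ↥T) : G) = s * x * s⁻¹ :=
    ⟨Fix2.conjAut T s hsN, fun x => rfl⟩
  have hs2T : s * s ∈ T := by
    apply h.cent _ (mul_mem h.sS h.sS)
    have h5 : s * u = z * u * s := by
      rw [← h.su]
      group
    have h6 : s * (z * u) = u * s := by
      calc s * (z * u) = (s * (z * u) * s⁻¹) * s := by group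
        _ = u * s := by rw [h.szu]
    calc s * s * u = s * (s * u) := by group
      _ = s * (z * u * s) := by rw [h5]
      _ = s * (z * u) * s := by group
      _ = u * s * s := by rw [h6]
      _ = u * (s * s) := by group
  have hσσ : ∀ x : ↥T, σ (σ x) = (⟨s * s, hs2T⟩ : ↥T) * x * (⟨s * s, hs2T⟩ : ↥T)⁻¹ := by
    intro x
    apply Subtype.ext
    rw [hσdef, hσdef]
    show s * (s * (x : G) * s⁻¹) * s⁻¹ = s * s * (x : G) * (s * s)⁻¹
    group
  have hinv : ∀ g : ↥T, g * g = 1 → g ∈ Subgroup.center ↥T := by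
    intro g hg
    have hgg : (g : G) * (g : G) = 1 := congrArg Subtype.val hg
    have hcases := helper26_four_of_rank h2 h g.2 hgg
    rw [Subgroup.mem_center_iff]
    intro t
    apply Subtype.ext
    show (t : G) * (g : G) = (g : G) * (t : G)
    rcases hcases with e | e | e | e
    · rw [e, mul_one, one_mul]
    · rw [e]
      exact h.zc t (h.TS t.2)
    · rw [e]
      exact h.uc t t.2
    · rw [e]
      exact hcomm t t.2
  refine hyp64_no_swap H hinv σ ⟨s * s, hs2T⟩ hσσ ⟨u, h.uT⟩ (Subtype.ext h.uu) ?_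
  intro hσu
  have h5 := congrArg Subtype.val hσu
  rw [hσdef] at h5
  have h6 : z * u = u := by
    rw [← h.su]
    exact h5
  apply h.z1
  calc z = z * u * u⁻¹ := by group
    _ = u * u⁻¹ := by rw [h6]
    _ = 1 := mul_inv_cancel u

end Cfsg.Agent.Lib.helper26.S1238
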