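import Mathlib
import Cfsg.Agent.Lib.helper69.StemSylow

/-! S2113 split (helper51), piece TWOC (`two_comm`), racing copy by helper26. -/

set_option autoImplicit false

namespace Cfsg.Agent.Lib.helper26.S2113

open scoped commutatorElement
open Cfsg.Agent.Lib.helper69

/-- PIECE TWOC: the preimage of such a `2³` in a central extension is abelian. -/
theorem helper26_two_comm {G Γ : Type*} [Group G] [Group Γ] (σ : Γ →* G) (hsurj : Function.Surjective σ)
    (hc : σ.ker ≤ Subgroup.center Γ) (S : Subgroup G) (hcard : Nat.card S = 8)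
    (hexp : ∀ x ∈ S, x * x = 1) (g : G) (hg : ∀ x ∈ S, g * x * g⁻¹ ∈ S) (hg7 : g ^ 7 = 1)
    (hfix : ∀ x ∈ S, g * x * g⁻¹ = x → x = 1)
    (hF : ∀ (f : ZMod 7 → Γ) (j : ZMod 7), (∀ a b, f a * f b = f b * f a) → f 0 = 1 →
      (∀ k, f k * f k = 1) → (∀ k, f (-k) = f k) → j ≠ 0 → j ≠ 1 →
      (∀ i, f (i + j) = f i * f (i + 1)) → ∀ k, f k = 1)
    (x y : Γ) (hx : σ x ∈ S) (hy : σ y ∈ S) : x * y = y * x := by
  classical
  -- `S` is abelian
  have hinvS : ∀ a ∈ S, a⁻¹ = a := fun a ha => inv_eq_of_mul_eq_one_left (hexp a ha)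
  have hSab : ∀ a ∈ S, ∀ b ∈ S, a * b = b * a := by
    intro a ha b hb
    calc a * b = (a * b)⁻¹ := (hinvS _ (S.mul_mem ha hb)).symm
      _ = b⁻¹ * a⁻¹ := mul_inv_rev a b
      _ = b * a := by rw [hinvS a ha, hinvS b hb]
  have hcen : ∀ u v : Γ, σ u ∈ S → σ v ∈ S → ⁅u, v⁆ ∈ Subgroup.center Γ := fun u v hu hv =>
    commutatorElement_mem_center_of_central σ hc u v (hSab _ hu _ hv)
  have hkercomm : ∀ z : Γ, σ z = 1 → ∀ w : Γ, z * w = w * z := by
    intro z hz w
    have h1 : z ∈ Subgroup.center Γ := hc hz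
    exact ((Subgroup.mem_center_iff.mp h1) w).symm
  by_cases hx1 : σ x = 1
  · exact hkercomm x hx1 y
  by_cases hy1 : σ y = 1
  · exact (hkercomm y hy1 x).symm
  obtain ⟨γ, hγ⟩ := hsurj g
  -- the orbit of `s = σ x`
  have hconjS : ∀ n : ℕ, ∀ a ∈ S, g ^ n * a * (g ^ n)⁻¹ ∈ S := by
    intro n
    induction n with
    | zero => intro a ha; simpa using ha
    | succ n ih =>
        intro a ha
        have h1 := hg _ (ih a ha)
        have e : g ^ (n + 1) * a * (g ^ (n + 1))⁻¹ = g * (g ^ n * a * (g ^ n)⁻¹) * g⁻¹ := by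
          rw [pow_succ']; group
        rw [e]; exact h1
  have hpow : ∀ n : ℕ, g ^ n = g ^ (n % 7) := fun n => pow_eq_pow_mod n hg7
  let a : ZMod 7 → G := fun k => g ^ k.val * σ x * (g ^ k.val)⁻¹
  have ha_def : ∀ k, a k = g ^ k.val * σ x * (g ^ k.val)⁻¹ := fun k => rfl
  have haS : ∀ k, a k ∈ S := fun k => hconjS _ _ hx
  have ha0 : a 0 = σ x := by
    rw [ha_def, ZMod.val_zero]; simp
  have ha_add : ∀ i k : ZMod 7, a (i + k) = g ^ i.val * a k * (g ^ i.val)⁻¹ := by
    intro i k
    rw [ha_def, ha_def, ZMod.val_add, ← hpow, pow_add]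
    group
  have ha_ne : ∀ k, a k ≠ 1 := by
    intro k hk
    rw [ha_def] at hk
    apply hx1
    have : σ x = (g ^ k.val)⁻¹ * (g ^ k.val * σ x * (g ^ k.val)⁻¹) * g ^ k.val := by group
    rw [this, hk]; group
  -- no nontrivial power of `g` fixes `σ x`
  have hnofix : ∀ d : ℕ, 0 < d → d < 7 → g ^ d * σ x * (g ^ d)⁻¹ ≠ σ x := by
    intro d hd0 hd7 hd
    have hcop : Nat.Coprime d 7 := by
      have h7 : Nat.Prime 7 := by norm_num
      exact (Nat.coprime_comm.mp ((Nat.Prime.coprime_iff_not_dvd h7).mpr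
        (fun h => by have := Nat.le_of_dvd hd0 h; omega)))
    obtain ⟨m, -, hm⟩ := Nat.exists_mul_mod_eq_one_of_coprime hcop (by norm_num)
    have hcomm : Commute (g ^ d) (σ x) := by
      have : g ^ d * σ x = σ x * g ^ d := by
        calc g ^ d * σ x = (g ^ d * σ x * (g ^ d)⁻¹) * g ^ d := by group
          _ = σ x * g ^ d := by rw [hd]
      exact this
    have hcomm2 : Commute ((g ^ d) ^ m) (σ x) := hcomm.pow_left m
    have hgm : (g ^ d) ^ m = g := by
      rw [← pow_mul, hpow, hm, pow_one]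
    rw [hgm] at hcomm2
    have h2 : g * σ x * g⁻¹ = σ x := by
      have h3 : g * σ x = σ x * g := hcomm2
      rw [h3]; group
    exact hx1 (hfix _ hx h2)
  have ha_inj : Function.Injective a := by
    intro k l hkl
    by_contra hne
    have hval : k.val ≠ l.val := fun h => hne (ZMod.val_injective 7 h)
    have key : ∀ k l : ZMod 7, l.val < k.val → a k = a l → False := by
      intro k l hlt hkl
      have hk7 : k.val < 7 := ZMod.val_lt k
      apply hnofix (k.val - l.val) (by omega) (by omega)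
      rw [ha_def, ha_def] at hkl
      have e1 : g ^ k.val = g ^ l.val * g ^ (k.val - l.val) := by
        rw [← pow_add]; congr 1; omega
      rw [e1] at hkl
      have e2 : g ^ (k.val - l.val) * σ x * (g ^ (k.val - l.val))⁻¹
          = (g ^ l.val)⁻¹ * (g ^ l.val * g ^ (k.val - l.val) * σ x *
              (g ^ l.val * g ^ (k.val - l.val))⁻¹) * g ^ l.val := by group
      rw [e2, hkl]; group
    rcases lt_or_gt_of_ne hval with h | h
    · exact key l k h hkl.symm
    · exact key k l h hkl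
  -- the orbit is all of `S \ {1}`
  have hsurjS : ∀ t ∈ S, t ≠ 1 → ∃ k, t = a k := by
    intro t ht ht1
    let φ : Option (ZMod 7) → S := fun o => match o with
      | none => 1
      | some k => ⟨a k, haS k⟩
    have hφinj : Function.Injective φ := by
      intro o1 o2 h
      match o1, o2, h with
      | none, none, _ => rfl
      | none, some k, h =>
          exfalso
          have : (1 : G) = a k := congrArg Subtype.val h
          exact ha_ne k this.symm
      | some k, none, h =>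
          exfalso
          have : a k = (1 : G) := congrArg Subtype.val h
          exact ha_ne k this
      | some k, some l, h =>
          have : a k = a l := congrArg Subtype.val h
          rw [ha_inj this]
    have : Finite S := Nat.finite_of_card_ne_zero (by rw [hcard]; norm_num)
    have hcardle : Nat.card S ≤ Nat.card (Option (ZMod 7)) := by
      rw [hcard, Nat.card_eq_fintype_card, Fintype.card_option, ZMod.card]
    have hbij := hφinj.bijective_of_nat_card_le hcardle
    obtain ⟨o, ho⟩ := hbij.2 ⟨t, ht⟩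
    match o, ho with
    | none, ho =>
        exfalso
        have : (1 : G) = t := congrArg Subtype.val ho
        exact ht1 this.symm
    | some k, ho =>
        exact ⟨k, (congrArg Subtype.val ho).symm⟩
  -- the relation `s * a 1 = a j`
  have h1S : σ x * a 1 ∈ S := S.mul_mem hx (haS 1)
  have h1ne : σ x * a 1 ≠ 1 := by
    intro h
    have h2 : a 1 = (σ x)⁻¹ := eq_inv_of_mul_eq_one_right h
    rw [hinvS _ hx, ← ha0] at h2
    have h3 := ha_inj h2
    exact absurd h3 (by decide)
  obtain ⟨j, hj⟩ := hsurjS _ h1S h1ne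
  have hj0 : j ≠ 0 := by
    intro h
    rw [h, ha0] at hj
    exact ha_ne 1 (by simpa using hj)
  have hj1 : j ≠ 1 := by
    intro h
    rw [h] at hj
    exact hx1 (by simpa using hj)
  -- lifts of the orbit
  let b : ZMod 7 → Γ := fun k => γ ^ k.val * x * (γ ^ k.val)⁻¹
  have hb_def : ∀ k, b k = γ ^ k.val * x * (γ ^ k.val)⁻¹ := fun k => rfl
  have hσb : ∀ k, σ (b k) = a k := by
    intro k
    rw [hb_def, ha_def, map_mul, map_mul, map_inv, map_pow, hγ]
  have hbS : ∀ k, σ (b k) ∈ S := fun k => by rw [hσb]; exact haS k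
  have hb0 : b 0 = x := by
    rw [hb_def, ZMod.val_zero]; simp
  let f : ZMod 7 → Γ := fun k => ⁅x, b k⁆
  have hf_def : ∀ k, f k = ⁅x, b k⁆ := fun k => rfl
  have hfcen : ∀ k, f k ∈ Subgroup.center Γ := fun k => hcen x (b k) hx (hbS k)
  have hf1 : ∀ p q, f p * f q = f q * f p := by
    intro p q
    exact ((Subgroup.mem_center_iff.mp (hfcen p)) (f q)).symm
  have hf2 : f 0 = 1 := by
    rw [hf_def, hb0, commutatorElement_self]
  have hf3 : ∀ k, f k * f k = 1 := by
    intro k
    rw [hf_def, ← stem_commutatorElement_mul_right x (b k) (b k) (hfcen k),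
      commutatorElement_eq_one_iff_mul_comm]
    have hker : σ (b k * b k) = 1 := by
      rw [map_mul, hσb]; exact hexp _ (haS k)
    exact (hkercomm _ hker x).symm
  have hf4 : ∀ k, f (-k) = f k := by
    intro k
    have e1 : f (-k) = ⁅γ ^ k.val * x * (γ ^ k.val)⁻¹, γ ^ k.val * b (-k) * (γ ^ k.val)⁻¹⁆ :=
      (commutatorElement_conj_of_central (γ ^ k.val) x (b (-k)) (hfcen (-k))).symm
    have e2 : σ (γ ^ k.val * b (-k) * (γ ^ k.val)⁻¹) = σ x := by
      rw [map_mul, map_mul, map_inv, map_pow, hγ, hσb, ← ha_add, add_neg_cancel, ha0]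
    have e3 : ⁅γ ^ k.val * x * (γ ^ k.val)⁻¹, γ ^ k.val * b (-k) * (γ ^ k.val)⁻¹⁆ = ⁅b k, x⁆ :=
      commutatorElement_congr_of_central σ hc _ _ _ _ rfl e2
    have e4 : ⁅b k, x⁆ = (f k)⁻¹ := by
      rw [hf_def, commutatorElement_inv]
    rw [e1, e3, e4]
    exact inv_eq_of_mul_eq_one_left (hf3 k)
  have hf5 : ∀ i, f (i + j) = f i * f (i + 1) := by
    intro i
    have e1 : σ (b (i + j)) = σ (b i * b (i + 1)) := by
      rw [hσb (i + j), map_mul, hσb i, hσb (i + 1), ha_add i j, ← hj, ha_add i 1]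
      have : a i = g ^ i.val * σ x * (g ^ i.val)⁻¹ := rfl
      rw [this]; group
    rw [hf_def, hf_def, hf_def,
      ← stem_commutatorElement_mul_right x (b i) (b (i + 1)) (hfcen (i + 1))]
    exact commutatorElement_congr_of_central σ hc _ _ _ _ rfl e1
  have hfall := hF f j hf1 hf2 hf3 hf4 hj0 hj1 hf5
  obtain ⟨k, hk⟩ := hsurjS _ hy hy1
  have hfin : ⁅x, y⁆ = ⁅x, b k⁆ :=
    commutatorElement_congr_of_central σ hc _ _ _ _ rfl (by rw [hσb, hk])
  have h1 : ⁅x, y⁆ = 1 := by rw [hfin]; exact hfall k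
  exact commutatorElement_eq_one_iff_mul_comm.mp h1

end Cfsg.Agent.Lib.helper26.S2113
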