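import Mathlib
import Cfsg.Agent.Lib.helper6.S3313Defs

set_option autoImplicit false

namespace Cfsg.Agent.Lib.helper26.S3313

open Cfsg.Agent.Lib.helper6.S3313

variable {G : Type*} [Group G] [Finite G]

/-- Conjugation by an element of order 5 on a stable finite set: fixed point congruence. -/
theorem conj_card_modEq (g : G) (hg5 : orderOf g = 5) (S : Set G)
    (hS : ∀ x ∈ S, g * x * g⁻¹ ∈ S) :
    Nat.card S ≡ Nat.card {x : G // x ∈ S ∧ g * x = x * g} [MOD 5] := by
  classical
  let _ : Fintype S := Fintype.ofFinite S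
  let f : Function.End S := fun x => ⟨g * x.1 * g⁻¹, hS x.1 x.2⟩
  have hpow : ∀ (n : ℕ) (x : S), (((f ^ n) x : S) : G) = g ^ n * x.1 * (g ^ n)⁻¹ := by
    intro n
    induction n with
    | zero =>
      intro x
      show (x : G) = g ^ 0 * x.1 * (g ^ 0)⁻¹
      simp
    | succ n ih =>
      intro x
      show (((f ^ n * f) x : S) : G) = g ^ (n + 1) * x.1 * (g ^ (n + 1))⁻¹
      show (((f ^ n) (f x) : S) : G) = g ^ (n + 1) * x.1 * (g ^ (n + 1))⁻¹
      rw [ih]
      show g ^ n * (g * x.1 * g⁻¹) * (g ^ n)⁻¹ = g ^ (n + 1) * x.1 * (g ^ (n + 1))⁻¹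
      rw [pow_succ]
      group
  have hf : f ^ 5 ^ 1 = 1 := by
    funext x
    apply Subtype.ext
    rw [pow_one, hpow]
    have : g ^ 5 = 1 := by rw [← hg5]; exact pow_orderOf_eq_one g
    rw [this]
    show (1 : G) * x.1 * (1 : G)⁻¹ = x.1
    simp
  have : Fact (Nat.Prime 5) := ⟨by norm_num⟩
  have key := Equiv.Perm.card_fixedPoints_modEq (p := 5) (n := 1) hf
  rw [← Nat.card_eq_fintype_card, ← Nat.card_eq_fintype_card] at key
  refine key.trans ?_
  have e : (Function.fixedPoints f) ≃ {x : G // x ∈ S ∧ g * x = x * g} :=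
    { toFun := fun y => ⟨y.1.1, y.1.2, by
        have h1 : f y.1 = y.1 := y.2
        have h2 : g * y.1.1 * g⁻¹ = y.1.1 := congrArg Subtype.val h1
        calc g * y.1.1 = g * y.1.1 * g⁻¹ * g := by group
          _ = y.1.1 * g := by rw [h2]⟩
      invFun := fun x => ⟨⟨x.1, x.2.1⟩, by
        show f ⟨x.1, x.2.1⟩ = ⟨x.1, x.2.1⟩
        apply Subtype.ext
        show g * x.1 * g⁻¹ = x.1
        rw [x.2.2]; group⟩
      left_inv := fun y => by ext; rfl
      right_inv := fun x => by ext; rfl }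
  rw [Nat.card_congr e]

/-- E2a -/
theorem cent_five {z : G} {Q K : Subgroup G} (h : QK z Q K)
    (hinv : ∃ k ∈ K, orderOf k = 2)
    (hsimple : ∀ N : Subgroup G, N ≤ K → (∀ k ∈ K, ∀ n ∈ N, k * n * k⁻¹ ∈ N) → N = ⊥ ∨ N = K)
    (g : G) (hg : g ∈ K) (hg5 : orderOf g = 5) (q : G) (hq : q ∈ Q) (hgq : g * q = q * g) :
    q = 1 ∨ q = z := by
  classical
  -- the fixed subgroup
  let F : Subgroup G := Q ⊓ Subgroup.centralizer ({g} : Set G)
  have hmemF : ∀ x : G, x ∈ F ↔ x ∈ Q ∧ g * x = x * g := by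
    intro x
    simp only [F, Subgroup.mem_inf, Subgroup.mem_centralizer_iff, Set.mem_singleton_iff,
      forall_eq]
  have hcardF : Nat.card {x : G // x ∈ (Q : Set G) ∧ g * x = x * g} = Nat.card F := by
    apply Nat.card_congr
    exact Equiv.subtypeEquivRight (fun x => (hmemF x).symm)
  have hmod := conj_card_modEq g hg5 (Q : Set G) (fun x hx => h.K_norm g hg x hx)
  rw [hcardF] at hmod
  have hQ32 : Nat.card (Q : Set G) = 32 := h.card_Q
  rw [hQ32] at hmod
  have hdvd : Nat.card F ∣ 32 := by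
    have := Subgroup.card_dvd_of_le (inf_le_left : F ≤ Q)
    rwa [h.card_Q] at this
  have hcases : Nat.card F = 2 ∨ Nat.card F = 32 := by
    have hle : Nat.card F ≤ 32 := Nat.le_of_dvd (by norm_num) hdvd
    have hm : 32 % 5 = Nat.card F % 5 := hmod
    generalize Nat.card F = n at hdvd hle hm
    interval_cases n <;> simp_all
  have hzF : z ∈ F := (hmemF z).2 ⟨h.z_mem, h.K_z g hg⟩
  rcases hcases with h2 | h32
  · -- F = {1, z}
    have hqF : q ∈ F := (hmemF q).2 ⟨hq, hgq⟩
    obtain ⟨y, hy1, hyu⟩ := (Nat.card_eq_two_iff' (1 : F)).1 h2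
    by_cases hq1 : q = 1
    · exact Or.inl hq1
    · right
      have e1 : (⟨q, hqF⟩ : F) = y := hyu _ (fun hh => hq1 (congrArg Subtype.val hh))
      have e2 : (⟨z, hzF⟩ : F) = y := hyu _ (fun hh => h.z_ne (congrArg Subtype.val hh))
      exact congrArg Subtype.val (e1.trans e2.symm)
  · exfalso
    -- F = Q, so g centralizes Q
    have hFQ : F = Q := by
      apply Subgroup.eq_of_le_of_card_ge inf_le_left
      rw [h32, h.card_Q]
    have hgc : ∀ x ∈ Q, g * x = x * g := by
      intro x hx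
      have : x ∈ F := by rw [hFQ]; exact hx
      exact ((hmemF x).1 this).2
    let N : Subgroup G := K ⊓ Subgroup.centralizer (Q : Set G)
    have hmemN : ∀ x : G, x ∈ N ↔ x ∈ K ∧ ∀ y ∈ Q, y * x = x * y := by
      intro x
      simp only [N, Subgroup.mem_inf, Subgroup.mem_centralizer_iff, SetLike.mem_coe]
    have hNK : N ≤ K := inf_le_left
    have hNinv : ∀ k ∈ K, ∀ n ∈ N, k * n * k⁻¹ ∈ N := by
      intro k hk n hn
      obtain ⟨hnK, hnc⟩ := (hmemN n).1 hn
      refine (hmemN _).2 ⟨K.mul_mem (K.mul_mem hk hnK) (K.inv_mem hk), ?_⟩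
      intro y hy
      have hy' : k⁻¹ * y * k ∈ Q := by
        have := h.K_norm k⁻¹ (K.inv_mem hk) y hy
        simpa using this
      have hc := hnc _ hy'
      calc y * (k * n * k⁻¹) = k * ((k⁻¹ * y * k) * n) * k⁻¹ := by group
        _ = k * (n * (k⁻¹ * y * k)) * k⁻¹ := by rw [hc]
        _ = k * n * k⁻¹ * y := by group
    have hgN : g ∈ N := (hmemN g).2 ⟨hg, fun y hy => (hgc y hy).symm⟩
    have hg1 : g ≠ 1 := by
      intro hh
      rw [hh, orderOf_one] at hg5
      norm_num at hg5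
    have hNK' : N = K := by
      rcases hsimple N hNK hNinv with hb | hK
      · exfalso
        rw [hb, Subgroup.mem_bot] at hgN
        exact hg1 hgN
      · exact hK
    obtain ⟨k, hkK, hk2⟩ := hinv
    have hkN : k ∈ N := by rw [hNK']; exact hkK
    have hkc := ((hmemN k).1 hkN).2
    have h4 := (h.cent k hkK hk2).1
    have h32' : Nat.card {q : G // q ∈ Q ∧ q * k = k * q} = Nat.card Q := by
      apply Nat.card_congr
      exact Equiv.subtypeEquivRight (fun x => ⟨fun hx => hx.1, fun hx => ⟨hx, hkc x hx⟩⟩)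
    rw [h32', h.card_Q] at h4
    norm_num at h4

end Cfsg.Agent.Lib.helper26.S3313
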