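import Mathlib
import Cfsg.Agent.Lib.helper6.S3313Defs
import Cfsg.Agent.Lib.helper26.S3313E2a

set_option autoImplicit false

namespace Cfsg.Agent.Lib.helper26.S3313

open Cfsg.Agent.Lib.helper6.S3313

variable {G : Type*} [Group G] [Finite G]

/-- E2b -/
theorem five_dvd {z : G} {Q K : Subgroup G} (h : QK z Q K) (g : G) (hg : g ∈ K)
    (hg5 : orderOf g = 5) (hfix : ∀ q ∈ Q, g * q = q * g → q = 1 ∨ q = z) :
    5 ∣ Nat.card {v : G // v ∈ Q ∧ v ^ 2 = 1 ∧ v ≠ 1 ∧ v ≠ z} := by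
  classical
  let S : Set G := {v : G | v ∈ Q ∧ v ^ 2 = 1 ∧ v ≠ 1 ∧ v ≠ z}
  have hS : ∀ x ∈ S, g * x * g⁻¹ ∈ S := by
    intro x hx
    obtain ⟨hxQ, hx2, hx1, hxz⟩ := hx
    refine ⟨h.K_norm g hg x hxQ, ?_, ?_, ?_⟩
    · calc (g * x * g⁻¹) ^ 2 = g * x ^ 2 * g⁻¹ := by rw [pow_two, pow_two]; group
        _ = 1 := by rw [hx2]; group
    · intro hh
      apply hx1
      calc x = g⁻¹ * (g * x * g⁻¹) * g := by group
        _ = 1 := by rw [hh]; group
    · intro hh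
      apply hxz
      have hz : g * z = z * g := h.K_z g hg
      calc x = g⁻¹ * (g * x * g⁻¹) * g := by group
        _ = g⁻¹ * z * g := by rw [hh]
        _ = g⁻¹ * (z * g) := by group
        _ = g⁻¹ * (g * z) := by rw [hz]
        _ = z := by group
  have hmod := conj_card_modEq g hg5 S hS
  have hempty : Nat.card {x : G // x ∈ S ∧ g * x = x * g} = 0 := by
    have : IsEmpty {x : G // x ∈ S ∧ g * x = x * g} := by
      constructor
      rintro ⟨x, ⟨hxQ, hx2, hx1, hxz⟩, hc⟩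
      rcases hfix x hxQ hc with h1 | h1
      · exact hx1 h1
      · exact hxz h1
    exact Nat.card_of_isEmpty
  rw [hempty] at hmod
  have hcard : Nat.card S = Nat.card {v : G // v ∈ Q ∧ v ^ 2 = 1 ∧ v ≠ 1 ∧ v ≠ z} := rfl
  rw [hcard] at hmod
  exact (Nat.modEq_zero_iff_dvd).1 hmod

end Cfsg.Agent.Lib.helper26.S3313
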