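import Mathlib
import Cfsg.Agent.Lib.helper26.S4409Defs
import Cfsg.Agent.Lib.helper12.S4409_KFU
import Cfsg.Agent.Lib.helper83.S4409_KFN

/-! S4409: the key fact (helper26), from the unique-involution and non-unique cases. -/

set_option autoImplicit false

namespace Cfsg.Agent.Lib.helper26.S4409

variable {G : Type*} [Group G]

theorem kf [Finite G] (Y : Subgroup G) (hY : IsPGroup 2 ↥Y) (hN : NoP Y) (g : G)
    (hg : g ∈ Subgroup.normalizer (Y : Set G)) (hodd : Odd (orderOf g))
    (hnc : g ∉ Subgroup.centralizer (Y : Set G)) : IsV4 Y ∨ IsQ8 Y := by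
  by_cases hU : Cfsg.Agent.Lib.helper59.UniqueOrderP 2 ↥Y
  · exact Or.inr (kfu Y hY hU g hg hodd hnc)
  · exact Or.inl (kfn Y hY hN hU g hg hodd hnc)

end Cfsg.Agent.Lib.helper26.S4409
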