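import Mathlib
import Cfsg.Agent.Lib.helper26.S4409Defs
import Cfsg.Agent.Lib.helper91.S4409_AV1core
import Cfsg.Agent.Lib.helper26.S4409_KF
import Cfsg.Agent.Lib.helper9.S4409_T1V
import Cfsg.Agent.Lib.helper16.S4409_QZ

/-! S4409 piece wrapper (helper26): canonical statement from a landed core. -/

set_option autoImplicit false

namespace Cfsg.Agent.Lib.helper26.S4409

variable {G : Type*} [Group G]

theorem av1 [Finite G] (X H K : Subgroup G) (hM : MinSet X H) (hKX : K ≤ X)
    (hXK : X ≤ Subgroup.normalizer (K : Set G)) (hHK : H ≤ Subgroup.normalizer (K : Set G))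
    (hV : IsV4 K) (g : G) (hg : g ∈ H) (hgc : g ∉ Subgroup.centralizer (K : Set G)) :
    X ≤ Subgroup.centralizer (K : Set G) :=
  helper91_av1_core X H K hM hKX hXK hHK hV g hg hgc
    (fun Y hY hN g hg hodd hnc => kf Y hY hN g hg hodd hnc)
    (fun X Q hX hQX hn hV hC => t1v X Q hX hQX hn hV hC) (fun M hQ => qz M hQ)

end Cfsg.Agent.Lib.helper26.S4409
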