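import Mathlib
import Cfsg.Agent.Lib.helper26.S4409Defs
import Cfsg.Agent.Lib.helper26.S4409_KF
import Cfsg.Agent.Lib.helper92.S4409_B1A
import Cfsg.Agent.Lib.helper65.S4409_MAXC
import Cfsg.Agent.Lib.helper35.S4409_MAXQ1
import Cfsg.Agent.Lib.helper54.S4409_MAXQ2
import Cfsg.Agent.Lib.helper1.S4409_G3
import Cfsg.Agent.Lib.helper35.S4409_SPECX
import Cfsg.Agent.Lib.helper54.S4409_SPEC
import Cfsg.Agent.Lib.helper13.S4409CL2
import Cfsg.Agent.Lib.helper33.S4409_EL4
import Cfsg.Agent.Lib.helper31.S4409_ES32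
import Cfsg.Agent.Lib.helper26.S4409_W_AV1
import Cfsg.Agent.Lib.helper13.S4409VFIX
import Cfsg.Agent.Lib.helper16.S4409_QZ
import Cfsg.Agent.Lib.helper82.S4409_Q8L
import Cfsg.Agent.Lib.helper69.S4409_B2QC
import Cfsg.Agent.Lib.helper47.S4409_CP32

set_option autoImplicit false

namespace Cfsg.Agent.Lib.helper26.S4409

variable {G : Type*} [Group G]

theorem helper26_odd_of_mem [Finite G] (H : Subgroup G) (hodd : (Nat.card ↥H).Coprime 2) (g : G)
    (hg : g ∈ H) : Odd (orderOf g) := by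
  have h1 : orderOf g ∣ Nat.card ↥H := by
    have := orderOf_dvd_natCard (⟨g, hg⟩ : ↥H)
    rwa [Subgroup.orderOf_mk] at this
  have h2 : (orderOf g).Coprime 2 := Nat.Coprime.coprime_dvd_left h1 hodd
  exact Nat.Coprime.odd_of_right h2

theorem helper26_dvd4 (n : ℕ) (h : n ∣ 4) : n = 1 ∨ n = 2 ∨ n = 4 := by
  have hle : n ≤ 4 := Nat.le_of_dvd (by norm_num) h
  interval_cases n <;> omega

theorem helper26_conj_mem_comm (X : Subgroup G) (g : G)
    (hg : g ∈ Subgroup.normalizer (X : Set G)) (v : G) (hv : v ∈ ⁅X, X⁆) :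
    g * v * g⁻¹ ∈ ⁅X, X⁆ := by
  have hmap : X.map (MulAut.conj g).toMonoidHom = X :=
    Subgroup.mem_normalizer_iff_map_conj_eq.mp hg
  have h := Subgroup.map_commutator X X (MulAut.conj g).toMonoidHom
  rw [hmap] at h
  rw [← h]
  exact ⟨v, hv, rfl⟩

theorem helper26_comm_of_bot (X : Subgroup G) (h : (⁅X, X⁆ : Subgroup G) = ⊥) :
    IsMulCommutative ↥X := by
  refine ⟨⟨fun a b => ?_⟩⟩
  have h1 : (a : G) * (b : G) * (a : G)⁻¹ * (b : G)⁻¹ ∈ ⁅X, X⁆ :=
    Subgroup.commutator_mem_commutator a.2 b.2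
  rw [h, Subgroup.mem_bot] at h1
  apply Subtype.ext
  have h2 : (a : G) * (b : G) = (a : G) * (b : G) * (a : G)⁻¹ * (b : G)⁻¹ * ((b : G) * (a : G)) := by
    group
  rw [Subgroup.coe_mul, Subgroup.coe_mul, h2, h1, one_mul]

theorem helper26_norm_cent (M : Subgroup G) (g : G)
    (hg : g ∈ Subgroup.normalizer (M : Set G)) :
    g ∈ Subgroup.normalizer ((Subgroup.centralizer (M : Set G) : Subgroup G) : Set G) := by
  have key : ∀ g : G, g ∈ Subgroup.normalizer (M : Set G) →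
      ∀ c ∈ Subgroup.centralizer (M : Set G), g * c * g⁻¹ ∈ Subgroup.centralizer (M : Set G) := by
    intro g hg c hc
    rw [Subgroup.mem_centralizer_iff] at hc ⊢
    intro m hm
    have hm' : g⁻¹ * m * g ∈ M := by
      have := (Subgroup.mem_normalizer_iff.mp (inv_mem hg) m).mp hm
      simpa using this
    have := hc _ hm'
    calc m * (g * c * g⁻¹) = g * ((g⁻¹ * m * g) * c) * g⁻¹ := by group
      _ = g * (c * (g⁻¹ * m * g)) * g⁻¹ := by rw [this]
      _ = g * c * g⁻¹ * m := by group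
  rw [Subgroup.mem_normalizer_iff]
  intro c
  constructor
  · exact key g hg c
  · intro h
    have := key g⁻¹ (inv_mem hg) _ h
    simpa [mul_assoc] using this

theorem helper26_norm_inf (A B : Subgroup G) (g : G)
    (hA : g ∈ Subgroup.normalizer (A : Set G)) (hB : g ∈ Subgroup.normalizer (B : Set G)) :
    g ∈ Subgroup.normalizer ((A ⊓ B : Subgroup G) : Set G) := by
  rw [Subgroup.mem_normalizer_iff] at hA hB ⊢
  intro x
  rw [Subgroup.mem_inf, Subgroup.mem_inf, hA x, hB x]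

theorem helper26_norm_sup (A B : Subgroup G) (g : G)
    (hA : g ∈ Subgroup.normalizer (A : Set G)) (hB : g ∈ Subgroup.normalizer (B : Set G)) :
    g ∈ Subgroup.normalizer ((A ⊔ B : Subgroup G) : Set G) := by
  rw [Subgroup.mem_normalizer_iff_map_conj_eq] at hA hB ⊢
  rw [Subgroup.map_sup, hA, hB]

theorem b1 [Finite G] (X H M : Subgroup G) (hM : MinSet X H) (hXH : ⁅X, H⁆ = X)
    (hMax : IsMaxInv X H M) (hc : H ≤ Subgroup.centralizer (M : Set G))
    (hab : ¬ IsMulCommutative ↥X) : Concl X := by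
  obtain ⟨hX, hHX, hodd, hmin, hnot⟩ := hM
  obtain ⟨hMX, hMne, hXM, hHM, hmax⟩ := hMax
  have hMax : IsMaxInv X H M := ⟨hMX, hMne, hXM, hHM, hmax⟩
  have hXcM : X ≤ Subgroup.centralizer (M : Set G) := b1a X H M hXH hMX hXM hc
  have hZ : X ⊓ Subgroup.centralizer (X : Set G) = M := maxc X H M hHX hMax hXcM hab
  have hc1 : ⁅X, X⁆ ≤ M := maxq1 X H M hX hHX hMax
  have hsq : ∀ x ∈ X, x * x ∈ M := maxq2 X H M hX hHX hMax hc1
  have hc2 : M ≤ ⁅X, X⁆ := by
    intro w hw
    apply g3 X H hX hHX hodd hXH w (hMX hw)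
    intro h hh
    exact ((Subgroup.mem_centralizer_iff.mp (hc hh)) w hw).symm
  have hcomm : ⁅X, X⁆ = M := le_antisymm hc1 hc2
  obtain ⟨hs1, hs2, hs3⟩ := specx X M hMX hZ hcomm
  have hspec : Cfsg.IsSpecial 2 ↥X := spec hX hs1 (fun x => hs3 (x * x) (hsq x x.2))
  have hMcent : M ≤ Subgroup.centralizer (X : Set G) := by
    rw [← hZ]; exact inf_le_right
  have hexp : ∀ a ∈ M, a * a = 1 := by
    have h1 := cl2 X (hcomm ▸ hMcent) (fun x hx => hMcent (hsq x hx))
    rw [hcomm] at h1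
    exact h1
  have hNM : NoP M := hmin M hMX hMne hHM
  have h4 : Nat.card ↥M ∣ 4 := el4 M hNM hexp
  have hcases : Nat.card ↥M = 1 ∨ Nat.card ↥M = 2 ∨ Nat.card ↥M = 4 := helper26_dvd4 _ h4
  rcases hcases with h1 | h2 | h4'
  · exfalso
    apply hab
    have hMbot : M = ⊥ := Subgroup.card_eq_one.mp h1
    rw [hMbot] at hcomm
    exact helper26_comm_of_bot X hcomm
  · right; left
    have hext : Cfsg.IsExtraspecial 2 ↥X := ⟨hspec, by rw [hs2, h2]⟩
    exact ⟨hext, es32 X hext hnot⟩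
  · right; right; right
    exact ⟨hspec, by rw [hs2, h4']⟩

theorem b2v [Finite G] (X H M : Subgroup G) (hM : MinSet X H) (hMax : IsMaxInv X H M)
    (hV : IsV4 M) (g : G) (hg : g ∈ H) (hgc : g ∉ Subgroup.centralizer (M : Set G))
    (hab : ¬ IsMulCommutative ↥X) : Concl X := by
  obtain ⟨hX, hHX, hodd, hmin, hnot⟩ := hM
  have hM' : MinSet X H := ⟨hX, hHX, hodd, hmin, hnot⟩
  obtain ⟨hMX, hMne, hXM, hHM, hmax⟩ := hMax
  have hMax : IsMaxInv X H M := ⟨hMX, hMne, hXM, hHM, hmax⟩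
  have hXcM : X ≤ Subgroup.centralizer (M : Set G) := av1 X H M hM' hMX hXM hHM hV g hg hgc
  have hZ := maxc X H M hHX hMax hXcM hab
  have hc1 := maxq1 X H M hX hHX hMax
  have hsq := maxq2 X H M hX hHX hMax hc1
  have hgo := helper26_odd_of_mem H hodd g hg
  have hcomm : ⁅X, X⁆ = M := by
    by_contra hne
    have hnb : (⁅X, X⁆ : Subgroup G) ≠ ⊥ := fun hb => hab (helper26_comm_of_bot X hb)
    have hd : Nat.card ↥(⁅X, X⁆ : Subgroup G) ∣ Nat.card ↥M := Subgroup.card_dvd_of_le hc1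
    rw [hV.1] at hd
    have hn1 : Nat.card ↥(⁅X, X⁆ : Subgroup G) ≠ 1 := fun h => hnb (Subgroup.card_eq_one.mp h)
    have hn4 : Nat.card ↥(⁅X, X⁆ : Subgroup G) ≠ 4 := by
      intro h
      apply hne
      exact Subgroup.eq_of_le_of_card_ge hc1 (by rw [h, hV.1])
    have hc2 : Nat.card ↥(⁅X, X⁆ : Subgroup G) = 2 := by
      rcases helper26_dvd4 _ hd with h | h | h
      · exact absurd h hn1
      · exact h
      · exact absurd h hn4
    obtain ⟨v, hv1⟩ := (Subgroup.ne_bot_iff_exists_ne_one).mp hnb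
    have hw : g * (v : G) * g⁻¹ ∈ ⁅X, X⁆ := helper26_conj_mem_comm X g (hHX hg) v v.2
    have huniq := (Nat.card_eq_two_iff' (1 : ↥(⁅X, X⁆ : Subgroup G))).mp hc2
    have hw1 : (⟨g * (v : G) * g⁻¹, hw⟩ : ↥(⁅X, X⁆ : Subgroup G)) ≠ 1 := by
      intro h
      apply hv1
      have h' : g * (v : G) * g⁻¹ = 1 := congrArg Subtype.val h
      have h'' : (v : G) = 1 := by
        have : (v : G) = g⁻¹ * (g * (v : G) * g⁻¹) * g := by group
        rw [this, h']; group
      exact Subtype.ext h''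
    have heq := huniq.unique hw1 hv1
    have heq' : g * (v : G) * g⁻¹ = (v : G) := congrArg Subtype.val heq
    have hcv : g * (v : G) = (v : G) * g := by
      calc g * (v : G) = g * (v : G) * g⁻¹ * g := by group
        _ = (v : G) * g := by rw [heq']
    exact vfix M hV g (hHM hg) hgo hgc (v : G) (hc1 v.2)
      (fun h => hv1 (Subtype.ext h)) hcv
  obtain ⟨hs1, hs2, hs3⟩ := specx X M hMX hZ hcomm
  have hspec : Cfsg.IsSpecial 2 ↥X := spec hX hs1 (fun x => hs3 (x * x) (hsq x x.2))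
  exact Or.inr (Or.inr (Or.inr ⟨hspec, by rw [hs2, hV.1]⟩))

theorem b2q [Finite G] (X H M : Subgroup G) (hM : MinSet X H) (hXH : ⁅X, H⁆ = X)
    (hMax : IsMaxInv X H M) (hQ : IsQ8 M) : Concl X := by
  obtain ⟨hX, hHX, hodd, hmin, hnot⟩ := hM
  obtain ⟨hMX, hMne, hXM, hHM, hmax⟩ := hMax
  obtain ⟨z, hzM, hz1, hz2, hzu, hzc, hM8⟩ := qz M hQ
  have hCX : X ⊓ Subgroup.centralizer (M : Set G) ≤ X := inf_le_left
  have hXC : X ≤ Subgroup.normalizer ((X ⊓ Subgroup.centralizer (M : Set G) : Subgroup G) : Set G) :=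
    fun x hx => helper26_norm_inf _ _ x (Subgroup.le_normalizer hx)
      (helper26_norm_cent M x (hXM hx))
  have hHC : H ≤ Subgroup.normalizer ((X ⊓ Subgroup.centralizer (M : Set G) : Subgroup G) : Set G) :=
    fun x hx => helper26_norm_inf _ _ x (hHX hx) (helper26_norm_cent M x (hHM hx))
  have hCM : ¬ X ⊓ Subgroup.centralizer (M : Set G) ≤ M :=
    fun h => hnot (q8l X M hX hMX hXM hQ h)
  have hMC : M ⊔ (X ⊓ Subgroup.centralizer (M : Set G)) = X := by
    rcases hmax (M ⊔ (X ⊓ Subgroup.centralizer (M : Set G))) le_sup_left (sup_le hMX hCX)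
      (fun x hx => helper26_norm_sup _ _ x (hXM hx) (hXC hx))
      (fun x hx => helper26_norm_sup _ _ x (hHM hx) (hHC hx)) with h | h
    · exact absurd ((le_sup_right : X ⊓ Subgroup.centralizer (M : Set G) ≤ _).trans (le_of_eq h)) hCM
    · exact h
  have hz2' : Nat.card ↥(Subgroup.zpowers z) ≤ 2 := by
    rw [Nat.card_zpowers]
    apply orderOf_le_of_pow_eq_one (by norm_num)
    rw [pow_two]; exact hz2
  have hCne : X ⊓ Subgroup.centralizer (M : Set G) ≠ X := by
    intro h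
    have hXc : X ≤ Subgroup.centralizer (M : Set G) := by rw [← h]; exact inf_le_right
    have hMc : M ≤ M ⊓ Subgroup.centralizer (M : Set G) := le_inf le_rfl (hMX.trans hXc)
    rw [hzc] at hMc
    have := Subgroup.card_le_of_le hMc
    omega
  have hNC : NoP (X ⊓ Subgroup.centralizer (M : Set G)) := hmin _ hCX hCne hHC
  have hHcC : ¬ H ≤ Subgroup.centralizer
      ((X ⊓ Subgroup.centralizer (M : Set G) : Subgroup G) : Set G) := by
    intro h
    have h1 := b2qc X H M _ hMC hXM hHM h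
    rw [hXH] at h1
    exact hMne (le_antisymm hMX h1)
  obtain ⟨g', hg'H, hg'c⟩ := SetLike.not_le_iff_exists.mp hHcC
  have hg'o := helper26_odd_of_mem H hodd g' hg'H
  have hzC : z ∈ X ⊓ Subgroup.centralizer (M : Set G) := by
    refine ⟨hMX hzM, ?_⟩
    have h1 : z ∈ M ⊓ Subgroup.centralizer (M : Set G) := by
      rw [hzc]; exact Subgroup.mem_zpowers z
    exact h1.2
  have hg'z : g' * z = z * g' := by
    have hn : g' * z * g'⁻¹ ∈ M := (Subgroup.mem_normalizer_iff.mp (hHM hg'H) z).mp hzM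
    have hsq : (g' * z * g'⁻¹) * (g' * z * g'⁻¹) = 1 := by
      calc (g' * z * g'⁻¹) * (g' * z * g'⁻¹) = g' * (z * z) * g'⁻¹ := by group
        _ = 1 := by rw [hz2]; group
    rcases hzu _ hn hsq with h | h
    · exfalso
      apply hz1
      have : z = g'⁻¹ * (g' * z * g'⁻¹) * g' := by group
      rw [this, h]; group
    · calc g' * z = g' * z * g'⁻¹ * g' := by group
        _ = z * g' := by rw [h]
  rcases kf _ (hX.to_le hCX) hNC g' (hHC hg'H) hg'o hg'c with hV | hQC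
  · exact (vfix _ hV g' (hHC hg'H) hg'o hg'c z hzC hz1 hg'z).elim
  · have hne : M ⊓ (X ⊓ Subgroup.centralizer (M : Set G)) ≠ ⊥ := by
      intro h
      apply hz1
      have h1 : z ∈ M ⊓ (X ⊓ Subgroup.centralizer (M : Set G)) := ⟨hzM, hzC⟩
      rw [h] at h1
      simpa using h1
    obtain ⟨he, h32⟩ := cp32 M _ hQ hQC inf_le_right hne
    have key : ∀ Y : Subgroup G, Y = X → Cfsg.IsExtraspecial 2 ↥Y → Nat.card ↥Y = 32 →
        Concl X := by
      rintro Y rfl he h32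
      exact Or.inr (Or.inl ⟨he, by rw [h32]⟩)
    exact key _ hMC he h32

end Cfsg.Agent.Lib.helper26.S4409
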