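import Mathlib
import Cfsg.Agent.Lib.helper26.S4409Defs
import Cfsg.Agent.Lib.helper85.S4409_AQcore
import Cfsg.Agent.Lib.helper7.S4409_KN
import Cfsg.Agent.Lib.helper82.S4409_Q8L
import Cfsg.Agent.Lib.helper57.S4409_AQA

/-! S4409 piece wrapper (helper26): canonical statement from a landed core. -/

set_option autoImplicit false

namespace Cfsg.Agent.Lib.helper26.S4409

variable {G : Type*} [Group G]

theorem aq [Finite G] (X H : Subgroup G) (hM : MinSet X H) (hQ : IsQ8 (⁅X, H⁆ : Subgroup G)) :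
    (⁅X, H⁆ : Subgroup G).relIndex X = 2 ∧
      (⁅X, H⁆ : Subgroup G) ⊔ (X ⊓ Subgroup.centralizer ((⁅X, H⁆ : Subgroup G) : Set G)) = X :=
  h85_aq_core X H hM hQ (kn X H hM.2.1)
    (fun h => q8l X _ hM.1 (kn X H hM.2.1).1 (kn X H hM.2.1).2.1 hQ h)
    (fun c hc hcK hc2 => aqa _ hQ c hc hcK hc2)

end Cfsg.Agent.Lib.helper26.S4409
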