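import Mathlib
import Cfsg.Agent.Lib.helper26.S4409Defs
import Cfsg.Agent.Lib.helper67.S4409_C0


/-! S4409 piece wrapper (helper26): canonical statement from a landed core. -/

set_option autoImplicit false

namespace Cfsg.Agent.Lib.helper26.S4409

variable {G : Type*} [Group G]

theorem c0 (X H : Subgroup G) (hM : MinSet X H) (hc : H ≤ Subgroup.centralizer (X : Set G)) :
    IsMulCommutative ↥X :=
  h67_c0 X H hM hc

end Cfsg.Agent.Lib.helper26.S4409
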