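import Mathlib
import Cfsg.Agent.Lib.helper26.S4409Defs
import Cfsg.Agent.Lib.helper26.S4409_KF
import Cfsg.Agent.Lib.helper26.S4409_B
import Cfsg.Agent.Lib.helper53.S4409_HALL
import Cfsg.Agent.Lib.helper98.S4409_CQ
import Cfsg.Agent.Lib.helper7.S4409_QLE
import Cfsg.Agent.Lib.helper32.S4409_NOPSUB
import Cfsg.Agent.Lib.helper32.S4409_AX
import Cfsg.Agent.Lib.helper9.S4409_T1V
import Cfsg.Agent.Lib.helper82.S4409_Q8L
import Cfsg.Agent.Lib.helper26.S4409_W_C0
import Cfsg.Agent.Lib.helper7.S4409_KN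
import Cfsg.Agent.Lib.helper1.S4409_G5
import Cfsg.Agent.Lib.helper26.S4409_W_AV1
import Cfsg.Agent.Lib.helper69.S4409_AV2
import Cfsg.Agent.Lib.helper26.S4409_W_AQ
import Cfsg.Agent.Lib.helper7.S4409_BM

set_option autoImplicit false

namespace Cfsg.Agent.Lib.helper26.S4409

variable {G : Type*} [Group G]

theorem t2 [Finite G] (X H : Subgroup G) (hM : MinSet X H) : Concl X := by
  obtain ⟨hX, hHX, hodd, hmin, hnot⟩ := hM
  have hM : MinSet X H := ⟨hX, hHX, hodd, hmin, hnot⟩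
  by_cases hab : IsMulCommutative ↥X
  · exact Or.inl hab
  by_cases hcX : H ≤ Subgroup.centralizer (X : Set G)
  · exact Or.inl (c0 X H hM hcX)
  obtain ⟨hKX, hXK, hHK⟩ := kn X H hHX
  have hK5 : ¬ H ≤ Subgroup.centralizer ((⁅X, H⁆ : Subgroup G) : Set G) :=
    fun h => hcX (g5 X H hX hHX hodd h)
  obtain ⟨g, hgH, hgc⟩ := SetLike.not_le_iff_exists.mp hK5
  have hgo := helper26_odd_of_mem H hodd g hgH
  by_cases hK : ⁅X, H⁆ = X
  · have hne : X ≠ ⊥ := by
      rintro rfl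
      apply hcX
      intro h _
      rw [Subgroup.mem_centralizer_iff]
      intro x hx
      have : x = 1 := by simpa using hx
      subst this
      simp
    obtain ⟨M, hMax⟩ := bm X H hHX hne
    by_cases hcM : H ≤ Subgroup.centralizer (M : Set G)
    · exact b1 X H M hM hK hMax hcM hab
    · obtain ⟨g', hg'H, hg'c⟩ := SetLike.not_le_iff_exists.mp hcM
      have hNM : NoP M := hmin M hMax.1 hMax.2.1 hMax.2.2.2.1
      have hMp : IsPGroup 2 ↥M := hX.to_le hMax.1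
      rcases kf M hMp hNM g' (hMax.2.2.2.1 hg'H) (helper26_odd_of_mem H hodd g' hg'H) hg'c
        with hV | hQ
      · exact b2v X H M hM hMax hV g' hg'H hg'c hab
      · exact b2q X H M hM hK hMax hQ
  · have hNK : NoP (⁅X, H⁆ : Subgroup G) := hmin _ hKX hK hHK
    have hKp : IsPGroup 2 ↥(⁅X, H⁆ : Subgroup G) := hX.to_le hKX
    rcases kf _ hKp hNK g (hHK hgH) hgo hgc with hV | hQ
    · exact Or.inl (av2 X H hM hV (av1 X H _ hM hKX hXK hHK hV g hgH hgc))
    · obtain ⟨h1, h2⟩ := aq X H hM hQ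
      exact Or.inr (Or.inr (Or.inl ⟨⁅X, H⁆, 0, hKX, h1, hQ, h2⟩))

theorem main {S : Type*} [Group S] [Finite S] [Group.IsSolvable S]
    (hO : Cfsg.pPrimeCore 2 S = ⊥)
    (h8 : ∃ A : Subgroup S, IsMulCommutative ↥A ∧ ¬ IsCyclic ↥A ∧ Nat.card ↥A = 8)
    (hmin : ∀ R : Subgroup S, R ≠ ⊤ → (∃ k : ℕ, R.index = 2 ^ k) →
      ¬ ∃ A : Subgroup S, A ≤ R ∧ IsMulCommutative ↥A ∧ ¬ IsCyclic ↥A ∧ Nat.card ↥A = 8)
    (X : Sylow 2 S) : (X : Subgroup S).Normal ∧ Concl (X : Subgroup S) := by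
  have : Fact (Nat.Prime 2) := ⟨Nat.prime_two⟩
  obtain ⟨H, hH⟩ := hall X
  have hodd : (Nat.card ↥H).Coprime 2 := by
    rw [hH]
    have h2 : ¬ 2 ∣ (X : Subgroup S).index := Sylow.not_dvd_index X
    exact ((Nat.Prime.coprime_iff_not_dvd Nat.prime_two).mpr h2).symm
  have hXp : IsPGroup 2 ↥(X : Subgroup S) := X.isPGroup'
  have hnotX : ¬ NoP (X : Subgroup S) := ax h8 X
  obtain ⟨hQX, hQn⟩ := qle X
  have hCQ := cq hO
  have hnorm : (X : Subgroup S).Normal := by
    by_contra hnn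
    have hQne : Cfsg.pCore 2 S ≠ (X : Subgroup S) := fun h => hnn (h ▸ hQn)
    have hHQ : H ≤ Subgroup.normalizer ((Cfsg.pCore 2 S : Subgroup S) : Set S) := by
      rw [Subgroup.normalizer_eq_top]; exact le_top
    have hXQ : (X : Subgroup S) ≤ Subgroup.normalizer ((Cfsg.pCore 2 S : Subgroup S) : Set S) := by
      rw [Subgroup.normalizer_eq_top]; exact le_top
    have hNQ : NoP (Cfsg.pCore 2 S) := nopsub hmin X H hH _ hQX hQne hHQ
    have hC : (X : Subgroup S) ⊓ Subgroup.centralizer ((Cfsg.pCore 2 S : Subgroup S) : Set S) ≤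
        Cfsg.pCore 2 S := inf_le_right.trans hCQ
    by_cases hc : H ≤ Subgroup.centralizer ((Cfsg.pCore 2 S : Subgroup S) : Set S)
    · have hHX : H ≤ (X : Subgroup S) := (hc.trans hCQ).trans hQX
      have hHbot : H = ⊥ := by
        have hHp : IsPGroup 2 ↥H := hXp.to_le hHX
        obtain ⟨n, hn⟩ := IsPGroup.iff_card.mp hHp
        rw [hn] at hodd
        have hn0 : n = 0 := by
          by_contra hn0
          have : 2 ∣ 2 ^ n := dvd_pow_self 2 hn0
          have h3 := Nat.Coprime.eq_one_of_dvd hodd.symm this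
          omega
        rw [hn0, pow_zero] at hn
        exact Subgroup.card_eq_one.mp hn
      have hidx : (X : Subgroup S).index = 1 := by rw [← hH, hHbot]; simp
      have hXtop : (X : Subgroup S) = ⊤ := Subgroup.index_eq_one.mp hidx
      exact hnn (hXtop ▸ inferInstance)
    · obtain ⟨g, hgH, hgc⟩ := SetLike.not_le_iff_exists.mp hc
      have hQp : IsPGroup 2 ↥(Cfsg.pCore 2 S) := hXp.to_le hQX
      rcases kf _ hQp hNQ g (hHQ hgH) (helper26_odd_of_mem H hodd g hgH) hgc with hV | hQ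
      · exact hnotX (t1v _ _ hXp hQX hXQ hV hC)
      · exact hnotX (q8l _ _ hXp hQX hXQ hQ hC)
  refine ⟨hnorm, ?_⟩
  apply t2 (X : Subgroup S) H
  refine ⟨hXp, ?_, hodd, ?_, hnotX⟩
  · rw [Subgroup.normalizer_eq_top]; exact le_top
  · intro Y hYX hne hHY
    exact nopsub hmin X H hH Y hYX hne hHY

end Cfsg.Agent.Lib.helper26.S4409
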