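import Mathlib
import Cfsg.Agent.Lib.helper26.S4409Defs
import Cfsg.Agent.Lib.helper82.S4409_Q8Lcore
import Cfsg.Agent.Lib.helper16.S4409_Q8LA
import Cfsg.Agent.Lib.helper35.S4409_Q8LB

/-! S4409 piece wrapper (helper26), spare under a prefixed name (the canonical `q8l` is in helper82.S4409_Q8L). -/

set_option autoImplicit false

namespace Cfsg.Agent.Lib.helper26.S4409

variable {G : Type*} [Group G]

theorem helper26_w_q8l [Finite G] (X Q : Subgroup G) (hX : IsPGroup 2 ↥X) (hQX : Q ≤ X)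
    (hn : X ≤ Subgroup.normalizer (Q : Set G)) (hQ : IsQ8 Q)
    (hC : X ⊓ Subgroup.centralizer (Q : Set G) ≤ Q) : NoP X :=
  helper82_q8l_core X Q hX hQX hn hQ hC (q8la X Q hX hQX hn hQ hC)
    (fun a ha ha2 q hq hq2 hc => q8lb Q hQ a ha ha2 q hq hq2 hc)

end Cfsg.Agent.Lib.helper26.S4409
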