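import Mathlib
import Cfsg.Agent.Lib.helper69.SNDefs

/-!
# S4073 piece E1-A (helper26): two conjugate elements of the centre of a non-abelian Sylow
2-subgroup of an `SN`-group are equal.
-/

set_option autoImplicit false

namespace Cfsg.Agent.Lib.helper26.SNG

open Cfsg.Agent.Lib.helper69.SNG

universe u v

/-- **[E1-A]** -/
theorem sn_sylow2_fusion_center {G : Type u} [Group G] [Finite G] (h : SN G) (S : Sylow 2 G)
    (hS : ¬ IsMulCommutative S) (z : G) (hzS : z ∈ S)
    (hz : z ∈ Subgroup.centralizer ((S : Subgroup G) : Set G)) (g : G)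
    (hgS : g * z * g⁻¹ ∈ S)
    (hg : g * z * g⁻¹ ∈ Subgroup.centralizer ((S : Subgroup G) : Set G)) :
    g * z * g⁻¹ = z := by
  classical
  have : Fact (Nat.Prime 2) := ⟨Nat.prime_two⟩
  set z' : G := g * z * g⁻¹ with hz'
  set L : Subgroup G := Subgroup.centralizer ({z'} : Set G) with hL
  -- `S ≤ L`
  have hSL : (S : Subgroup G) ≤ L := by
    intro s hs
    rw [hL, Subgroup.mem_centralizer_iff]
    intro y hy
    rw [Set.mem_singleton_iff] at hy
    rw [hy]
    rw [Subgroup.mem_centralizer_iff] at hg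
    exact (hg s hs).symm
  -- `g • S ≤ L`
  have hS1L : ((g • S : Sylow 2 G) : Subgroup G) ≤ L := by
    intro s hs
    rw [Sylow.coe_subgroup_smul] at hs
    obtain ⟨s0, hs0, rfl⟩ := hs
    rw [hL, Subgroup.mem_centralizer_iff]
    intro y hy
    rw [Set.mem_singleton_iff] at hy
    rw [hy]
    rw [Subgroup.mem_centralizer_iff] at hz
    have h1 := hz s0 hs0
    show z' * (g * s0 * g⁻¹) = (g * s0 * g⁻¹) * z'
    rw [hz']
    calc g * z * g⁻¹ * (g * s0 * g⁻¹) = g * (z * s0) * g⁻¹ := by group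
      _ = g * (s0 * z) * g⁻¹ := by rw [← h1]
      _ = g * s0 * g⁻¹ * (g * z * g⁻¹) := by group
  obtain ⟨c, hc⟩ := MulAction.exists_smul_eq L ((g • S : Sylow 2 G).subtype hS1L) (S.subtype hSL)
  rw [Sylow.smul_subtype] at hc
  have hc2 : c • (g • S : Sylow 2 G) = S := Sylow.subtype_injective hc
  have hc3 : ((c : G) * g) • S = S := by
    rw [mul_smul]
    exact hc2
  have hn : (c : G) * g ∈ Subgroup.normalizer ((S : Subgroup G) : Set G) :=
    Sylow.smul_eq_iff_mem_normalizer.mp hc3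
  rw [h (S : Subgroup G) hS] at hn
  -- `c * g ∈ S` commutes with `z`
  rw [Subgroup.mem_centralizer_iff] at hz
  have h1 := hz _ hn
  -- `c` commutes with `z'`
  have hcL : (c : G) ∈ Subgroup.centralizer ({z'} : Set G) := c.2
  rw [Subgroup.mem_centralizer_iff] at hcL
  have h2 := hcL z' (Set.mem_singleton _)
  -- conclude
  have h3 : (c : G) * z' * (c : G)⁻¹ = z := by
    rw [hz']
    calc (c : G) * (g * z * g⁻¹) * (c : G)⁻¹ = ((c : G) * g * z) * ((c : G) * g)⁻¹ := by group
      _ = (z * ((c : G) * g)) * ((c : G) * g)⁻¹ := by rw [h1]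
      _ = z := by group
  have h4 : (c : G) * z' * (c : G)⁻¹ = z' := by
    rw [← h2]
    group
  rw [← h4, h3]

end Cfsg.Agent.Lib.helper26.SNG
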