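import Mathlib
import Cfsg.Agent.Lib.helper69.SNDefs

/-!
# S4073 piece E2-ABS (helper26): an `SN`-group with an abelian non-cyclic Sylow 2-subgroup and
a central involution is abelian.
-/

set_option autoImplicit false

namespace Cfsg.Agent.Lib.helper26.SNG

open Cfsg.Agent.Lib.helper69.SNG

universe u v

open scoped IsMulCommutative in
/-- **[E2-ABS]** -/
theorem sn_central_invol_comm {C : Type u} [Group C] [Finite C] (h : SN C) (S : Sylow 2 C)
    (hS : IsMulCommutative S) (hcyc : ¬ IsCyclic S) (t : C) (ht : orderOf t = 2)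
    (htc : t ∈ Subgroup.center C) : IsMulCommutative C := by
  classical
  have : Fact (Nat.Prime 2) := ⟨Nat.prime_two⟩
  -- the transfer into `S`
  let V : C →* S := MonoidHom.transfer (MonoidHom.id S)
  have hVt : V t ≠ 1 := by
    have key : ∀ (k : ℕ) (g₀ : C), g₀⁻¹ * t ^ k * g₀ ∈ (S : Subgroup C) →
        g₀⁻¹ * t ^ k * g₀ = t ^ k := by
      intro k g₀ _
      have hc : t ^ k ∈ Subgroup.center C := Subgroup.pow_mem _ htc k
      rw [Subgroup.mem_center_iff] at hc
      rw [mul_assoc, ← hc g₀, inv_mul_cancel_left]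
    have h0 : V t = (MonoidHom.id S) ⟨t ^ (S : Subgroup C).index, _⟩ :=
      MonoidHom.transfer_eq_pow (MonoidHom.id S) t key
    rw [h0]
    intro h1
    have h2 : t ^ (S : Subgroup C).index = 1 := congrArg Subtype.val h1
    have hodd : ¬ 2 ∣ (S : Subgroup C).index := S.not_dvd_index
    have h3 : orderOf t ∣ (S : Subgroup C).index := orderOf_dvd_of_pow_eq_one h2
    rw [ht] at h3
    exact hodd h3
  set K : Subgroup C := V.ker with hKdef
  have hKn : K.Normal := MonoidHom.normal_ker V
  have hK : K ≠ ⊤ := by
    intro htop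
    apply hVt
    have : t ∈ K := by rw [htop]; exact Subgroup.mem_top t
    exact MonoidHom.mem_ker.mp this
  have hKc' := (comm_iff K).mp (h.normal_comm K hK)
  obtain ⟨a, m, hm, hcard⟩ := Nat.exists_eq_two_pow_mul_odd (Nat.card_pos (α := C)).ne'
  -- the odd part of `K`
  let O : Subgroup C :=
    { carrier := {c | c ∈ K ∧ c ^ m = 1}
      mul_mem' := by
        rintro x y ⟨hx, hx1⟩ ⟨hy, hy1⟩
        refine ⟨K.mul_mem hx hy, ?_⟩
        have hcomm : Commute x y := hKc' x hx y hy
        rw [hcomm.mul_pow, hx1, hy1, one_mul]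
      one_mem' := ⟨K.one_mem, one_pow m⟩
      inv_mem' := by
        rintro x ⟨hx, hx1⟩
        exact ⟨K.inv_mem hx, by rw [inv_pow, hx1, inv_one]⟩ }
  have hO_mem : ∀ c, c ∈ O ↔ c ∈ K ∧ c ^ m = 1 := fun c => Iff.rfl
  have hOK : O ≤ K := fun c hc => hc.1
  have hOn : O.Normal := by
    refine ⟨fun x hx g => ?_⟩
    refine ⟨hKn.conj_mem x hx.1 g, ?_⟩
    rw [conj_pow, hx.2, mul_one, mul_inv_cancel]
  have hOodd : Odd (Nat.card O) := by
    rw [← Nat.not_even_iff_odd]
    intro he
    obtain ⟨x, hx⟩ := exists_prime_orderOf_dvd_card' (G := O) 2 he.two_dvd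
    have hx1 : x ^ m = 1 := Subtype.ext (by simpa using ((hO_mem _).mp x.2).2)
    have h1 := orderOf_dvd_of_pow_eq_one hx1
    rw [hx] at h1
    exact (Nat.not_even_iff_odd.mpr hm) (even_iff_two_dvd.mpr h1)
  -- the quotient by `O` is a 2-group
  have hquot : IsPGroup 2 (C ⧸ O) := by
    intro y
    obtain ⟨c, rfl⟩ := QuotientGroup.mk_surjective y
    obtain ⟨k1, hk1⟩ := S.isPGroup' (V c)
    refine ⟨k1 + a, ?_⟩
    rw [← QuotientGroup.mk_pow, QuotientGroup.eq_one_iff]
    have hcK : c ^ 2 ^ k1 ∈ K := by
      rw [hKdef, MonoidHom.mem_ker, map_pow, hk1]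
    refine ⟨?_, ?_⟩
    · rw [pow_add, pow_mul]
      exact K.pow_mem hcK _
    · rw [← pow_mul, pow_add, mul_assoc, ← hcard, mul_comm, pow_mul, pow_card_eq_one', one_pow]
  have hOS : O ⊔ (S : Subgroup C) = ⊤ := by
    rw [← Subgroup.index_eq_one]
    obtain ⟨n, hn⟩ := IsPGroup.iff_card.mp hquot
    have h1 : (O ⊔ (S : Subgroup C)).index ∣ 2 ^ n := by
      rw [← hn, ← Subgroup.index_eq_card]
      exact Subgroup.index_dvd_of_le le_sup_left
    have h2 : (O ⊔ (S : Subgroup C)).index ∣ (S : Subgroup C).index :=
      Subgroup.index_dvd_of_le le_sup_right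
    obtain ⟨j, _, hj⟩ := (Nat.dvd_prime_pow Nat.prime_two).mp h1
    rcases Nat.eq_zero_or_pos j with h0 | hpos
    · rw [hj, h0, pow_zero]
    · exfalso
      apply S.not_dvd_index
      refine dvd_trans ?_ h2
      rw [hj]
      exact dvd_pow_self 2 hpos.ne'
  have hinf : O ⊓ (S : Subgroup C) = ⊥ := by
    rw [← disjoint_iff]
    apply Subgroup.disjoint_of_coprime_natCard
    obtain ⟨n, hn⟩ := IsPGroup.iff_card.mp S.isPGroup'
    rw [hn]
    exact Nat.Coprime.pow_right n (Nat.coprime_two_right.mpr hOodd)
  have hScomm := (comm_iff (S : Subgroup C)).mp hS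
  -- the quotient by `O` is commutative
  have hqc : ∀ x y : C ⧸ O, x * y = y * x := by
    have hmap : (S : Subgroup C).map (QuotientGroup.mk' O) = ⊤ := by
      have h1 := congrArg (Subgroup.map (QuotientGroup.mk' O)) hOS
      rw [Subgroup.map_sup, QuotientGroup.map_mk'_self, bot_sup_eq,
        Subgroup.map_top_of_surjective _ (QuotientGroup.mk'_surjective O)] at h1
      exact h1
    intro x y
    have hx : x ∈ (S : Subgroup C).map (QuotientGroup.mk' O) := by
      rw [hmap]; exact Subgroup.mem_top x
    have hy : y ∈ (S : Subgroup C).map (QuotientGroup.mk' O) := by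
      rw [hmap]; exact Subgroup.mem_top y
    obtain ⟨s1, hs1, rfl⟩ := hx
    obtain ⟨s2, hs2, rfl⟩ := hy
    rw [← map_mul, ← map_mul, hScomm s1 hs1 s2 hs2]
  -- every element of `S` centralizes `O`
  have hkey : ∀ x ∈ (S : Subgroup C), ∀ o ∈ O, o * x = x * o := by
    intro x hx o ho
    set N : Subgroup C := O ⊔ Subgroup.zpowers x with hN
    have hON : O ≤ N := le_sup_left
    have hzS : Subgroup.zpowers x ≤ (S : Subgroup C) := (Subgroup.zpowers_le).mpr hx
    have hNn : N.Normal := by
      have h1 : (N.map (QuotientGroup.mk' O)).Normal :=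
        ⟨fun n hn g => by rw [hqc g n, mul_inv_cancel_right]; exact hn⟩
      have h2 : (N.map (QuotientGroup.mk' O)).comap (QuotientGroup.mk' O) = N := by
        apply Subgroup.comap_map_eq_self
        rw [QuotientGroup.ker_mk']
        exact hON
      rw [← h2]
      exact h1.comap _
    have hNt : N ≠ ⊤ := by
      intro htop
      apply hcyc
      refine ⟨⟨⟨x, hx⟩, fun s => ?_⟩⟩
      have hs : (s : C) ∈ (N : Set C) := by
        rw [htop]; exact Set.mem_univ _
      rw [hN, Subgroup.normal_mul] at hs
      obtain ⟨o', ho', y, hy, hoy⟩ := Set.mem_mul.mp hs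
      have ho'S : o' ∈ (S : Subgroup C) := by
        have h1 : o' = (s : C) * y⁻¹ := by rw [← hoy]; group
        rw [h1]
        exact (S : Subgroup C).mul_mem s.2 ((S : Subgroup C).inv_mem (hzS hy))
      have ho'1 : o' = 1 := by
        have h1 : o' ∈ O ⊓ (S : Subgroup C) := ⟨ho', ho'S⟩
        rw [hinf] at h1
        exact Subgroup.mem_bot.mp h1
      rw [ho'1, one_mul] at hoy
      obtain ⟨k, hk⟩ := Subgroup.mem_zpowers_iff.mp hy
      refine ⟨k, Subtype.ext ?_⟩
      rw [← hoy, ← hk]
      simp
    have hNc := (comm_iff N).mp (h.normal_comm N hNt)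
    exact hNc o (hON ho) x (le_sup_right (a := O) (Subgroup.mem_zpowers x))
  have hOcomm : ∀ o ∈ O, ∀ o' ∈ O, o * o' = o' * o :=
    fun o ho o' ho' => hKc' o (hOK ho) o' (hOK ho')
  have hcen : O ⊔ (S : Subgroup C) ≤ Subgroup.center C := by
    apply sup_le
    · intro o ho
      rw [Subgroup.mem_center_iff]
      intro c
      have hc : c ∈ Subgroup.centralizer ({o} : Set C) := by
        have hle : O ⊔ (S : Subgroup C) ≤ Subgroup.centralizer ({o} : Set C) := by
          apply sup_le
          · intro o' ho'
            rw [Subgroup.mem_centralizer_iff]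
            intro y hy
            rw [Set.mem_singleton_iff] at hy
            rw [hy]
            exact hOcomm o ho o' ho'
          · intro s hs
            rw [Subgroup.mem_centralizer_iff]
            intro y hy
            rw [Set.mem_singleton_iff] at hy
            rw [hy]
            exact hkey s hs o ho
        apply hle
        rw [hOS]; exact Subgroup.mem_top c
      rw [Subgroup.mem_centralizer_iff] at hc
      exact (hc o rfl).symm
    · intro s hs
      rw [Subgroup.mem_center_iff]
      intro c
      have hc : c ∈ Subgroup.centralizer ({s} : Set C) := by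
        have hle : O ⊔ (S : Subgroup C) ≤ Subgroup.centralizer ({s} : Set C) := by
          apply sup_le
          · intro o ho
            rw [Subgroup.mem_centralizer_iff]
            intro y hy
            rw [Set.mem_singleton_iff] at hy
            rw [hy]
            exact (hkey s hs o ho).symm
          · intro s' hs'
            rw [Subgroup.mem_centralizer_iff]
            intro y hy
            rw [Set.mem_singleton_iff] at hy
            rw [hy]
            exact hScomm s hs s' hs'
        apply hle
        rw [hOS]; exact Subgroup.mem_top c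
      rw [Subgroup.mem_centralizer_iff] at hc
      exact (hc s rfl).symm
  rw [comm_iff_top]
  intro a b
  have ha : a ∈ Subgroup.center C := by
    apply hcen
    rw [hOS]; exact Subgroup.mem_top a
  rw [Subgroup.mem_center_iff] at ha
  exact (ha b).symm

end Cfsg.Agent.Lib.helper26.SNG
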