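import Mathlib
import Cfsg.Agent.Lib.helper91.SR_C1
import Cfsg.Agent.Lib.helper33.SR_P1

/-!
# S3350 piece C2 (helper26, racer copy): the cross relation.
-/

set_option autoImplicit false
open Cfsg Equiv MulAction

namespace Cfsg.Agent.Lib.helper70.SR

/-- A permutation fixing `u` and `v` commutes with `swap u v`. -/
theorem helper26_comm_swap_of_fix {m : ℕ} (σ : Perm (Fin m)) (u v : Fin m) (hu : σ u = u)
    (hv : σ v = v) : σ * swap u v = swap u v * σ := by
  rw [Equiv.mul_swap_eq_swap_mul, hu, hv]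

/-- C2 (the cross relation), racer copy. -/
theorem h26_cross_comm (m : ℕ) (hm : 9 ≤ m) {G : Type*} [Group G]
    (K J : Subgroup G) (eK : Perm (Fin m) ≃* K) (eJ : Perm (Fin m) ≃* J)
    (a b : Fin m) (hab : a ≠ b)
    (hagree : ∀ σ : Perm (Fin m), σ a = a → σ b = b → ((eK σ : K) : G) = ((eJ σ : J) : G))
    (hCx : Subgroup.centralizer ({((eJ (swap a b) : J) : G)} : Set G) =
      Subgroup.zpowers ((eJ (swap a b) : J) : G) ⊔ K)
    (hxK : ((eJ (swap a b) : J) : G) ∉ K)
    (hJy : J ≤ Subgroup.centralizer ({((eK (swap a b) : K) : G)} : Set G))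
    (e f : Fin m) (hea : e ≠ a) (heb : e ≠ b) (hfa : f ≠ a) (hfb : f ≠ b) (hef : e ≠ f) :
    ((eK (swap a e) : K) : G) * ((eJ (swap b f) : J) : G) =
      ((eJ (swap b f) : J) : G) * ((eK (swap a e) : K) : G) := by
  classical
  -- the two homomorphisms into `G`
  let φK : Perm (Fin m) →* G := K.subtype.comp eK.toMonoidHom
  let φJ : Perm (Fin m) →* G := J.subtype.comp eJ.toMonoidHom
  have hφK : ∀ σ, φK σ = ((eK σ : K) : G) := fun σ => rfl
  have hφJ : ∀ σ, φJ σ = ((eJ σ : J) : G) := fun σ => rfl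
  have hKinj : Function.Injective φK := fun s t hst => eK.injective (Subtype.ext hst)
  have hKmem : ∀ σ, φK σ ∈ K := fun σ => (eK σ).2
  have hJmem : ∀ σ, φJ σ ∈ J := fun σ => (eJ σ).2
  have hKsurj : ∀ κ ∈ K, ∃ π, φK π = κ := by
    intro κ hκ
    refine ⟨eK.symm ⟨κ, hκ⟩, ?_⟩
    rw [hφK, MulEquiv.apply_symm_apply]
  have hag : ∀ σ : Perm (Fin m), σ a = a → σ b = b → φK σ = φJ σ := hagree
  rw [← hφK, ← hφJ]
  rw [← hφJ] at hCx hxK
  rw [← hφK] at hJy
  set x : G := φJ (swap a b) with hx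
  set y : G := φK (swap a b) with hy
  -- choose `c ≠ d` outside `{a, b, e, f}`
  obtain ⟨c, hc⟩ : ∃ c : Fin m, c ∉ ({a, b, e, f} : Finset (Fin m)) := by
    by_contra hcon
    simp only [not_exists, not_not] at hcon
    have h1 : (Finset.univ : Finset (Fin m)) ⊆ ({a, b, e, f} : Finset (Fin m)) := fun z _ => hcon z
    have h2 := Finset.card_le_card h1
    have h3 : ({a, b, e, f} : Finset (Fin m)).card ≤ 4 := Finset.card_le_four
    rw [Finset.card_univ, Fintype.card_fin] at h2
    omega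
  obtain ⟨d, hd⟩ : ∃ d : Fin m, d ∉ ({a, b, e, f, c} : Finset (Fin m)) := by
    by_contra hcon
    simp only [not_exists, not_not] at hcon
    have h1 : (Finset.univ : Finset (Fin m)) ⊆ ({a, b, e, f, c} : Finset (Fin m)) :=
      fun z _ => hcon z
    have h2 := Finset.card_le_card h1
    have h3 : ({a, b, e, f, c} : Finset (Fin m)).card ≤ 5 := Finset.card_le_five
    rw [Finset.card_univ, Fintype.card_fin] at h2
    omega
  simp only [Finset.mem_insert, Finset.mem_singleton, not_or] at hc hd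
  obtain ⟨hca, hcb, hce, hcf⟩ := hc
  obtain ⟨hda, hdb, hde, hdf, hdc⟩ := hd
  -- permutation facts
  set g0 : Perm (Fin m) := swap a c * swap b d with hg0
  have hg0a : g0 a = c := by
    rw [hg0, Equiv.Perm.mul_apply, Equiv.swap_apply_of_ne_of_ne hab (Ne.symm hda),
      Equiv.swap_apply_left]
  have hg0b : g0 b = d := by
    rw [hg0, Equiv.Perm.mul_apply, Equiv.swap_apply_left,
      Equiv.swap_apply_of_ne_of_ne hda hdc]
  have hg0d : g0 d = b := by
    rw [hg0, Equiv.Perm.mul_apply, Equiv.swap_apply_right,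
      Equiv.swap_apply_of_ne_of_ne (Ne.symm hab) (Ne.symm hcb)]
  have hg0f : g0 f = f := by
    rw [hg0, Equiv.Perm.mul_apply, Equiv.swap_apply_of_ne_of_ne hfb (Ne.symm hdf),
      Equiv.swap_apply_of_ne_of_ne hfa (Ne.symm hcf)]
  have hg0sq : g0 * g0 = 1 := by
    have hcomm : swap a c * swap b d = swap b d * swap a c := by
      apply helper26_comm_swap_of_fix
      · exact Equiv.swap_apply_of_ne_of_ne (Ne.symm hab) (Ne.symm hcb)
      · exact Equiv.swap_apply_of_ne_of_ne hda hdc
    calc g0 * g0 = swap a c * (swap b d * swap a c) * swap b d := by rw [hg0]; group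
      _ = swap a c * (swap a c * swap b d) * swap b d := by rw [hcomm]
      _ = (swap a c * swap a c) * (swap b d * swap b d) := by group
      _ = 1 := by rw [Equiv.swap_mul_self, Equiv.swap_mul_self, one_mul]
  have hconj1 : g0 * swap a b * g0⁻¹ = swap c d := by
    rw [← Equiv.swap_apply_apply, hg0a, hg0b]
  have hconj2 : g0 * swap d f * g0⁻¹ = swap b f := by
    rw [← Equiv.swap_apply_apply, hg0d, hg0f]
  -- elements of `G`
  set h : G := φJ g0 with hh
  set τ : G := φK (swap c d) with hτ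
  set k : G := φK (swap a e) with hk
  have hτJ : τ = φJ (swap c d) := by
    apply hag
    · exact Equiv.swap_apply_of_ne_of_ne (Ne.symm hca) (Ne.symm hda)
    · exact Equiv.swap_apply_of_ne_of_ne (Ne.symm hcb) (Ne.symm hdb)
  have hh2 : h * h = 1 := by rw [hh, ← map_mul, hg0sq, map_one]
  have hhinv : h⁻¹ = h := inv_eq_of_mul_eq_one_left hh2
  have hhx : h * x * h⁻¹ = τ := by
    rw [hτJ, ← hconj1, map_mul, map_mul, map_inv]
  have hx2 : x * x = 1 := by rw [hx, ← map_mul, Equiv.swap_mul_self, map_one]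
  -- `K` centralizes `x`
  have hKx : ∀ κ ∈ K, x * κ = κ * x := by
    intro κ hκ
    have h1 : κ ∈ Subgroup.centralizer ({x} : Set G) := by
      rw [hCx]; exact (le_sup_right : K ≤ _) hκ
    rw [Subgroup.mem_centralizer_iff] at h1
    exact h1 x rfl
  -- `J` centralizes `y`
  have hyh : y * h = h * y := by
    have h1 := hJy (hJmem g0)
    rw [Subgroup.mem_centralizer_iff] at h1
    exact h1 y rfl
  -- `k` commutes with `τ`
  have hkτ : k * τ = τ * k := by
    rw [hk, hτ, ← map_mul, ← map_mul]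
    congr 1
    apply helper26_comm_swap_of_fix
    · exact Equiv.swap_apply_of_ne_of_ne hca hce
    · exact Equiv.swap_apply_of_ne_of_ne hda hde
  -- decomposition of `k`
  obtain ⟨i, κ, hκK, hkdec⟩ := centralizer_conj_decomp x K hCx h k (by rw [hhx]; exact hkτ)
  obtain ⟨π, hπ⟩ := hKsurj κ hκK
  set T : G := x ^ i with hT
  have hkdec2 : k = h * (T * κ) * h⁻¹ := by
    rw [hkdec, conj_zpow, ← hT]
    group
  have hTκ : T * κ = κ * T := by
    rw [hT]
    exact ((show Commute x κ from hKx κ hκK).zpow_left i).eq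
  have hyK : y ∈ K := hKmem _
  have hTy : T * y = y * T := by
    rw [hT]
    exact ((show Commute x y from hKx y hyK).zpow_left i).eq
  -- `(k y)^3 = 1`
  have hky3 : (k * y) ^ 3 = 1 := by
    rw [hk, hy, ← map_mul, ← map_pow]
    have h3 : (swap a e * swap a b) ^ 3 = 1 := by
      have h3c := Equiv.Perm.isThreeCycle_swap_mul_swap_same (Ne.symm hea) hab heb
      rw [← h3c.orderOf]
      exact pow_orderOf_eq_one _
    rw [h3, map_one]
  have hky : k * y = h * (T * (κ * y)) * h⁻¹ := by
    rw [hkdec2]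
    have h1 : h⁻¹ * y = y * h⁻¹ := by
      rw [hhinv]; exact hyh.symm
    calc h * (T * κ) * h⁻¹ * y = h * (T * κ) * (h⁻¹ * y) := by group
      _ = h * (T * κ) * (y * h⁻¹) := by rw [h1]
      _ = h * (T * (κ * y)) * h⁻¹ := by group
  have hTκy3 : T ^ 3 * (κ * y) ^ 3 = 1 := by
    have h1 : (h * (T * (κ * y)) * h⁻¹) ^ 3 = 1 := by rw [← hky]; exact hky3
    rw [conj_pow] at h1
    have h2 : (T * (κ * y)) ^ 3 = 1 := by
      have h3 : (T * (κ * y)) ^ 3 = h⁻¹ * (h * (T * (κ * y)) ^ 3 * h⁻¹) * h := by group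
      rw [h3, h1]; group
    have hc : Commute T (κ * y) := by
      have hc1 : Commute T κ := hTκ
      have hc2 : Commute T y := hTy
      exact hc1.mul_right hc2
    rw [hc.mul_pow] at h2
    exact h2
  -- `T = 1`
  have hT1 : T = 1 := by
    have hTK : T ^ 3 ∈ K := by
      have h1 : T ^ 3 = ((κ * y) ^ 3)⁻¹ := eq_inv_of_mul_eq_one_left hTκy3
      rw [h1]
      exact K.inv_mem (K.pow_mem (K.mul_mem hκK hyK) 3)
    have hTcases : T = 1 ∨ T = x := by
      rw [hT]
      have hx2' : x ^ (2 : ℤ) = 1 := by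
        rw [zpow_ofNat, pow_two]; exact hx2
      rcases Int.emod_two_eq_zero_or_one i with h0 | h1
      · left
        have : i = 2 * (i / 2) := by omega
        rw [this, zpow_mul, hx2', one_zpow]
      · right
        have : i = 2 * (i / 2) + 1 := by omega
        rw [this, zpow_add, zpow_mul, hx2', one_zpow, one_mul, zpow_one]
    rcases hTcases with h1 | h1
    · exact h1
    · exfalso
      apply hxK
      have h2 : T ^ 3 = x := by
        rw [h1]
        calc x ^ 3 = (x * x) * x := by rw [pow_succ, pow_two]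
          _ = x := by rw [hx2, one_mul]
      rw [← h2]
      exact hTK
  have hkκ : k = h * κ * h⁻¹ := by
    rw [hkdec2, hT1, one_mul]
  have hκk : κ = h⁻¹ * k * h := by
    rw [hkκ]; group
  -- properties of `π`
  have hπ3 : (π * swap a b) ^ 3 = 1 := by
    apply hKinj
    rw [map_pow, map_mul, hπ, map_one]
    have h1 := hTκy3
    rw [hT1, one_pow, one_mul] at h1
    exact h1
  have hπ2 : π * π = 1 := by
    apply hKinj
    rw [map_mul, hπ, map_one]
    have h1 : k * k = 1 := by
      rw [hk, ← map_mul, Equiv.swap_mul_self, map_one]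
    rw [hκk]
    calc h⁻¹ * k * h * (h⁻¹ * k * h) = h⁻¹ * (k * k) * h := by group
      _ = 1 := by rw [h1]; group
  have hπne : π ≠ swap a b := by
    intro hcon
    have h1 : κ = y := by rw [← hπ, hcon]
    have h2 : k = y := by
      rw [hkκ, h1]
      have h3 : h * y = y * h := hyh.symm
      rw [h3]; group
    have h3 : swap a e = swap a b := hKinj h2
    have h4 := congrArg (fun s : Perm (Fin m) => s a) h3
    simp only [Equiv.swap_apply_left] at h4
    exact heb h4
  have hτx : τ = h⁻¹ * x * h := by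
    rw [← hhx, hhinv]
  have hπcd : π * swap c d = swap c d * π := by
    apply hKinj
    rw [map_mul, map_mul, hπ]
    show κ * τ = τ * κ
    have hxk : x * k = k * x := hKx k (hKmem _)
    rw [hκk, hτx]
    calc h⁻¹ * k * h * (h⁻¹ * x * h) = h⁻¹ * (k * x) * h := by group
      _ = h⁻¹ * (x * k) * h := by rw [hxk]
      _ = h⁻¹ * x * h * (h⁻¹ * k * h) := by group
  have hπ1 : ∀ σ : Perm (Fin m), σ a = a → σ b = b → σ c = c → σ d = d → σ e = e →
      σ * π = π * σ := by
    intro σ ha hb hc hd he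
    apply hKinj
    rw [map_mul, map_mul, hπ]
    have hsJ : φK σ = φJ σ := hag σ ha hb
    have hsk : φK σ * k = k * φK σ := by
      rw [hk, ← map_mul, ← map_mul]
      congr 1
      exact helper26_comm_swap_of_fix σ a e ha he
    have hsh : φK σ * h = h * φK σ := by
      rw [hsJ, hh, ← map_mul, ← map_mul]
      congr 1
      rw [hg0, ← mul_assoc, helper26_comm_swap_of_fix σ a c ha hc, mul_assoc,
        helper26_comm_swap_of_fix σ b d hb hd, ← mul_assoc]
    have hshi : φK σ * h⁻¹ = h⁻¹ * φK σ := by rw [hhinv]; exact hsh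
    rw [hκk]
    calc φK σ * (h⁻¹ * k * h) = (φK σ * h⁻¹) * k * h := by group
      _ = h⁻¹ * (φK σ * k) * h := by rw [hshi]; group
      _ = h⁻¹ * k * (φK σ * h) := by rw [hsk]; group
      _ = h⁻¹ * k * h * φK σ := by rw [hsh]; group
  have hrig := h33_perm_rigid m (by omega) a b c d e hab (Ne.symm hca)
    (Ne.symm hda) (Ne.symm hea) (Ne.symm hcb) (Ne.symm hdb) (Ne.symm heb) (Ne.symm hdc) hce hde π
    hπ1 hπcd hπ2 hπ3 hπne
  have hπd : π d = d ∧ π f = f := by
    rcases hrig with h1 | h1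
    · rw [h1]
      exact ⟨Equiv.swap_apply_of_ne_of_ne hda hde, Equiv.swap_apply_of_ne_of_ne hfa (Ne.symm hef)⟩
    · rw [h1]
      exact ⟨Equiv.swap_apply_of_ne_of_ne hdb hde, Equiv.swap_apply_of_ne_of_ne hfb (Ne.symm hef)⟩
  have hπdf : π * swap d f = swap d f * π := helper26_comm_swap_of_fix π d f hπd.1 hπd.2
  have hdfag : φK (swap d f) = φJ (swap d f) := by
    apply hag
    · exact Equiv.swap_apply_of_ne_of_ne (Ne.symm hda) (Ne.symm hfa)
    · exact Equiv.swap_apply_of_ne_of_ne (Ne.symm hdb) (Ne.symm hfb)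
  have hbf : φJ (swap b f) = h * φK (swap d f) * h⁻¹ := by
    rw [← hconj2, map_mul, map_mul, map_inv, hdfag]
  show k * φJ (swap b f) = φJ (swap b f) * k
  rw [hbf, hkκ, ← hπ]
  have hcomm : φK π * φK (swap d f) = φK (swap d f) * φK π := by
    rw [← map_mul, ← map_mul, hπdf]
  calc h * φK π * h⁻¹ * (h * φK (swap d f) * h⁻¹) = h * (φK π * φK (swap d f)) * h⁻¹ := by group
    _ = h * (φK (swap d f) * φK π) * h⁻¹ := by rw [hcomm]
    _ = h * φK (swap d f) * h⁻¹ * (h * φK π * h⁻¹) := by group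

end Cfsg.Agent.Lib.helper70.SR
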