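import Cfsg.Agent.Lib.helper26.SecRank

/-!
`T = D × B` with `B` a four-group all of whose involutions have `T` as the full centralizer in the
2-group `S`:
* if `|Z(D)| ≤ 2` then `S = T` (`le_of_center_small`);
* if `D` has a cyclic subgroup of index at most 2 then `Rk4In T` (`rk4In_of_cyclic_chain`).
-/

set_option autoImplicit false

namespace Cfsg.Agent.Lib.helper26

variable {G : Type*} [Group G]

/-- `b ↦ b * (h b h⁻¹)` is injective on an exponent-2 subgroup `B` none of whose non-identity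
elements commutes with `h`. -/
theorem theta_injective (B : Subgroup G) (hB2 : ∀ b ∈ B, b * b = 1) (h : G)
    (hfix : ∀ b ∈ B, h * b = b * h → b = 1) {b₁ b₂ : G} (h₁ : b₁ ∈ B) (h₂ : b₂ ∈ B)
    (he : b₁ * (h * b₁ * h⁻¹) = b₂ * (h * b₂ * h⁻¹)) : b₁ = b₂ := by
  have e1 : h * b₁ * h⁻¹ = b₁ * (b₂ * (h * b₂ * h⁻¹)) := by
    rw [← he, ← mul_assoc, hB2 b₁ h₁, one_mul]
  have e2 : (h * b₂ * h⁻¹) * (h * b₂ * h⁻¹) = 1 := by
    have : (h * b₂ * h⁻¹) * (h * b₂ * h⁻¹) = h * (b₂ * b₂) * h⁻¹ := by group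
    rw [this, hB2 b₂ h₂, mul_one, mul_inv_cancel]
  have e3 : h * (b₁ * b₂) * h⁻¹ = b₁ * b₂ := by
    have : h * (b₁ * b₂) * h⁻¹ = (h * b₁ * h⁻¹) * (h * b₂ * h⁻¹) := by group
    rw [this, e1, mul_assoc, mul_assoc, e2, mul_one]
  have e4 : h * (b₁ * b₂) = b₁ * b₂ * h := by
    calc h * (b₁ * b₂) = h * (b₁ * b₂) * h⁻¹ * h := by group
      _ = b₁ * b₂ * h := by rw [e3]
  have e5 := hfix (b₁ * b₂) (B.mul_mem h₁ h₂) e4
  calc b₁ = b₁ * (b₂ * b₂) := by rw [hB2 b₂ h₂, mul_one]
    _ = b₁ * b₂ * b₂ := by rw [mul_assoc]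
    _ = b₂ := by rw [e5, one_mul]

theorem comm_of_sq_eq_one {B : Subgroup G} (hB2 : ∀ b ∈ B, b * b = 1) {a b : G} (ha : a ∈ B)
    (hb : b ∈ B) : a * b = b * a := by
  have h1 := hB2 (a * b) (B.mul_mem ha hb)
  have h2 := hB2 a ha
  have h3 := hB2 b hb
  calc a * b = a * (a * b * (a * b)) * b := by rw [h1, mul_one]
    _ = (a * a) * b * a * (b * b) := by group
    _ = b * a := by rw [h2, h3, one_mul, mul_one]

/-- If `T = D × B`, `|Z(D)| ≤ 2`, `B` a four-group of exponent 2 whose non-identity elements have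
centralizer `T` in the 2-group `S ≥ T`, then `S = T`. -/
theorem le_of_center_small [Finite G] (S T D B : Subgroup G) (hS : IsPGroup 2 S) (hTS : T ≤ S)
    (hprod : Cfsg.IsInternalDirectProduct D B T) (hB4 : Nat.card B = 4)
    (hB2 : ∀ b ∈ B, b * b = 1)
    (hZ : Nat.card (D ⊓ Subgroup.centralizer (D : Set G) : Subgroup G) ≤ 2)
    (hBc : ∀ b ∈ B, b ≠ 1 → ∀ g ∈ S, g * b = b * g → g ∈ T) : S ≤ T := by
  have : Fact (Nat.Prime 2) := ⟨Nat.prime_two⟩
  obtain ⟨hDT, hBT, hDB, hinf, hsup⟩ := hprod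
  by_contra hST
  have hne : T ≠ S := fun h => hST (h ▸ le_refl _)
  obtain ⟨y, hyS, hyN, hyT⟩ := exists_mem_normalizer_not_mem S hS T hTS hne
  -- an element `h ∈ N_S(T) \ T` with `h² ∈ T`
  obtain ⟨h, hhS, hhN, hhT, hh2⟩ : ∃ h, h ∈ S ∧ h ∈ Subgroup.normalizer (T : Set G) ∧ h ∉ T ∧
      h * h ∈ T := by
    obtain ⟨k, hk⟩ := pow_eq_one_of_mem_pgroup hS hyS
    have hex : ∃ k : ℕ, y ^ 2 ^ k ∈ T := ⟨k, hk ▸ T.one_mem⟩
    classical
    have hj0 : Nat.find hex ≠ 0 := by
      intro h0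
      have := Nat.find_spec hex
      rw [h0, pow_zero, pow_one] at this
      exact hyT this
    obtain ⟨j, hj⟩ := Nat.exists_eq_succ_of_ne_zero hj0
    refine ⟨y ^ 2 ^ j, S.pow_mem hyS _, Subgroup.pow_mem _ hyN _, ?_, ?_⟩
    · exact Nat.find_min hex (by omega)
    · have := Nat.find_spec hex
      rw [hj, pow_succ, pow_mul, pow_two] at this
      exact this
  -- the centre of `T`
  set ZT : Subgroup G := T ⊓ Subgroup.centralizer (T : Set G) with hZT
  have hBcomm : ∀ a ∈ B, ∀ b ∈ B, a * b = b * a := fun a ha b hb => comm_of_sq_eq_one hB2 ha hb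
  have hTdec : ∀ t ∈ T, ∃ d ∈ D, ∃ b ∈ B, t = d * b := by
    intro t ht
    rw [← hsup] at ht
    exact exists_mul_of_mem_sup_of_comm hDB ht
  have hBZ : B ≤ ZT := by
    intro b hb
    refine Subgroup.mem_inf.mpr ⟨hBT hb, ?_⟩
    rw [Subgroup.mem_centralizer_iff]
    intro t ht
    obtain ⟨d, hd, b', hb', rfl⟩ := hTdec t ht
    have h1 := hDB d hd b hb
    have h2 := hBcomm b' hb' b hb
    calc d * b' * b = d * (b' * b) := by group
      _ = d * (b * b') := by rw [h2]
      _ = (d * b) * b' := by group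
      _ = b * d * b' := by rw [h1]
      _ = b * (d * b') := by group
  have hZTcomm : ∀ a ∈ ZT, ∀ b ∈ ZT, a * b = b * a := by
    intro a ha b hb
    exact (Subgroup.mem_centralizer_iff.mp hb.2 a ha.1)
  -- `|Z(T)| ≤ 8`
  have hZT8 : Nat.card ZT ≤ 8 := by
    let φ : (D ⊓ Subgroup.centralizer (D : Set G) : Subgroup G) × B → ZT := fun x =>
      ⟨x.1.1 * x.2.1, by
        refine Subgroup.mem_inf.mpr ⟨T.mul_mem (hDT x.1.2.1) (hBT x.2.2), ?_⟩
        rw [Subgroup.mem_centralizer_iff]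
        intro t ht
        obtain ⟨d, hd, b', hb', rfl⟩ := hTdec t ht
        have h1 : d * x.1.1 = x.1.1 * d := Subgroup.mem_centralizer_iff.mp x.1.2.2 d hd
        have h2 := hBcomm b' hb' x.2.1 x.2.2
        have h3 := hDB x.1.1 x.1.2.1 b' hb'
        have h4 := hDB d hd x.2.1 x.2.2
        calc d * b' * (x.1.1 * x.2.1) = d * (b' * x.1.1) * x.2.1 := by group
          _ = d * (x.1.1 * b') * x.2.1 := by rw [h3]
          _ = (d * x.1.1) * (b' * x.2.1) := by group
          _ = (x.1.1 * d) * (x.2.1 * b') := by rw [h1, h2]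
          _ = x.1.1 * (d * x.2.1) * b' := by group
          _ = x.1.1 * (x.2.1 * d) * b' := by rw [h4]
          _ = x.1.1 * x.2.1 * (d * b') := by group⟩
    have hφ : Function.Surjective φ := by
      rintro ⟨c, hcT, hcC⟩
      obtain ⟨d, hd, b, hb, rfl⟩ := hTdec c hcT
      refine ⟨(⟨d, Subgroup.mem_inf.mpr ⟨hd, ?_⟩⟩, ⟨b, hb⟩), rfl⟩
      rw [Subgroup.mem_centralizer_iff]
      intro d' hd'
      have h1 := Subgroup.mem_centralizer_iff.mp hcC d' (hDT hd')
      have h2 := hDB d' hd' b hb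
      have : d' * d * b = d * d' * b := by
        calc d' * d * b = d' * (d * b) := by group
          _ = d * b * d' := h1
          _ = d * (b * d') := by group
          _ = d * (d' * b) := by rw [h2]
          _ = d * d' * b := by group
      exact mul_right_cancel this
    have h1 := Nat.card_le_card_of_surjective φ hφ
    rw [Nat.card_prod, hB4] at h1
    omega
  -- the fixed points of `h` on `Z(T)`
  set F : Subgroup G := ZT ⊓ Subgroup.centralizer ({h} : Set G) with hF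
  have hfix : ∀ b ∈ B, h * b = b * h → b = 1 := by
    intro b hb hc
    by_contra hb1
    exact hhT (hBc b hb hb1 h hhS hc)
  have hconjZ : ∀ c ∈ ZT, h * c * h⁻¹ ∈ ZT := by
    intro c hc
    refine Subgroup.mem_inf.mpr ⟨(Subgroup.mem_normalizer_iff.mp hhN c).mp hc.1, ?_⟩
    rw [Subgroup.mem_centralizer_iff]
    intro t ht
    have ht' : h⁻¹ * t * h ∈ T := by
      have := (Subgroup.mem_normalizer_iff.mp (Subgroup.inv_mem _ hhN) t).mp ht
      simpa using this
    have h1 := Subgroup.mem_centralizer_iff.mp hc.2 _ ht'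
    calc t * (h * c * h⁻¹) = h * ((h⁻¹ * t * h) * c) * h⁻¹ := by group
      _ = h * (c * (h⁻¹ * t * h)) * h⁻¹ := by rw [h1]
      _ = h * c * h⁻¹ * t := by group
  have hθF : ∀ b ∈ B, b * (h * b * h⁻¹) ∈ F := by
    intro b hb
    have hbZ := hBZ hb
    have hcZ := hconjZ b hbZ
    refine Subgroup.mem_inf.mpr ⟨ZT.mul_mem hbZ hcZ, ?_⟩
    rw [Subgroup.mem_centralizer_iff]
    intro x hx
    rw [Set.mem_singleton_iff] at hx
    subst hx
    have h1 : (x * x) * b = b * (x * x) := Subgroup.mem_centralizer_iff.mp hbZ.2 _ hh2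
    have h2 := hZTcomm b hbZ _ hcZ
    have h3 : x * x * b * x⁻¹ = b * x := by rw [h1]; group
    calc x * (b * (x * b * x⁻¹)) = (x * b * x⁻¹) * (x * x * b * x⁻¹) := by group
      _ = (x * b * x⁻¹) * (b * x) := by rw [h3]
      _ = ((x * b * x⁻¹) * b) * x := by group
      _ = (b * (x * b * x⁻¹)) * x := by rw [h2]
  have hF4 : 4 ≤ Nat.card F := by
    let θ : B → F := fun b => ⟨b.1 * (h * b.1 * h⁻¹), hθF b.1 b.2⟩
    have hθ : Function.Injective θ := by
      intro a b hab
      have := congrArg (fun y : F => (y : G)) hab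
      exact Subtype.ext (theta_injective B hB2 h hfix a.2 b.2 this)
    have := Nat.card_le_card_of_injective θ hθ
    rwa [hB4] at this
  have hFB : F ⊓ B = ⊥ := by
    rw [eq_bot_iff]
    intro b hb
    rw [Subgroup.mem_bot]
    have hc : h * b = b * h := by
      have := Subgroup.mem_centralizer_iff.mp hb.1.2 h (Set.mem_singleton h)
      exact this
    exact hfix b hb.2 hc
  have hpf := card_mul_card_le_of_le (H := F) (K := B) (L := ZT) inf_le_left hBZ
  rw [hFB, Subgroup.card_bot, mul_one, hB4] at hpf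
  nlinarith

/-- If `T = D × B` with `|B| = 4` and `D` has a cyclic subgroup `C` with `|D| ≤ 2 |C|`, then every
elementary abelian section of `T` has order at most 16. -/
theorem rk4In_of_cyclic_chain [Finite G] (T D B C : Subgroup G)
    (hprod : Cfsg.IsInternalDirectProduct D B T) (hB4 : Nat.card B = 4) (hCD : C ≤ D)
    [hC : IsCyclic C] (hDC : Nat.card D ≤ 2 * Nat.card C) : Rk4In T := by
  obtain ⟨hDT, hBT, hDB, hinf, hsup⟩ := hprod
  intro P M hPT hMP hsq _
  -- `|T| ≤ 4 |D|`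
  have hT : Nat.card T ≤ Nat.card D * 4 := by
    let φ : D × B → T := fun x => ⟨x.1.1 * x.2.1, T.mul_mem (hDT x.1.2) (hBT x.2.2)⟩
    have hφ : Function.Surjective φ := by
      rintro ⟨t, ht⟩
      rw [← hsup] at ht
      obtain ⟨d, hd, b, hb, rfl⟩ := exists_mul_of_mem_sup_of_comm hDB ht
      exact ⟨(⟨d, hd⟩, ⟨b, hb⟩), rfl⟩
    have h1 := Nat.card_le_card_of_surjective φ hφ
    rwa [Nat.card_prod, hB4] at h1
  have hDpos : 0 < Nat.card D := Nat.card_pos
  have hCpos : 0 < Nat.card C := Nat.card_pos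
  -- step 1
  have h1 : Nat.card P ≤ 4 * Nat.card (P ⊓ D : Subgroup G) := by
    have := card_mul_card_le_of_le (H := P) (K := D) (L := T) hPT hDT
    have h2 : Nat.card P * Nat.card D ≤ (4 * Nat.card (P ⊓ D : Subgroup G)) * Nat.card D := by
      calc Nat.card P * Nat.card D ≤ Nat.card T * Nat.card (P ⊓ D : Subgroup G) := this
        _ ≤ (Nat.card D * 4) * Nat.card (P ⊓ D : Subgroup G) := Nat.mul_le_mul_right _ hT
        _ = (4 * Nat.card (P ⊓ D : Subgroup G)) * Nat.card D := by ring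
    exact Nat.le_of_mul_le_mul_right h2 hDpos
  -- step 2
  have h2 : Nat.card (P ⊓ D : Subgroup G) ≤ 2 * Nat.card (P ⊓ C : Subgroup G) := by
    have := card_mul_card_le_of_le (H := P ⊓ D) (K := C) (L := D) inf_le_right hCD
    have he : (P ⊓ D ⊓ C : Subgroup G) = P ⊓ C := by
      rw [inf_assoc, inf_eq_right.mpr hCD]
    rw [he] at this
    have h3 : Nat.card (P ⊓ D : Subgroup G) * Nat.card C ≤
        (2 * Nat.card (P ⊓ C : Subgroup G)) * Nat.card C := by
      calc Nat.card (P ⊓ D : Subgroup G) * Nat.card C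
          ≤ Nat.card D * Nat.card (P ⊓ C : Subgroup G) := this
        _ ≤ (2 * Nat.card C) * Nat.card (P ⊓ C : Subgroup G) := Nat.mul_le_mul_right _ hDC
        _ = (2 * Nat.card (P ⊓ C : Subgroup G)) * Nat.card C := by ring
    exact Nat.le_of_mul_le_mul_right h3 hCpos
  -- step 3: cyclic
  have h3 : Nat.card (P ⊓ C : Subgroup G) ≤ 2 * Nat.card M := by
    have hcyc : IsCyclic (P ⊓ C : Subgroup G) := by
      have : IsCyclic ((P ⊓ C).subgroupOf C) := Subgroup.isCyclic _
      exact isCyclic_of_surjective (Subgroup.subgroupOfEquivOfLe (inf_le_right : P ⊓ C ≤ C)).toMonoidHom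
        (MulEquiv.surjective _)
    obtain ⟨c, hc⟩ := hcyc.exists_generator
    have hcard : Nat.card (P ⊓ C : Subgroup G) = orderOf (c : G) := by
      rw [Subgroup.orderOf_coe]
      exact (orderOf_eq_card_of_forall_mem_zpowers hc).symm
    have hle : Subgroup.zpowers ((c : G) ^ 2) ≤ M := by
      rw [Subgroup.zpowers_le, pow_two]
      exact hsq _ c.2.1
    have h4 : Nat.card (Subgroup.zpowers ((c : G) ^ 2)) ≤ Nat.card M := Subgroup.card_le_of_le hle
    rw [Nat.card_zpowers, orderOf_pow' _ (by norm_num : (2 : ℕ) ≠ 0)] at h4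
    have hg : Nat.gcd (orderOf (c : G)) 2 ≤ 2 := Nat.le_of_dvd (by norm_num) (Nat.gcd_dvd_right _ _)
    have h5 : orderOf (c : G) / Nat.gcd (orderOf (c : G)) 2 * Nat.gcd (orderOf (c : G)) 2 =
        orderOf (c : G) := Nat.div_mul_cancel (Nat.gcd_dvd_left _ _)
    rw [hcard]
    calc orderOf (c : G) = orderOf (c : G) / Nat.gcd (orderOf (c : G)) 2 *
          Nat.gcd (orderOf (c : G)) 2 := h5.symm
      _ ≤ orderOf (c : G) / Nat.gcd (orderOf (c : G)) 2 * 2 := Nat.mul_le_mul_left _ hg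
      _ ≤ Nat.card M * 2 := Nat.mul_le_mul_right _ h4
      _ = 2 * Nat.card M := by ring
  omega

end Cfsg.Agent.Lib.helper26
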