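import Mathlib
import Cfsg.Agent.Lib.helper26.Special64c
import Cfsg.Agent.Lib.helper42.DihedralEight
import Cfsg.Agent.Lib.helper73.Quaternion

/-!
Nonabelian groups of order 64 with a fixed-point-free automorphism `ρ` of order 3 and an
involutory automorphism `x` inverting `ρ` (helper26), part 4: the fixed points `C` of `x`
are dihedral or quaternion of order 8.
-/

set_option autoImplicit false

namespace Cfsg.Agent.Lib.helper26

namespace S64

open Fpf3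

variable {T : Type*} [Group T] [Finite T] {ρ x : MulAut T}

theorem C_dih_or_quat (H : Hyp64 ρ) (X : HypX ρ x) (C : Subgroup T)
    (hC : ∀ y : T, y ∈ C ↔ x y = y) :
    Nonempty (↥C ≃* DihedralGroup 4) ∨ Nonempty (↥C ≃* QuaternionGroup 2) := by
  obtain ⟨z0, hz0, hz01, hxz0⟩ := exists_z0 H X
  obtain ⟨c1, hc1, hc1Z⟩ := exists_C_noncentral C H X hC
  obtain ⟨c2, hc2, hcm⟩ := exists_noncomm C H X hC hc1Z
  have h8 := card_C C H X hC
  have hcm' : cm c1 c2 = z0 := (cm_C C H X hC hz0 hz01 hxz0 hc1 hc2).resolve_left hcm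
  have hncomm : c1 * c2 ≠ c2 * c1 := fun h => hcm ((cm_eq_one_iff _ _).mpr h)
  by_cases h1 : c1 * c1 = 1
  · left
    exact Cfsg.Agent.Lib.helper42.nonempty_mulEquiv_dihedral_of_card_eight h8 (⟨c1, hc1⟩ : C)
      ⟨c2, hc2⟩ (Subtype.ext h1) (fun h => hncomm (congrArg Subtype.val h))
  by_cases h2 : c2 * c2 = 1
  · left
    exact Cfsg.Agent.Lib.helper42.nonempty_mulEquiv_dihedral_of_card_eight h8 (⟨c2, hc2⟩ : C)
      ⟨c1, hc1⟩ (Subtype.ext h2) (fun h => hncomm (congrArg Subtype.val h).symm)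
  right
  have h1' : c1 * c1 = z0 := (sq_C C H X hC hz0 hz01 hxz0 hc1).resolve_left h1
  have h2' : c2 * c2 = z0 := (sq_C C H X hC hz0 hz01 hxz0 hc2).resolve_left h2
  have h4 : c1 * c1 * (c1 * c1) = 1 := by rw [h1', center_sq H hz0]
  have ha4 : (⟨c1, hc1⟩ : C) ^ 4 = 1 := by
    apply Subtype.ext
    show c1 ^ 4 = 1
    rw [← h4]; simp [pow_succ, mul_assoc]
  have ha2 : (⟨c1, hc1⟩ : C) ^ 2 ≠ 1 := by
    intro h
    apply h1
    have := congrArg Subtype.val h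
    simpa [pow_two] using this
  have hb : (⟨c2, hc2⟩ : C) ^ 2 = (⟨c1, hc1⟩ : C) ^ 2 := by
    apply Subtype.ext
    show c2 ^ 2 = c1 ^ 2
    rw [pow_two, pow_two, h1', h2']
  have hab : (⟨c2, hc2⟩ : C) * ⟨c1, hc1⟩ * (⟨c2, hc2⟩ : C)⁻¹ = (⟨c1, hc1⟩ : C)⁻¹ := by
    apply Subtype.ext
    show c2 * c1 * c2⁻¹ = c1⁻¹
    have e : c2 * c1 * c2⁻¹ = cm c2 c1 * c1 := by unfold cm; group
    rw [e, cm_symm H c1 c2, hcm', ← h1']
    exact eq_inv_of_mul_eq_one_left (by rw [← h4]; group)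
  refine Cfsg.Agent.Lib.helper73.nonempty_mulEquiv_quaternion (⟨c1, hc1⟩ : C) ⟨c2, hc2⟩ ha4 ha2 hb
    hab ?_
  -- generation
  have hord : orderOf (⟨c1, hc1⟩ : C) = 4 := by
    haveI : Fact (Nat.Prime 2) := ⟨Nat.prime_two⟩
    have := orderOf_eq_prime_pow (x := (⟨c1, hc1⟩ : C)) (p := 2) (n := 1)
      (by simpa using ha2) (by simpa using ha4)
    simpa using this
  have hza : Nat.card (Subgroup.zpowers (⟨c1, hc1⟩ : C)) = 4 := by rw [Nat.card_zpowers, hord]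
  have hle : Subgroup.zpowers (⟨c1, hc1⟩ : C) ≤ Subgroup.closure {⟨c1, hc1⟩, ⟨c2, hc2⟩} := by
    rw [Subgroup.zpowers_le]; exact Subgroup.subset_closure (by simp)
  have hbm : (⟨c2, hc2⟩ : C) ∈ Subgroup.closure {(⟨c1, hc1⟩ : C), ⟨c2, hc2⟩} :=
    Subgroup.subset_closure (by simp)
  have hbn : (⟨c2, hc2⟩ : C) ∉ Subgroup.zpowers (⟨c1, hc1⟩ : C) := by
    intro hb'
    obtain ⟨k, hk⟩ := Subgroup.mem_zpowers_iff.mp hb'
    apply hncomm
    have h : (⟨c1, hc1⟩ : C) * ⟨c2, hc2⟩ = ⟨c2, hc2⟩ * ⟨c1, hc1⟩ := by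
      rw [← hk]; exact ((Commute.refl (⟨c1, hc1⟩ : C)).zpow_right k).eq
    exact congrArg Subtype.val h
  have hcard : 4 < Nat.card (Subgroup.closure {(⟨c1, hc1⟩ : C), ⟨c2, hc2⟩}) := by
    by_contra hle4
    push_neg at hle4
    have := Subgroup.eq_of_le_of_card_ge hle (by rw [hza]; exact hle4)
    exact hbn (this ▸ hbm)
  have hdvd : Nat.card (Subgroup.closure {(⟨c1, hc1⟩ : C), ⟨c2, hc2⟩}) ∣ 2 ^ 3 := by
    have := Subgroup.card_subgroup_dvd_card (Subgroup.closure {(⟨c1, hc1⟩ : C), ⟨c2, hc2⟩})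
    rw [h8] at this
    exact this
  obtain ⟨k, hk, hk2⟩ := (Nat.dvd_prime_pow Nat.prime_two).mp hdvd
  apply Subgroup.eq_top_of_card_eq
  rw [h8]
  rw [hk2] at hcard ⊢
  interval_cases k
  all_goals first | (norm_num at hcard; done) | norm_num

end S64

end Cfsg.Agent.Lib.helper26
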