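import Cfsg.Agent.S2222
import Cfsg.Agent.Lib.helper2.SylAltBase
import Mathlib
import Cfsg.Prelude.Def_TwoFusion

set_option autoImplicit false

namespace Cfsg.Agent.Lib.helper26.SylAlt

open Equiv Cfsg.Agent.S2222 Cfsg.Agent.Lib.helper2.SylAlt

/-- the indecomposability argument, with the orbit structure of the swaps of `P` (a
swap `t₀` such that all the others are conjugate) as hypotheses -/
theorem indecomp_odd_aux {Ω : Type} [Fintype Ω] [DecidableEq Ω] (P : Subgroup (Perm Ω))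
    (hP2 : IsPGroup 2 P)
    (T : Finset (Perm Ω)) (hmemT : ∀ t, t ∈ T ↔ t ∈ P ∧ t.IsSwap) (hT : Pairing T)
    (hPT : P ≤ stabT T) (h3 : 3 ≤ T.card)
    (t₀ : Perm Ω) (ht₀ : t₀ ∈ T)
    (htrans : ∀ t ∈ T, ∀ s ∈ T, t ≠ t₀ → s ≠ t₀ → ∃ g ∈ P, g * t * g⁻¹ = s)
    (R₁ R₂ : Subgroup (Perm Ω)) (h1 : R₁ ≠ ⊥) (h2 : R₂ ≠ ⊥)
    (h : Cfsg.IsInternalDirectProduct R₁ R₂ (P ⊓ alternatingGroup Ω)) : False := by
  classical
  obtain ⟨hR1, hR2, hcomm, hinf, hsup⟩ := h
  -- a second swap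
  have hcard1 : 1 < T.card := by omega
  obtain ⟨t₁, ht₁, ht₁₀⟩ : ∃ t₁ ∈ T, t₁ ≠ t₀ := by
    obtain ⟨a, ha, b, hb, hab⟩ := Finset.one_lt_card.1 hcard1
    by_cases hat : a = t₀
    · exact ⟨b, hb, fun hbt => hab (hat.trans hbt.symm)⟩
    · exact ⟨a, ha, hat⟩
  have hsign : ∀ t ∈ T, Perm.sign t = -1 := fun t ht => sign_mem hT ht
  have hTP : ∀ t ∈ T, t ∈ P := fun t ht => ((hmemT t).1 ht).1
  -- products of two swaps lie in PA
  have hprod : ∀ t ∈ T, ∀ s ∈ T, t * s ∈ P ⊓ alternatingGroup Ω := by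
    intro t ht s hs
    refine ⟨P.mul_mem (hTP t ht) (hTP s hs), ?_⟩
    show t * s ∈ alternatingGroup Ω
    rw [Perm.mem_alternatingGroup, map_mul, hsign t ht, hsign s hs]
    simp
  -- key: a nontrivial central element of PA moves the support of t₁
  have key : ∀ z : Perm Ω, z ∈ P ⊓ alternatingGroup Ω →
      (∀ x ∈ P ⊓ alternatingGroup Ω, x * z = z * x) → z ≠ 1 → Cen T z ∧ mv z t₁ := by
    intro z hz hzc hz1
    have hzP : z ∈ P := hz.1
    have hzA : Perm.sign z = 1 := Perm.mem_alternatingGroup.1 hz.2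
    have hcen : Cen T z := by
      apply cen_of_comm hT h3 (hPT hzP)
      intro t ht s hs _
      have e := hzc (t * s) (hprod t ht s hs)
      rw [← e]; simp
    refine ⟨hcen, ?_⟩
    -- z is fixed by conjugation with all of P
    have hconj : ∀ g ∈ P, g * z * g⁻¹ = z := by
      intro g hg
      by_cases hgs : Perm.sign g = 1
      · have hgA : g ∈ P ⊓ alternatingGroup Ω := ⟨hg, Perm.mem_alternatingGroup.2 hgs⟩
        have e := hzc g hgA
        rw [e]; simp
      · have hgs' : Perm.sign g = -1 := by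
          rcases Int.units_eq_one_or (Perm.sign g) with h | h
          · exact absurd h hgs
          · exact h
        have hgt : g * t₀ ∈ P ⊓ alternatingGroup Ω := by
          refine ⟨P.mul_mem hg (hTP t₀ ht₀), ?_⟩
          show g * t₀ ∈ alternatingGroup Ω
          rw [Perm.mem_alternatingGroup, map_mul, hgs', hsign t₀ ht₀]
          simp
        have e := hzc (g * t₀) hgt
        have e0 := hcen t₀ ht₀
        -- z * t₀ = t₀ * z
        have e1 : z * t₀ = t₀ * z := by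
          have : z * t₀ * z⁻¹ * z = t₀ * z := by rw [e0]
          simpa [mul_assoc] using this
        -- g * z = z * g
        have e2 : g * z = z * g := by
          have h1 : g * t₀ * z = z * g * t₀ := by rw [e]; simp [mul_assoc]
          have h2 : g * z * t₀ = z * g * t₀ := by
            rw [mul_assoc g z t₀, e1, ← mul_assoc]; exact h1
          exact mul_right_cancel h2
        rw [e2]; simp
    by_contra hB
    -- no swap other than t₀ is moved
    have hall : ∀ t ∈ T, t ≠ t₀ → ¬ mv z t := by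
      intro t ht ht0 hmv
      obtain ⟨g, hg, hgt⟩ := htrans t ht t₁ ht₁ ht0 ht₁₀
      apply hB
      have := (mv_conj g z t).2 hmv
      rw [hconj g hg, hgt] at this
      exact this
    by_cases hA : mv z t₀
    · -- z = t₀, odd
      have hzt : z = t₀ := by
        apply cen_ext hT hcen (cen_swap hT ht₀)
        intro t ht
        rw [mv_swap hT ht₀ ht]
        constructor
        · intro hm
          by_contra hne
          exact hall t ht (fun e => hne e.symm) hm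
        · rintro rfl; exact hA
      rw [hzt, hsign t₀ ht₀] at hzA
      exact absurd hzA (by decide)
    · -- z = 1
      apply hz1
      apply cen_ext hT hcen cen_one
      intro t ht
      constructor
      · intro hm
        by_cases e : t = t₀
        · rw [e] at hm; exact absurd hm hA
        · exact absurd hm (hall t ht e)
      · intro hm; exact absurd hm mv_one
  -- the centres of R₁ and R₂
  have hR1P : R₁ ≤ P := hR1.trans inf_le_left
  have hR2P : R₂ ≤ P := hR2.trans inf_le_left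
  have hp1 : IsPGroup 2 R₁ := hP2.to_le hR1P
  have hp2 : IsPGroup 2 R₂ := hP2.to_le hR2P
  have : Nontrivial R₁ := (Subgroup.nontrivial_iff_ne_bot R₁).2 h1
  have : Nontrivial R₂ := (Subgroup.nontrivial_iff_ne_bot R₂).2 h2
  have := hp1.center_nontrivial
  have := hp2.center_nontrivial
  obtain ⟨c₁, hc₁⟩ := exists_ne (1 : Subgroup.center R₁)
  obtain ⟨c₂, hc₂⟩ := exists_ne (1 : Subgroup.center R₂)
  have hz1R : ((c₁ : R₁) : Perm Ω) ∈ R₁ := (c₁ : R₁).2
  have hz2R : ((c₂ : R₂) : Perm Ω) ∈ R₂ := (c₂ : R₂).2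
  have hz1ne : ((c₁ : R₁) : Perm Ω) ≠ 1 := by
    intro e
    apply hc₁
    apply Subtype.ext
    apply Subtype.ext
    exact e
  have hz2ne : ((c₂ : R₂) : Perm Ω) ≠ 1 := by
    intro e
    apply hc₂
    apply Subtype.ext
    apply Subtype.ext
    exact e
  have hz1c : ∀ x ∈ R₁, x * ((c₁ : R₁) : Perm Ω) = ((c₁ : R₁) : Perm Ω) * x := by
    intro x hx
    have := (Subgroup.mem_center_iff.1 c₁.2) ⟨x, hx⟩
    exact congrArg Subtype.val this
  have hz2c : ∀ x ∈ R₂, x * ((c₂ : R₂) : Perm Ω) = ((c₂ : R₂) : Perm Ω) * x := by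
    intro x hx
    have := (Subgroup.mem_center_iff.1 c₂.2) ⟨x, hx⟩
    exact congrArg Subtype.val this
  obtain ⟨z₁, hz₁⟩ : ∃ z₁ : Perm Ω, z₁ = ((c₁ : R₁) : Perm Ω) := ⟨_, rfl⟩
  obtain ⟨z₂, hz₂⟩ : ∃ z₂ : Perm Ω, z₂ = ((c₂ : R₂) : Perm Ω) := ⟨_, rfl⟩
  rw [← hz₁] at hz1R hz1ne hz1c
  rw [← hz₂] at hz2R hz2ne hz2c
  -- centrality in PA
  have hcentral1 : ∀ x ∈ P ⊓ alternatingGroup Ω, x * z₁ = z₁ * x := by
    have hle : R₁ ⊔ R₂ ≤ Subgroup.centralizer ({z₁} : Set (Perm Ω)) := by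
      apply sup_le
      · intro x hx
        rw [Subgroup.mem_centralizer_iff]
        intro y hy
        rw [Set.mem_singleton_iff] at hy
        rw [hy]; exact (hz1c x hx).symm
      · intro x hx
        rw [Subgroup.mem_centralizer_iff]
        intro y hy
        rw [Set.mem_singleton_iff] at hy
        rw [hy]; exact hcomm z₁ hz1R x hx
    intro x hx
    rw [← hsup] at hx
    have := Subgroup.mem_centralizer_iff.1 (hle hx) z₁ rfl
    exact this.symm
  have hcentral2 : ∀ x ∈ P ⊓ alternatingGroup Ω, x * z₂ = z₂ * x := by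
    have hle : R₁ ⊔ R₂ ≤ Subgroup.centralizer ({z₂} : Set (Perm Ω)) := by
      apply sup_le
      · intro x hx
        rw [Subgroup.mem_centralizer_iff]
        intro y hy
        rw [Set.mem_singleton_iff] at hy
        rw [hy]; exact (hcomm x hx z₂ hz2R).symm
      · intro x hx
        rw [Subgroup.mem_centralizer_iff]
        intro y hy
        rw [Set.mem_singleton_iff] at hy
        rw [hy]; exact (hz2c x hx).symm
    intro x hx
    rw [← hsup] at hx
    have := Subgroup.mem_centralizer_iff.1 (hle hx) z₂ rfl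
    exact this.symm
  have hz1PA : z₁ ∈ P ⊓ alternatingGroup Ω := hR1 hz1R
  have hz2PA : z₂ ∈ P ⊓ alternatingGroup Ω := hR2 hz2R
  obtain ⟨hcen1, hmv1⟩ := key z₁ hz1PA hcentral1 hz1ne
  obtain ⟨hcen2, hmv2⟩ := key z₂ hz2PA hcentral2 hz2ne
  -- the product
  have hyPA : z₁ * z₂ ∈ P ⊓ alternatingGroup Ω := (P ⊓ alternatingGroup Ω).mul_mem hz1PA hz2PA
  have hyc : ∀ x ∈ P ⊓ alternatingGroup Ω, x * (z₁ * z₂) = (z₁ * z₂) * x := by
    intro x hx
    rw [← mul_assoc, hcentral1 x hx, mul_assoc, hcentral2 x hx, mul_assoc]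
  have hyne : z₁ * z₂ ≠ 1 := by
    intro e
    have e' : z₁ = z₂⁻¹ := eq_inv_of_mul_eq_one_left e
    have hmem : z₁ ∈ R₁ ⊓ R₂ := ⟨hz1R, by rw [e']; exact R₂.inv_mem hz2R⟩
    rw [hinf] at hmem
    exact hz1ne (Subgroup.mem_bot.1 hmem)
  obtain ⟨_, hmvy⟩ := key (z₁ * z₂) hyPA hyc hyne
  rw [mv_mul hT hcen1 hcen2 ht₁] at hmvy
  exact hmvy ⟨fun _ => hmv2, fun _ => hmv1⟩

/-- `indecomp_odd` with PIECE A's `swaps_orbit_odd` (for this `P`) as a hypothesis -/
theorem indecomp_odd_of {Ω : Type} [Fintype Ω] [DecidableEq Ω] (P : Subgroup (Perm Ω))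
    (hP2 : IsPGroup 2 P)
    (hcard : Nat.card P = 2 ^ ((Fintype.card Ω).factorial.factorization 2))
    (hA : ∀ (T : Finset (Perm Ω)), (∀ t, t ∈ T ↔ t ∈ P ∧ t.IsSwap) → Pairing T →
      P ≤ stabT T → ∀ k : ℕ, 1 ≤ k → T.card = 2 ^ k + 1 →
      ∃ t₀ ∈ T, (∀ g ∈ P, g * t₀ * g⁻¹ = t₀) ∧
        ∀ t ∈ T, ∀ s ∈ T, t ≠ t₀ → s ≠ t₀ → ∃ g ∈ P, g * t * g⁻¹ = s)
    (h6 : 6 ≤ Fintype.card Ω)
    (hmod : Fintype.card Ω % 4 = 2 ∨ Fintype.card Ω % 4 = 3)
    (r : ℕ) (hr : 4 * (Fintype.card Ω / 4) = 2 ^ r)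
    (R₁ R₂ : Subgroup (Perm Ω)) (h1 : R₁ ≠ ⊥) (h2 : R₂ ≠ ⊥)
    (h : Cfsg.IsInternalDirectProduct R₁ R₂ (P ⊓ alternatingGroup Ω)) : False := by
  obtain ⟨T, hmemT, hT, hPT⟩ := exists_swap_pairing P hP2 hcard
  have hTc := hT.card
  rcases r with _ | _ | k
  · rw [pow_zero] at hr; omega
  · rw [zero_add, pow_one] at hr; omega
  · have hk : T.card = 2 ^ (k + 1) + 1 := by
      rw [hTc]
      have e1 : (2 : ℕ) ^ (k + 1 + 1) = 4 * 2 ^ k := by ring
      have e2 : (2 : ℕ) ^ (k + 1) = 2 * 2 ^ k := by ring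
      rw [e1] at hr
      rw [e2]
      omega
    have h3 : 3 ≤ T.card := by
      rw [hk]
      have : 1 ≤ 2 ^ k := Nat.one_le_two_pow
      have e2 : (2 : ℕ) ^ (k + 1) = 2 * 2 ^ k := by ring
      omega
    obtain ⟨t₀, ht₀, _, htrans⟩ := hA T hmemT hT hPT (k + 1) (by omega) hk
    exact indecomp_odd_aux P hP2 T hmemT hT hPT h3 t₀ ht₀ htrans R₁ R₂ h1 h2 h

end Cfsg.Agent.Lib.helper26.SylAlt
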