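import Cfsg.Agent.S2222
import Cfsg.Agent.Lib.helper26.SylAlt_E0
import Cfsg.Agent.Lib.helper61.SylAlt_A
import Mathlib
import Cfsg.Prelude.Def_TwoFusion

set_option autoImplicit false

namespace Cfsg.Agent.Lib.helper26.SylAlt

open Equiv Cfsg.Agent.S2222

/-- S2221 PIECE E: a Sylow 2-subgroup of the alternating group is directly indecomposable
when the degree is `2 ^ r + 2` or `2 ^ r + 3` -/
theorem indecomp_odd {Ω : Type} [Fintype Ω] [DecidableEq Ω] (P : Subgroup (Perm Ω))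
    (hP2 : IsPGroup 2 P)
    (hcard : Nat.card P = 2 ^ ((Fintype.card Ω).factorial.factorization 2))
    (h6 : 6 ≤ Fintype.card Ω)
    (hmod : Fintype.card Ω % 4 = 2 ∨ Fintype.card Ω % 4 = 3)
    (r : ℕ) (hr : 4 * (Fintype.card Ω / 4) = 2 ^ r)
    (R₁ R₂ : Subgroup (Perm Ω)) (h1 : R₁ ≠ ⊥) (h2 : R₂ ≠ ⊥)
    (h : Cfsg.IsInternalDirectProduct R₁ R₂ (P ⊓ alternatingGroup Ω)) : False :=
  indecomp_odd_of P hP2 hcard
    (Cfsg.Agent.Lib.helper61.SylAlt.swaps_orbit_odd P hP2 hcard) h6 hmod r hr R₁ R₂ h1 h2 h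

end Cfsg.Agent.Lib.helper26.SylAlt
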