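import Mathlib

set_option autoImplicit false

namespace Cfsg.Agent.Lib.helper26.T97

/-- PIECE AUT. -/
theorem index_dvd_totient {H : Type*} [Group H] [Finite H] (F : Subgroup H) [F.Normal]
    (hcyc : IsCyclic F) (hC : Subgroup.centralizer (F : Set H) ≤ F) :
    F.index ∣ Nat.totient (Nat.card F) := by
  let φ : H →* MulAut F := MulAut.conjNormal
  have hcomm : ∀ a b : F, a * b = b * a := by
    intro a b
    obtain ⟨g, hg⟩ := hcyc.exists_generator
    obtain ⟨i, rfl⟩ := Subgroup.mem_zpowers_iff.1 (hg a)
    obtain ⟨j, rfl⟩ := Subgroup.mem_zpowers_iff.1 (hg b)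
    rw [← zpow_add, ← zpow_add, add_comm]
  have hker : φ.ker = F := by
    apply le_antisymm
    · intro h hh
      apply hC
      rw [Subgroup.mem_centralizer_iff]
      intro f hf
      have h1 : φ h ⟨f, hf⟩ = ⟨f, hf⟩ := by
        rw [MonoidHom.mem_ker.1 hh]; rfl
      have h2 : h * f * h⁻¹ = f := by
        have := congrArg Subtype.val h1
        simpa [φ] using this
      calc f * h = h * f * h⁻¹ * h := by rw [h2]
        _ = h * f := by group
    · intro f hf
      rw [MonoidHom.mem_ker]
      ext x
      have h1 : (⟨f, hf⟩ : F) * x = x * ⟨f, hf⟩ := hcomm _ _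
      have h2 : f * (x : H) = (x : H) * f := congrArg Subtype.val h1
      show ((φ f x : F) : H) = ((1 : MulAut F) x : H)
      simp only [φ, MulAut.conjNormal_apply, MulAut.one_apply]
      rw [h2]; group
  have hidx : F.index = Nat.card φ.range := by
    conv_lhs => rw [← hker]
    exact Subgroup.index_ker φ
  rw [hidx, ← IsCyclic.card_mulAut (G := F)]
  exact Subgroup.card_subgroup_dvd_card φ.range

end Cfsg.Agent.Lib.helper26.T97
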