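import Mathlib

set_option autoImplicit false

namespace Cfsg.Agent.Lib.helper26.T97

/-- PIECE OMG. -/
theorem odd_aut_eq_one_of_fix_invol {Z : Type*} [CommGroup Z] [Finite Z] (h2 : IsPGroup 2 Z)
    (σ : MulAut Z) (hodd : Odd (orderOf σ)) (h : ∀ z : Z, z * z = 1 → σ z = z) : σ = 1 := by
  have key : ∀ n : ℕ, ∀ z : Z, z ^ (2 ^ n) = 1 → σ z = z := by
    intro n
    induction n with
    | zero =>
      intro z hz
      rw [pow_zero, pow_one] at hz
      rw [hz, map_one]
    | succ n ih =>
      intro z hz
      have hz2 : (z * z) ^ (2 ^ n) = 1 := by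
        rw [← pow_two, ← pow_mul, ← pow_succ']
        exact hz
      have h1 : σ (z * z) = z * z := ih _ hz2
      have h1' : σ z * σ z = z * z := by rw [← map_mul]; exact h1
      have hww : (σ z * z⁻¹) * (σ z * z⁻¹) = 1 := by
        calc (σ z * z⁻¹) * (σ z * z⁻¹) = (σ z * σ z) * (z * z)⁻¹ := by
              rw [mul_inv_rev]
              simp only [mul_comm, mul_left_comm, mul_assoc]
          _ = 1 := by rw [h1', mul_inv_cancel]
      have hσw : σ (σ z * z⁻¹) = σ z * z⁻¹ := h _ hww
      have hσz : σ z = (σ z * z⁻¹) * z := by rw [inv_mul_cancel_right]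
      generalize σ z * z⁻¹ = w at hww hσw hσz
      have hpow : ∀ j : ℕ, (σ ^ j) z = w ^ j * z := by
        intro j
        induction j with
        | zero => simp
        | succ j ihj =>
          rw [pow_succ', MulAut.mul_apply, ihj, map_mul, map_pow, hσw, hσz, pow_succ]
          simp only [mul_comm, mul_assoc]
      have hm := hpow (orderOf σ)
      rw [pow_orderOf_eq_one] at hm
      have hwm : w ^ orderOf σ = 1 := by
        have h3 : w ^ orderOf σ * z = 1 * z := by rw [one_mul]; exact hm.symm
        exact mul_right_cancel h3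
      obtain ⟨k, hk⟩ := hodd
      have hw1 : w = 1 := by
        rw [hk, pow_succ, pow_mul, pow_two, hww, one_pow, one_mul] at hwm
        exact hwm
      rw [hσz, hw1, one_mul]
  ext z
  obtain ⟨n, hn⟩ := h2 z
  exact key n z hn

end Cfsg.Agent.Lib.helper26.T97
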