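import Cfsg.Agent.Lib.helper68.W2PDefs

set_option autoImplicit false

namespace Cfsg.Agent.Lib.helper26.W2P

open Finset Cfsg.Agent.Lib.helper68.W2P
open scoped Classical

variable {p : ℕ} [Fact p.Prime] {ι : Type*}

/-- shift invariance, iterated -/
theorem g5_col_shift (D : Scheme p ι) (x y : ZMod p) (j k : Fin 2) :
    D.col (x, j) (y, k) = D.col (0, j) (y - x, k) := by
  have h : ∀ n : ℕ, D.col (x + n, j) (y + n, k) = D.col (x, j) (y, k) := by
    intro n
    induction n with
    | zero => simp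
    | succ n ih =>
      rw [← ih, ← D.shift (x + n) (y + n) j k]
      push_cast
      rw [add_assoc, add_assoc]
  have h2 := h (-x).val
  rw [ZMod.natCast_zmod_val] at h2
  rw [← h2]
  have e1 : x + -x = 0 := by ring
  have e2 : y + -x = y - x := by ring
  rw [e1, e2]

/-- orbits of a permutation commuting with `G` are blocks -/
theorem g5_block {α : Type*} (G : Subgroup (Equiv.Perm α)) (ψ : Equiv.Perm α)
    (hψ : ∀ h ∈ G, ∀ (k : ℤ) (a : α), (ψ ^ k) (h a) = h ((ψ ^ k) a)) (a₀ : α) :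
    MulAction.IsBlock G {c | ∃ k : ℤ, (ψ ^ k) a₀ = c} := by
  rw [MulAction.isBlock_iff_smul_eq_of_mem]
  rintro g a ⟨k, rfl⟩ ⟨l, hl⟩
  have hm : g.1 a₀ = (ψ ^ (l - k)) a₀ := by
    have h1 : (ψ ^ l) a₀ = (ψ ^ k) (g.1 a₀) := by
      rw [hl]; exact (hψ g.1 g.2 k a₀).symm
    have h2 : (ψ ^ (l - k)) a₀ = (ψ ^ (-k)) ((ψ ^ l) a₀) := by
      rw [← Equiv.Perm.mul_apply, ← zpow_add]
      congr 2; ring
    rw [h2, h1, ← Equiv.Perm.mul_apply, ← zpow_add]
    simp
  ext c
  constructor
  · rintro ⟨y, ⟨i, rfl⟩, rfl⟩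
    refine ⟨i + (l - k), ?_⟩
    rw [zpow_add, Equiv.Perm.mul_apply, ← hm]
    exact hψ g.1 g.2 i a₀
  · rintro ⟨i, rfl⟩
    refine ⟨(ψ ^ (i - (l - k))) a₀, ⟨_, rfl⟩, ?_⟩
    have h3 : g • (ψ ^ (i - (l - k))) a₀ = (ψ ^ (i - (l - k))) (g.1 a₀) :=
      (hψ g.1 g.2 _ a₀).symm
    show g • (ψ ^ (i - (l - k))) a₀ = (ψ ^ i) a₀
    rw [h3, hm, ← Equiv.Perm.mul_apply, ← zpow_add]
    congr 2; ring

/-- S0720 piece G5 -/
theorem primA_primB {α : Type*} [Fintype α] [DecidableEq α]
    (G : Subgroup (Equiv.Perm α)) (hG : MulAction.IsPreprimitive G α)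
    (e : ZMod p × Fin 2 ≃ α) (D : Scheme p ι)
    (hcol : ∀ a b a' b' : α, D.col (e.symm a) (e.symm b) = D.col (e.symm a') (e.symm b') ↔
        ∃ h ∈ G, h a = a' ∧ h b = b') :
    D.PrimA ∧ D.PrimB := by
  have hp : p.Prime := Fact.out
  have : Fact (1 < p) := ⟨hp.one_lt⟩
  have hinv : ∀ h ∈ G, ∀ a b : α,
      D.col (e.symm (h a)) (e.symm (h b)) = D.col (e.symm a) (e.symm b) :=
    fun h hh a b => ((hcol a b (h a) (h b)).2 ⟨h, hh, rfl, rfl⟩).symm
  have hcardα : Fintype.card α = 2 * p := by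
    rw [← Fintype.card_congr e, Fintype.card_prod, ZMod.card, Fintype.card_fin, mul_comm]
  constructor
  · -- PrimA
    rintro ⟨j, hA1, hA2⟩
    have hj0 : j ≠ D.i0 := by
      intro h
      have h1 := hA1 1 one_ne_zero
      rw [h, D.diag] at h1
      have : (0 : ZMod p) = 1 := congrArg Prod.fst h1
      exact zero_ne_one this
    have hF : ∀ (x : ZMod p) (ω' : ZMod p × Fin 2),
        D.col (x, 0) ω' = j ↔ (ω' ≠ (x, 0) ∧ ω'.2 = 0) := by
      rintro x ⟨y, k⟩
      rw [g5_col_shift]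
      constructor
      · intro h
        have hk : k = 0 := by
          by_contra hk
          have hk1 : k = 1 := by omega
          rw [hk1] at h
          exact hA2 _ h
        refine ⟨?_, hk⟩
        intro heq
        have hyx : y = x := congrArg Prod.fst heq
        rw [hk, hyx, sub_self] at h
        exact hj0 (by rw [← h, D.diag])
      · rintro ⟨hne, hk⟩
        have hk' : k = 0 := hk
        subst hk'
        apply hA1
        intro h
        apply hne
        rw [sub_eq_zero] at h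
        rw [h]
    obtain ⟨B, hB⟩ : ∃ B : Set α, ∀ a, a ∈ B ↔ (e.symm a).2 = 0 :=
      ⟨{a | (e.symm a).2 = 0}, fun _ => Iff.rfl⟩
    have hL : ∀ g ∈ G, ∀ a ∈ B, g a ∈ B → ∀ c ∈ B, g c ∈ B := by
      intro g hg a ha hga c hc
      rw [hB] at ha hga hc ⊢
      by_cases hca : c = a
      · rw [hca]; exact hga
      · have h1 : D.col (e.symm a) (e.symm c) = j := by
          have : e.symm a = ((e.symm a).1, 0) := Prod.ext rfl ha
          rw [this, hF]
          exact ⟨fun h => hca (e.symm.injective (h.trans this.symm)), hc⟩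
        have h2 := hinv g hg a c
        rw [h1] at h2
        have : e.symm (g a) = ((e.symm (g a)).1, 0) := Prod.ext rfl hga
        rw [this, hF] at h2
        exact h2.2
    have hblock : MulAction.IsBlock G B := by
      rw [MulAction.isBlock_iff_smul_eq_of_mem]
      intro g a ha hga
      apply Set.Subset.antisymm
      · rintro c ⟨c', hc', rfl⟩
        exact hL g.1 g.2 a ha hga c' hc'
      · intro c hc
        rw [Set.mem_smul_set_iff_inv_smul_mem]
        have h1 : (g⁻¹ : G).1 (g • a) ∈ B := by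
          have : (g⁻¹ : G).1 (g • a) = a := inv_smul_smul g a
          rw [this]; exact ha
        exact hL (g⁻¹ : G).1 (g⁻¹ : G).2 (g • a) hga h1 c hc
    rcases hG.isTrivialBlock_of_isBlock hblock with h | h
    · have h0 : e (0, 0) ∈ B := by rw [hB]; simp
      have h1 : e (1, 0) ∈ B := by rw [hB]; simp
      have h2 := e.injective (h h0 h1)
      exact zero_ne_one (congrArg Prod.fst h2)
    · have h1 : e (0, 1) ∈ B := by rw [h]; trivial
      rw [hB] at h1
      simp at h1
  · -- PrimB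
    intro j hj0
    by_contra hlt
    obtain ⟨ω₁, ω₂, h12⟩ := D.surj j
    have hn1 : D.n j = 1 := by
      have h1 : 0 < D.n j := by
        rw [← D.valency j ω₁]
        exact Finset.card_pos.2 ⟨ω₂, by simp [h12]⟩
      omega
    have hex : ∀ ω, ∃ ω', univ.filter (fun ω' => D.col ω ω' = j) = {ω'} := by
      intro ω
      exact Finset.card_eq_one.1 (by rw [D.valency j ω, hn1])
    choose F hF using hex
    have hF1 : ∀ ω, D.col ω (F ω) = j := by
      intro ω
      have : F ω ∈ univ.filter (fun ω' => D.col ω ω' = j) := by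
        rw [hF ω]; exact mem_singleton_self _
      exact (mem_filter.1 this).2
    have hF2 : ∀ ω ω', D.col ω ω' = j → ω' = F ω := by
      intro ω ω' h
      have : ω' ∈ univ.filter (fun ω' => D.col ω ω' = j) := mem_filter.2 ⟨mem_univ _, h⟩
      rw [hF ω] at this
      exact mem_singleton.1 this
    obtain ⟨f, hf⟩ : ∃ f : α → α, ∀ a, f a = e (F (e.symm a)) := ⟨_, fun _ => rfl⟩
    have hfc : ∀ h ∈ G, ∀ a, f (h a) = h (f a) := by
      intro h hh a
      have h1 := hinv h hh a (f a)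
      rw [hf a, Equiv.symm_apply_apply, hF1] at h1
      have h2 := hF2 _ _ h1
      rw [hf (h a), ← h2, Equiv.apply_symm_apply, hf a]
    have htrans : MulAction.IsPretransitive G α := hG.toIsPretransitive
    have hsurj : Function.Surjective f := by
      intro c
      obtain ⟨g, hg⟩ := MulAction.exists_smul_eq G (f (e (0, 0))) c
      exact ⟨g.1 (e (0, 0)), by rw [hfc g.1 g.2]; exact hg⟩
    have hinj : Function.Injective f := Finite.injective_iff_surjective.2 hsurj
    obtain ⟨φ, hφ⟩ : ∃ φ : Equiv.Perm α, ∀ a, φ a = f a :=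
      ⟨Equiv.ofBijective f ⟨hinj, hsurj⟩, fun _ => rfl⟩
    have hφne : ∀ a, φ a ≠ a := by
      intro a h
      rw [hφ, hf] at h
      have h1 := hF1 (e.symm a)
      have h2 : e.symm a = F (e.symm a) := by
        apply e.injective
        rw [Equiv.apply_symm_apply]; exact h.symm
      rw [← h2] at h1
      exact hj0 (h1.symm.trans ((D.diag _ _).2 rfl))
    have hcomm : ∀ h ∈ G, ∀ (k : ℤ) (a : α), (φ ^ k) (h a) = h ((φ ^ k) a) := by
      intro h hh k a
      have hc : h * φ = φ * h := by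
        ext b
        simp only [Equiv.Perm.mul_apply]
        rw [hφ, hφ, hfc h hh]
      have hc' : Commute h φ := hc
      have h3 := (hc'.zpow_right k).eq
      have h4 := congrArg (fun σ : Equiv.Perm α => σ a) h3
      simp only [Equiv.Perm.mul_apply] at h4
      exact h4.symm
    obtain ⟨a₀, ha₀⟩ : ∃ a₀ : α, a₀ = e (0, 0) := ⟨_, rfl⟩
    have hB1 := g5_block G φ hcomm a₀
    have huniv : ∀ c : α, ∃ k : ℤ, (φ ^ k) a₀ = c := by
      rcases hG.isTrivialBlock_of_isBlock hB1 with h | h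
      · exfalso
        have h0 : a₀ ∈ {c | ∃ k : ℤ, (φ ^ k) a₀ = c} := ⟨0, by simp⟩
        have h1 : φ a₀ ∈ {c | ∃ k : ℤ, (φ ^ k) a₀ = c} := ⟨1, by simp⟩
        exact hφne a₀ (h h1 h0)
      · intro c
        have : c ∈ {c | ∃ k : ℤ, (φ ^ k) a₀ = c} := by rw [h]; trivial
        exact this
    have hcyc : φ.IsCycle := ⟨a₀, hφne a₀, fun y _ => huniv y⟩
    have hord : orderOf φ = 2 * p := by
      rw [hcyc.orderOf, ← hcardα]
      have : φ.support = univ := by
        ext a; simp [hφne a]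
      rw [this, Finset.card_univ]
    have hfixall : ∀ i : ℤ, (φ ^ i) a₀ = a₀ → ((2 * p : ℕ) : ℤ) ∣ i := by
      intro i hi
      have h1 : φ ^ i = 1 := by
        ext c
        obtain ⟨k, rfl⟩ := huniv c
        rw [← Equiv.Perm.mul_apply, ← zpow_add, add_comm, zpow_add, Equiv.Perm.mul_apply, hi]
        rfl
      have := orderOf_dvd_iff_zpow_eq_one.2 h1
      rw [hord] at this
      exact this
    have hpow2 : ∀ k : ℤ, (φ ^ 2) ^ k = φ ^ (2 * k) := by
      intro k
      rw [← zpow_natCast, ← zpow_mul]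
      norm_num
    have hcomm2 : ∀ h ∈ G, ∀ (k : ℤ) (a : α),
        ((φ ^ 2) ^ k) (h a) = h (((φ ^ 2) ^ k) a) := by
      intro h hh k a
      rw [hpow2]; exact hcomm h hh _ a
    have hB2 := g5_block G (φ ^ 2) hcomm2 a₀
    rcases hG.isTrivialBlock_of_isBlock hB2 with h | h
    · have h0 : a₀ ∈ {c | ∃ k : ℤ, ((φ ^ 2) ^ k) a₀ = c} := ⟨0, by simp⟩
      have h1 : (φ ^ 2) a₀ ∈ {c | ∃ k : ℤ, ((φ ^ 2) ^ k) a₀ = c} := ⟨1, by simp⟩
      have h2 : (φ ^ 2) a₀ = a₀ := h h1 h0
      have h3 := hfixall 2 (by rw [zpow_ofNat]; exact h2)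
      have h4 := Int.le_of_dvd (by norm_num) h3
      have := hp.two_le
      push_cast at h4
      omega
    · have h1 : φ a₀ ∈ {c | ∃ k : ℤ, ((φ ^ 2) ^ k) a₀ = c} := by rw [h]; trivial
      obtain ⟨k, hk⟩ := h1
      have h2 : (φ ^ (2 * k - 1)) a₀ = a₀ := by
        rw [hpow2] at hk
        have e2 : φ ^ (2 * k - 1) = φ⁻¹ * φ ^ (2 * k) := by
          rw [← zpow_neg_one, ← zpow_add]; congr 1; ring
        rw [e2, Equiv.Perm.mul_apply, hk]; simp
      obtain ⟨c, hc⟩ := hfixall _ h2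
      have : 2 * k - 1 = 2 * ((p : ℤ) * c) := by rw [hc]; push_cast; ring
      omega

end Cfsg.Agent.Lib.helper26.W2P
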