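import Mathlib

set_option autoImplicit false

namespace Cfsg.Agent.Lib.helper26.W2P

open Finset
open scoped Classical

/-- S0720 piece M1: a `2 × 2` matrix with `M * M = κ • M` is `0`, `κ • 1` or has trace `κ` -/
theorem m2_trichotomy (M : Matrix (Fin 2) (Fin 2) ℂ) (κ : ℂ) (hκ : κ ≠ 0)
    (hM : M * M = κ • M) :
    M = 0 ∨ M = κ • (1 : Matrix (Fin 2) (Fin 2) ℂ) ∨ M.trace = κ := by
  by_cases ht : M.trace = κ
  · exact Or.inr (Or.inr ht)
  have ht' : M 0 0 + M 1 1 - κ ≠ 0 := by
    intro h
    apply ht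
    simp only [Matrix.trace, Matrix.diag_apply, Fin.sum_univ_two]
    linear_combination h
  have h00 := congrFun (congrFun hM 0) 0
  have h01 := congrFun (congrFun hM 0) 1
  have h10 := congrFun (congrFun hM 1) 0
  have h11 := congrFun (congrFun hM 1) 1
  simp only [Matrix.mul_apply, Fin.sum_univ_two, Matrix.smul_apply, smul_eq_mul]
    at h00 h01 h10 h11
  have hb : M 0 1 = 0 := by
    have : M 0 1 * (M 0 0 + M 1 1 - κ) = 0 := by linear_combination h01
    rcases mul_eq_zero.1 this with h | h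
    · exact h
    · exact absurd h ht'
  have hc : M 1 0 = 0 := by
    have : M 1 0 * (M 0 0 + M 1 1 - κ) = 0 := by linear_combination h10
    rcases mul_eq_zero.1 this with h | h
    · exact h
    · exact absurd h ht'
  rw [hb, hc] at h00 h11
  have ha : M 0 0 = 0 ∨ M 0 0 = κ := by
    have : M 0 0 * (M 0 0 - κ) = 0 := by linear_combination h00
    rcases mul_eq_zero.1 this with h | h
    · exact Or.inl h
    · exact Or.inr (by linear_combination h)
  have hd : M 1 1 = 0 ∨ M 1 1 = κ := by
    have : M 1 1 * (M 1 1 - κ) = 0 := by linear_combination h11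
    rcases mul_eq_zero.1 this with h | h
    · exact Or.inl h
    · exact Or.inr (by linear_combination h)
  rcases ha with ha | ha <;> rcases hd with hd | hd
  · left
    ext i j
    fin_cases i <;> fin_cases j <;> simp [ha, hb, hc, hd]
  · exfalso; apply ht'; rw [ha, hd]; ring
  · exfalso; apply ht'; rw [ha, hd]; ring
  · right; left
    ext i j
    fin_cases i <;> fin_cases j <;> simp [ha, hb, hc, hd]

/-- S0720 piece M2: structure of a matrix `N` with `N M = M N = μ M`, `M` a multiple of a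
hermitian idempotent of trace `1` -/
theorem m2_structure (M N : Matrix (Fin 2) (Fin 2) ℂ) (κ μ : ℝ) (hκ : κ ≠ 0)
    (hH : M.conjTranspose = M) (hM : M * M = (κ : ℂ) • M) (htr : M.trace = (κ : ℂ))
    (hNM : N * M = (μ : ℂ) • M) (hMN : M * N = (μ : ℂ) • M) :
    (∑ j, ∑ k, Complex.normSq (N j k) = μ ^ 2 + Complex.normSq (N.trace - (μ : ℂ))) ∧
      N 0 0 - N 1 1 = (2 * M 0 0 / (κ : ℂ) - 1) * (2 * (μ : ℂ) - N.trace) := by
  have hκ' : (κ : ℂ) ≠ 0 := by exact_mod_cast hκ
  obtain ⟨P, hP⟩ : ∃ P : Matrix (Fin 2) (Fin 2) ℂ, P = (κ : ℂ)⁻¹ • M := ⟨_, rfl⟩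
  have hPP : P * P = P := by
    rw [hP, Matrix.smul_mul, Matrix.mul_smul, hM, smul_smul, smul_smul]
    congr 1
    field_simp
  have hPtr : P.trace = 1 := by
    rw [hP, Matrix.trace_smul, htr, smul_eq_mul]
    exact inv_mul_cancel₀ hκ'
  have hPH : P.conjTranspose = P := by
    rw [hP, Matrix.conjTranspose_smul, hH]
    congr 1
    rw [star_inv₀]
    congr 1
    exact Complex.conj_ofReal κ
  have hNP : N * P = (μ : ℂ) • P := by rw [hP, Matrix.mul_smul, hNM, smul_comm]
  have hPN : P * N = (μ : ℂ) • P := by rw [hP, Matrix.smul_mul, hMN, smul_comm]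
  obtain ⟨Q, hQ⟩ : ∃ Q : Matrix (Fin 2) (Fin 2) ℂ, Q = 1 - P := ⟨_, rfl⟩
  have hPQ : P * Q = 0 := by rw [hQ, mul_sub, mul_one, hPP, sub_self]
  have hQP : Q * P = 0 := by rw [hQ, sub_mul, one_mul, hPP, sub_self]
  have hPaddQ : P + Q = 1 := by rw [hQ]; abel
  have hQQ : Q * Q = Q := by
    have : Q * Q = (1 - P) * Q := by rw [← hQ]
    rw [this, sub_mul, one_mul, hPQ, sub_zero]
  have hQtr : Q.trace = 1 := by
    rw [hQ, Matrix.trace_sub, Matrix.trace_one, hPtr]
    simp
    norm_num
  have hQH : Q.conjTranspose = Q := by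
    rw [hQ, Matrix.conjTranspose_sub, Matrix.conjTranspose_one, hPH]
  -- det Q = 0
  have hdet : Q 0 0 * Q 1 1 = Q 0 1 * Q 1 0 := by
    have h00 := congrFun (congrFun hQQ 0) 0
    have ht : Q 0 0 + Q 1 1 = 1 := by
      rw [← hQtr]; simp [Matrix.trace, Fin.sum_univ_two]
    simp only [Matrix.mul_apply, Fin.sum_univ_two] at h00
    linear_combination (Q 0 0) * ht - h00
  have hrank : ∀ X : Matrix (Fin 2) (Fin 2) ℂ, Q * X * Q = (Q * X).trace • Q := by
    intro X
    have e00 : (Q * X * Q) 0 0 = ((Q * X).trace • Q) 0 0 := by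
      simp only [Matrix.mul_apply, Fin.sum_univ_two, Matrix.trace, Matrix.diag_apply,
        Matrix.smul_apply, smul_eq_mul]
      linear_combination (-(X 1 1)) * hdet
    have e01 : (Q * X * Q) 0 1 = ((Q * X).trace • Q) 0 1 := by
      simp only [Matrix.mul_apply, Fin.sum_univ_two, Matrix.trace, Matrix.diag_apply,
        Matrix.smul_apply, smul_eq_mul]
      linear_combination (X 0 1) * hdet
    have e10 : (Q * X * Q) 1 0 = ((Q * X).trace • Q) 1 0 := by
      simp only [Matrix.mul_apply, Fin.sum_univ_two, Matrix.trace, Matrix.diag_apply,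
        Matrix.smul_apply, smul_eq_mul]
      linear_combination (X 1 0) * hdet
    have e11 : (Q * X * Q) 1 1 = ((Q * X).trace • Q) 1 1 := by
      simp only [Matrix.mul_apply, Fin.sum_univ_two, Matrix.trace, Matrix.diag_apply,
        Matrix.smul_apply, smul_eq_mul]
      linear_combination (-(X 0 0)) * hdet
    ext i j
    fin_cases i <;> fin_cases j
    · exact e00
    · exact e01
    · exact e10
    · exact e11
  obtain ⟨θ, hθ⟩ : ∃ θ : ℂ, θ = N.trace - (μ : ℂ) := ⟨_, rfl⟩
  have hQN : (Q * N).trace = θ := by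
    rw [hQ, sub_mul, one_mul, Matrix.trace_sub, hPN, Matrix.trace_smul, hPtr, hθ]
    simp
  have hNQ : N * Q = θ • Q := by
    calc N * Q = (P + Q) * N * Q := by rw [hPaddQ, one_mul]
      _ = P * N * Q + Q * N * Q := by rw [add_mul, add_mul]
      _ = θ • Q := by
        rw [hPN, Matrix.smul_mul, hPQ, smul_zero, zero_add, hrank N, hQN]
  have hN : N = (μ : ℂ) • P + θ • Q := by
    calc N = N * (P + Q) := by rw [hPaddQ, mul_one]
      _ = (μ : ℂ) • P + θ • Q := by rw [mul_add, hNP, hNQ]
  have hT : N.trace = θ + (μ : ℂ) := by rw [hθ]; ring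
  constructor
  · have hNH : N.conjTranspose = (μ : ℂ) • P + (starRingEnd ℂ θ) • Q := by
      calc N.conjTranspose = ((μ : ℂ) • P + θ • Q).conjTranspose := by rw [← hN]
        _ = (μ : ℂ) • P + (starRingEnd ℂ θ) • Q := by
          rw [Matrix.conjTranspose_add, Matrix.conjTranspose_smul, Matrix.conjTranspose_smul,
            hPH, hQH]
          congr 2
          exact Complex.conj_ofReal μ
    have hNN : N * N.conjTranspose =
        ((μ : ℂ) ^ 2) • P + ((Complex.normSq θ : ℝ) : ℂ) • Q := by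
      calc N * N.conjTranspose
          = ((μ : ℂ) • P + θ • Q) * ((μ : ℂ) • P + (starRingEnd ℂ θ) • Q) := by
            rw [hNH, ← hN]
        _ = ((μ : ℂ) ^ 2) • P + ((Complex.normSq θ : ℝ) : ℂ) • Q := by
            rw [add_mul, mul_add, mul_add]
            simp only [Matrix.smul_mul, Matrix.mul_smul, hPP, hQQ, hPQ, hQP, smul_zero,
              add_zero, zero_add, smul_smul]
            congr 2
            · ring
            · rw [mul_comm]; exact Complex.mul_conj θ
    have htrace : (N * N.conjTranspose).trace =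
        ((∑ j, ∑ k, Complex.normSq (N j k) : ℝ) : ℂ) := by
      simp only [Matrix.trace, Matrix.diag_apply, Matrix.mul_apply, Matrix.conjTranspose_apply]
      push_cast
      apply Finset.sum_congr rfl
      intro j _
      apply Finset.sum_congr rfl
      intro k _
      exact Complex.mul_conj (N j k)
    have hfin : ((∑ j, ∑ k, Complex.normSq (N j k) : ℝ) : ℂ) =
        ((μ ^ 2 + Complex.normSq θ : ℝ) : ℂ) := by
      rw [← htrace, hNN, Matrix.trace_add, Matrix.trace_smul, Matrix.trace_smul, hPtr, hQtr]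
      push_cast
      simp
    rw [← hθ]
    exact_mod_cast hfin
  · have hP00 : P 0 0 = M 0 0 / (κ : ℂ) := by
      rw [hP, Matrix.smul_apply, smul_eq_mul, div_eq_inv_mul]
    have hP11 : P 1 1 = 1 - P 0 0 := by
      have : P 0 0 + P 1 1 = 1 := by
        rw [← hPtr]; simp [Matrix.trace, Fin.sum_univ_two]
      linear_combination this
    have hQ00 : Q 0 0 = 1 - P 0 0 := by rw [hQ]; simp
    have hQ11 : Q 1 1 = P 0 0 := by rw [hQ]; simp [hP11]
    have e0 : N 0 0 = (μ : ℂ) * P 0 0 + θ * Q 0 0 := by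
      have := congrFun (congrFun hN 0) 0
      simpa using this
    have e1 : N 1 1 = (μ : ℂ) * P 1 1 + θ * Q 1 1 := by
      have := congrFun (congrFun hN 1) 1
      simpa using this
    rw [e0, e1, hP11, hQ00, hQ11, hT, hP00]
    ring

end Cfsg.Agent.Lib.helper26.W2P
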