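import Mathlib

set_option autoImplicit false

namespace Cfsg.Agent.Lib.helper26.W2P

open Finset
open scoped Classical

/-- S0720 piece T7: the combinatorial endgame -/
theorem endgame {q : ℕ} {κ : Type*} [Fintype κ] (i0 : κ) (S S' : κ → Finset (ZMod q)) (a b : κ → ℕ)
    (hS : ∀ j, (S j).card = a j) (hS' : ∀ j, (S' j).card = a j)
    (hdisj : ∀ i j, i ≠ j → Disjoint (S i) (S j))
    (hdisj' : ∀ i j, i ≠ j → Disjoint (S' i) (S' j))
    (hcov : ∀ s : ZMod q, ∃ j, s ∈ S j) (hcov' : ∀ s : ZMod q, ∃ j, s ∈ S' j)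
    (hS0 : S i0 = {0}) (hS0' : S' i0 = {0}) (hb0 : b i0 = 0)
    (hsum : ∑ j, ((a j : ℤ) - (b j : ℤ)) = 0)
    (hn : ∀ j, j ≠ i0 → 2 ≤ a j + b j)
    (hP2 : ∀ j, j ≠ i0 → (b j : ℤ) = ((S j ∩ S' j).card : ℤ) + ((a j : ℤ) - (b j : ℤ)) ^ 2)
    (hclub : ∀ i j, i ≠ i0 → j ≠ i0 → ∀ s, s ∈ S i → s ∈ S' j →
      ((a i : ℤ) - (b i : ℤ)) * ((a j : ℤ) + (b j : ℤ)) +
        ((a j : ℤ) - (b j : ℤ)) * ((a i : ℤ) + (b i : ℤ)) = 0) :
    ∃ (β : ℕ) (ip im : κ), 0 < β ∧ ip ≠ i0 ∧ im ≠ i0 ∧ ip ≠ im ∧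
      a ip = β * (β + 1) ∧ b ip = β ^ 2 ∧ a im = β * (β + 1) ∧ b im = (β + 1) ^ 2 ∧
      ∀ j, j ≠ i0 → j ≠ ip → j ≠ im → a j = b j ∧ S j = S' j := by
  obtain ⟨m, hm⟩ : ∃ m : κ → ℤ, ∀ j, m j = (a j : ℤ) - (b j : ℤ) := ⟨_, fun _ => rfl⟩
  simp only [← hm] at hsum hP2 hclub
  have h0S : (0 : ZMod q) ∈ S i0 := by rw [hS0]; exact mem_singleton_self 0
  have h0S' : (0 : ZMod q) ∈ S' i0 := by rw [hS0']; exact mem_singleton_self 0
  have ha0 : a i0 = 1 := by rw [← hS i0, hS0]; exact card_singleton 0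
  have hm0 : m i0 = 1 := by rw [hm, ha0, hb0]; norm_num
  have hnotS : ∀ i, i ≠ i0 → ∀ s, s ∈ S i → ∀ j, s ∈ S' j → j ≠ i0 := by
    intro i hi s hs j hs' hj
    rw [hj, hS0', mem_singleton] at hs'
    rw [hs'] at hs
    exact Finset.disjoint_left.1 (hdisj i i0 hi) hs h0S
  have hnotS' : ∀ j, j ≠ i0 → ∀ s, s ∈ S' j → ∀ i, s ∈ S i → i ≠ i0 := by
    intro j hj s hs' i hs hi
    rw [hi, hS0, mem_singleton] at hs
    rw [hs] at hs'
    exact Finset.disjoint_left.1 (hdisj' j i0 hj) hs' h0S'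
  have hnpos : ∀ j, j ≠ i0 → (2 : ℤ) ≤ (a j : ℤ) + (b j : ℤ) := by
    intro j hj
    have := hn j hj
    omega
  have K1 : ∀ j, j ≠ i0 → m j = 0 → a j = b j ∧ S j = S' j := by
    intro j hj hmj
    have hab : a j = b j := by have := hm j; omega
    have h2 := hP2 j hj
    rw [hmj] at h2
    have hc : (S j ∩ S' j).card = a j := by
      have : (b j : ℤ) = ((S j ∩ S' j).card : ℤ) := by simpa using h2
      omega
    refine ⟨hab, ?_⟩
    have e1 : S j ∩ S' j = S j :=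
      Finset.eq_of_subset_of_card_le inter_subset_left (by rw [hc, hS j])
    have e2 : S j ∩ S' j = S' j :=
      Finset.eq_of_subset_of_card_le inter_subset_right (by rw [hc, hS' j])
    exact e1.symm.trans e2
  have K2 : ∀ j, j ≠ i0 → m j ≠ 0 →
      (b j : ℤ) = m j ^ 2 ∧ (a j : ℤ) = m j ^ 2 + m j ∧ m j ≠ -1 := by
    intro j hj hmj
    have hemp : S j ∩ S' j = ∅ := by
      rw [Finset.eq_empty_iff_forall_notMem]
      intro s hs
      rw [mem_inter] at hs
      have hc := hclub j j hj hj s hs.1 hs.2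
      have h2 := hnpos j hj
      have : m j * ((a j : ℤ) + (b j : ℤ)) = 0 := by linarith
      rcases mul_eq_zero.1 this with h | h
      · exact hmj h
      · omega
    have h2 := hP2 j hj
    rw [hemp, card_empty] at h2
    have hb : (b j : ℤ) = m j ^ 2 := by simpa using h2
    have ha : (a j : ℤ) = m j ^ 2 + m j := by have := hm j; linarith
    refine ⟨hb, ha, ?_⟩
    intro h1
    rw [h1] at hb ha
    have := hnpos j hj
    norm_num at hb ha
    omega
  have K3 : ∀ i j, i ≠ i0 → j ≠ i0 → ∀ s, s ∈ S i → s ∈ S' j → (m i ≠ 0 ∨ m j ≠ 0) →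
      m j = - m i - 1 ∧ m i ≠ 0 ∧ m j ≠ 0 := by
    intro i j hi hj s hs hs' hor
    have hc := hclub i j hi hj s hs hs'
    have hni := hnpos i hi
    have hnj := hnpos j hj
    have hmi : m i ≠ 0 := by
      intro h0
      rw [h0, zero_mul, zero_add] at hc
      rcases mul_eq_zero.1 hc with h | h
      · rcases hor with h' | h'
        · exact h' h0
        · exact h' h
      · omega
    have hmj : m j ≠ 0 := by
      intro h0
      rw [h0, zero_mul, add_zero] at hc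
      rcases mul_eq_zero.1 hc with h | h
      · exact hmi h
      · omega
    obtain ⟨hbi, hai, _⟩ := K2 i hi hmi
    obtain ⟨hbj, haj, _⟩ := K2 j hj hmj
    rw [hai, hbi, haj, hbj] at hc
    have h3 : m i * m j * (2 * (m i + m j + 1)) = 0 := by linear_combination hc
    have h4 : m i + m j + 1 = 0 := by
      rcases mul_eq_zero.1 h3 with h | h
      · rcases mul_eq_zero.1 h with h | h
        · exact absurd h hmi
        · exact absurd h hmj
      · linarith
    exact ⟨by linarith, hmi, hmj⟩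
  have hapos : ∀ j, j ≠ i0 → m j ≠ 0 → (a j : ℚ) ≠ 0 := by
    intro j hj hmj
    obtain ⟨_, ha, hne⟩ := K2 j hj hmj
    intro h
    have h' : a j = 0 := by exact_mod_cast h
    rw [h'] at ha
    have h3 : m j * (m j + 1) = 0 := by push_cast at ha; linarith
    rcases mul_eq_zero.1 h3 with h | h
    · exact hmj h
    · exact hne (by linarith)
  obtain ⟨Pos, hPos⟩ : ∃ Pos : Finset κ, ∀ j, j ∈ Pos ↔ j ≠ i0 ∧ 0 < m j :=
    ⟨univ.filter (fun j => j ≠ i0 ∧ 0 < m j), fun j => by simp⟩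
  obtain ⟨Neg, hNeg⟩ : ∃ Neg : Finset κ, ∀ j, j ∈ Neg ↔ j ≠ i0 ∧ m j < 0 :=
    ⟨univ.filter (fun j => j ≠ i0 ∧ m j < 0), fun j => by simp⟩
  have hPosEq : Pos = univ.filter (fun j => j ≠ i0 ∧ 0 < m j) := by
    ext j; simp [hPos]
  have hNegEq : Neg = univ.filter (fun j => j ≠ i0 ∧ m j < 0) := by
    ext j; simp [hNeg]
  have hU : Pos.biUnion S = Neg.biUnion S' := by
    ext s
    simp only [mem_biUnion]
    constructor
    · rintro ⟨i, hi, hs⟩
      obtain ⟨hi0, hmi⟩ := (hPos i).1 hi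
      obtain ⟨j, hj⟩ := hcov' s
      have hj0 := hnotS i hi0 s hs j hj
      obtain ⟨e, _, _⟩ := K3 i j hi0 hj0 s hs hj (Or.inl (ne_of_gt hmi))
      exact ⟨j, (hNeg j).2 ⟨hj0, by linarith⟩, hj⟩
    · rintro ⟨j, hj, hs'⟩
      obtain ⟨hj0, hmj⟩ := (hNeg j).1 hj
      obtain ⟨i, hi⟩ := hcov s
      have hi0 := hnotS' j hj0 s hs' i hi
      obtain ⟨e, _, _⟩ := K3 i j hi0 hj0 s hi hs' (Or.inr (ne_of_lt hmj))
      have hne1 := (K2 j hj0 (ne_of_lt hmj)).2.2
      exact ⟨i, (hPos i).2 ⟨hi0, by omega⟩, hi⟩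
  have key : ∀ F : ℤ → ℚ, ∑ j ∈ Neg, F (m j) = ∑ i ∈ Pos, F (- m i - 1) := by
    intro F
    choose ι₂ hι₂ using hcov'
    have hι₂eq : ∀ j s, s ∈ S' j → ι₂ s = j := by
      intro j s hs
      by_contra hne
      exact Finset.disjoint_left.1 (hdisj' _ _ hne) (hι₂ s) hs
    obtain ⟨g, hg⟩ : ∃ g : ZMod q → ℚ, ∀ s, g s = F (m (ι₂ s)) / (a (ι₂ s) : ℚ) :=
      ⟨_, fun _ => rfl⟩
    have e1 : ∑ j ∈ Neg, F (m j) = ∑ s ∈ Neg.biUnion S', g s := by
      rw [Finset.sum_biUnion]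
      · apply Finset.sum_congr rfl
        intro j hj
        obtain ⟨hj0, hmj⟩ := (hNeg j).1 hj
        have hne := hapos j hj0 (ne_of_lt hmj)
        have : ∀ s ∈ S' j, g s = F (m j) / (a j : ℚ) := by
          intro s hs
          rw [hg, hι₂eq j s hs]
        rw [Finset.sum_congr rfl this, Finset.sum_const, hS' j, nsmul_eq_mul]
        field_simp
      · intro x _ y _ hxy
        exact hdisj' x y hxy
    have e2 : ∑ i ∈ Pos, F (- m i - 1) = ∑ s ∈ Pos.biUnion S, g s := by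
      rw [Finset.sum_biUnion]
      · apply Finset.sum_congr rfl
        intro i hi
        obtain ⟨hi0, hmi⟩ := (hPos i).1 hi
        have hne := hapos i hi0 (ne_of_gt hmi)
        have : ∀ s ∈ S i, g s = F (- m i - 1) / (a i : ℚ) := by
          intro s hs
          have hj0 := hnotS i hi0 s hs (ι₂ s) (hι₂ s)
          obtain ⟨e, hmi', hmj'⟩ := K3 i (ι₂ s) hi0 hj0 s hs (hι₂ s) (Or.inl (ne_of_gt hmi))
          have haj := (K2 (ι₂ s) hj0 hmj').2.1
          have hai := (K2 i hi0 hmi').2.1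
          have hae : a (ι₂ s) = a i := by
            have : (a (ι₂ s) : ℤ) = (a i : ℤ) := by rw [haj, hai, e]; ring
            exact_mod_cast this
          rw [hg, e, hae]
        rw [Finset.sum_congr rfl this, Finset.sum_const, hS i, nsmul_eq_mul]
        field_simp
      · intro x _ y _ hxy
        exact hdisj x y hxy
    rw [e1, e2, hU]
  -- the sum of the `m j`
  have hsplit : ∀ j, m j = (if j = i0 then (1 : ℤ) else 0) +
      (if (j ≠ i0 ∧ 0 < m j) then m j else 0) + (if (j ≠ i0 ∧ m j < 0) then m j else 0) := by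
    intro j
    by_cases hj : j = i0
    · rw [hj]; simp [hm0]
    · rcases lt_trichotomy (m j) 0 with h | h | h
      · simp [hj, h, not_lt.2 (le_of_lt h)]
      · simp [hj, h]
      · simp [hj, h, not_lt.2 (le_of_lt h)]
  have hs1 : ∑ j, m j = 1 + ∑ j ∈ Pos, m j + ∑ j ∈ Neg, m j := by
    have e0 : ∑ j, m j = ∑ j, ((if j = i0 then (1 : ℤ) else 0) +
      (if (j ≠ i0 ∧ 0 < m j) then m j else 0) + (if (j ≠ i0 ∧ m j < 0) then m j else 0)) :=
      Finset.sum_congr rfl (fun j _ => hsplit j)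
    rw [e0, Finset.sum_add_distrib, Finset.sum_add_distrib, hPosEq, hNegEq,
      Finset.sum_filter, Finset.sum_filter, Finset.sum_ite_eq']
    simp
  have hsumZ : (0 : ℤ) = 1 + ∑ j ∈ Pos, m j + ∑ j ∈ Neg, m j := by rw [← hs1, hsum]
  have keyid := key (fun x => (x : ℚ))
  have key1 := key (fun _ => 1)
  have hcardeq : Neg.card = Pos.card := by
    simp only [Finset.sum_const, nsmul_eq_mul, mul_one] at key1
    exact_mod_cast key1
  have hPosCard : Pos.card = 1 := by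
    have hq : (0 : ℚ) = 1 + ∑ j ∈ Pos, (m j : ℚ) + ∑ j ∈ Neg, (m j : ℚ) := by
      exact_mod_cast hsumZ
    rw [keyid] at hq
    have e : ∑ i ∈ Pos, ((- m i - 1 : ℤ) : ℚ) = - ∑ i ∈ Pos, (m i : ℚ) - Pos.card := by
      push_cast
      rw [Finset.sum_sub_distrib, Finset.sum_neg_distrib]
      simp
    rw [e] at hq
    have : (Pos.card : ℚ) = 1 := by linarith
    exact_mod_cast this
  have hNegCard : Neg.card = 1 := by rw [hcardeq, hPosCard]
  obtain ⟨ip, hip⟩ := Finset.card_eq_one.1 hPosCard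
  obtain ⟨im, him⟩ := Finset.card_eq_one.1 hNegCard
  have hipP : ip ∈ Pos := by rw [hip]; exact mem_singleton_self ip
  have himN : im ∈ Neg := by rw [him]; exact mem_singleton_self im
  obtain ⟨hip0, hmip⟩ := (hPos ip).1 hipP
  obtain ⟨him0, hmim⟩ := (hNeg im).1 himN
  have hmim' : m im = - m ip - 1 := by
    have := keyid
    rw [hip, him, Finset.sum_singleton, Finset.sum_singleton] at this
    exact_mod_cast this
  obtain ⟨β, hβ⟩ : ∃ β : ℕ, (β : ℤ) = m ip :=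
    ⟨(m ip).toNat, Int.toNat_of_nonneg (le_of_lt hmip)⟩
  obtain ⟨hbp, hap, _⟩ := K2 ip hip0 (ne_of_gt hmip)
  obtain ⟨hbm, ham, _⟩ := K2 im him0 (ne_of_lt hmim)
  refine ⟨β, ip, im, by omega, hip0, him0, ?_, ?_, ?_, ?_, ?_, ?_⟩
  · intro h
    rw [h] at hmip
    omega
  · have : (a ip : ℤ) = (β : ℤ) * ((β : ℤ) + 1) := by rw [hap, ← hβ]; ring
    exact_mod_cast this
  · have : (b ip : ℤ) = (β : ℤ) ^ 2 := by rw [hbp, hβ]
    exact_mod_cast this
  · have : (a im : ℤ) = (β : ℤ) * ((β : ℤ) + 1) := by rw [ham, hmim', ← hβ]; ring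
    exact_mod_cast this
  · have : (b im : ℤ) = ((β : ℤ) + 1) ^ 2 := by rw [hbm, hmim', ← hβ]; ring
    exact_mod_cast this
  · intro j hj0 hjp hjm
    have hmj : m j = 0 := by
      by_contra hne
      rcases lt_or_gt_of_ne hne with h | h
      · have : j ∈ Neg := (hNeg j).2 ⟨hj0, h⟩
        rw [him, mem_singleton] at this
        exact hjm this
      · have : j ∈ Pos := (hPos j).2 ⟨hj0, h⟩
        rw [hip, mem_singleton] at this
        exact hjp this
    exact K1 j hj0 hmj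

end Cfsg.Agent.Lib.helper26.W2P
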