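import Cfsg.Agent.Lib.helper81.WTDefs

/-! S4414 split (helper81), piece E4b (`descend`): core with the E3 statement as a hypothesis
(racing copy by helper26). -/

set_option autoImplicit false

namespace Cfsg.Agent.Lib.helper81.WT

open scoped TensorProduct

universe u v w

/-- E4b with the statement of E3 (`fix_bc_le`) as the hypothesis `hE3`. -/
theorem helper26_descend_core {S : Type u} [Group S] [Finite S] {E : Type v} [AddCommGroup E]
    [Module (ZMod 2) E] [Finite E]
    (ρ : Representation (ZMod 2) S E)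
    (T Q : Subgroup S) (F : Type) [Field F] [Algebra (ZMod 2) F] [Finite F]
    (hE3 : ∀ v : F ⊗[ZMod 2] E, v ∈ fixT (bc F ρ) T →
      v ∈ Submodule.span F ((fun e : E => (1 : F) ⊗ₜ[ZMod 2] e) '' {e : E | ∀ s ∈ T, ρ s e = e}))
    (hA : ¬ ∃ u : F ⊗[ZMod 2] E, ∀ v ∈ fixT (bc F ρ) T, v ∈ Submodule.span F {u})
    (hB : ∀ w₁ w₂ : F ⊗[ZMod 2] E,
        (∀ v ∈ fixT (bc F ρ) T, v ∈ Submodule.span F {w₁, w₂}) →
        ∃ x ∈ Q, ∃ v ∈ fixT (bc F ρ) T, bc F ρ x v ∉ fixT (bc F ρ) T) :
    8 ≤ Nat.card {v : E // ∀ s ∈ T, ρ s v = v} ∨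
      (Nat.card {v : E // ∀ s ∈ T, ρ s v = v} = 4 ∧
        ∃ x ∈ Q, ∃ v : E, (∀ s ∈ T, ρ s v = v) ∧ ¬ ∀ s ∈ T, ρ s (ρ x v) = ρ x v) := by
  classical
  set E₀ : Submodule (ZMod 2) E := fixT ρ T with hE₀
  have hmem : ∀ e : E, e ∈ E₀ ↔ ∀ s ∈ T, ρ s e = e := fun e => Iff.rfl
  have hcardeq : Nat.card {v : E // ∀ s ∈ T, ρ s v = v} = Nat.card ↥E₀ := rfl
  rw [hcardeq]
  have hpow : ∃ d : ℕ, Nat.card ↥E₀ = 2 ^ d := by
    refine ⟨Module.finrank (ZMod 2) ↥E₀, ?_⟩
    rw [Module.natCard_eq_pow_finrank (K := ZMod 2) (V := ↥E₀), Nat.card_zmod]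
  have hge : ∀ s : Finset E, (∀ x ∈ s, x ∈ E₀) → s.card ≤ Nat.card ↥E₀ := by
    intro s hs
    have h1 : Nat.card ↥E₀ = (E₀ : Set E).ncard := Nat.card_coe_set_eq (E₀ : Set E)
    rw [h1, ← Set.ncard_coe_finset s]
    exact Set.ncard_le_ncard (fun x hx => hs x hx) (Set.toFinite _)
  have hle : ∀ s : Finset E, (∀ x ∈ E₀, x ∈ s) → Nat.card ↥E₀ ≤ s.card := by
    intro s hs
    have h1 : Nat.card ↥E₀ = (E₀ : Set E).ncard := Nat.card_coe_set_eq (E₀ : Set E)
    rw [h1, ← Set.ncard_coe_finset s]
    exact Set.ncard_le_ncard (fun x hx => hs x hx) (Finset.finite_toSet s)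
  have hchar : ∀ e : E, e + e = 0 := by
    intro e
    have h2 : (2 : ZMod 2) • e = 0 := by
      have h20 : (2 : ZMod 2) = 0 := by decide
      rw [h20, zero_smul]
    rw [two_smul] at h2
    exact h2
  have hfixtmul : ∀ e ∈ E₀, ((1 : F) ⊗ₜ[ZMod 2] e) ∈ fixT (bc F ρ) T := by
    intro e he s hs
    rw [bc_tmul, (hmem e).mp he s hs]
  have hspan : ∀ N : Submodule F (F ⊗[ZMod 2] E), (∀ e ∈ E₀, ((1 : F) ⊗ₜ[ZMod 2] e) ∈ N) →
      ∀ v ∈ fixT (bc F ρ) T, v ∈ N := by
    intro N hN v hv
    have h1 := hE3 v hv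
    have h2 : Submodule.span F ((fun e : E => (1 : F) ⊗ₜ[ZMod 2] e) ''
        {e : E | ∀ s ∈ T, ρ s e = e}) ≤ N := by
      rw [Submodule.span_le]
      rintro _ ⟨e, he, rfl⟩
      exact hN e he
    exact h2 h1
  by_cases h1 : ∀ e ∈ E₀, e = 0
  · exfalso
    apply hA
    refine ⟨0, hspan _ ?_⟩
    intro e he
    rw [h1 e he, TensorProduct.tmul_zero]
    exact Submodule.zero_mem _
  push Not at h1
  obtain ⟨e₁, he₁, he₁0⟩ := h1
  by_cases h2 : ∀ e ∈ E₀, e = 0 ∨ e = e₁
  · exfalso
    apply hA
    refine ⟨(1 : F) ⊗ₜ[ZMod 2] e₁, hspan _ ?_⟩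
    intro e he
    rcases h2 e he with h | h
    · rw [h, TensorProduct.tmul_zero]; exact Submodule.zero_mem _
    · rw [h]; exact Submodule.subset_span (Set.mem_singleton _)
  push Not at h2
  obtain ⟨e₂, he₂, he₂0, he₂1⟩ := h2
  by_cases h3 : ∀ e ∈ E₀, e = 0 ∨ e = e₁ ∨ e = e₂ ∨ e = e₁ + e₂
  · right
    constructor
    · obtain ⟨d, hd⟩ := hpow
      have hlo : 3 ≤ Nat.card ↥E₀ := by
        have h4 := hge {0, e₁, e₂} (by
          intro x hx
          simp only [Finset.mem_insert, Finset.mem_singleton] at hx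
          rcases hx with h | h | h
          · rw [h]; exact E₀.zero_mem
          · rw [h]; exact he₁
          · rw [h]; exact he₂)
        have hc : ({0, e₁, e₂} : Finset E).card = 3 := by
          rw [Finset.card_insert_of_notMem, Finset.card_insert_of_notMem, Finset.card_singleton]
          · simp only [Finset.mem_singleton]; exact fun h => he₂1 h.symm
          · simp only [Finset.mem_insert, Finset.mem_singleton, not_or]
            exact ⟨fun h => he₁0 h.symm, fun h => he₂0 h.symm⟩
        omega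
      have hhi : Nat.card ↥E₀ ≤ 4 := by
        have h4 := hle {0, e₁, e₂, e₁ + e₂} (by
          intro x hx
          simp only [Finset.mem_insert, Finset.mem_singleton]
          exact h3 x hx)
        have hc : ({0, e₁, e₂, e₁ + e₂} : Finset E).card ≤ 4 := Finset.card_le_four
        omega
      rw [hd] at hlo hhi ⊢
      have hd2 : d = 2 := by
        rcases Nat.lt_or_ge d 2 with h | h
        · interval_cases d <;> omega
        · rcases Nat.lt_or_ge d 3 with h' | h'
          · omega
          · have h8 : 2 ^ 3 ≤ 2 ^ d := Nat.pow_le_pow_right (by norm_num) h'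
            omega
      rw [hd2]; norm_num
    · have hw : ∀ v ∈ fixT (bc F ρ) T,
          v ∈ Submodule.span F {(1 : F) ⊗ₜ[ZMod 2] e₁, (1 : F) ⊗ₜ[ZMod 2] e₂} := by
        apply hspan
        intro e he
        rcases h3 e he with h | h | h | h
        · rw [h, TensorProduct.tmul_zero]; exact Submodule.zero_mem _
        · rw [h]; exact Submodule.subset_span (by simp)
        · rw [h]; exact Submodule.subset_span (by simp)
        · rw [h, TensorProduct.tmul_add]
          exact Submodule.add_mem _ (Submodule.subset_span (by simp))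
            (Submodule.subset_span (by simp))
      obtain ⟨x, hxQ, v, hv, hxv⟩ := hB _ _ hw
      by_contra hcon
      push Not at hcon
      apply hxv
      obtain ⟨a, b, hab⟩ := Submodule.mem_span_pair.mp (hw v hv)
      rw [← hab, map_add, map_smul, map_smul, bc_tmul, bc_tmul]
      refine Submodule.add_mem _ (Submodule.smul_mem _ _ (hfixtmul _ ?_))
        (Submodule.smul_mem _ _ (hfixtmul _ ?_))
      · exact hcon x hxQ e₁ he₁
      · exact hcon x hxQ e₂ he₂
  · left
    push Not at h3
    obtain ⟨e₃, he₃, h30, h31, h32, h33⟩ := h3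
    obtain ⟨d, hd⟩ := hpow
    have h12 : e₁ + e₂ ≠ 0 := by
      intro h
      apply he₂1
      have h' : e₁ + e₂ = e₁ + e₁ := by rw [h, hchar]
      exact add_left_cancel h'
    have h12a : e₁ + e₂ ≠ e₁ := by
      intro h
      apply he₂0
      have h' : e₁ + e₂ = e₁ + 0 := by rw [h, add_zero]
      exact add_left_cancel h'
    have h12b : e₁ + e₂ ≠ e₂ := by
      intro h
      apply he₁0
      have h' : e₁ + e₂ = 0 + e₂ := by rw [h, zero_add]
      exact add_right_cancel h'
    have hlo : 5 ≤ Nat.card ↥E₀ := by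
      have h4 := hge {0, e₁, e₂, e₁ + e₂, e₃} (by
        intro x hx
        simp only [Finset.mem_insert, Finset.mem_singleton] at hx
        rcases hx with h | h | h | h | h
        · rw [h]; exact E₀.zero_mem
        · rw [h]; exact he₁
        · rw [h]; exact he₂
        · rw [h]; exact E₀.add_mem he₁ he₂
        · rw [h]; exact he₃)
      have hc : ({0, e₁, e₂, e₁ + e₂, e₃} : Finset E).card = 5 := by
        rw [Finset.card_insert_of_notMem, Finset.card_insert_of_notMem,
          Finset.card_insert_of_notMem, Finset.card_insert_of_notMem, Finset.card_singleton]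
        · simp only [Finset.mem_singleton]; exact fun h => h33 h.symm
        · simp only [Finset.mem_insert, Finset.mem_singleton, not_or]
          exact ⟨fun h => h12b h.symm, fun h => h32 h.symm⟩
        · simp only [Finset.mem_insert, Finset.mem_singleton, not_or]
          exact ⟨fun h => he₂1 h.symm, fun h => h12a h.symm, fun h => h31 h.symm⟩
        · simp only [Finset.mem_insert, Finset.mem_singleton, not_or]
          exact ⟨fun h => he₁0 h.symm, fun h => he₂0 h.symm, fun h => h12 h.symm,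
            fun h => h30 h.symm⟩
      omega
    rw [hd] at hlo ⊢
    have hd3 : 3 ≤ d := by
      by_contra h
      push Not at h
      interval_cases d <;> omega
    calc 8 = 2 ^ 3 := by norm_num
      _ ≤ 2 ^ d := Nat.pow_le_pow_right (by norm_num) hd3

end Cfsg.Agent.Lib.helper81.WT
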