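import Cfsg.Agent.Lib.helper81.WTDefs
import Cfsg.Agent.Lib.helper58.WTE3
import Cfsg.Agent.Lib.helper26.WTE4bCore

/-! S4414 split (helper81), piece E4b (`descend`), racing copy by helper26. -/

set_option autoImplicit false

namespace Cfsg.Agent.Lib.helper81.WT

open scoped TensorProduct

universe u v w

/-- [E4b] descent to E; uses E3 (and bc_tmul, fixT over ZMod 2) -/
theorem helper26_descend {S : Type u} [Group S] [Finite S] {E : Type v} [AddCommGroup E] [Module (ZMod 2) E] [Finite E]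
    (ρ : Representation (ZMod 2) S E)
    (T Q : Subgroup S) (F : Type) [Field F] [Algebra (ZMod 2) F] [Finite F]
    (hA : ¬ ∃ u : F ⊗[ZMod 2] E, ∀ v ∈ fixT (bc F ρ) T, v ∈ Submodule.span F {u})
    (hB : ∀ w₁ w₂ : F ⊗[ZMod 2] E,
        (∀ v ∈ fixT (bc F ρ) T, v ∈ Submodule.span F {w₁, w₂}) →
        ∃ x ∈ Q, ∃ v ∈ fixT (bc F ρ) T, bc F ρ x v ∉ fixT (bc F ρ) T) :
    8 ≤ Nat.card {v : E // ∀ s ∈ T, ρ s v = v} ∨
      (Nat.card {v : E // ∀ s ∈ T, ρ s v = v} = 4 ∧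
        ∃ x ∈ Q, ∃ v : E, (∀ s ∈ T, ρ s v = v) ∧ ¬ ∀ s ∈ T, ρ s (ρ x v) = ρ x v) := by
  exact helper26_descend_core ρ T Q F (fun v hv => fix_bc_le ρ F T v hv) hA hB

end Cfsg.Agent.Lib.helper81.WT
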