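import Mathlib.GroupTheory.Sylow
import Mathlib.GroupTheory.Subgroup.Centralizer
import Cfsg.Prelude.Def_Transfer
import Cfsg.Agent.Lib.helper26.Basic

/-!
Element-form lemmas about `Cfsg.IsWeaklyClosed`.
-/

set_option autoImplicit false

namespace Cfsg.Agent.Lib.helper26

variable {G : Type*} [Group G]

/-- If `W` is weakly closed in `P` and conjugation by `g` sends `W` into `P`, then `g` normalizes `W`. -/
theorem mem_normalizer_of_weaklyClosed {W P : Subgroup G} (hW : Cfsg.IsWeaklyClosed W P) (g : G)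
    (h : ∀ w ∈ W, g * w * g⁻¹ ∈ P) : g ∈ Subgroup.normalizer (W : Set G) := by
  have h1 : W.map (MulAut.conj g).toMonoidHom ≤ P := by
    rintro x ⟨w, hw, rfl⟩
    simpa using h w hw
  have h2 := hW.2 g h1
  rw [Subgroup.mem_normalizer_iff_map_conj_eq]
  exact h2

/-- Membership in the normalizer, element form with `g * w * g⁻¹`. -/
theorem conj_mem_of_mem_normalizer {W : Subgroup G} {g : G}
    (hg : g ∈ Subgroup.normalizer (W : Set G)) {w : G} (hw : w ∈ W) : g * w * g⁻¹ ∈ W :=
  (Subgroup.mem_normalizer_iff.1 hg w).1 hw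

end Cfsg.Agent.Lib.helper26
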